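import Cfsg.Agent.Lib.J4Type.Order.TCount

/-!
The centraliser of an involution of pair type, its central involutions, and the pairs with a given
power, in a group of type `J4`.
-/

set_option autoImplicit false
set_option maxRecDepth 100000

namespace CfsgLib.J4Type.Order

open Cfsg Subgroup CfsgLib.Golay
open CfsgLib.J4Type.Frame (vE Acts coV pairV)
open TSetup (matOK zType rp t0)

variable {G : Type*} [Group G] [Finite G] {z : G} {P : Subgroup G} {F : Frame z P} {D : VData F}

theorem range_sum (f : ℕ → ℕ) : ∀ n : ℕ, ((List.range n).map f).sum = ∑ i ∈ Finset.range n, f i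
  | 0 => by simp
  | n + 1 => by
    rw [List.range_succ, List.map_append, List.sum_append, range_sum f n, Finset.sum_range_succ]
    simp

theorem range_filter (p : ℕ → Bool) (n : ℕ) :
    ((Finset.range n).filter fun i => p i = true).card = ((List.range n).filter p).length := by
  rw [← List.toFinset_card_of_nodup (List.nodup_range.filter p), List.toFinset_filter,
    List.toFinset_range]

theorem sum_cls (f : ℕ → ℕ) :
    ∑ i ∈ Finset.range 2871, f (tClsOf i) = ((List.range 3).map fun c => clsSize c * f c).sum := by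
  rw [range_sum, ← Finset.sum_fiberwise_of_maps_to' (t := Finset.range 3) (g := tClsOf)
    (fun i _ => Finset.mem_range.2 (tClsOf_lt i))]
  refine Finset.sum_congr rfl fun c hc => ?_
  rw [Finset.sum_const, smul_eq_mul,
    ← Nat.eq_of_beq_eq_true (List.all_eq_true.1 tPar_ok.2 c (List.mem_range.2 (Finset.mem_range.1 hc))),
    ← range_filter]
  congr 2
  exact Finset.filter_congr fun i _ => by rw [nat_beq_eq, decide_eq_true_eq]

theorem sum_slot {t : ℕ} (ht : t < 3) (f : ℕ → ℕ) :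
    ∑ i ∈ Finset.range 2871, f (slotOf t i) =
      ((List.range (subRoots t).length).map fun s => (subCnt t).getD s 0 * f s).sum := by
  rw [range_sum, ← Finset.sum_fiberwise_of_maps_to' (t := Finset.range (subRoots t).length) (g := slotOf t)
    (fun i hi => Finset.mem_range.2 (sub_tree ht (Finset.mem_range.1 hi)).1)]
  refine Finset.sum_congr rfl fun s hs => ?_
  have h := List.all_eq_true.1 (List.all_eq_true.1 subCnt_ok t (List.mem_range.2 ht)) s
    (List.mem_range.2 (Finset.mem_range.1 hs))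
  rw [Finset.sum_const, smul_eq_mul, ← Nat.eq_of_beq_eq_true h, ← range_filter]
  congr 2
  exact Finset.filter_congr fun i _ => by rw [nat_beq_eq, decide_eq_true_eq]

/-- The permutations of the involutions centralising the fixed one. -/
noncomputable def Lset : Finset (Equiv.Perm GolayPt) := insert 1 ((Finset.range 2871).image Lp)

theorem Lset_conj {g : Equiv.Perm GolayPt} (hg : g ∈ fixMasks [3]) {σ : Equiv.Perm GolayPt}
    (h : σ ∈ Lset) : g * σ * g⁻¹ ∈ Lset := by
  simp only [Lset, Finset.mem_insert, Finset.mem_image, Finset.mem_range] at h ⊢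
  rcases h with rfl | h
  · left; group
  · exact Or.inr (InL24.conj hg h)

attribute [local irreducible] subCnt subRoots slotOf tClsOf clsSize Lset Lp cnt00 cnt0 cntC0 cntCS cntL cntAll cntZ zList tTypeList zZero tZero

namespace TSetup

variable (S : TSetup D)

include S in
theorem sum_Lset (f : Equiv.Perm GolayPt → ℕ) :
    ∑ σ ∈ Lset, f σ = f 1 + ∑ i ∈ Finset.range 2871, f (Lp i) := by
  rw [Lset, Finset.sum_insert, Finset.sum_image fun i hi j hj e =>
    Lp_inj i (Finset.mem_range.1 hi) j (Finset.mem_range.1 hj) e]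
  intro h
  obtain ⟨i, hi, e⟩ := Finset.mem_image.1 h
  obtain ⟨g, -, hg⟩ := main_tree i (Finset.mem_range.1 hi)
  rw [e, mul_inv_eq_one, mul_eq_left] at hg
  have := S.orderOf_rp (tClsOf_lt i)
  rw [rp, hg, orderOf_one] at this
  omega

theorem perm_mem_Lset {u : G} (hu : u * u = 1) (hc : u ∈ centralizer ({t0 D} : Set G)) :
    S.M.perm u ∈ Lset := by
  obtain ⟨hn, hf⟩ := S.mem_cent.1 hc
  rw [Lset]
  by_cases h1 : S.M.perm u = 1
  · rw [h1]; exact Finset.mem_insert_self _ _
  · have h2 : S.M.perm u * S.M.perm u = 1 := by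
      rw [← S.M.perm_mul _ hn _ hn, hu]; exact (S.M.perm_eq_one 1 (one_mem _)).2 (one_mem _)
    obtain ⟨i, hi, e⟩ := InL24.of_invol hf (orderOf_eq_prime (by rw [pow_two, h2]) h1)
    exact Finset.mem_insert_of_mem (Finset.mem_image.2 ⟨i, Finset.mem_range.2 hi, e⟩)

theorem pairs_eq :
    Nat.card {q : G × G // IsConj z q.1 ∧ IsConj (t0 D) q.2 ∧ t0 D ∈ zpowers (q.1 * q.2)} =
      ∑ σ ∈ Lset, ∑ τ ∈ Lset, S.fib σ τ := by
  classical
  have := Fintype.ofFinite G
  rw [Nat.card_eq_fintype_card, Fintype.card_subtype,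
    Finset.card_eq_sum_card_fiberwise (f := fun q => (S.M.perm q.1, S.M.perm q.2)) (t := Lset ×ˢ Lset),
    Finset.sum_product]
  · refine Finset.sum_congr rfl fun σ _ => Finset.sum_congr rfl fun τ _ => ?_
    rw [fib]
    congr 1
    ext q
    simp only [Finset.mem_filter, Finset.mem_univ, true_and, Finset.mem_product, Prod.ext_iff,
      S.mem_zSet, S.mem_tSet]
    constructor
    · rintro ⟨⟨hu, hv, h⟩, h1, h2⟩
      obtain ⟨c1, c2⟩ := S.t0_pow_comm (S.sq_of_isConj_z hu).1 (S.sq_of_isConj_t hv).1 h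
      exact ⟨⟨⟨hu, c1, h1⟩, hv, c2, h2⟩, h⟩
    · rintro ⟨⟨⟨hu, -, h1⟩, hv, -, h2⟩, h⟩
      exact ⟨⟨hu, hv, h⟩, h1, h2⟩
  · intro q hq
    obtain ⟨hu, hv, h⟩ := (Finset.mem_filter.1 (Finset.mem_coe.1 hq)).2
    obtain ⟨c1, c2⟩ := S.t0_pow_comm (S.sq_of_isConj_z hu).1 (S.sq_of_isConj_t hv).1 h
    refine Finset.mem_coe.2 (Finset.mem_product.2 ?_)
    exact ⟨S.perm_mem_Lset (S.sq_of_isConj_z hu).1 c1,
      S.perm_mem_Lset (S.sq_of_isConj_t hv).1 c2⟩

theorem sum_fib_conj {g : Equiv.Perm GolayPt} (hg : g ∈ fixMasks [3]) (σ : Equiv.Perm GolayPt) :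
    ∑ τ ∈ Lset, S.fib (g * σ * g⁻¹) τ = ∑ τ ∈ Lset, S.fib σ τ := by
  refine (Finset.sum_nbij' (fun τ => g * τ * g⁻¹) (fun τ => g⁻¹ * τ * g) (fun τ h => Lset_conj hg h)
    (fun τ h => ?_) (fun τ _ => by group) (fun τ _ => by group) fun τ _ => (S.fib_conj hg σ τ).symm).symm
  have := Lset_conj (inv_mem hg) h
  rwa [inv_inv] at this

variable {bit : Bool} (hbit : ∀ c < 3, ∀ a < 2048, mv (rMat c) a = a →
    (IsConj z (S.el a (rp c)) ↔ zType bit c a = true))

include hbit in
theorem sum_row [IsSimpleGroup G] {c : ℕ} (hc : c < 3) :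
    ∑ τ ∈ Lset, S.fib (rp c) τ = cntC0 bit c +
      ((List.range (subRoots c).length).map fun s => (subCnt c).getD s 0 * cntCS bit c s).sum := by
  rw [S.sum_Lset]
  rw [S.fib_C0 hbit hc]
  refine congrArg (cntC0 bit c + ·) (Eq.trans ?_ (sum_slot hc (fun s => cntCS bit c s)))
  refine Finset.sum_congr rfl fun j hj => ?_
  obtain ⟨hs, g, hg, e1, e2⟩ := sub_tree hc (Finset.mem_range.1 hj)
  rw [← e2, show rp c = g * rp c * g⁻¹ from e1.symm, S.fib_conj hg]
  exact S.fib_CS hbit hc hs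

include hbit in
theorem pairs_t0 [IsSimpleGroup G] :
    Nat.card {q : G × G // IsConj z q.1 ∧ IsConj (t0 D) q.2 ∧ t0 D ∈ zpowers (q.1 * q.2)} =
      cntAll bit := by
  rw [S.pairs_eq, S.sum_Lset, S.sum_Lset, S.fib_00, cntAll, ← sum_cls (fun c => cnt0 bit c),
    ← sum_cls (fun c => cntC0 bit c +
      ((List.range (subRoots c).length).map fun s => (subCnt c).getD s 0 * cntCS bit c s).sum)]
  refine congrArg₂ (· + ·) (congrArg (cnt00 + ·) (Finset.sum_congr rfl fun j hj => ?_))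
    (Finset.sum_congr rfl fun i hi => ?_)
  · obtain ⟨g, hg, e⟩ := main_tree j (Finset.mem_range.1 hj)
    have h := S.fib_conj hg 1 (rp (tClsOf j))
    rw [mul_one, mul_inv_cancel, show g * rp (tClsOf j) * g⁻¹ = Lp j from e] at h
    rw [h, S.fib_0 hbit (tClsOf_lt j)]
  · obtain ⟨g, hg, e⟩ := main_tree i (Finset.mem_range.1 hi)
    rw [← show g * rp (tClsOf i) * g⁻¹ = Lp i from e, S.sum_fib_conj hg, S.sum_row hbit (tClsOf_lt i)]

theorem zSet_conj_card {g : Equiv.Perm GolayPt} (hg : g ∈ fixMasks [3]) (σ : Equiv.Perm GolayPt) :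
    (S.zSet (g * σ * g⁻¹)).card = (S.zSet σ).card := by
  refine le_antisymm ?_ (Finset.card_le_card_of_injOn (fun u => S.kap g * u * (S.kap g)⁻¹)
    (fun u hu => S.zSet_conj_subset hg hu) fun a _ b _ e => mul_left_cancel (mul_right_cancel e))
  refine Finset.card_le_card_of_injOn (fun u => S.kap g⁻¹ * u * (S.kap g⁻¹)⁻¹) (fun u hu => ?_)
    fun a _ b _ e => mul_left_cancel (mul_right_cancel e)
  have h := S.zSet_conj_subset (inv_mem hg) hu
  rw [show g⁻¹ * (g * σ * g⁻¹) * g⁻¹⁻¹ = σ by group] at h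
  exact h

include hbit in
theorem zInv_t0 [IsSimpleGroup G] :
    {u : G | IsConj z u ∧ u * t0 D = t0 D * u}.ncard = cntZ bit := by
  classical
  have := Fintype.ofFinite G
  have e : {u : G | IsConj z u ∧ u * t0 D = t0 D * u} =
      ↑(Finset.univ.filter fun u => IsConj z u ∧ u ∈ centralizer ({t0 D} : Set G)) := by
    ext u
    simp only [Finset.coe_filter, Finset.mem_univ, true_and, Set.mem_ofPred_eq]
    rw [NV.mem_cen]
    exact ⟨fun h => ⟨h.1, by first | exact h.2 | exact h.2.symm⟩,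
      fun h => ⟨h.1, by first | exact h.2 | exact h.2.symm⟩⟩
  rw [e, Set.ncard_coe_finset, Finset.card_eq_sum_card_fiberwise (f := S.M.perm) (t := Lset), S.sum_Lset,
    cntZ, ← sum_cls (fun c => (zList bit c).length)]
  · refine congrArg₂ (· + ·) ?_ (Finset.sum_congr rfl fun i hi => ?_)
    · rw [← List.toFinset_card_of_nodup list_ok.2.1, ← Finset.card_image_of_injOn
        (f := fun a => S.el a 1) fun a ha b hb h => (S.el_inj
          (mem_zZero.1 (List.mem_toFinset.1 ha)).1 (mem_zZero.1 (List.mem_toFinset.1 hb)).1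
          (one_mem _) (one_mem _) h).1, ← S.zSet_one]
      congr 1
      ext u
      simp [S.mem_zSet, and_assoc]
    · obtain ⟨g, hg, e⟩ := main_tree i (Finset.mem_range.1 hi)
      have hc := tClsOf_lt i
      rw [← List.toFinset_card_of_nodup (list_ok.1 bit (tClsOf i)).1, ← Finset.card_image_of_injOn
        (f := fun a => S.el a (rp (tClsOf i))) fun a ha b hb h => (S.el_inj
          (mem_zList.1 (List.mem_toFinset.1 ha)).1 (mem_zList.1 (List.mem_toFinset.1 hb)).1
          (rp_spec hc).2.2 (rp_spec hc).2.2 h).1, ← S.zSet_rp hbit hc, ← S.zSet_conj_card hg,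
        show g * rp (tClsOf i) * g⁻¹ = Lp i from e]
      congr 1
      ext u
      simp [S.mem_zSet, and_assoc]
  · intro u hu
    obtain ⟨hu, hc⟩ := (Finset.mem_filter.1 (Finset.mem_coe.1 hu)).2
    refine Finset.mem_coe.2 ?_
    exact S.perm_mem_Lset (S.sq_of_isConj_z hu).1 hc

include S in
theorem card_cent : Nat.card (centralizer ({t0 D} : Set G)) = 1816657920 := by
  let f : Fin 2048 × (fixMasks [3] : Subgroup (Equiv.Perm GolayPt)) → centralizer ({t0 D} : Set G) :=
    fun p => ⟨S.el p.1 p.2, S.mem_cent.2 ⟨S.el_N p.1.2 (fixMasks_le _ p.2.2),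
      by rw [S.perm_el p.1.2 (fixMasks_le _ p.2.2)]; exact p.2.2⟩⟩
  have hf : Function.Bijective f := by
    refine ⟨fun p q e => ?_, fun u => ?_⟩
    · obtain ⟨h1, h2⟩ := S.el_inj p.1.2 q.1.2 (fixMasks_le _ p.2.2) (fixMasks_le _ q.2.2)
        (congrArg Subtype.val e)
      exact Prod.ext (Fin.ext h1) (Subtype.ext h2)
    · obtain ⟨hn, hf⟩ := S.mem_cent.1 u.2
      obtain ⟨a, ha, e⟩ := S.exists_el hn
      exact ⟨(⟨a, ha⟩, ⟨_, hf⟩), Subtype.ext e.symm⟩
  rw [← Nat.card_eq_of_bijective f hf, Nat.card_prod, Nat.card_fin, card_pairStab]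

end TSetup

/-- **The side of the involution of pair type.** -/
theorem tSide [IsSimpleGroup G] (D : VData F) (hf : Fused D) {t : G} (ht : t ∈ Frame.pairV D) :
    Nat.card (centralizer ({t} : Set G)) = 1816657920 ∧
    {u : G | IsConj z u ∧ u * t = t * u}.ncard = 69883 ∧
    Nat.card {q : G × G // IsConj z q.1 ∧ IsConj t q.2 ∧ t ∈ zpowers (q.1 * q.2)} = 1544188503 := by
  obtain ⟨S⟩ := exists_tsetup hf
  obtain ⟨bit, hbit⟩ := S.types
  obtain ⟨n, -, rfl⟩ := Frame.pairV_transitive D hf S.t0_pairV ht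
  set φ := MulAut.conj n with hφ
  have hφ' : n * t0 D * n⁻¹ = φ (t0 D) := rfl
  rw [hφ']
  have hcomm : ∀ u, φ u * φ (t0 D) = φ (t0 D) * φ u ↔ u * t0 D = t0 D * u := fun u => by
    rw [← map_mul, ← map_mul]; exact φ.injective.eq_iff
  have hz : ∀ u, IsConj z (φ u) ↔ IsConj z u := fun u =>
    have h : IsConj u (φ u) := isConj_iff.2 ⟨n, rfl⟩
    ⟨fun h' => h'.trans h.symm, fun h' => h'.trans h⟩
  have htc : ∀ v, IsConj (φ (t0 D)) (φ v) ↔ IsConj (t0 D) v := fun v =>
    have h1 : IsConj (t0 D) (φ (t0 D)) := isConj_iff.2 ⟨n, rfl⟩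
    have h2 : IsConj v (φ v) := isConj_iff.2 ⟨n, rfl⟩
    ⟨fun h => (h1.trans h).trans h2.symm, fun h => (h1.symm.trans h).trans h2⟩
  have hzp : ∀ x, φ (t0 D) ∈ zpowers (φ x) ↔ t0 D ∈ zpowers x := fun x => by
    simp only [mem_zpowers_iff, ← map_zpow, φ.injective.eq_iff]
  refine ⟨?_, ?_, ?_⟩
  · rw [← S.card_cent]
    refine Nat.card_congr (Equiv.subtypeEquiv φ.toEquiv fun u => ?_).symm
    show u ∈ centralizer ({t0 D} : Set G) ↔ φ u ∈ centralizer ({φ (t0 D)} : Set G)
    rw [NV.mem_cen, NV.mem_cen]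
    first | exact (hcomm u).symm | exact ⟨fun h => ((hcomm u).2 h.symm).symm, fun h => ((hcomm u).1 h.symm).symm⟩
  · rw [show (69883 : ℕ) = cntZ bit from by cases bit <;> [exact cntZ_false.symm; exact cntZ_true.symm],
      ← S.zInv_t0 hbit, ← Nat.card_coe_set_eq, ← Nat.card_coe_set_eq]
    exact Nat.card_congr (Equiv.subtypeEquiv φ.toEquiv fun u => (and_congr (hz u) (hcomm u)).symm).symm
  · rw [show (1544188503 : ℕ) = cntAll bit from by
        cases bit <;> [exact cntAll_false.symm; exact cntAll_true.symm],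
      ← S.pairs_t0 hbit]
    refine Nat.card_congr (Equiv.subtypeEquiv (φ.toEquiv.prodCongr φ.toEquiv) fun q => ?_).symm
    show _ ↔ IsConj z (φ q.1) ∧ IsConj (φ (t0 D)) (φ q.2) ∧ φ (t0 D) ∈ zpowers (φ q.1 * φ q.2)
    rw [hz, htc, ← map_mul, hzp]

end CfsgLib.J4Type.Order
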