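import Cfsg.Agent.Lib.J4Type.Order.OrbItem

/-!
The checks of the certificate of representative 1.
-/

set_option autoImplicit false
set_option maxRecDepth 100000
set_option Elab.async false

namespace CfsgLib.J4Type.Order

theorem orbGens1_ok : (orbGens 1).all (genOK 1) = true := by decide +kernel

theorem orbRows1_ok0 : (((orbRows 1).drop 0).take 6).all (fun q =>
    rowOK 1 q && Nat.beq (rowCnt 1 q) q.2.2.2.2 && Nat.ble q.1 6303) = true := by decide +kernel

theorem orbRows1_ok6 : (((orbRows 1).drop 6).take 6).all (fun q =>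
    rowOK 1 q && Nat.beq (rowCnt 1 q) q.2.2.2.2 && Nat.ble q.1 6303) = true := by decide +kernel

theorem orbRows1_ok12 : (((orbRows 1).drop 12).take 6).all (fun q =>
    rowOK 1 q && Nat.beq (rowCnt 1 q) q.2.2.2.2 && Nat.ble q.1 6303) = true := by decide +kernel

theorem orbRows1_ok18 : (((orbRows 1).drop 18).take 6).all (fun q =>
    rowOK 1 q && Nat.beq (rowCnt 1 q) q.2.2.2.2 && Nat.ble q.1 6303) = true := by decide +kernel

theorem orbRows1_ok24 : (((orbRows 1).drop 24).take 6).all (fun q =>
    rowOK 1 q && Nat.beq (rowCnt 1 q) q.2.2.2.2 && Nat.ble q.1 6303) = true := by decide +kernel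

theorem orbRows1_ok30 : (((orbRows 1).drop 30).take 6).all (fun q =>
    rowOK 1 q && Nat.beq (rowCnt 1 q) q.2.2.2.2 && Nat.ble q.1 6303) = true := by decide +kernel

theorem orbRows1_ok36 : (((orbRows 1).drop 36).take 6).all (fun q =>
    rowOK 1 q && Nat.beq (rowCnt 1 q) q.2.2.2.2 && Nat.ble q.1 6303) = true := by decide +kernel

theorem orbRows1_ok42 : (((orbRows 1).drop 42).take 6).all (fun q =>
    rowOK 1 q && Nat.beq (rowCnt 1 q) q.2.2.2.2 && Nat.ble q.1 6303) = true := by decide +kernel

theorem orbAt1_ok0 : ((List.range 1600).all fun p => orbAt 1 (p + 0)) = true := by decide +kernel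

theorem orbAt1_ok1600 : ((List.range 1600).all fun p => orbAt 1 (p + 1600)) = true := by decide +kernel

theorem orbAt1_ok3200 : ((List.range 1600).all fun p => orbAt 1 (p + 3200)) = true := by decide +kernel

theorem orbAt1_ok4800 : ((List.range 1503).all fun p => orbAt 1 (p + 4800)) = true := by decide +kernel

theorem orbMask1_ok : (orbMask 1 == 2 ^ 6303 - 1) = true := by decide +kernel

theorem orbTotal1_ok : (rowHas 1 6303 && Nat.beq (orbTotal 1) (repF 1)) = true := by
  decide +kernel

theorem orbRows1_len : Nat.beq (orbRows 1).length 48 = true := by decide +kernel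

end CfsgLib.J4Type.Order
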