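import Cfsg.Agent.Lib.J4Type.Order.OrbChecks0
import Cfsg.Agent.Lib.J4Type.Order.OrbChecks1
import Cfsg.Agent.Lib.J4Type.Order.OrbChecks2
import Cfsg.Agent.Lib.J4Type.Order.OrbChecks3

/-!
The orbit certificates: generators, rows, and the sum of an invariant function.
-/

set_option autoImplicit false
set_option maxRecDepth 100000

namespace CfsgLib.J4Type.Order

theorem mem_chunks {α : Type*} {l : List α} {q : α} (hq : q ∈ l) :
    ∃ k, 6 * k < l.length ∧ q ∈ (l.drop (6 * k)).take 6 := by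
  obtain ⟨n, hn, rfl⟩ := List.getElem_of_mem hq
  refine ⟨n / 6, by omega, List.mem_take_iff_getElem.2 ⟨n % 6, ?_, ?_⟩⟩
  · rw [List.length_drop]; omega
  · rw [List.getElem_drop]; simp only [Nat.div_add_mod]

theorem gens_ok {r : ℕ} (hr : r < 4) {q : ℕ × ℕ} (hq : q ∈ orbGens r) : genOK r q = true := by
  rcases (by omega : r = 0 ∨ r = 1 ∨ r = 2 ∨ r = 3) with rfl | rfl | rfl | rfl
  · exact List.all_eq_true.1 orbGens0_ok q hq
  · exact List.all_eq_true.1 orbGens1_ok q hq
  · exact List.all_eq_true.1 orbGens2_ok q hq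
  · exact List.all_eq_true.1 orbGens3_ok q hq

theorem rows_ok {r : ℕ} (hr : r < 4) {q : ℕ × ℕ × ℕ × List ℕ × ℕ} (hq : q ∈ orbRows r) :
    rowOK r q = true ∧ rowCnt r q = q.2.2.2.2 ∧ q.1 ≤ 6303 := by
  obtain ⟨k, hk, hq⟩ := mem_chunks hq
  suffices h : (rowOK r q && Nat.beq (rowCnt r q) q.2.2.2.2 && Nat.ble q.1 6303) = true by
    simp only [Bool.and_eq_true] at h
    exact ⟨h.1.1, Nat.eq_of_beq_eq_true h.1.2, Nat.le_of_ble_eq_true h.2⟩
  rcases (by omega : r = 0 ∨ r = 1 ∨ r = 2 ∨ r = 3) with rfl | rfl | rfl | rfl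
  · have hlen := Nat.eq_of_beq_eq_true orbRows0_len
    have hk' : k < 4 := by omega
    interval_cases k
    · exact List.all_eq_true.1 orbRows0_ok0 q hq
    · exact List.all_eq_true.1 orbRows0_ok6 q hq
    · exact List.all_eq_true.1 orbRows0_ok12 q hq
    · exact List.all_eq_true.1 orbRows0_ok18 q hq
  · have hlen := Nat.eq_of_beq_eq_true orbRows1_len
    have hk' : k < 8 := by omega
    interval_cases k
    · exact List.all_eq_true.1 orbRows1_ok0 q hq
    · exact List.all_eq_true.1 orbRows1_ok6 q hq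
    · exact List.all_eq_true.1 orbRows1_ok12 q hq
    · exact List.all_eq_true.1 orbRows1_ok18 q hq
    · exact List.all_eq_true.1 orbRows1_ok24 q hq
    · exact List.all_eq_true.1 orbRows1_ok30 q hq
    · exact List.all_eq_true.1 orbRows1_ok36 q hq
    · exact List.all_eq_true.1 orbRows1_ok42 q hq
  · have hlen := Nat.eq_of_beq_eq_true orbRows2_len
    have hk' : k < 6 := by omega
    interval_cases k
    · exact List.all_eq_true.1 orbRows2_ok0 q hq
    · exact List.all_eq_true.1 orbRows2_ok6 q hq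
    · exact List.all_eq_true.1 orbRows2_ok12 q hq
    · exact List.all_eq_true.1 orbRows2_ok18 q hq
    · exact List.all_eq_true.1 orbRows2_ok24 q hq
    · exact List.all_eq_true.1 orbRows2_ok30 q hq
  · have hlen := Nat.eq_of_beq_eq_true orbRows3_len
    have hk' : k < 5 := by omega
    interval_cases k
    · exact List.all_eq_true.1 orbRows3_ok0 q hq
    · exact List.all_eq_true.1 orbRows3_ok6 q hq
    · exact List.all_eq_true.1 orbRows3_ok12 q hq
    · exact List.all_eq_true.1 orbRows3_ok18 q hq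
    · exact List.all_eq_true.1 orbRows3_ok24 q hq

theorem orbAt_ok {r : ℕ} (hr : r < 4) {p : ℕ} (hp : p < 6303) : orbAt r p = true := by
  rcases (by omega : r = 0 ∨ r = 1 ∨ r = 2 ∨ r = 3) with rfl | rfl | rfl | rfl
  · rcases (by omega : p < 1600 ∨ (1600 ≤ p ∧ p < 3200) ∨ (3200 ≤ p ∧ p < 4800) ∨ 4800 ≤ p) with
      h | h | h | h
    · have e := List.all_eq_true.1 orbAt0_ok0 (p - 0) (List.mem_range.2 (by omega))
      rwa [Nat.sub_add_cancel (by omega)] at e
    · have e := List.all_eq_true.1 orbAt0_ok1600 (p - 1600) (List.mem_range.2 (by omega))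
      rwa [Nat.sub_add_cancel (by omega)] at e
    · have e := List.all_eq_true.1 orbAt0_ok3200 (p - 3200) (List.mem_range.2 (by omega))
      rwa [Nat.sub_add_cancel (by omega)] at e
    · have e := List.all_eq_true.1 orbAt0_ok4800 (p - 4800) (List.mem_range.2 (by omega))
      rwa [Nat.sub_add_cancel (by omega)] at e
  · rcases (by omega : p < 1600 ∨ (1600 ≤ p ∧ p < 3200) ∨ (3200 ≤ p ∧ p < 4800) ∨ 4800 ≤ p) with
      h | h | h | h
    · have e := List.all_eq_true.1 orbAt1_ok0 (p - 0) (List.mem_range.2 (by omega))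
      rwa [Nat.sub_add_cancel (by omega)] at e
    · have e := List.all_eq_true.1 orbAt1_ok1600 (p - 1600) (List.mem_range.2 (by omega))
      rwa [Nat.sub_add_cancel (by omega)] at e
    · have e := List.all_eq_true.1 orbAt1_ok3200 (p - 3200) (List.mem_range.2 (by omega))
      rwa [Nat.sub_add_cancel (by omega)] at e
    · have e := List.all_eq_true.1 orbAt1_ok4800 (p - 4800) (List.mem_range.2 (by omega))
      rwa [Nat.sub_add_cancel (by omega)] at e
  · rcases (by omega : p < 1600 ∨ (1600 ≤ p ∧ p < 3200) ∨ (3200 ≤ p ∧ p < 4800) ∨ 4800 ≤ p) with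
      h | h | h | h
    · have e := List.all_eq_true.1 orbAt2_ok0 (p - 0) (List.mem_range.2 (by omega))
      rwa [Nat.sub_add_cancel (by omega)] at e
    · have e := List.all_eq_true.1 orbAt2_ok1600 (p - 1600) (List.mem_range.2 (by omega))
      rwa [Nat.sub_add_cancel (by omega)] at e
    · have e := List.all_eq_true.1 orbAt2_ok3200 (p - 3200) (List.mem_range.2 (by omega))
      rwa [Nat.sub_add_cancel (by omega)] at e
    · have e := List.all_eq_true.1 orbAt2_ok4800 (p - 4800) (List.mem_range.2 (by omega))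
      rwa [Nat.sub_add_cancel (by omega)] at e
  · rcases (by omega : p < 1600 ∨ (1600 ≤ p ∧ p < 3200) ∨ (3200 ≤ p ∧ p < 4800) ∨ 4800 ≤ p) with
      h | h | h | h
    · have e := List.all_eq_true.1 orbAt3_ok0 (p - 0) (List.mem_range.2 (by omega))
      rwa [Nat.sub_add_cancel (by omega)] at e
    · have e := List.all_eq_true.1 orbAt3_ok1600 (p - 1600) (List.mem_range.2 (by omega))
      rwa [Nat.sub_add_cancel (by omega)] at e
    · have e := List.all_eq_true.1 orbAt3_ok3200 (p - 3200) (List.mem_range.2 (by omega))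
      rwa [Nat.sub_add_cancel (by omega)] at e
    · have e := List.all_eq_true.1 orbAt3_ok4800 (p - 4800) (List.mem_range.2 (by omega))
      rwa [Nat.sub_add_cancel (by omega)] at e

theorem orb_sum {r : ℕ} (hr : r < 4) (f : ℕ → ℕ) (hrows : ∀ q ∈ orbRows r, f q.1 = q.2.2.2.2)
    (hinv : ∀ q ∈ orbGens r, ∀ i < 6303, ∀ j < 6303,
      invM j = mm (invM q.2) (mm (invM i) (invM q.2)) → f j = f i) :
    ∑ i ∈ Finset.range 6304, f i = repF r := by
  have h : (orbMask r == 2 ^ 6303 - 1) = true ∧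
      (rowHas r 6303 && Nat.beq (orbTotal r) (repF r)) = true := by
    rcases (by omega : r = 0 ∨ r = 1 ∨ r = 2 ∨ r = 3) with rfl | rfl | rfl | rfl
    · exact ⟨orbMask0_ok, orbTotal0_ok⟩
    · exact ⟨orbMask1_ok, orbTotal1_ok⟩
    · exact ⟨orbMask2_ok, orbTotal2_ok⟩
    · exact ⟨orbMask3_ok, orbTotal3_ok⟩
  rw [Bool.and_eq_true] at h
  exact orb_sum_of (fun p hp => orbAt_ok hr hp) h.1 h.2.1 h.2.2 f hrows hinv

end CfsgLib.J4Type.Order
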