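import Cfsg.Agent.Lib.J4Type.Order.HitDefs
import Cfsg.Agent.Lib.J4Type.Order.OrbSum

/-!
The number of partners of each of the four representatives, from the orbit certificates.
-/

set_option autoImplicit false
set_option linter.unusedSectionVars false
set_option maxRecDepth 100000

namespace CfsgLib.J4Type.Order

open CfsgLib.J4Type

theorem repC_lt {r : ℕ} (hr : r < 4) : repC r < 4 := by interval_cases r <;> decide

theorem kr_ne_ok : (((List.range 4).all fun c => Nat.beq c 0 || !(kr c == idM)) = true) := by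
  decide +kernel

theorem kr_ne {c : ℕ} (hc : c < 4) (h0 : c ≠ 0) : kr c ≠ idM := by
  intro e
  have h := List.all_eq_true.1 kr_ne_ok c (List.mem_range.2 hc)
  rw [e] at h
  simp [nat_beq_eq, h0] at h

theorem rowM_lt {i : ℕ} (hi : i < 6303) : rowM i = invM i := by
  rw [rowM, blt_eq, decide_eq_true hi, cond_true]

theorem rowM_ge {i : ℕ} (hi : ¬ i < 6303) : rowM i = idM := by
  rw [rowM, blt_eq, decide_eq_false hi, cond_false]

theorem clsOf_ge {i : ℕ} (hi : ¬ i < 6303) : clsOf i = 0 := by
  rw [clsOf, blt_eq, blt_eq, blt_eq, decide_eq_false hi, decide_eq_false (by omega),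
    decide_eq_false (by omega)]
  rfl

theorem rowM_inj {i j : ℕ} (hi : i < 6304) (hj : j < 6304) (e : rowM i = rowM j) : i = j := by
  by_cases a : i < 6303 <;> by_cases b : j < 6303
  · rw [rowM_lt a, rowM_lt b] at e; exact invM_inj a b e
  · rw [rowM_lt a, rowM_ge b] at e; exact absurd e (invM_ne a)
  · rw [rowM_ge a, rowM_lt b] at e; exact absurd e.symm (invM_ne b)
  · omega

theorem filter_length (p : ℕ → Bool) (n : ℕ) :
    ((List.range n).filter p).length = ((Finset.range n).filter fun a => p a = true).card := by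
  rw [Finset.card_def, Finset.filter_val, Finset.range_val, Multiset.range, Multiset.filter_coe,
    Multiset.coe_card]
  congr 1
  exact List.filter_congr fun a _ => by simp

theorem rowCnt_eq (r : ℕ) (q : ℕ × ℕ × ℕ × List ℕ × ℕ) :
    rowCnt r q = ((Finset.range 8192).filter fun b =>
      inT true true false true (clsOf q.1) b = true ∧
        hitZ (rowE r q.1 q.2.2.1 (rowG r q.1 q.2.2.1 q.2.2.2.1) b) = true).card := by
  have h := eq_of_beq (List.all_eq_true.1 tList_eq (clsOf q.1) (List.mem_range.2 (clsOf_lt _)))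
  rw [rowCnt, ← h, List.filter_filter, filter_length]
  congr 1
  refine Finset.filter_congr fun b _ => ?_
  simp [and_comm]

end CfsgLib.J4Type.Order

namespace CfsgLib.J4Type

open Cfsg Subgroup NV CfsgLib.J4Type.Order Cert

variable {G : Type*} [Group G] [Finite G] {z : G} {P : Subgroup G}

namespace Frame

/-- The partners with a given matrix. -/
noncomputable def fib (F : Frame z P) (u : G) (m : List ℕ) : ℕ :=
  Nat.card {v : G // (v ∈ Cen z ∧ F.isT v ∧ z ∈ zpowers (u * v)) ∧ F.mat v = m}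

theorem fib_conj (F : Frame z P) {g u : G} (hg : g ∈ Cen z) (hgu : g * u = u * g) {m m' : List ℕ}
    (hm : ∀ v ∈ Cen z, F.mat v = m ↔ F.mat (g * v * g⁻¹) = m') : F.fib u m' = F.fib u m := by
  have hz : g * z * g⁻¹ = z := by rw [F.z_comm hg, mul_inv_cancel_right]
  have hu : g * u * g⁻¹ = u := by rw [hgu, mul_inv_cancel_right]
  symm
  refine Nat.card_congr (Equiv.subtypeEquiv (MulAut.conj g).toEquiv fun v => ?_)
  show _ ↔ (g * v * g⁻¹ ∈ Cen z ∧ F.isT (g * v * g⁻¹) ∧ z ∈ zpowers (u * (g * v * g⁻¹))) ∧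
    F.mat (g * v * g⁻¹) = m'
  have hcen : v ∈ Cen z ↔ g * v * g⁻¹ ∈ Cen z := by
    refine ⟨fun h => mul_mem (mul_mem hg h) (inv_mem hg), fun h => ?_⟩
    have := mul_mem (mul_mem (inv_mem hg) h) hg
    simpa [mul_assoc] using this
  have hzp : z ∈ zpowers (u * v) ↔ z ∈ zpowers (u * (g * v * g⁻¹)) := by
    have e : u * (g * v * g⁻¹) = g * (u * v) * g⁻¹ := by
      conv_lhs => rw [← hu]
      group
    rw [e]
    constructor
    · rintro ⟨k, hk⟩
      refine ⟨k, ?_⟩
      show (g * (u * v) * g⁻¹) ^ k = z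
      rw [conj_zpow, show (u * v) ^ k = z from hk, hz]
    · rintro ⟨k, hk⟩
      refine ⟨k, ?_⟩
      have hk' : (g * (u * v) * g⁻¹) ^ k = z := hk
      rw [conj_zpow, ← hz] at hk'
      exact mul_left_cancel (mul_right_cancel hk')
  rw [F.isT_conj, ← hcen, ← hzp]
  constructor
  · exact fun h => ⟨h.1, (hm v h.1.1).1 h.2⟩
  · exact fun h => ⟨h.1, (hm v h.1.1).2 h.2⟩

variable {F : Frame z P} (D : VData F) (hf : Fused D)
include D hf

open Classical in
theorem hitN_eq_sum (u : G) : F.hitN u = ∑ i ∈ Finset.range 6304, F.fib u (rowM i) := by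
  have : Fintype G := Fintype.ofFinite G
  let S := Finset.univ.filter fun v : G => v ∈ Cen z ∧ F.isT v ∧ z ∈ zpowers (u * v)
  have h1 : F.hitN u = S.card := by
    rw [hitN, Nat.card_eq_fintype_card, Fintype.card_subtype]
  have h2 : ∀ i, F.fib u (rowM i) = (S.filter fun v => F.mat v = rowM i).card := fun i => by
    rw [fib, Nat.card_eq_fintype_card, Fintype.card_subtype, Finset.filter_filter]
  rw [h1, Finset.card_eq_sum_card_fiberwise (f := F.mat) (t := (Finset.range 6304).image rowM)
    (fun v hv => ?_), Finset.sum_image (fun i hi j hj e => rowM_inj (Finset.mem_range.1 hi)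
      (Finset.mem_range.1 hj) e)]
  · exact Finset.sum_congr rfl fun i _ => (h2 i).symm
  · obtain ⟨hv, hT, -⟩ := (Finset.mem_filter.1 hv).2
    have hm : mm (F.mat v) (F.mat v) = idM := by rw [← F.mat_mul _ hv _ hv, hT.1, F.mat_one]
    refine Finset.mem_image.2 ?_
    by_cases he : F.mat v = idM
    · exact ⟨6303, by simp, by rw [rowM_ge (lt_irrefl _), he]⟩
    · obtain ⟨i, hi, e⟩ := inv_complete (F.mat_inL v hv) hm he
      exact ⟨i, Finset.mem_range.2 (by omega), by rw [rowM_lt hi, e]⟩

variable (hT : ∀ c a, c < 4 → a < 8192 →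
  (F.isT (F.dec a * xr D c) ↔ inT true true false true c a = true))
include hT

theorem fib_row {r : ℕ} (hr : r < 4) {q : ℕ × ℕ × ℕ × List ℕ × ℕ} (hq : rowOK r q = true)
    (hi : q.1 ≤ 6303) : F.fib (repU D r) (rowM q.1) = rowCnt r q := by
  classical
  obtain ⟨i, w, m, wd, cnt⟩ := q
  simp only [rowOK, Bool.and_eq_true, beq_iff_eq, List.all_eq_true, Bool.or_eq_true] at hq
  obtain ⟨⟨⟨hord, hg⟩, hwd⟩, hcase⟩ := hq
  have hc := repC_lt hr
  obtain ⟨x1, x2, x3, x4⟩ := xr_spec D hf hc
  obtain ⟨d1, d2, d3, d4⟩ := xr_spec D hf (clsOf_lt i)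
  set x := xr D (repC r)
  have hk : repK r = F.mat x := x3.symm
  have hl : InL (rowM i) := by
    by_cases h : i < 6303
    · rw [rowM_lt h]; exact invM_inL h
    · rw [rowM_ge h]; exact InL.one
  have hn : InL (mm (repK r) (rowM i)) := (hk ▸ F.mat_inL x x1).comp hl
  have hgL : InL (rowG r i m wd) := by
    rw [rowG]
    cases Nat.blt i 6303 && (m.testBit 0 && !Nat.beq (repC r) 0)
    · exact inL_wordM fun g hg => Cert.blt_lt (hwd g hg)
    · rw [cond_true]
      generalize (m - 1) / 2 = j
      induction j with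
      | zero => exact InL.one
      | succ j ih => exact hn.comp ih
  obtain ⟨g, g1, g2, g3⟩ := F.exists_liftN (mkL _ hgL)
  have g3' : F.mat g = rowG r i m wd := g3
  set y := g * xr D (clsOf i) * g⁻¹ with hy
  have y1 : y ∈ Cen z := mul_mem (mul_mem g1 d1) (inv_mem g1)
  have y2 : y ∈ normalizer (P : Set G) := mul_mem (mul_mem g2 d2) (inv_mem g2)
  have y3 : F.mat y = rowM i := by
    rw [hy, F.mat_mul _ (mul_mem g1 d1) _ (inv_mem g1), F.mat_mul _ g1 _ d1, g3', d3, hg,
      mm_assoc, ← g3', ← F.mat_mul _ g1 _ (inv_mem g1), mul_inv_cancel, F.mat_one, hl.mm_idM]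
  have y4 : y * y = 1 := by
    rw [hy, show g * xr D (clsOf i) * g⁻¹ * (g * xr D (clsOf i) * g⁻¹) =
      g * (xr D (clsOf i) * xr D (clsOf i)) * g⁻¹ by group, d4]
    group
  have hxy : F.mat (x * y) = mm (repK r) (rowM i) := by rw [F.mat_mul _ x1 _ y1, y3, hk]
  have hxy1 := mul_mem x1 y1
  have hxy2 := mul_mem x2 y2
  obtain ⟨hm0, hpm, hmin⟩ := exactOrd.pow_eq hord
  -- the product of the two lifts has the order of its image
  have hD : (x * y) ^ m = 1 := by
    rcases Nat.even_or_odd m with ⟨h, rfl⟩ | ⟨h, rfl⟩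
    · rw [pow_add]
      refine lift_sq D hf (pow_mem hxy1 h) (pow_mem hxy2 h) ?_
      rw [← F.mat_mul _ (pow_mem hxy1 h) _ (pow_mem hxy1 h), ← pow_add, F.mat_pow_eq hxy1, hxy, hpm]
    · have hodd : (2 * h + 1).testBit 0 = true := by simp
      by_cases hb : i < 6303 ∧ repC r ≠ 0
      · have hcond : (Nat.blt i 6303 && ((2 * h + 1).testBit 0 && !Nat.beq (repC r) 0)) = true := by
          rw [blt_eq, decide_eq_true hb.1, hodd, nat_beq_eq, decide_eq_false hb.2]
          rfl
        have hdc : clsOf i = repC r := by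
          rcases hcase with e | e
          · rw [hcond] at e; exact absurd e (by simp)
          · exact Nat.eq_of_beq_eq_true e
        have hpow : F.mat g = F.mat ((x * y) ^ h) := by
          rw [g3', rowG, hcond, cond_true, F.mat_pow_eq hxy1, hxy,
            show (2 * h + 1 - 1) / 2 = h by omega]
        have hyx : y = (x * y) ^ h * x * ((x * y) ^ h)⁻¹ := by
          rcases eq_or_zmul D g1 g2 (pow_mem hxy1 h) (pow_mem hxy2 h) hpow with e | e
          · conv_lhs => rw [hy, e, hdc]
          · conv_lhs => rw [hy, e, hdc]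
            rw [mul_assoc _ z, ← F.z_comm x1, mul_inv_rev]
            group
        have hxi : x⁻¹ = x := inv_eq_of_mul_eq_one_right x4
        have hinv : x * (x * y) * x⁻¹ = (x * y)⁻¹ := by
          rw [mul_inv_rev, inv_eq_of_mul_eq_one_right y4, hxi, ← mul_assoc x x, x4, one_mul]
        have hconj : ((x * y) ^ h)⁻¹ = x * (x * y) ^ h * x⁻¹ := by
          rw [← conj_pow, hinv, inv_pow]
        have key : ∀ E : G, y = E * x * E⁻¹ → E⁻¹ = x * E * x⁻¹ → x * y = (E * E)⁻¹ := by
          intro E e1 e2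
          calc x * y = x * E * (x * E⁻¹) := by rw [e1]; group
            _ = x * E * (x * (x * E * x⁻¹)) := by rw [e2]
            _ = x * E * (x * x * E * x⁻¹) := by group
            _ = x * E * x⁻¹ * (x * E * x⁻¹) := by rw [x4]; group
            _ = (E * E)⁻¹ := by rw [← e2, mul_inv_rev]
        rw [pow_succ, two_mul, pow_add]
        nth_rewrite 3 [key _ hyx hconj]
        exact mul_inv_cancel _
      · have hpm' : (x * y) ^ (2 * h + 1) = x * y := by
          have h2 : (x * y) ^ 2 = 1 := by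
            rw [pow_two]
            by_cases hi' : i < 6303
            · have h0 : repC r = 0 := by
                by_contra h0
                exact hb ⟨hi', h0⟩
              rw [show x = 1 by show xr D (repC r) = 1; rw [h0, xr_zero], one_mul, y4]
            · rw [show y = 1 by rw [hy, clsOf_ge hi', xr_zero]; group, mul_one, x4]
          rw [pow_succ, pow_mul, h2, one_pow, one_mul]
        have hid : mm (repK r) (rowM i) = idM := by
          rw [← hxy, ← hpm', F.mat_pow_eq hxy1, hxy, hpm]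
        rw [hpm']
        by_cases hi' : i < 6303
        · exfalso
          have h0 : repC r = 0 := by
            by_contra h0
            exact hb ⟨hi', h0⟩
          rw [repK, h0, rowM_lt hi', show kr 0 = idM from rfl, (invM_inL hi').idM_mm] at hid
          exact invM_ne hi' hid
        · rw [rowM_ge hi', (hk ▸ F.mat_inL x x1 : InL (repK r)).mm_idM] at hid
          have h0 : repC r = 0 := by
            by_contra h0
            exact kr_ne hc h0 hid
          rw [show x = 1 by show xr D (repC r) = 1; rw [h0, xr_zero],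
            show y = 1 by rw [hy, clsOf_ge hi', xr_zero]; group, one_mul]
  -- the fibre is the image of the codes at the root
  have key : ∀ b, g * (F.dec b * xr D (clsOf i)) * g⁻¹ =
      F.dec (eact (rowG r i m wd) (linB (rowG r i m wd)) b) * y := fun b => by
    rw [← g3', ← F.conj_dec g1 g2, hy]
    group
  have hit : ∀ b, z ∈ zpowers (repU D r * (g * (F.dec b * xr D (clsOf i)) * g⁻¹)) ↔
      hitZ (rowE r i m (rowG r i m wd) b) = true := by
    intro b
    set B := eact (rowG r i m wd) (linB (rowG r i m wd)) b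
    have e : repU D r * (g * (F.dec b * xr D (clsOf i)) * g⁻¹) =
        F.dec (emul (repA r) (eact (repK r) (linB (repK r)) B)) * (x * y) := by
      rw [key, ← F.dec_mul, hk, ← F.conj_dec x1 x2, repU]
      simp only [B, x]
      group
    rw [e]
    refine (F.hitZ_iff (mul_mem (F.dec_mem_cen _) hxy1) (m := m)
      (e := rowE r i m (rowG r i m wd) b) (by rw [mat_coset D hxy1, hxy]; exact hord) ?_ ?_)
    · simp only [rowE, fepow_eq, femul_eq]
      cases m with
      | zero => omega
      | succ m => exact emul_lt _ _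
    · rw [F.dec_mul_pow hxy1 hxy2, hD, mul_one, hxy]
      simp only [rowE, fepow_eq, femul_eq, feact_eq]
      rfl
  rw [rowCnt_eq]
  symm
  rw [fib, ← Nat.card_eq_finsetCard]
  refine Nat.card_congr (Equiv.ofBijective (fun b => ⟨g * (F.dec (b.1 : ℕ) * xr D (clsOf i)) * g⁻¹,
    ?_⟩) ⟨?_, ?_⟩)
  · obtain ⟨hb, hbT, hbh⟩ := Finset.mem_filter.1 b.2
    have hb' := Finset.mem_range.1 hb
    refine ⟨⟨mul_mem (mul_mem g1 (mul_mem (F.dec_mem_cen _) d1)) (inv_mem g1), ?_, ?_⟩, ?_⟩
    · rw [F.isT_conj]; exact (hT _ _ (clsOf_lt i) hb').2 hbT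
    · exact (hit _).2 hbh
    · rw [key, mat_coset D y1, y3]
  · intro a b e
    refine Subtype.ext (dec_coset_inj D (Finset.mem_range.1 (Finset.mem_filter.1 a.2).1)
      (Finset.mem_range.1 (Finset.mem_filter.1 b.2).1)
      (mul_left_cancel (mul_right_cancel (congrArg Subtype.val e))))
  · rintro ⟨v, ⟨hv, hvT, hvz⟩, hvm⟩
    have hv' : g⁻¹ * v * g ∈ Cen z := mul_mem (mul_mem (inv_mem g1) hv) g1
    obtain ⟨b, hb, e⟩ := exists_code D hv' d1 (by
      have : v = g * (g⁻¹ * v * g) * g⁻¹ := by group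
      rw [show g⁻¹ * v * g = g⁻¹ * v * g⁻¹⁻¹ by group, F.mat_mul _ (mul_mem (inv_mem g1) hv) _
        (inv_mem (inv_mem g1)), F.mat_mul _ (inv_mem g1) _ hv, hvm, ← y3,
        ← F.mat_mul _ (inv_mem g1) _ y1, ← F.mat_mul _ (mul_mem (inv_mem g1) y1) _
        (inv_mem (inv_mem g1))]
      congr 1
      rw [hy]
      group)
    have ev : v = g * (F.dec b * xr D (clsOf i)) * g⁻¹ := by rw [← e]; group
    refine ⟨⟨b, Finset.mem_filter.2 ⟨Finset.mem_range.2 hb, ?_, ?_⟩⟩, Subtype.ext ev.symm⟩
    · rw [ev, F.isT_conj] at hvT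
      exact (hT _ _ (clsOf_lt i) hb).1 hvT
    · exact (hit b).1 (ev ▸ hvz)

/-- The four counts. -/
theorem hitN_repU {r : ℕ} (hr : r < 4) : F.hitN (repU D r) = repF r := by
  rw [hitN_eq_sum D hf]
  refine orb_sum hr (fun i => F.fib (repU D r) (rowM i)) (fun q hq => ?_) ?_
  · obtain ⟨h1, h2, h3⟩ := rows_ok hr hq
    rw [fib_row D hf hT hr h1 h3, h2]
  · intro q hq i hi j hj e
    have h := gens_ok hr hq
    simp only [genOK, Bool.and_eq_true, beq_iff_eq] at h
    obtain ⟨⟨h1, h2⟩, h3⟩ := h
    have hx := Cert.blt_lt h1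
    obtain ⟨x1, x2, x3, x4⟩ := xr_spec D hf (repC_lt hr)
    obtain ⟨t, t1, t2, t3⟩ := F.exists_liftN (mkL _ (invM_inL hx))
    have t3' : F.mat t = invM q.2 := t3
    have hc : t * xr D (repC r) = xr D (repC r) * t :=
      lift_comm D hf t1 t2 x1 x2 (by rw [t3']; exact invM_sq hx)
        (by rw [x3]; exact kr_sq (repC_lt hr)) (by rw [t3', x3]; exact h2)
    set g := F.dec q.1 * t
    have hg : g ∈ Cen z := mul_mem (F.dec_mem_cen _) t1
    have hgu : g * repU D r * g⁻¹ = repU D r := by
      rw [show g * repU D r * g⁻¹ = F.dec q.1 * (t * repU D r * t⁻¹) * (F.dec q.1)⁻¹ by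
        simp only [g]; group, repU, dec_act D t1 t2 hc, t3', dec_shift D x1 x2, x3]
      rw [show kr (repC r) = repK r from rfl, Nat.eq_of_beq_eq_true h3]
    refine F.fib_conj hg (mul_inv_eq_iff_eq_mul.1 hgu) fun v hv => ?_
    have mg : F.mat g = invM q.2 := by rw [mat_coset D t1, t3']
    have mgi : F.mat g⁻¹ = invM q.2 := by
      have hq2 := invM_sq hx
      have e1 : mm (F.mat g) (F.mat g⁻¹) = idM := by
        rw [← F.mat_mul _ hg _ (inv_mem hg), mul_inv_cancel, F.mat_one]
      rw [mg] at e1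
      calc F.mat g⁻¹ = mm idM (F.mat g⁻¹) := (F.mat_inL _ (inv_mem hg)).idM_mm.symm
        _ = invM q.2 := by rw [← hq2, mm_assoc, e1, (invM_inL hx).mm_idM]
    have mv' : F.mat (g * v * g⁻¹) = mm (invM q.2) (mm (F.mat v) (invM q.2)) := by
      rw [F.mat_mul _ (mul_mem hg hv) _ (inv_mem hg), F.mat_mul _ hg _ hv, mg, mgi, mm_assoc]
    rw [mv', rowM_lt hi, rowM_lt hj, e]
    refine ⟨fun h => by rw [h], fun h => ?_⟩
    have hq2 := invM_sq hx
    have := congrArg (fun M => mm (invM q.2) (mm M (invM q.2))) h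
    simp only [mm_assoc, hq2, (F.mat_inL v hv).mm_idM, (invM_inL hi).mm_idM] at this
    simp only [← mm_assoc, hq2] at this
    rwa [(F.mat_inL v hv).idM_mm, (invM_inL hi).idM_mm] at this

end Frame

end CfsgLib.J4Type
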