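import Cfsg.Agent.Lib.J4Type.Order.HTypes
import Cfsg.Agent.Lib.Invol.Basic

/-!
The four unknown types in the cosets of the radical, fixed by counting commuting pairs in two ways.
-/

set_option autoImplicit false
set_option linter.unusedSectionVars false
set_option maxRecDepth 100000

namespace CfsgLib.J4Type.Order

open CfsgLib.J4Type

theorem cnt_inT {c : ℕ} (hc : c < 4) (b1 b2 b3 b4 : Bool) :
    ((Finset.range 8192).filter fun a => inT b1 b2 b3 b4 c a = true).card =
      if c = 0 then 2772 else if c = 1 then 16 + (bif b1 then 192 else 0)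
      else if c = 2 then (bif b2 then 128 else 0)
      else (bif b3 then 64 else 0) + (bif b4 then 64 else 0) := by
  rw [Finset.card_def, Finset.filter_val, Finset.range_val, Multiset.range, Multiset.filter_coe,
    Multiset.coe_card]
  have e : ((List.range 8192).filter fun a => decide (inT b1 b2 b3 b4 c a = true)) =
      (List.range 8192).filter fun a => inT b1 b2 b3 b4 c a := by
    simp only [Bool.decide_eq_true]
  rw [e]
  interval_cases c
  · exact cnt_zero
  · exact Nat.eq_of_beq_eq_true (List.all_eq_true.1 cnt_one b1 (by cases b1 <;> simp))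
  · exact Nat.eq_of_beq_eq_true (List.all_eq_true.1 cnt_two b2 (by cases b2 <;> simp))
  · exact Nat.eq_of_beq_eq_true (List.all_eq_true.1
      (List.all_eq_true.1 cnt_three b3 (by cases b3 <;> simp)) b4 (by cases b4 <;> simp))

theorem types_of_total {b1 b2 b3 b4 : Bool}
    (h : 1 * 2772 + (1155 * (16 + (bif b1 then 192 else 0)) + (4158 * (bif b2 then 128 else 0) +
      990 * ((bif b3 then 64 else 0) + (bif b4 then 64 else 0)))) = 838596) :
    b1 = true ∧ b2 = true ∧ (b3 = true ↔ b4 = false) := by
  cases b1 <;> cases b2 <;> cases b3 <;> cases b4 <;> simp at h ⊢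

end CfsgLib.J4Type.Order

namespace CfsgLib.J4Type

open Cfsg Subgroup NV CfsgLib.J4Type.Order Cert

variable {G : Type*} [Group G] [Finite G] {z : G} {P : Subgroup G}

namespace Frame

variable {F : Frame z P} (D : VData F) (hf : Fused D)

/-- Commuting pairs from two classes, counted in two ways. -/
theorem pairs_two_ways (x y : G) :
    Nat.card {v : G // IsConj y v ∧ x * v = v * x} * Nat.card ↥(centralizer ({y} : Set G)) =
      Nat.card ↥(centralizer ({x} : Set G)) * Nat.card {u : G // IsConj x u ∧ u * y = y * u} := by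
  classical
  have := Fintype.ofFinite G
  have h1 := CfsgLib.Invol.card_class_mul_card_centralizer x
  have h2 := CfsgLib.Invol.card_class_mul_card_centralizer y
  rw [Nat.card_eq_fintype_card (α := {t : G // IsConj x t}), Fintype.card_subtype] at h1
  rw [Nat.card_eq_fintype_card (α := {t : G // IsConj y t}), Fintype.card_subtype] at h2
  rw [Nat.card_eq_fintype_card (α := {v : G // IsConj y v ∧ x * v = v * x}), Fintype.card_subtype,
    Nat.card_eq_fintype_card (α := {u : G // IsConj x u ∧ u * y = y * u}), Fintype.card_subtype]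
  set S := Finset.univ.filter (fun u : G => IsConj x u) with hS
  set T := Finset.univ.filter (fun u : G => IsConj y u) with hT
  let r : G → G → Prop := fun u v => u * v = v * u
  have ha : ∀ u ∈ S, (Finset.bipartiteAbove r T u).card =
      (Finset.univ.filter fun v : G => IsConj y v ∧ x * v = v * x).card := by
    intro u hu
    obtain ⟨g, hg⟩ := isConj_iff.1 (Finset.mem_filter.1 hu).2
    refine Finset.card_nbij' (fun v => g⁻¹ * v * g) (fun v => g * v * g⁻¹) ?_ ?_ ?_ ?_
    · intro v hv
      simp only [Finset.mem_coe, Finset.mem_bipartiteAbove, hT, Finset.mem_filter,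
        Finset.mem_univ, true_and, r] at hv ⊢
      refine ⟨hv.1.trans (isConj_iff.2 ⟨g⁻¹, by group⟩), ?_⟩
      calc x * (g⁻¹ * v * g) = g⁻¹ * (g * x * g⁻¹ * v) * g := by group
        _ = g⁻¹ * (v * u) * g := by rw [hg, hv.2]
        _ = g⁻¹ * v * g * x := by rw [← hg]; group
    · intro v hv
      simp only [Finset.mem_coe, Finset.mem_bipartiteAbove, hT, Finset.mem_filter,
        Finset.mem_univ, true_and, r] at hv ⊢
      refine ⟨hv.1.trans (isConj_iff.2 ⟨g, rfl⟩), ?_⟩
      rw [← hg]
      calc g * x * g⁻¹ * (g * v * g⁻¹) = g * (x * v) * g⁻¹ := by group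
        _ = g * (v * x) * g⁻¹ := by rw [hv.2]
        _ = g * v * g⁻¹ * (g * x * g⁻¹) := by group
    · intro v _; group
    · intro v _; group
  have hb : ∀ v ∈ T, (Finset.bipartiteBelow r S v).card =
      (Finset.univ.filter fun u : G => IsConj x u ∧ u * y = y * u).card := by
    intro v hv
    obtain ⟨g, hg⟩ := isConj_iff.1 (Finset.mem_filter.1 hv).2
    refine Finset.card_nbij' (fun u => g⁻¹ * u * g) (fun u => g * u * g⁻¹) ?_ ?_ ?_ ?_
    · intro u hu
      simp only [Finset.mem_coe, Finset.mem_bipartiteBelow, hS, Finset.mem_filter,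
        Finset.mem_univ, true_and, r] at hu ⊢
      refine ⟨hu.1.trans (isConj_iff.2 ⟨g⁻¹, by group⟩), ?_⟩
      calc g⁻¹ * u * g * y = g⁻¹ * (u * (g * y * g⁻¹)) * g := by group
        _ = g⁻¹ * (v * u) * g := by rw [hg, hu.2]
        _ = y * (g⁻¹ * u * g) := by rw [← hg]; group
    · intro u hu
      simp only [Finset.mem_coe, Finset.mem_bipartiteBelow, hS, Finset.mem_filter,
        Finset.mem_univ, true_and, r] at hu ⊢
      refine ⟨hu.1.trans (isConj_iff.2 ⟨g, rfl⟩), ?_⟩
      rw [← hg]
      calc g * u * g⁻¹ * (g * y * g⁻¹) = g * (u * y) * g⁻¹ := by group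
        _ = g * (y * u) * g⁻¹ := by rw [hu.2]
        _ = g * y * g⁻¹ * (g * u * g⁻¹) := by group
    · intro u _; group
    · intro u _; group
  have h := Finset.sum_card_bipartiteAbove_eq_sum_card_bipartiteBelow r (s := S) (t := T)
  rw [Finset.sum_congr rfl ha, Finset.sum_congr rfl hb, Finset.sum_const, Finset.sum_const,
    smul_eq_mul, smul_eq_mul] at h
  refine Nat.eq_of_mul_eq_mul_left (n := S.card)
    (Finset.card_pos.2 ⟨x, Finset.mem_filter.2 ⟨Finset.mem_univ _, IsConj.refl x⟩⟩) ?_
  rw [← mul_assoc, h, mul_right_comm, h2, ← h1, mul_assoc]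

include D hf

/-- The involutions outside the class of the central involution in its centraliser. -/
theorem card_isT {t : G} (ht : t ∈ pairV D)
    (hcls : ∀ u : G, u * u = 1 → u ≠ 1 → IsConj z u ∨ IsConj t u)
    (hcard : Nat.card ↥(centralizer ({t} : Set G)) = 1816657920)
    (hn : {u : G | IsConj z u ∧ u * t = t * u}.ncard = 69883) :
    Nat.card {v : G // v ∈ Cen z ∧ F.isT v} = 838596 := by
  have h := pairs_two_ways z t
  rw [hcard, show Nat.card ↥(centralizer ({z} : Set G)) = 21799895040 from card_Cen D,
    show Nat.card {u : G // IsConj z u ∧ u * t = t * u} = 69883 from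
      (Nat.card_coe_set_eq _).trans hn] at h
  have htT : F.isT t := ⟨V_sq D ht.1, ht.2.1, ht.2.2⟩
  have e : Nat.card {v : G // v ∈ Cen z ∧ F.isT v} =
      Nat.card {v : G // IsConj t v ∧ z * v = v * z} := by
    refine Nat.card_congr (Equiv.subtypeEquivRight fun v => ?_)
    rw [mem_centralizer_singleton_iff, and_comm]
    refine and_congr ⟨fun hv => (hcls v hv.1 hv.2.1).resolve_left hv.2.2, fun hv => ?_⟩
      ⟨fun e => e.symm, fun e => e.symm⟩
    obtain ⟨g, rfl⟩ := isConj_iff.1 hv
    exact (F.isT_conj g t).2 htT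
  omega

/-- The types of the involutions in the cosets of the radical at the roots. -/
theorem isT_coset [IsSimpleGroup G] {t : G} (ht : t ∈ pairV D)
    (hcls : ∀ u : G, u * u = 1 → u ≠ 1 → IsConj z u ∨ IsConj t u)
    (hcard : Nat.card ↥(centralizer ({t} : Set G)) = 1816657920)
    (hn : {u : G | IsConj z u ∧ u * t = t * u}.ncard = 69883) {c a : ℕ} (hc : c < 4)
    (ha : a < 8192) : F.isT (F.dec a * xr D c) ↔ inT true true false true c a = true := by
  classical
  have := Fintype.ofFinite G
  set b1 := decide (F.isT (F.dec 64 * xr D 1)) with e1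
  set b2 := decide (F.isT (F.dec 0 * xr D 2)) with e2
  set b3 := decide (F.isT (F.dec 0 * xr D 3)) with e3
  set b4 := decide (F.isT (F.dec 4096 * xr D 3)) with e4
  have hgen : ∀ {c a : ℕ}, c < 4 → a < 8192 →
      (F.isT (F.dec a * xr D c) ↔ inT b1 b2 b3 b4 c a = true) := fun hc ha =>
    isT_coset_gen D hf hc ha
  let f : G → ℕ := fun v => if v ∈ Cen z ∧ F.isT v then 1 else 0
  have hinv : ∀ g ∈ Cen z, ∀ u, f (g * u * g⁻¹) = f u := fun g hg u => by
    refine if_congr ?_ rfl rfl
    rw [F.isT_conj, mul_mem_cancel_right (inv_mem hg), mul_mem_cancel_left hg]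
  have hsum := sum_H D hf f hinv fun u hu => by
    by_cases h : u ∈ Cen z ∧ F.isT u
    · exact ⟨h.1, h.2.1⟩
    · exact absurd (if_neg h) hu
  have hcnt : ∀ c < 4, ∑ a ∈ Finset.range 8192, f (F.dec a * xr D c) =
      if c = 0 then 2772 else if c = 1 then 16 + (bif b1 then 192 else 0)
      else if c = 2 then (bif b2 then 128 else 0)
      else (bif b3 then 64 else 0) + (bif b4 then 64 else 0) := fun c hc => by
    rw [← cnt_inT hc b1 b2 b3 b4, Finset.card_filter]
    refine Finset.sum_congr rfl fun a ha => if_congr ?_ rfl rfl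
    rw [← hgen hc (Finset.mem_range.1 ha)]
    exact and_iff_right (mul_mem (F.dec_mem_cen a) (xr_spec D hf hc).1)
  have hf' : ∑ u, f u = 838596 := by
    rw [← card_isT D hf ht hcls hcard hn, Nat.card_eq_fintype_card, Fintype.card_subtype,
      Finset.card_filter]
  rw [hf', Finset.sum_range_succ, Finset.sum_range_succ, Finset.sum_range_succ,
    Finset.sum_range_one, hcnt 0 (by norm_num), hcnt 1 (by norm_num), hcnt 2 (by norm_num),
    hcnt 3 (by norm_num)] at hsum
  simp only [clsNum, List.getD_cons_zero, List.getD_cons_succ, reduceIte, one_ne_zero,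
    OfNat.ofNat_ne_zero, OfNat.ofNat_ne_one, Nat.reduceEqDiff, add_assoc] at hsum
  obtain ⟨h1, h2, h34⟩ := types_of_total hsum.symm
  have h3 : b3 = false := by
    by_cases hs : IsConj z F.sl
    · rw [e3, decide_eq_false_iff_not, F.dec_zero, one_mul,
        show xr D 3 = F.sl from if_pos hs]
      exact F.not_isT_z hs
    · have hsl := sl_spec D
      have h4 : b4 = true := by
        rw [e4, decide_eq_true_iff, F.dec_z, show xr D 3 = F.sl * z from if_neg hs,
          F.z_comm hsl.1, ← mul_assoc, F.z_mul_z, one_mul]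
        refine ⟨(levi_relations D hf).2.1, fun e => ?_, hs⟩
        have e' := hsl.2.2.1
        rw [e, F.mat_one] at e'
        exact absurd e' (by decide +kernel)
      cases hb : b3 with
      | false => rfl
      | true => exact absurd h4 (by rw [h34.1 hb]; simp)
  have h4 : b4 = true := by
    cases hb : b4 with
    | true => rfl
    | false => exact absurd (h34.2 hb) (by rw [h3]; simp)
  rw [hgen hc ha, h1, h2, h3, h4]

end Frame

end CfsgLib.J4Type
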