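import Cfsg.Agent.Lib.J4Type.Order.ZSum
import Cfsg.Agent.Lib.J4Type.Order.HCount
import Cfsg.Agent.Lib.J4Type.Order.HTypesFix

/-!
The number of pairs whose product powers to the central involution.
-/

set_option autoImplicit false

namespace CfsgLib.J4Type.Order

open Cfsg Subgroup CfsgLib.J4Type

variable {G : Type*} [Group G] [Finite G] {z : G} {P : Subgroup G}

/-- The count of pairs at the central involution. -/
theorem zSide [IsSimpleGroup G] {F : Frame z P} (D : VData F) (hf : Fused D) {t : G}
    (ht : t ∈ Frame.pairV D) (hcls : ∀ u : G, u * u = 1 → u ≠ 1 → IsConj z u ∨ IsConj t u)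
    (hcard : Nat.card ↥(centralizer ({t} : Set G)) = 1816657920)
    (hn : {u : G | IsConj z u ∧ u * t = t * u}.ncard = 69883) :
    Nat.card {q : G × G // IsConj z q.1 ∧ IsConj t q.2 ∧ z ∈ zpowers (q.1 * q.2)} =
      29236337328 := by
  refine Frame.az_of_reps D hf
    (fun {c a} hc ha => Frame.isT_coset D hf ht hcls hcard hn hc ha) (fun {r} hr => ?_)
    (Frame.V_sq D ht.1) ht.2.2 hcls
  exact Frame.hitN_repU D hf (fun {c a} hc ha => Frame.isT_coset D hf ht hcls hcard hn hc ha) hr

end CfsgLib.J4Type.Order
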