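import Cfsg.Agent.Lib.J4Type.NV.Split
import Cfsg.Agent.Lib.J4Type.NV.Involutions
import Cfsg.Agent.Lib.J4Type.NV.Pairs276

/-!
The normaliser of `V` as vectors and permutations, with respect to a fixed complement.
-/

set_option autoImplicit false
set_option maxRecDepth 100000

namespace CfsgLib.J4Type.Order

open Cfsg Subgroup CfsgLib.Golay
open CfsgLib.J4Type.Frame (vE Acts coV pairV)

variable {G : Type*} [Group G] [Finite G] {z : G} {P : Subgroup G} {F : Frame z P} {D : VData F}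

/-- The data used in the normaliser of `V`. -/
structure TSetup (D : VData F) where
  hf : Fused D
  M : NV.PairModel D.V (fun x => IsConj z x)
  hco : ∀ v ∈ D.V, M.co v = coV D v
  K : Subgroup G
  hKN : K ≤ normalizer (D.V : Set G)
  hKV : ∀ k ∈ K, k ∈ D.V → k = 1
  hKsup : K ⊔ D.V = normalizer (D.V : Set G)
  hKs : ∀ σ ∈ M24, ∃ k ∈ K, M.perm k = σ
  hmodel : ∀ k < 9, ∀ n < 2048,
    F.gen9 k * vE D n * (F.gen9 k)⁻¹ = vE D (mv (NV.gensCover.getD k []) n)

theorem exists_tsetup (hf : Fused D) : Nonempty (TSetup D) := by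
  obtain ⟨M, hM, hsurj⟩ := Frame.exists_pairModel_of_fused D hf
  obtain ⟨K, hKN, hKV, hKsup, -⟩ := Frame.exists_complement D hf
  have hKs : ∀ σ ∈ M24, ∃ k ∈ K, M.perm k = σ := by
    intro σ hσ
    obtain ⟨n, hn, e⟩ := hsurj σ hσ
    have hn' : n ∈ ((K ⊔ D.V : Subgroup G) : Set G) := by rw [hKsup]; exact hn
    rw [Subgroup.coe_mul_of_left_le_normalizer_right K D.V hKN] at hn'
    obtain ⟨k, hk, v, hv, rfl⟩ := hn'
    refine ⟨k, hk, ?_⟩
    have hvN : v ∈ normalizer (D.V : Set G) := Subgroup.le_normalizer hv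
    rw [M.perm_mul _ (hKN hk) _ hvN, (M.perm_eq_one _ hvN).2 hv, mul_one] at e
    exact e
  obtain ⟨hvar, -⟩ := Frame.exists_cover D hf
  refine ⟨⟨hf, M, hM, K, hKN, fun k hk hkV => Subgroup.mem_bot.1 (hKV ▸ (⟨hk, hkV⟩ : k ∈ K ⊓ D.V)),
    hKsup, hKs, fun k hk n hn => ?_⟩⟩
  have hn' := (Subgroup.mem_normalizer_iff.1 (Frame.gen9_mem D hk).2 _).1 (Frame.vE_mem D hn)
  have e : Frame.cV D (F.gen9 k * vE D n * (F.gen9 k)⁻¹) = mv (NV.gensCover.getD k []) n := hvar k hk n hn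
  rw [← e, (Frame.cV_spec D hn').2]

namespace TSetup

variable (S : TSetup D)

/-- The element of the complement with a given permutation. -/
noncomputable def kap (σ : Equiv.Perm GolayPt) : G :=
  open Classical in if h : σ ∈ M24 then (S.hKs σ h).choose else 1

theorem kap_spec {σ : Equiv.Perm GolayPt} (h : σ ∈ M24) : S.kap σ ∈ S.K ∧ S.M.perm (S.kap σ) = σ := by
  rw [kap, dif_pos h]; exact (S.hKs σ h).choose_spec

theorem kap_N {σ : Equiv.Perm GolayPt} (h : σ ∈ M24) : S.kap σ ∈ normalizer (D.V : Set G) :=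
  S.hKN (S.kap_spec h).1

theorem perm_inv {n : G} (hn : n ∈ normalizer (D.V : Set G)) : S.M.perm n⁻¹ = (S.M.perm n)⁻¹ := by
  refine eq_inv_of_mul_eq_one_left ?_
  rw [← S.M.perm_mul _ (inv_mem hn) _ hn, inv_mul_cancel]
  exact (S.M.perm_eq_one 1 (one_mem _)).2 (one_mem _)

theorem eq_kap {k : G} (hk : k ∈ S.K) {σ : Equiv.Perm GolayPt} (h : S.M.perm k = σ) :
    k = S.kap σ := by
  have hσ : σ ∈ M24 := h ▸ S.M.perm_mem k (S.hKN hk)
  obtain ⟨h1, h2⟩ := S.kap_spec hσ
  refine (inv_mul_eq_one.1 (S.hKV _ (mul_mem (inv_mem h1) hk) ?_)).symm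
  refine (S.M.perm_eq_one _ (mul_mem (inv_mem (S.hKN h1)) (S.hKN hk))).1 ?_
  rw [S.M.perm_mul _ (inv_mem (S.hKN h1)) _ (S.hKN hk), S.perm_inv (S.hKN h1), h2, h, inv_mul_cancel]

theorem kap_mul {σ τ : Equiv.Perm GolayPt} (hσ : σ ∈ M24) (hτ : τ ∈ M24) :
    S.kap (σ * τ) = S.kap σ * S.kap τ := by
  refine (S.eq_kap (mul_mem (S.kap_spec hσ).1 (S.kap_spec hτ).1) ?_).symm
  rw [S.M.perm_mul _ (S.kap_N hσ) _ (S.kap_N hτ), (S.kap_spec hσ).2, (S.kap_spec hτ).2]

theorem kap_one : S.kap 1 = 1 :=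
  (S.eq_kap (one_mem _) ((S.M.perm_eq_one 1 (one_mem _)).2 (one_mem _))).symm

theorem kap_inv {σ : Equiv.Perm GolayPt} (hσ : σ ∈ M24) : S.kap σ⁻¹ = (S.kap σ)⁻¹ :=
  eq_inv_of_mul_eq_one_left (by rw [← S.kap_mul (inv_mem hσ) hσ, inv_mul_cancel, S.kap_one])

/-- An element of the normaliser by a vector and a permutation. -/
noncomputable def el (a : ℕ) (σ : Equiv.Perm GolayPt) : G := vE D a * S.kap σ

theorem el_N {a : ℕ} (ha : a < 2048) {σ : Equiv.Perm GolayPt} (hσ : σ ∈ M24) :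
    S.el a σ ∈ normalizer (D.V : Set G) :=
  mul_mem (Subgroup.le_normalizer (Frame.vE_mem D ha)) (S.kap_N hσ)

theorem perm_el {a : ℕ} (ha : a < 2048) {σ : Equiv.Perm GolayPt} (hσ : σ ∈ M24) :
    S.M.perm (S.el a σ) = σ := by
  have hv := Frame.vE_mem D ha
  rw [el, S.M.perm_mul _ (Subgroup.le_normalizer hv) _ (S.kap_N hσ),
    (S.M.perm_eq_one _ (Subgroup.le_normalizer hv)).2 hv, one_mul, (S.kap_spec hσ).2]

theorem exists_el {n : G} (hn : n ∈ normalizer (D.V : Set G)) :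
    ∃ a < 2048, n = S.el a (S.M.perm n) := by
  have hσ := S.M.perm_mem n hn
  obtain ⟨h1, h2⟩ := S.kap_spec hσ
  have hV : n * (S.kap (S.M.perm n))⁻¹ ∈ D.V := by
    refine (S.M.perm_eq_one _ (mul_mem hn (inv_mem (S.hKN h1)))).1 ?_
    rw [S.M.perm_mul _ hn _ (inv_mem (S.hKN h1)), S.perm_inv (S.hKN h1), h2, mul_inv_cancel]
  obtain ⟨a, ha, e⟩ := Frame.exists_vE D hV
  exact ⟨a, ha, by rw [el, e, inv_mul_cancel_right]⟩

theorem el_inj {a b : ℕ} (ha : a < 2048) (hb : b < 2048) {σ τ : Equiv.Perm GolayPt} (hσ : σ ∈ M24)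
    (hτ : τ ∈ M24) (h : S.el a σ = S.el b τ) : a = b ∧ σ = τ := by
  have e : σ = τ := by rw [← S.perm_el ha hσ, h, S.perm_el hb hτ]
  subst e
  exact ⟨Frame.vE_injOn D ha hb (mul_right_cancel h), rfl⟩

theorem el_one_perm (a : ℕ) : S.el a 1 = vE D a := by rw [el, S.kap_one, mul_one]

theorem el_zero (σ : Equiv.Perm GolayPt) : S.el 0 σ = S.kap σ := by
  rw [el, Frame.vE_zero, one_mul]

omit S in
/-- The matrix moves the points as the code does. -/
def matOK (g : ℕ) (M : List ℕ) : Bool :=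
  valid g && M.all (fun x => Nat.blt x 2048) &&
    (List.range 24).all fun j =>
      Nat.beq (mv M (NV.wv j)) (NV.wv (img g 0) ^^^ NV.wv (img g j))

theorem pv_eq_idx (p q : GolayPt) : NV.pv p q = NV.wv (idx p) ^^^ NV.wv (idx q) := rfl

/-- An element of the normaliser inducing a coded permutation acts by its matrix. -/
theorem acts_of_perm {n : G} (hn : n ∈ normalizer (D.V : Set G)) {g : ℕ} {M : List ℕ}
    (hM : matOK g M = true) (hperm : S.M.perm n = permOf g) : Acts D n M := by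
  simp only [matOK, Bool.and_eq_true, List.all_eq_true, Nat.blt_eq, List.mem_range, Nat.beq_eq] at hM
  obtain ⟨⟨hv, hl⟩, hpts⟩ := hM
  have hconj : ∀ m < 2048, n * vE D m * n⁻¹ ∈ D.V := fun m hm =>
    (Subgroup.mem_normalizer_iff.1 hn _).1 (Frame.vE_mem D hm)
  refine ⟨hl, fun m hm => ?_⟩
  have hag : ∀ m < 2048, coV D (n * vE D m * n⁻¹) = mv M m := by
    refine NV.agree_of_points ?_ (fun a _ b _ => mv_xor _ a b) fun j hj => ?_
    · intro a ha b hb'
      rw [← Frame.coV_mul D (hconj a ha) (hconj b hb'), Frame.vE_xor D ha hb']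
      congr 1
      group
    · have h0 : NV.wv (idx (pt 0)) = 0 := by decide +kernel
      have hpv : NV.wv j = NV.pv (pt 0) (pt j) := by
        rw [pv_eq_idx, h0, Nat.zero_xor, idx_pt hj]
      have hv0 := (NV.tab_facts hj hj).2.1
      have e0 := S.M.co_conj n hn _ (Frame.vE_mem D hv0) (pt 0) (pt j)
        (by rw [S.hco _ (Frame.vE_mem D hv0), Frame.coV_vE D hv0, hpv])
      rw [S.hco _ (hconj _ hv0), hperm] at e0
      rw [e0, hpts j hj, pv_eq_idx, permOf_pt hv (by norm_num), permOf_pt hv hj,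
        idx_pt (valid_lt hv (by norm_num)), idx_pt (valid_lt hv hj)]
  rw [← (Frame.coV_spec D (hconj m hm)).2, hag m hm]

/-- An element acting by the matrix of a code induces that permutation. -/
theorem perm_of_acts {n : G} (hn : n ∈ normalizer (D.V : Set G)) {g : ℕ} {M : List ℕ}
    (hM : matOK g M = true) (hact : Acts D n M) : S.M.perm n = permOf g := by
  simp only [matOK, Bool.and_eq_true, List.all_eq_true, Nat.blt_eq, List.mem_range, Nat.beq_eq] at hM
  obtain ⟨⟨hv, hl⟩, hpts⟩ := hM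
  refine NV.perm_unique fun p q => ?_
  have hlt := NV.pv_lt p q
  have e := S.M.co_conj n hn _ (Frame.vE_mem D hlt) p q
    (by rw [S.hco _ (Frame.vE_mem D hlt), Frame.coV_vE D hlt])
  rw [hact.2 _ hlt, S.hco _ (Frame.vE_mem D (NV.mv_lt_2048 _ _ hl)),
    Frame.coV_vE D (NV.mv_lt_2048 _ _ hl)] at e
  rw [← e, pv_eq_idx p q, mv_xor, hpts _ (idx_lt p), hpts _ (idx_lt q), pv_eq_idx, permOf_apply hv p,
    permOf_apply hv q, idx_pt (valid_lt hv (idx_lt p)), idx_pt (valid_lt hv (idx_lt q))]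
  generalize NV.wv (img g 0) = c
  generalize NV.wv (img g (idx p)) = a
  generalize NV.wv (img g (idx q)) = b
  rw [Nat.xor_comm c a, Nat.xor_assoc, ← Nat.xor_assoc c c b, Nat.xor_self, Nat.zero_xor]

theorem el_mul {a b : ℕ} (ha : a < 2048) (hb : b < 2048) {g : ℕ} {M : List ℕ} (hgm : permOf g ∈ M24)
    (hM : matOK g M = true) {τ : Equiv.Perm GolayPt} (hτ : τ ∈ M24) :
    S.el a (permOf g) * S.el b τ = S.el (a ^^^ mv M b) (permOf g * τ) := by
  have hk := S.acts_of_perm (S.kap_N hgm) hM (S.kap_spec hgm).2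
  rw [el, el, el, Frame.vE_xor D ha (NV.mv_lt_2048 _ _ hk.1), ← hk.2 b hb, S.kap_mul hgm hτ]
  group

/-- The chosen involution of pair type. -/
noncomputable def t0 (D : VData F) : G := vE D (NV.wv 1)

include S in
theorem t0_pairV : t0 D ∈ pairV D :=
  Frame.pairV_of_inB D S.hf (by decide +kernel) (by decide +kernel)

theorem perm_fix_iff {n : G} (hn : n ∈ normalizer (D.V : Set G)) :
    n * t0 D * n⁻¹ = t0 D ↔ S.M.perm n ∈ fixMasks [3] := by
  have h01 : NV.wv 1 = NV.pv (pt 0) (pt 1) := by decide +kernel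
  have hlt : NV.wv 1 < 2048 := by decide +kernel
  have hV := Frame.vE_mem D hlt
  have hV' := (Subgroup.mem_normalizer_iff.1 hn _).1 hV
  have e := S.M.co_conj n hn _ hV (pt 0) (pt 1) (by rw [S.hco _ hV, Frame.coV_vE D hlt, h01])
  have h3 : mset 3 = {pt 0, pt 1} := by decide +kernel
  have hne : pt 0 ≠ pt 1 := by decide +kernel
  rw [mem_fixMasks]
  refine ⟨fun h => ⟨S.M.perm_mem n hn, ?_⟩, fun h => ?_⟩
  · have e' : NV.pv (S.M.perm n (pt 0)) (S.M.perm n (pt 1)) = NV.pv (pt 0) (pt 1) := by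
      rw [← e, show n * vE D (NV.wv 1) * n⁻¹ = vE D (NV.wv 1) from h, S.hco _ hV, Frame.coV_vE D hlt, h01]
    set σ := S.M.perm n
    have hσne : σ (pt 0) ≠ σ (pt 1) := fun e => hne (σ.injective e)
    intro A hA
    rw [List.mem_singleton.1 hA, h3, Finset.smul_finset_insert, Finset.smul_finset_singleton,
      Equiv.Perm.smul_def, Equiv.Perm.smul_def]
    have a1 := (show NV.Ends (NV.pv (pt 0) (pt 1)) (σ (pt 0)) from e' ▸ NV.ends_left hσne).eq_or hne
    have a2 := (show NV.Ends (NV.pv (pt 0) (pt 1)) (σ (pt 1)) from e' ▸ NV.ends_right hσne).eq_or hne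
    rcases a1 with a | a <;> rcases a2 with b | b <;> rw [a, b] at hσne ⊢ <;>
      first
      | exact absurd rfl hσne
      | rfl
      | exact Finset.pair_comm _ _
  · set σ := S.M.perm n
    have h' := h.2 3 (List.mem_singleton.2 rfl)
    rw [h3, Finset.smul_finset_insert, Finset.smul_finset_singleton, Equiv.Perm.smul_def,
      Equiv.Perm.smul_def] at h'
    have hσne : σ (pt 0) ≠ σ (pt 1) := fun e => hne (σ.injective e)
    have a1 : σ (pt 0) = pt 0 ∨ σ (pt 0) = pt 1 := by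
      have : σ (pt 0) ∈ ({pt 0, pt 1} : Finset GolayPt) := h' ▸ Finset.mem_insert_self _ _
      simpa using this
    have a2 : σ (pt 1) = pt 0 ∨ σ (pt 1) = pt 1 := by
      have : σ (pt 1) ∈ ({pt 0, pt 1} : Finset GolayPt) :=
        h' ▸ Finset.mem_insert_of_mem (Finset.mem_singleton_self _)
      simpa using this
    have e' : coV D (n * vE D (NV.wv 1) * n⁻¹) = coV D (vE D (NV.wv 1)) := by
      rw [← S.hco _ hV', e, Frame.coV_vE D hlt, h01]
      rcases a1 with a | a <;> rcases a2 with b | b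
      · exact absurd (a.trans b.symm) hσne
      · rw [a, b]
      · rw [a, b, NV.pv_comm]
      · exact absurd (a.trans b.symm) hσne
    have := congrArg (vE D) e'
    rwa [(Frame.coV_spec D hV').2, (Frame.coV_spec D hV).2] at this

include S in
theorem cent_le : centralizer ({t0 D} : Set G) ≤ normalizer (D.V : Set G) :=
  Frame.centralizer_pairV_le D S.hf S.t0_pairV

theorem mem_cent {n : G} : n ∈ centralizer ({t0 D} : Set G) ↔
    n ∈ normalizer (D.V : Set G) ∧ S.M.perm n ∈ fixMasks [3] := by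
  rw [NV.mem_cen]
  refine ⟨fun h => ?_, fun ⟨hn, h⟩ => ?_⟩
  · have hn := S.cent_le (NV.mem_cen.2 h)
    exact ⟨hn, (S.perm_fix_iff hn).1 (by rw [← h, mul_inv_cancel_right])⟩
  · exact ((mul_inv_eq_iff_eq_mul.1 ((S.perm_fix_iff hn).2 h))).symm

include S in
/-- An involution is of central type or of pair type. -/
theorem dichotomy [IsSimpleGroup G] {x : G} (hx : orderOf x = 2) :
    IsConj (t0 D) x ↔ ¬ IsConj z x := by
  constructor
  · exact fun h hz => S.t0_pairV.2.2 (hz.trans h.symm)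
  · intro h
    obtain ⟨g, hg⟩ := Frame.conj_into_pairV D S.hf S.hKN (Subgroup.eq_bot_iff_forall _ |>.2
      fun k hk => S.hKV k hk.1 hk.2) S.hKsup hx h
    obtain ⟨n, -, e⟩ := Frame.pairV_transitive D S.hf S.t0_pairV hg
    exact (isConj_iff.2 ⟨n, e⟩).trans (isConj_iff.2 ⟨g, rfl⟩).symm

end TSetup

end CfsgLib.J4Type.Order
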