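import Cfsg.Agent.Lib.J4Type.Order.TPermChecks
import Cfsg.Agent.Lib.Mathieu.Action

/-!
The 2871 involutions of the stabiliser of the first two points in `M24`, with their three classes.
-/

set_option autoImplicit false
set_option maxRecDepth 100000
set_option Elab.async false

namespace CfsgLib.J4Type.Order

open Cfsg CfsgLib.Golay CfsgLib.Mathieu
open scoped Pointwise

theorem eqProd_sound {a b c d : ℕ} (ha : valid a = true) (hb : valid b = true) (hc : valid c = true)
    (hd : valid d = true) (h : eqProd a b c d = true) :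
    permOf a * permOf b = permOf c * permOf d := by
  refine Equiv.ext fun q => ?_
  rw [Equiv.Perm.mul_apply, Equiv.Perm.mul_apply, permOf_apply hb q, permOf_apply hd q,
    permOf_pt ha (valid_lt hb (idx_lt q)), permOf_pt hc (valid_lt hd (idx_lt q)),
    Nat.eq_of_beq_eq_true (List.all_eq_true.1 h _ (List.mem_range.2 (idx_lt q)))]

theorem inv_valid' {i : ℕ} (hi : i < 2871) : valid (invAt i) = true := by
  have := List.all_eq_true.1 inv_valid i (List.mem_range.2 hi)
  simp only [Bool.and_eq_true] at this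
  exact this.1

theorem kGen_spec {j : ℕ} (hj : j < 3) :
    valid (kGen j) = true ∧ permOf (kGen j) ∈ fixMasks [3] := by
  have := List.all_eq_true.1 kGens_ok j (List.mem_range.2 hj)
  exact ⟨inFix_valid this, inFix_mem this⟩

theorem nxt_lt (i j : ℕ) : nxtAt i j < 2871 := Nat.mod_lt _ (by norm_num)

theorem nxt_spec {i j : ℕ} (hi : i < 2871) (hj : j < 3) :
    permOf (kGen j) * permOf (invAt i) * (permOf (kGen j))⁻¹ = permOf (invAt (nxtAt i j)) := by
  rw [mul_inv_eq_iff_eq_mul]
  exact eqProd_sound (kGen_spec hj).1 (inv_valid' hi) (inv_valid' (nxt_lt i j)) (kGen_spec hj).1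
    (List.all_eq_true.1 (List.all_eq_true.1 nxt_ok i (List.mem_range.2 hi)) j (List.mem_range.2 hj))

/-- The list of the involutions as permutations. -/
noncomputable def Lp (i : ℕ) : Equiv.Perm GolayPt := permOf (invAt i)

theorem Lp_inj : ∀ i < 2871, ∀ j < 2871, Lp i = Lp j → i = j := by
  have hk : ∀ i < 2871, ∀ j < 2871, Lp i = Lp j → invAt i = invAt j := fun i hi j hj h => by
    rw [← Nat.eq_of_beq_eq_true (List.all_eq_true.1 inv_key i (List.mem_range.2 hi)),
      ← Nat.eq_of_beq_eq_true (List.all_eq_true.1 inv_key j (List.mem_range.2 hj))]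
    have himg : ∀ x < 24, img (invAt i) x = img (invAt j) x := fun x hx => by
      have e := congrArg (fun s : Equiv.Perm GolayPt => idx (s (pt x))) h
      simp only [Lp, permOf_pt (inv_valid' hi) hx, permOf_pt (inv_valid' hj) hx] at e
      rwa [idx_pt (valid_lt (inv_valid' hi) hx), idx_pt (valid_lt (inv_valid' hj) hx)] at e
    simp only [keyOf]
    refine List.foldr_ext _ _ _ fun x hx a => ?_
    rw [himg x (List.mem_range.1 hx)]
  let f : Fin 2871 → ℕ := fun k => invAt (getR ordT k)
  have hord : ∀ k < 2870, getR ordT k < 2871 ∧ getR ordT (k + 1) < 2871 ∧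
      invAt (getR ordT k) < invAt (getR ordT (k + 1)) := fun k hk => by
    have := List.all_eq_true.1 ord_ok k (List.mem_range.2 hk)
    simp only [Bool.and_eq_true, Nat.blt_eq] at this
    exact ⟨this.1.1, this.1.2, this.2⟩
  have hmono : StrictMono f := Fin.strictMono_iff_lt_succ.2 fun k => (hord k k.2).2.2
  let o : Fin 2871 → Fin 2871 := fun k => ⟨getR ordT k, by
    rcases Nat.lt_or_ge (k : ℕ) 2870 with h | h
    · exact (hord k h).1
    · have : (k : ℕ) = 2869 + 1 := by omega
      rw [this]; exact (hord 2869 (by norm_num)).2.1⟩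
  have ho : Function.Injective o := fun a b e => hmono.injective (by
    show invAt _ = invAt _
    exact congrArg (fun k : Fin 2871 => invAt k) e)
  have hs := Finite.surjective_of_injective ho
  intro i hi j hj h
  obtain ⟨a, ha⟩ := hs ⟨i, hi⟩
  obtain ⟨b, hb⟩ := hs ⟨j, hj⟩
  have e : f a = f b := by
    show invAt (getR ordT a) = invAt (getR ordT b)
    rw [show getR ordT a = i from congrArg Fin.val ha, show getR ordT b = j from congrArg Fin.val hb,
      hk i hi j hj h]
  rw [← show getR ordT a = i from congrArg Fin.val ha, hmono.injective e]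
  exact congrArg Fin.val hb

/-- A word in the generators. -/
noncomputable def wordP (w : List ℕ) : Equiv.Perm GolayPt := (w.map fun j => permOf (kGen j)).prod

theorem card_pairStab : Nat.card (fixMasks [3]) = 887040 := by
  rw [card_fixMasks pair_chain]
  decide +kernel

theorem chain_closure {M : Subgroup (Equiv.Perm GolayPt)} : ∀ {L : List Level} {X : List ℕ}
    {fin : List (ℕ × ℕ × ℕ)}, chainOK X L fin = true →
    (∀ lv ∈ L, ∀ g ∈ lv.2.1, permOf g ∈ M) → fixMasks X ≤ M
  | [], X, fin, h, _ => by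
    have h1 : Nat.card (fixMasks X) = 1 := card_fixMasks h
    rw [Subgroup.eq_bot_of_card_eq _ h1]
    exact bot_le
  | lv :: L, X, fin, h, hM => by
    simp only [chainOK, Bool.and_eq_true] at h
    obtain ⟨hb, -, hT, horb⟩ := levelOK_unpack h.1
    intro σ hσ
    have hm := (horb (σ (pt lv.1))).1 ⟨σ, hσ, rfl⟩
    obtain ⟨g, hg, hgi⟩ := testBit_orbMask.1 (mem_mset.1 hm)
    have hτ : (permOf g)⁻¹ * σ ∈ fixMasks (Nat.shiftLeft 1 lv.1 :: X) := by
      refine (mem_fixMasks_cons hb).2 ⟨mul_mem (inv_mem (inFix_mem (hT g hg))) hσ, ?_⟩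
      rw [Equiv.Perm.mul_apply, Equiv.Perm.inv_def, Equiv.symm_apply_eq,
        permOf_pt (inFix_valid (hT g hg)) hb, hgi, pt_idx]
    have := mul_mem (hM lv List.mem_cons_self g hg)
      (chain_closure h.2 (fun l hl => hM l (List.mem_cons_of_mem _ hl)) hτ)
    rwa [mul_inv_cancel_left] at this

theorem fixMasks_eq_closure :
    fixMasks [3] = Subgroup.closure ((fun j => permOf (kGen j)) '' Set.Iio 3) := by
  refine le_antisymm (chain_closure pair_chain fun lv hlv g hg => ?_) ?_
  · obtain ⟨hw, hlen⟩ := words_ok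
    obtain ⟨l, hl, rfl⟩ := List.mem_iff_getElem.1 hlv
    obtain ⟨k, hk, rfl⟩ := List.mem_iff_getElem.1 hg
    have := List.all_eq_true.1 hw l (List.mem_range.2 (hlen ▸ hl))
    simp only [Bool.and_eq_true, List.all_eq_true, Nat.blt_eq, List.mem_range, Nat.beq_eq,
      List.getD_eq_getElem _ _ hl] at this
    obtain ⟨hkl, hwk⟩ := this
    have hk' : k < (pairWords.getD l []).length := hkl ▸ hk
    obtain ⟨hj, hx⟩ := hwk k hk'
    rw [List.getD_eq_getElem _ _ hk] at hx
    set w := ((pairWords.getD l []).getD k []).map kGen with hwdef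
    have hv : ∀ g ∈ w, valid g = true := fun g hg => by
      obtain ⟨j, hj', rfl⟩ := List.mem_map.1 hg
      exact (kGen_spec (hj j hj')).1
    have hgv : valid (pairLevels[l].2.1[k]) = true := by
      have hall : ∀ lv ∈ pairLevels, ∀ g ∈ lv.2.1, valid g = true := by decide +kernel
      exact hall _ (List.getElem_mem hl) _ (List.getElem_mem hk)
    have e : permOf (pairLevels[l].2.1[k]) = (w.map permOf).prod := Equiv.ext fun q => by
      rw [← pt_idx q, (wImg_spec hv (idx_lt q)).1, permOf_pt hgv (idx_lt q), hx _ (idx_lt q)]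
    rw [e]
    refine Subgroup.list_prod_mem _ fun x hx' => ?_
    obtain ⟨g, hg, rfl⟩ := List.mem_map.1 hx'
    obtain ⟨j, hj', rfl⟩ := List.mem_map.1 hg
    exact Subgroup.subset_closure ⟨j, hj j hj', rfl⟩
  · rw [Subgroup.closure_le]
    rintro _ ⟨j, hj, rfl⟩
    exact (kGen_spec hj).2

/-- The set of the listed involutions. -/
def InL24 (σ : Equiv.Perm GolayPt) : Prop := ∃ i < 2871, Lp i = σ

theorem InL24.conj {σ c : Equiv.Perm GolayPt} (hc : c ∈ fixMasks [3]) (h : InL24 σ) :
    InL24 (c * σ * c⁻¹) := by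
  classical
  haveI : Fintype (Equiv.Perm GolayPt) := inferInstance
  rw [fixMasks_eq_closure] at hc
  induction hc using Subgroup.closure_induction generalizing σ with
  | mem x hx =>
    obtain ⟨j, hj, rfl⟩ := hx
    obtain ⟨i, hi, rfl⟩ := h
    exact ⟨nxtAt i j, nxt_lt i j, (nxt_spec hi hj).symm⟩
  | one => simpa using h
  | mul x y _ _ ihx ihy =>
    have := ihx (ihy h)
    rwa [show x * (y * σ * y⁻¹) * x⁻¹ = x * y * σ * (x * y)⁻¹ by group] at this
  | inv x _ ih =>
    obtain ⟨n, hn⟩ : ∃ n : ℕ, x⁻¹ = x ^ n :=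
      ⟨orderOf x - 1, by rw [inv_eq_iff_mul_eq_one, ← pow_succ', Nat.sub_add_cancel (orderOf_pos x), pow_orderOf_eq_one]⟩
    rw [hn]
    clear hn
    induction n with
    | zero => simpa using h
    | succ n ihn =>
      have := ih ihn
      rwa [show x * (x ^ n * σ * (x ^ n)⁻¹) * x⁻¹ = x ^ (n + 1) * σ * (x ^ (n + 1))⁻¹ by
        rw [pow_succ']; group] at this

theorem fix3 {c : Equiv.Perm GolayPt} (hc : c ∈ fixMasks [3]) : c • mset 3 = mset 3 :=
  hc.2 3 (by simp)

/-- The listed involutions are all. -/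
theorem InL24.of_invol {σ : Equiv.Perm GolayPt} (hσ : σ ∈ fixMasks [3]) (h2 : orderOf σ = 2) :
    InL24 σ := by
  obtain ⟨c, hc, hr⟩ := invol_conj (fixMasks_le _ hσ) h2
  obtain ⟨r, hr2, hr⟩ : ∃ r, r < 2 ∧ c * σ * c⁻¹ = permOf (repCode r) := hr.elim
    (fun h => ⟨0, by norm_num, h⟩) fun h => ⟨1, by norm_num, h⟩
  have hs := List.all_eq_true.1 seeds_ok r (List.mem_range.2 hr2)
  simp only [Bool.and_eq_true, List.all_eq_true, List.mem_range] at hs
  obtain ⟨hrv, hs⟩ := hs
  -- the image of the pair
  set i0 := idx (c (pt 0)) with hi0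
  set j0 := idx (c (pt 1)) with hj0
  have hne : i0 ≠ j0 := fun e => by
    have := congrArg pt e
    rw [hi0, hj0, pt_idx, pt_idx] at this
    exact absurd (congrArg idx (c.injective this)) (by rw [idx_pt (by norm_num), idx_pt (by norm_num)]; norm_num)
  have h3 : mset 3 = {pt 0, pt 1} := by decide +kernel
  have hstab : ({c (pt 0), c (pt 1)} : Finset GolayPt) =
      permOf (repCode r) • ({c (pt 0), c (pt 1)} : Finset GolayPt) := by
    have e : c • mset 3 = permOf (repCode r) • (c • mset 3) := by
      rw [← hr, smul_smul, inv_mul_cancel_right, mul_smul, fix3 hσ]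
    simpa [h3, Finset.smul_finset_insert, Finset.smul_finset_singleton] using e
  set i := min i0 j0 with hidef
  set j := max i0 j0 with hjdef
  have hi : i < 24 := lt_of_le_of_lt (min_le_left _ _) (idx_lt _)
  have hj : j < 24 := max_lt (idx_lt _) (idx_lt _)
  have hij : i < j := by omega
  have hset : ({c (pt 0), c (pt 1)} : Finset GolayPt) = {pt i, pt j} := by
    rcases le_total i0 j0 with h | h
    · rw [hidef, hjdef, min_eq_left h, max_eq_right h, hi0, hj0, pt_idx, pt_idx]
    · rw [hidef, hjdef, min_eq_right h, max_eq_left h, hi0, hj0, pt_idx, pt_idx, Finset.pair_comm]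
  rw [hset, Finset.smul_finset_insert, Finset.smul_finset_singleton, Equiv.Perm.smul_def,
    Equiv.Perm.smul_def, permOf_pt hrv hi, permOf_pt hrv hj] at hstab
  have hmem : ∀ k < 24, k = i ∨ k = j →
      img (repCode r) k = i ∨ img (repCode r) k = j := fun k hk hk' => by
    have : pt (img (repCode r) k) ∈ ({pt i, pt j} : Finset GolayPt) := by
      rw [hstab]; rcases hk' with rfl | rfl <;> simp
    simp only [Finset.mem_insert, Finset.mem_singleton] at this
    have hlt := valid_lt hrv hk
    exact this.imp (fun e => by rw [← idx_pt hlt, e, idx_pt hi]) fun e => by rw [← idx_pt hlt, e, idx_pt hj]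
  have hinj : img (repCode r) i ≠ img (repCode r) j := fun e => by
    have h := congrArg pt e
    rw [← permOf_pt hrv hi, ← permOf_pt hrv hj] at h
    exact absurd (congrArg idx ((permOf _).injective h)) (by rw [idx_pt hi, idx_pt hj]; omega)
  have hcond : (img (repCode r) i = i ∧ img (repCode r) j = j) ∨
      (img (repCode r) i = j ∧ img (repCode r) j = i) := by
    rcases hmem i hi (Or.inl rfl) with a | a <;> rcases hmem j hj (Or.inr rfl) with b | b <;> omega
  have he := hs i hi j hj
  simp only [Bool.or_eq_true, Bool.not_eq_true', Bool.and_eq_false_iff, List.any_eq_true,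
    Bool.and_eq_true, Nat.beq_eq, Nat.blt_eq] at he
  rcases he with he | ⟨e, -, ⟨⟨⟨⟨⟨he1, he2⟩, he3⟩, hM⟩, hk⟩, hmask⟩, hp⟩
  · exfalso
    rcases he with h | h
    · rw [← Bool.not_eq_true, Nat.blt_eq] at h; exact h hij
    · simp only [Bool.or_eq_false_iff, Bool.and_eq_false_iff, Nat.beq_eq] at h
      rcases hcond with ⟨a, b⟩ | ⟨a, b⟩
      · rcases h.1 with h | h <;> simp [a, b] at h
      · rcases h.2 with h | h <;> simp [a, b] at h
  have hv := inM24_valid hM
  set h := permOf e.2.2.2.1 with hh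
  have hc' : h * c ∈ fixMasks [3] := by
    refine ⟨mul_mem (inM24_mem hM) hc, fun A hA => ?_⟩
    rw [List.mem_singleton.1 hA, mul_smul, h3, Finset.smul_finset_insert, Finset.smul_finset_singleton,
      Equiv.Perm.smul_def, Equiv.Perm.smul_def, hset, ← h3]
    have hm : mset (Nat.lor (Nat.shiftLeft 1 i) (Nat.shiftLeft 1 j)) = {pt i, pt j} := by
      ext q
      rw [mem_mset]
      show ((1 <<< i) ||| (1 <<< j)).testBit (idx q) = true ↔ _
      rw [Nat.testBit_or, Nat.one_shiftLeft, Nat.one_shiftLeft, Nat.testBit_two_pow, Nat.testBit_two_pow,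
        Bool.or_eq_true, decide_eq_true_iff, decide_eq_true_iff, Finset.mem_insert, Finset.mem_singleton]
      constructor
      · rintro (h | h) <;> [left; right] <;> rw [h, pt_idx]
      · rintro (rfl | rfl) <;> [left; right] <;> simp [idx_pt hi, idx_pt hj]
    rw [← hm, smul_mset hv, hmask]
  have e1 : h * permOf (repCode r) = Lp e.2.2.2.2 * h :=
    eqProd_sound hv hrv (inv_valid' hk) hv (by simpa [he1] using hp)
  have e2 : σ = (h * c)⁻¹ * Lp e.2.2.2.2 * (h * c) := by
    rw [mul_assoc, ← mul_assoc (Lp _) h c, ← e1, ← hr]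
    group
  rw [e2]
  have := InL24.conj (inv_mem hc') ⟨e.2.2.2.2, hk, rfl⟩
  rwa [inv_inv] at this

end CfsgLib.J4Type.Order
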