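import Cfsg.Agent.S1875
import Cfsg.Agent.Lib.J4Type.Wrap.SecondType
import Cfsg.Agent.Lib.J4Type.PlaneBase
import Cfsg.Agent.Lib.J4Type.NV.Split
import Cfsg.Prelude.Def_Sporadic

/-!
The two classes of involutions of a simple group of Janko-four type and the order of the group from
the Thompson order formula, given the two counts of pairs.
-/

set_option autoImplicit false

namespace CfsgLib.J4Type.Order

open Cfsg Subgroup CfsgLib.J4Type.Frame

variable {G : Type*} [Group G] [Finite G] {z : G} {P : Subgroup G} {F : Frame z P} (D : VData F)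

omit [Finite G] in
theorem orderOf_eq_two_of_pairV {t : G} (ht : t ∈ pairV D) : orderOf t = 2 :=
  orderOf_eq_prime (p := 2) (D.elem.2 t ht.1) ht.2.1

/-- A simple group of Janko-four type has at most two classes of involutions. -/
theorem classes [IsSimpleGroup G] (hf : Fused D) {t : G} (ht : t ∈ pairV D) (u : G) (h2 : u * u = 1)
    (h1 : u ≠ 1) : IsConj z u ∨ IsConj t u := by
  by_cases hc : IsConj z u
  · exact .inl hc
  refine .inr ?_
  have : Fact (Nat.Prime 2) := ⟨Nat.prime_two⟩
  have hu : orderOf u = 2 := orderOf_eq_prime (by rw [pow_two]; exact h2) h1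
  obtain ⟨K, hKN, hKV, hKsup, -⟩ := exists_complement D hf
  obtain ⟨g, hg⟩ := conj_into_pairV D hf hKN hKV hKsup hu hc
  obtain ⟨n, -, hn⟩ := pairV_transitive D hf ht hg
  exact isConj_iff.2 ⟨g⁻¹ * n, by
    rw [show g⁻¹ * n * t * (g⁻¹ * n)⁻¹ = g⁻¹ * (n * t * n⁻¹) * g by group, hn]; group⟩

/-- The conclusion on the classes of involutions. -/
theorem two_classes [IsSimpleGroup G] (hf : Fused D) {t : G} (ht : t ∈ pairV D) :
    ∃ x y : G, orderOf x = 2 ∧ orderOf y = 2 ∧ ¬ IsConj x y ∧
      ∀ u : G, orderOf u = 2 → IsConj u x ∨ IsConj u y := by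
  refine ⟨z, t, F.orderOf_z', orderOf_eq_two_of_pairV D ht, ht.2.2, fun u hu => ?_⟩
  have h2 : u * u = 1 := by
    have := pow_orderOf_eq_one u
    rwa [hu, pow_two] at this
  have h1 : u ≠ 1 := fun h => by
    rw [h, orderOf_one] at hu
    exact absurd hu (by norm_num)
  rcases classes D hf ht u h2 h1 with h | h
  · exact .inl h.symm
  · exact .inr h.symm

/-- The order of the group from the two counts of pairs. -/
theorem order_eq [IsSimpleGroup G] (hf : Fused D) {t : G} (ht : t ∈ pairV D)
    (hcard : Nat.card ↥(centralizer ({t} : Set G)) = 1816657920)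
    (haz : Nat.card {q : G × G // IsConj z q.1 ∧ IsConj t q.2 ∧ z ∈ zpowers (q.1 * q.2)} =
      29236337328)
    (hat : Nat.card {q : G × G // IsConj z q.1 ∧ IsConj t q.2 ∧ t ∈ zpowers (q.1 * q.2)} =
      1544188503) : Nat.card G = 86775571046077562880 := by
  classical
  have hzt : z ≠ t := fun h => ht.2.2 (h ▸ IsConj.refl z)
  have h := Cfsg.Agent.S1875.result z t F.orderOf_z' (orderOf_eq_two_of_pairV D ht) ht.2.2 {z, t}
    (fun w hw => ?_) (fun u hu => ?_)
  · rw [Finset.sum_pair hzt, haz, hat, hcard,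
      show Nat.card ↥(centralizer ({z} : Set G)) = 2 ^ 13 * 3 * 887040 from F.card_cen] at h
    refine Nat.cast_injective (R := ℚ) (h.trans ?_)
    norm_num
  · rcases Finset.mem_insert.1 hw with rfl | hw
    · exact F.orderOf_z'
    · rw [Finset.mem_singleton.1 hw]; exact orderOf_eq_two_of_pairV D ht
  · have h2 : u * u = 1 := by
      have := pow_orderOf_eq_one u
      rwa [hu, pow_two] at this
    have h1 : u ≠ 1 := fun h => by
      rw [h, orderOf_one] at hu
      exact absurd hu (by norm_num)
    rcases classes D hf ht u h2 h1 with hc | hc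
    · refine ⟨z, Finset.mem_insert_self _ _, hc.symm, fun w hw hcw => ?_⟩
      rcases Finset.mem_insert.1 hw with rfl | hw
      · rfl
      · rw [Finset.mem_singleton.1 hw] at hcw
        exact absurd (hc.trans hcw) ht.2.2
    · refine ⟨t, Finset.mem_insert_of_mem (Finset.mem_singleton_self _), hc.symm, fun w hw hcw => ?_⟩
      rcases Finset.mem_insert.1 hw with rfl | hw
      · exact absurd (hcw.symm.trans hc.symm) ht.2.2
      · exact Finset.mem_singleton.1 hw

/-- Both conclusions from the two counts of pairs. -/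
theorem main_of_counts [IsSimpleGroup G] (hf : Fused D) {t : G} (ht : t ∈ pairV D)
    (hcard : Nat.card ↥(centralizer ({t} : Set G)) = 1816657920)
    (haz : Nat.card {q : G × G // IsConj z q.1 ∧ IsConj t q.2 ∧ z ∈ zpowers (q.1 * q.2)} =
      29236337328)
    (hat : Nat.card {q : G × G // IsConj z q.1 ∧ IsConj t q.2 ∧ t ∈ zpowers (q.1 * q.2)} =
      1544188503) :
    Cfsg.IsJ4 G ∧ ∃ x y : G, orderOf x = 2 ∧ orderOf y = 2 ∧ ¬ IsConj x y ∧
      ∀ u : G, orderOf u = 2 → IsConj u x ∨ IsConj u y :=
  ⟨⟨inferInstance, order_eq D hf ht hcard haz hat⟩, two_classes D hf ht⟩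

end CfsgLib.J4Type.Order
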