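import Cfsg.Agent.Lib.J4Type.Order.TPermChecks

/-! Checks of the orbit trees of the stabiliser of a pair on its involutions. -/

set_option autoImplicit false
set_option maxRecDepth 100000
set_option Elab.async false

namespace CfsgLib.J4Type.Order

open Cfsg CfsgLib.Golay

/-- The class of a listed involution. -/
def tClsOf (i : ℕ) : ℕ := bif Nat.blt i 330 then 0 else bif Nat.blt i 1485 then 1 else 2

/-- The representative of a class. -/
def rootOf (c : ℕ) : ℕ := rootL.getD c 0

/-- The size of a class. -/
def clsSize (c : ℕ) : ℕ := [330, 1155, 1386].getD c 0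

theorem tPar_ok : ((List.range 2871).all fun i =>
    bif Nat.beq (getR parT i) 0 then Nat.beq i (rootOf (tClsOf i))
    else Nat.blt ((getR parT i - 1) / 4) i && Nat.blt ((getR parT i - 1) % 4) 3 &&
      Nat.beq (tClsOf ((getR parT i - 1) / 4)) (tClsOf i) &&
      Nat.beq (nxtAt ((getR parT i - 1) / 4) ((getR parT i - 1) % 4)) i) = true ∧
    ((List.range 3).all fun c => Nat.beq
      (((List.range 2871).filter fun i => Nat.beq (tClsOf i) c).length) (clsSize c)) = true := by
  decide +kernel

/-- The table of the centraliser of a representative. -/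
def subTab (t : ℕ) : List (List ℕ) :=
  bif Nat.beq t 0 then sub0T else bif Nat.beq t 1 then sub1T else sub2T

/-- Its roots. -/
def subRoots (t : ℕ) : List ℕ :=
  bif Nat.beq t 0 then sub0Roots else bif Nat.beq t 1 then sub1Roots else sub2Roots

/-- The matrices of its roots. -/
def subMats (t : ℕ) : List (List ℕ) :=
  bif Nat.beq t 0 then sub0Mats else bif Nat.beq t 1 then sub1Mats else sub2Mats

/-- The slot of the root of an involution. -/
def slotOf (t i : ℕ) : ℕ := getR (subTab t) i / 16384 % 128

/-- A centralising generator. -/
def cGen (t j : ℕ) : ℕ := (cGens.getD t []).getD j 0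

theorem cGens_ok : ((List.range 3).all fun t => (List.range 3).all fun j =>
    inFix [3] (cGen t j) && eqProd (cGen t j) (invAt (rootOf t)) (invAt (rootOf t)) (cGen t j)) = true := by
  decide +kernel

/-- One edge of a tree. -/
def subOK (t i : ℕ) : Bool :=
  Nat.blt (slotOf t i) (subRoots t).length &&
  bif Nat.beq (getR (subTab t) i % 16384) 0 then Nat.beq i ((subRoots t).getD (slotOf t i) 0)
  else
    Nat.blt ((getR (subTab t) i % 16384 - 1) / 4) 2871 &&
      Nat.blt ((getR (subTab t) i % 16384 - 1) % 4) 3 &&
      Nat.beq (slotOf t ((getR (subTab t) i % 16384 - 1) / 4)) (slotOf t i) &&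
      Nat.blt (getR (subTab t) ((getR (subTab t) i % 16384 - 1) / 4) / 2097152)
        (getR (subTab t) i / 2097152) &&
      eqProd (cGen t ((getR (subTab t) i % 16384 - 1) % 4)) (invAt ((getR (subTab t) i % 16384 - 1) / 4))
        (invAt i) (cGen t ((getR (subTab t) i % 16384 - 1) % 4))

theorem sub0_ok : ((List.range 2871).all (subOK 0)) = true := by decide +kernel

theorem sub1_ok : ((List.range 2871).all (subOK 1)) = true := by decide +kernel

theorem sub2_ok : ((List.range 2871).all (subOK 2)) = true := by decide +kernel

theorem roots_lt : ((List.range 3).all fun t => Nat.blt (rootOf t) 2871 && Nat.beq (tClsOf (rootOf t)) t &&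
    (subRoots t).all fun r => Nat.blt r 2871) = true := by decide +kernel

end CfsgLib.J4Type.Order
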