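import Cfsg.Agent.Lib.J4Type.Order.TPerm
import Cfsg.Agent.Lib.J4Type.Order.TTreeChecks

/-! The orbit trees of the stabiliser of a pair on its involutions. -/

set_option autoImplicit false
set_option maxRecDepth 100000

namespace CfsgLib.J4Type.Order

open Cfsg CfsgLib.Golay

theorem root_lt {t : ℕ} (ht : t < 3) :
    rootOf t < 2871 ∧ tClsOf (rootOf t) = t ∧ ∀ r ∈ subRoots t, r < 2871 := by
  have := List.all_eq_true.1 roots_lt t (List.mem_range.2 ht)
  simp only [Bool.and_eq_true, Nat.blt_eq, Nat.beq_eq, List.all_eq_true] at this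
  exact ⟨this.1.1, this.1.2, this.2⟩

theorem tClsOf_lt (i : ℕ) : tClsOf i < 3 := by
  unfold tClsOf
  cases Nat.blt i 330 <;> cases Nat.blt i 1485 <;> simp

/-- Each listed involution is a conjugate of its representative. -/
theorem main_tree : ∀ i < 2871, ∃ g ∈ fixMasks [3], g * Lp (rootOf (tClsOf i)) * g⁻¹ = Lp i := by
  intro i
  induction i using Nat.strong_induction_on with
  | _ i ih =>
    intro hi
    have h := List.all_eq_true.1 tPar_ok.1 i (List.mem_range.2 hi)
    cases hp : Nat.beq (getR parT i) 0 with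
    | true =>
      rw [hp, cond_true] at h
      exact ⟨1, one_mem _, by rw [← Nat.eq_of_beq_eq_true h]; group⟩
    | false =>
      rw [hp, cond_false] at h
      simp only [Bool.and_eq_true, Nat.blt_eq, Nat.beq_eq] at h
      obtain ⟨⟨⟨hlt, hj⟩, hc⟩, hn⟩ := h
      obtain ⟨g, hg, e⟩ := ih _ hlt (hlt.trans hi)
      refine ⟨permOf (kGen ((getR parT i - 1) % 4)) * g, mul_mem (kGen_spec hj).2 hg, ?_⟩
      have e' := nxt_spec (hlt.trans hi) hj
      rw [hn] at e'
      rw [← hc, show ∀ a : Equiv.Perm GolayPt, a * g * Lp (rootOf (tClsOf ((getR parT i - 1) / 4))) * (a * g)⁻¹ =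
        a * (g * Lp (rootOf (tClsOf ((getR parT i - 1) / 4))) * g⁻¹) * a⁻¹ from fun a => by group, e]
      exact e'

/-- Each listed involution is a conjugate of a root under the centraliser of a representative. -/
theorem sub_tree {t : ℕ} (ht : t < 3) {i : ℕ} (hi : i < 2871) :
    slotOf t i < (subRoots t).length ∧ ∃ g ∈ fixMasks [3], g * Lp (rootOf t) * g⁻¹ = Lp (rootOf t) ∧
      g * Lp ((subRoots t).getD (slotOf t i) 0) * g⁻¹ = Lp i := by
  have hall : ((List.range 2871).all (subOK t)) = true := by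
    interval_cases t
    exacts [sub0_ok, sub1_ok, sub2_ok]
  suffices key : ∀ n i, getR (subTab t) i / 2097152 = n → i < 2871 →
      slotOf t i < (subRoots t).length ∧ ∃ g ∈ fixMasks [3], g * Lp (rootOf t) * g⁻¹ = Lp (rootOf t) ∧
        g * Lp ((subRoots t).getD (slotOf t i) 0) * g⁻¹ = Lp i from key _ i rfl hi
  intro n
  induction n using Nat.strong_induction_on with
  | _ n ih =>
    intro i hn hi
    have h := List.all_eq_true.1 hall i (List.mem_range.2 hi)
    simp only [subOK, Bool.and_eq_true, Nat.blt_eq] at h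
    obtain ⟨hs, h⟩ := h
    refine ⟨hs, ?_⟩
    cases hp : Nat.beq (getR (subTab t) i % 16384) 0 with
    | true =>
      rw [hp, cond_true] at h
      exact ⟨1, one_mem _, by group, by rw [← Nat.eq_of_beq_eq_true h]; group⟩
    | false =>
      rw [hp, cond_false] at h
      simp only [Bool.and_eq_true, Nat.blt_eq, Nat.beq_eq] at h
      obtain ⟨⟨⟨⟨hk, hj⟩, hslot⟩, hd⟩, he⟩ := h
      obtain ⟨-, g, hg, e1, e2⟩ := ih _ (hn ▸ hd) _ rfl hk
      set j := (getR (subTab t) i % 16384 - 1) % 4
      have hc := List.all_eq_true.1 (List.all_eq_true.1 cGens_ok t (List.mem_range.2 ht)) j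
        (List.mem_range.2 hj)
      simp only [Bool.and_eq_true] at hc
      obtain ⟨hf, hcomm⟩ := hc
      have hv := inFix_valid hf
      have c1 := eqProd_sound hv (inv_valid' (root_lt ht).1) (inv_valid' (root_lt ht).1) hv hcomm
      have c2 := eqProd_sound hv (inv_valid' hk) (inv_valid' hi) hv he
      refine ⟨permOf (cGen t j) * g, mul_mem (inFix_mem hf) hg, ?_, ?_⟩
      · rw [show ∀ a : Equiv.Perm GolayPt, a * g * Lp (rootOf t) * (a * g)⁻¹ =
          a * (g * Lp (rootOf t) * g⁻¹) * a⁻¹ from fun a => by group, e1, mul_inv_eq_iff_eq_mul]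
        exact c1
      · rw [← hslot, show ∀ a : Equiv.Perm GolayPt, ∀ r, a * g * r * (a * g)⁻¹ =
          a * (g * r * g⁻¹) * a⁻¹ from fun a r => by group, e2, mul_inv_eq_iff_eq_mul]
        exact c2

end CfsgLib.J4Type.Order
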