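import Cfsg.Agent.Lib.J4Type.Order.InvCheck2

/-!
The 6303 involutions of `LGrp`: the list is complete, without repetition, and splits into the three
classes of `qU`, `qU * sig` and `sig` of sizes 1155, 4158 and 990.
-/

set_option autoImplicit false

namespace CfsgLib.J4Type.Order

open Cert

theorem inL_wordM : ∀ {w : List ℕ}, (∀ g ∈ w, g < 6) → InL (wordM w)
  | [], _ => InL.one
  | g :: w, h => by
    refine (InL.of_gen ?_).comp (inL_wordM fun x hx => h x (List.mem_cons_of_mem _ hx))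
    exact Cert.getD_mem idM (h g List.mem_cons_self)

theorem uv_facts : (InL invU ∧ InL invV ∧ mm invU invU' = idM ∧ mm invV invV' = idM) ∧
    ∀ g < 6, mm (gensL.getD g idM) (gensInv.getD g idM) = idM ∧
      uvWord (invGenWord.getD g []) = gensL.getD g idM := by
  have h := uv_ok
  simp only [Bool.and_eq_true, beq_iff_eq, List.all_eq_true, List.mem_range] at h
  obtain ⟨⟨⟨⟨h1, h2⟩, h3⟩, h4⟩, h5⟩ := h
  exact ⟨⟨h1 ▸ inL_wordM (by decide), h2 ▸ inL_wordM (by decide), h3, h4⟩, h5⟩

theorem inL_gen_getD {g : ℕ} (hg : g < 6) : InL (gensL.getD g idM) :=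
  InL.of_gen (Cert.getD_mem idM hg)

/-- A right inverse in the group is a member. -/
theorem inv_val {a : LGrp} {y : List ℕ} (hy' : ∀ x ∈ y, x < 4096)
    (h : mm a.1 y = idM) : y = (a⁻¹).1 := by
  have e : mm (mm (a⁻¹).1 a.1) y = (a⁻¹).1 := by rw [mm_assoc, h, (a⁻¹).2.mm_idM]
  rwa [← LGrp.val_mul, inv_mul_cancel, LGrp.val_one,
    show mm idM y = y from
      (List.map_congr_left fun x hx => Cert.mv_idM (hy' x hx)).trans (List.map_id y)] at e

/-- Membership of a right inverse, from a boolean bound. -/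
theorem inL_inverse {g y : List ℕ} (hg : InL g)
    (hb : (Nat.beq y.length 12 && y.all fun x => Nat.blt x 4096) = true) (h : mm g y = idM) :
    InL y := by
  simp only [Bool.and_eq_true, List.all_eq_true] at hb
  rw [inv_val (a := ⟨g, hg⟩) (fun x hx => blt_lt (hb.2 x hx)) h]
  let a : LGrp := ⟨g, hg⟩
  exact (a⁻¹).2

theorem gensInv_bound : ((gensInv ++ [invU', invV']).all fun y =>
    Nat.beq y.length 12 && y.all fun x => Nat.blt x 4096) = true := by
  decide +kernel

theorem gensInv_length : gensInv.length = 6 := by decide +kernel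

theorem inL_invs : InL invU' ∧ InL invV' ∧ ∀ g < 6, InL (gensInv.getD g idM) := by
  have hb := gensInv_bound
  simp only [List.all_eq_true, List.mem_append] at hb
  refine ⟨inL_inverse uv_facts.1.1 (hb _ (Or.inr (by simp))) uv_facts.1.2.2.1,
    inL_inverse uv_facts.1.2.1 (hb _ (Or.inr (by simp))) uv_facts.1.2.2.2, fun g hg => ?_⟩
  exact inL_inverse (inL_gen_getD hg)
    (hb _ (Or.inl (Cert.getD_mem idM (gensInv_length.symm ▸ hg)))) (uv_facts.2 g hg).1

theorem invRoot_cases (i : ℕ) : invRoot i = if i < 1155 then 0 else if i < 5313 then 1155 else 5313 := by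
  have ht : ∀ a b : ℕ, a < b → Nat.blt a b = true := fun a b h => Nat.ble_eq_true_of_le h
  have hf : ∀ a b : ℕ, ¬ a < b → Nat.blt a b = false := fun a b h =>
    Bool.eq_false_iff.2 fun e => h (blt_lt e)
  unfold invRoot
  split_ifs with h1 h2
  · rw [ht _ _ h1]; rfl
  · rw [hf _ _ h1, ht _ _ h2]; rfl
  · rw [hf _ _ h1, hf _ _ h2]; rfl

theorem roots_facts : invM 0 = qU ∧ invM 1155 = mm qU sig ∧ invM 5313 = sig ∧
    mm qU qU = idM ∧ mm sig sig = idM ∧ mm (mm qU sig) (mm qU sig) = idM ∧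
    invM 0 ≠ idM ∧ invM 1155 ≠ idM ∧ invM 5313 ≠ idM := by
  have h := roots_ok
  simp only [Bool.and_eq_true, beq_iff_eq, Bool.not_eq_true', beq_eq_false_iff_ne] at h
  obtain ⟨⟨⟨⟨⟨⟨⟨⟨h1, h2⟩, h3⟩, h4⟩, h5⟩, h6⟩, h7⟩, h8⟩, h9⟩ := h
  exact ⟨h1, h2, h3, h4, h5, h6, h7, h8, h9⟩

theorem invRoot_mem (i : ℕ) : invRoot i = 0 ∨ invRoot i = 1155 ∨ invRoot i = 5313 := by
  rw [invRoot_cases]; split_ifs <;> simp

theorem invRoot_good (i : ℕ) : InL (invM (invRoot i)) ∧
    mm (invM (invRoot i)) (invM (invRoot i)) = idM ∧ invM (invRoot i) ≠ idM := by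
  obtain ⟨h1, h2, h3, q1, q3, q2, n1, n2, n3⟩ := roots_facts
  have hU : InL qU := InL.of_gen (by simp [gensL])
  rcases invRoot_mem i with e | e | e <;> rw [e]
  · exact ⟨h1 ▸ hU, by rw [h1, q1], n1⟩
  · exact ⟨h2 ▸ hU.comp InL.sig_mem, by rw [h2, q2], n2⟩
  · exact ⟨h3 ▸ InL.sig_mem, by rw [h3, q3], n3⟩

/-- The root of the class of an index as an element of the group. -/
noncomputable def rootG (i : ℕ) : LGrp := ⟨invM (invRoot i), (invRoot_good i).1⟩

theorem invM_inL {i : ℕ} (hi : i < 6303) : InL (invM i) := by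
  induction i using Nat.strong_induction_on with
  | _ i ih =>
    have h : parAt i = true := List.all_eq_true.1 par_ok i (List.mem_range.2 hi)
    simp only [parAt, Bool.or_eq_true, Bool.and_eq_true, beq_iff_eq] at h
    rcases h with ((e | e) | e) | ⟨⟨⟨hp, hg⟩, -⟩, he⟩
    · obtain rfl := Nat.eq_of_beq_eq_true e
      exact roots_facts.1 ▸ InL.of_gen (by simp [gensL])
    · obtain rfl := Nat.eq_of_beq_eq_true e
      exact roots_facts.2.1 ▸ (InL.of_gen (by simp [gensL])).comp InL.sig_mem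
    · obtain rfl := Nat.eq_of_beq_eq_true e
      exact roots_facts.2.2.1 ▸ InL.sig_mem
    · rw [← he]
      exact ((inL_gen_getD (blt_lt hg)).comp (ih _ (blt_lt hp) ((blt_lt hp).trans hi))).comp
        (inL_invs.2.2 _ (blt_lt hg))

/-- An entry as an element of the group. -/
noncomputable def invG (i : Fin 6303) : LGrp := ⟨invM i, invM_inL i.2⟩

/-- An entry, by its index, as an element of the group. -/
noncomputable def invL {i : ℕ} (hi : i < 6303) : LGrp := ⟨invM i, invM_inL hi⟩

/-- Every entry is conjugate to the root of its class. -/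
theorem invM_conj_root {i : ℕ} (hi : i < 6303) :
    ∃ l : LGrp, invM i = (l * rootG i * l⁻¹ : LGrp).1 := by
  induction i using Nat.strong_induction_on with
  | _ i ih =>
    have h : parAt i = true := List.all_eq_true.1 par_ok i (List.mem_range.2 hi)
    simp only [parAt, Bool.or_eq_true, Bool.and_eq_true, beq_iff_eq] at h
    rcases h with ((e | e) | e) | ⟨⟨⟨hp, hg⟩, hr⟩, he⟩
    iterate 3
      obtain rfl := Nat.eq_of_beq_eq_true e
      refine ⟨1, ?_⟩
      simp only [one_mul, inv_one, mul_one]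
      rfl
    · obtain ⟨l, hl⟩ := ih _ (blt_lt hp) ((blt_lt hp).trans hi)
      let s : LGrp := ⟨_, inL_gen_getD (blt_lt hg)⟩
      refine ⟨s * l, ?_⟩
      have hs : (s⁻¹).1 = gensInv.getD (parTree.get i % 8) idM :=
        (inv_val (inL_invs.2.2 _ (blt_lt hg)).lt
          (uv_facts.2 _ (blt_lt hg)).1).symm
      have e' : invRoot (parTree.get i / 8) = invRoot i := Nat.eq_of_beq_eq_true hr
      have e'' : rootG (parTree.get i / 8) = rootG i := LGrp.ext (congrArg invM e')
      rw [e''] at hl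
      rw [show s * l * rootG i * (s * l)⁻¹ = s * (l * rootG i * l⁻¹) * s⁻¹ by
        simp only [mul_inv_rev, mul_assoc], LGrp.val_mul, LGrp.val_mul, ← hl, hs]
      exact he.symm

/-- The root of the class of an entry, with the sizes of the three classes. -/
theorem invM_conj' {i : ℕ} (hi : i < 6303) :
    ∃ l : LGrp, invM i = (l * rootG i * l⁻¹ : LGrp).1 ∧
      invRoot i = if i < 1155 then 0 else if i < 5313 then 1155 else 5313 := by
  obtain ⟨l, hl⟩ := invM_conj_root hi
  exact ⟨l, hl, invRoot_cases i⟩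

/-- The conjugacy of an entry to the root of its class, with the root written out. -/
theorem invM_conj {i : ℕ} (hi : i < 6303) :
    ∃ l r : LGrp, r.1 = invM (if i < 1155 then 0 else if i < 5313 then 1155 else 5313) ∧
      invM i = (l * r * l⁻¹ : LGrp).1 := by
  obtain ⟨l, hl, he⟩ := invM_conj' hi
  exact ⟨l, rootG i, congrArg invM he, hl⟩

theorem invM_sq {i : ℕ} (hi : i < 6303) : mm (invM i) (invM i) = idM := by
  obtain ⟨l, hl⟩ := invM_conj_root hi
  rw [hl, ← LGrp.val_mul]
  have hr2 : rootG i * rootG i = 1 := LGrp.ext (invRoot_good i).2.1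
  generalize rootG i = r at hr2 ⊢
  rw [show l * r * l⁻¹ * (l * r * l⁻¹) = l * (r * r) * l⁻¹ by group, hr2, mul_one, mul_inv_cancel]
  rfl

theorem invM_ne {i : ℕ} (hi : i < 6303) : invM i ≠ idM := by
  intro e
  obtain ⟨l, hl⟩ := invM_conj_root hi
  have h1 : l * rootG i * l⁻¹ = 1 :=
    LGrp.ext (hl.symm.trans e)
  have h2 : rootG i = 1 := by
    generalize rootG i = r at h1 ⊢
    rw [show r = l⁻¹ * (l * r * l⁻¹) * l by group, h1, mul_one, inv_mul_cancel]
  exact (invRoot_good i).2.2 (congrArg Subtype.val h2)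

theorem invDict_find {i : ℕ} (hi : i < 6303) : invDict.find (pk (invM i)) = i :=
  Nat.eq_of_beq_eq_true (List.all_eq_true.1 find_ok i (List.mem_range.2 hi))

theorem invM_inj {i j : ℕ} (hi : i < 6303) (hj : j < 6303) (e : invM i = invM j) : i = j := by
  rw [← invDict_find hi, ← invDict_find hj, e]

/-! ### Closure under conjugation -/

theorem closed_ok {i : ℕ} (hi : i < 6303) :
    closedAt invU invU' i = true ∧ closedAt invV invV' i = true := by
  rcases lt_or_ge i 1600 with h | h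
  · exact ⟨List.all_eq_true.1 closedU_ok0 i (List.mem_range.2 h),
      List.all_eq_true.1 closedV_ok0 i (List.mem_range.2 h)⟩
  rcases lt_or_ge i 3200 with h' | h'
  · rw [show i = (i - 1600) + 1600 by omega]
    exact ⟨List.all_eq_true.1 closedU_ok1 _ (List.mem_range.2 (by omega)),
      List.all_eq_true.1 closedV_ok1 _ (List.mem_range.2 (by omega))⟩
  rcases lt_or_ge i 4800 with h'' | h''
  · rw [show i = (i - 3200) + 3200 by omega]
    exact ⟨List.all_eq_true.1 closedU_ok2 _ (List.mem_range.2 (by omega)),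
      List.all_eq_true.1 closedV_ok2 _ (List.mem_range.2 (by omega))⟩
  rw [show i = (i - 4800) + 4800 by omega]
  exact ⟨List.all_eq_true.1 closedU_ok3 _ (List.mem_range.2 (by omega)),
    List.all_eq_true.1 closedV_ok3 _ (List.mem_range.2 (by omega))⟩

/-- Each class of the list is closed under conjugation. -/
theorem invM_closed (x : LGrp) {i : ℕ} (hi : i < 6303) :
    ∃ j < 6303, invRoot j = invRoot i ∧ (x * invL hi * x⁻¹).1 = invM j := by
  let P : LGrp → Prop := fun x => ∀ i, ∀ hi : i < 6303, ∃ j < 6303, invRoot j = invRoot i ∧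
    (x * invL hi * x⁻¹).1 = invM j
  have hmul : ∀ a b, P a → P b → P (a * b) := by
    intro a b ha hb i hi
    obtain ⟨j, hj, rj, ej⟩ := hb i hi
    obtain ⟨k, hk, rk, ek⟩ := ha j hj
    refine ⟨k, hk, rk.trans rj, ?_⟩
    rw [← ek, show invL hj = b * invL hi * b⁻¹ from
      LGrp.ext ej.symm]
    rw [show a * b * invL hi * (a * b)⁻¹ = a * (b * invL hi * b⁻¹) * a⁻¹ by
      simp only [mul_inv_rev, mul_assoc]]
  have hone : P 1 := fun i hi => ⟨i, hi, rfl, by rw [one_mul, inv_one, mul_one]; rfl⟩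
  have hgen : ∀ (s : LGrp) (s' : List ℕ), InL s' → mm s.1 s' = idM →
      (∀ i < 6303, closedAt s.1 s' i = true) → P s := by
    intro s s' hs' he hc i hi
    have h := hc i hi
    simp only [closedAt, recordedAs, Bool.and_eq_true, beq_iff_eq] at h
    refine ⟨_, blt_lt h.1.1, Nat.eq_of_beq_eq_true h.1.2, ?_⟩
    rw [h.2, LGrp.val_mul, LGrp.val_mul, ← inv_val hs'.lt he]
    rfl
  have hU : P ⟨invU, uv_facts.1.1⟩ :=
    hgen _ invU' inL_invs.1 uv_facts.1.2.2.1 fun i hi => (closed_ok hi).1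
  have hV : P ⟨invV, uv_facts.1.2.1⟩ :=
    hgen _ invV' inL_invs.2.1 uv_facts.1.2.2.2 fun i hi => (closed_ok hi).2
  have hword : ∀ w : List ℕ, ∃ h : InL (uvWord w), P ⟨uvWord w, h⟩ := by
    intro w
    induction w with
    | nil => exact ⟨InL.one, hone⟩
    | cons g w ih =>
      obtain ⟨hw, hPw⟩ := ih
      cases hb : Nat.beq g 0
      · have e : uvWord (g :: w) = mm invV (uvWord w) := by simp only [uvWord, hb, cond_false]
        simp only [e]
        exact ⟨uv_facts.1.2.1.comp hw, hmul _ _ hV hPw⟩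
      · have e : uvWord (g :: w) = mm invU (uvWord w) := by simp only [uvWord, hb, cond_true]
        simp only [e]
        exact ⟨uv_facts.1.1.comp hw, hmul _ _ hU hPw⟩
  suffices h : ∀ m (h : InL m), P ⟨m, h⟩ from h x.1 x.2 i hi
  intro m h
  induction h with
  | one => exact hone
  | @mul m g hg hm ih =>
    obtain ⟨k, hk, rfl⟩ := Cert.mem_getD idM hg
    obtain ⟨hw, hP⟩ := hword (invGenWord.getD k [])
    have e := (uv_facts.2 k hk).2
    have hgk : P ⟨gensL.getD k idM, InL.of_gen hg⟩ :=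
      (show (⟨uvWord (invGenWord.getD k []), hw⟩ : LGrp) = ⟨gensL.getD k idM, InL.of_gen hg⟩ from
        LGrp.ext e) ▸ hP
    exact hmul _ _ hgk ih

/-! ### Completeness -/

/-- An involution fixes one of the 77 images of the plane. -/
theorem exists_plane_fixed_inL {a : LGrp} (h2 : a * a = 1) :
    ∃ r ∈ LGrp.xGrp, ∀ v < 64, (r⁻¹ * a * r).act v < 64 := by
  have hex : ∀ p : Fin 77, ∃ q : Fin 77, ∀ v < 64, ∃ w < 64,
      a.act ((rG p).act v) = (rG q).act w := by
    intro p
    obtain ⟨q, hq⟩ := exists_plane_image_inL (a * rG p)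
    refine ⟨q, fun v hv => ?_⟩
    obtain ⟨w, hw, e⟩ :=
      (hq _ (show (a * rG p).act v < 4096 from (a * rG p).2.mv_lt v)).1 ⟨v, hv, rfl⟩
    exact ⟨w, hw, by rw [← LGrp.act_mul, ← e]⟩
  choose σ hσ using hex
  have huniq : ∀ p : Fin 77, σ (σ p) = p := by
    intro p
    refine (Fin.ext (rep_sep p.2 (σ (σ p)).2 fun v hv => ?_)).symm
    obtain ⟨w, hw, e⟩ := hσ p v hv
    obtain ⟨u, hu, e'⟩ := hσ (σ p) w hw
    refine ⟨u, hu, ?_⟩
    rw [← e, ← LGrp.act_mul, h2,
      LGrp.act_one (show (rG p).act v < 4096 from (rG p).2.mv_lt v)] at e'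
    exact e'
  let π : Equiv.Perm (Fin 77) := ⟨σ, σ, huniq, huniq⟩
  obtain ⟨p, hp⟩ : ∃ p, π p = p := by
    have : Fact (Nat.Prime 2) := ⟨Nat.prime_two⟩
    refine Equiv.Perm.exists_fixed_point_of_prime (p := 2) (n := 1) (by simp) ?_
    ext x
    simp [π, pow_two, huniq]
  refine ⟨rG p, show InX (rM p) from inX_rM p p.2, fun v hv => ?_⟩
  obtain ⟨w, hw, e⟩ := hσ p v hv
  rw [show σ p = p from hp] at e
  rw [LGrp.act_mul, LGrp.act_mul, e, LGrp.act_inv _ (lt_trans hw (by norm_num))]
  exact hw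

/-- An involution stabilising the plane is in the list. -/
theorem exists_idx_plane {a : LGrp} (h2 : a * a = 1) (hne : a ≠ 1)
    (hF : ∀ v < 64, a.act v < 64) : ∃ i < 6303, invM i = a.1 := by
  have hrec : recorded a.1 = true → ∃ i < 6303, invM i = a.1 := fun h => by
    simp only [recorded, Bool.and_eq_true, beq_iff_eq] at h
    exact ⟨_, blt_lt h.1, h.2⟩
  obtain ⟨q, hq, k, hk, e | e⟩ := a.2.plane_stab hF
  · have hx : a ∈ LGrp.xGrp := show InX a.1 from e ▸ inX_stab hq hk
    obtain ⟨n, hn, en⟩ := exists_inv_idx hx hne h2 hF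
    exact hrec (en ▸ List.all_eq_true.1 inner_ok n (List.mem_range.2 hn))
  · have h2' : mm a.1 a.1 = idM := congrArg Subtype.val h2
    have hkS : k ∈ invOuterK := by
      have h := List.all_eq_true.1 outerK_ok k (List.mem_range.2 hk)
      simp only [Bool.or_eq_true, Bool.not_eq_true', List.elem_iff] at h
      rcases h with h | h
      · exfalso
        rw [List.all_eq_false] at h
        obtain ⟨b, hb, hb'⟩ := h
        have hlt : 2 ^ b < 64 :=
          (Nat.pow_lt_pow_right (by norm_num) (List.mem_range.1 hb) : 2 ^ b < 2 ^ 6)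
        have hks : ∀ v < 64, mv (mm (kM k) sig) v < 64 :=
          mv_lt_plane (stabF_mm (stabF_kM hk) stabF_sig)
        have h1 : mv a.1 (mv a.1 (2 ^ b)) = 2 ^ b := by
          rw [← mv_mm, h2', mv_idM (lt_trans hlt (by norm_num))]
        rw [e, mm_assoc, mv_mm (qM q) (mm (kM k) sig), mv_mm (qM q) (mm (kM k) sig),
          qM_fix hq (hks _ hlt), qM_fix hq (hks _ (hks _ hlt))] at h1
        simp [h1] at hb'
      · exact h
    have h := List.all_eq_true.1 (List.all_eq_true.1 outer_ok k hkS) q (List.mem_range.2 hq)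
    rw [← e, h2'] at h
    exact hrec (by simpa using h)

/-- Every involution is in the list. -/
theorem inv_complete {m : List ℕ} (h : InL m) (h2 : mm m m = idM) (hne : m ≠ idM) :
    ∃ i < 6303, invM i = m := by
  let a : LGrp := ⟨m, h⟩
  have a2 : a * a = 1 := LGrp.ext h2
  have ane : a ≠ 1 := fun e => hne (congrArg Subtype.val e)
  obtain ⟨r, -, hF⟩ := exists_plane_fixed_inL a2
  obtain ⟨i, hi, ei⟩ := exists_idx_plane (a := r⁻¹ * a * r)
    (by rw [show r⁻¹ * a * r * (r⁻¹ * a * r) = r⁻¹ * (a * a) * r by group, a2, mul_one,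
      inv_mul_cancel])
    (fun e => ane (by
      rw [show a = r * (r⁻¹ * a * r) * r⁻¹ by group, e, mul_one, mul_inv_cancel])) hF
  obtain ⟨j, hj, -, ej⟩ := invM_closed r hi
  refine ⟨j, hj, ?_⟩
  rw [← ej, show invL hi = r⁻¹ * a * r from LGrp.ext ei,
    show r * (r⁻¹ * a * r) * r⁻¹ = a by group]

/-- The list as a bijection with the involutions. -/
noncomputable def invEquiv : Fin 6303 ≃ {a : LGrp // a * a = 1 ∧ a ≠ 1} :=
  Equiv.ofBijective
    (fun i => ⟨invG i, LGrp.ext (invM_sq i.2),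
      fun e => invM_ne i.2 (congrArg Subtype.val e)⟩)
    ⟨fun i j e => Fin.ext (invM_inj i.2 j.2 (congrArg (fun a => a.1.1) e)),
      fun a => by
        obtain ⟨i, hi, e⟩ := inv_complete a.1.2 (congrArg Subtype.val a.2.1)
          (fun e => a.2.2 (LGrp.ext e))
        exact ⟨⟨i, hi⟩, Subtype.ext (LGrp.ext e)⟩⟩

theorem invEquiv_apply (i : Fin 6303) : (invEquiv i).1.1 = invM i := rfl

/-- Conjugate involutions have the same root. -/
theorem invRoot_eq_of_conj {i j : ℕ} (hi : i < 6303) (hj : j < 6303) {x : LGrp}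
    (e : (x * invL hi * x⁻¹).1 = invM j) : invRoot i = invRoot j := by
  obtain ⟨k, hk, rk, ek⟩ := invM_closed x hi
  rw [← rk, invM_inj hk hj (ek.symm.trans e)]

end CfsgLib.J4Type.Order
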