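import Cfsg.Agent.Lib.J4Type.Order.HRoot
import Cfsg.Agent.Lib.J4Type.Order.InvList

/-!
Lifts of involutions of the quotient are involutions; conjugation inside the centraliser of the
central involution on coded elements.
-/

set_option autoImplicit false
set_option linter.unusedSectionVars false
set_option maxRecDepth 100000

namespace CfsgLib.J4Type.Order

open CfsgLib.J4Type

/-- The class of a list entry. -/
def clsOf (i : ℕ) : ℕ :=
  bif Nat.blt i 1155 then 1 else bif Nat.blt i 5313 then 2 else bif Nat.blt i 6303 then 3 else 0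

/-- The list entry of a class. -/
def rootIx (c : ℕ) : ℕ := [6303, 0, 1155, 5313].getD c 6303

theorem rootIx_ok : invM 0 = kr 1 ∧ invM 1155 = kr 2 ∧ invM 5313 = kr 3 ∧
    (((List.range 4).all fun c => clsOf (rootIx c) == c) = true) := by decide +kernel

theorem clsOf_lt (i : ℕ) : clsOf i < 4 := by
  unfold clsOf
  cases Nat.blt i 1155 <;> cases Nat.blt i 5313 <;> cases Nat.blt i 6303 <;> simp

theorem blt_eq (a b : ℕ) : Nat.blt a b = decide (a < b) := by
  rw [Bool.eq_iff_iff, decide_eq_true_iff]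
  exact Iff.of_eq Nat.ble_eq

theorem invM_conj_kr {i : ℕ} (hi : i < 6303) :
    ∃ l r : Cert.LGrp, r.1 = kr (clsOf i) ∧ invM i = (l * r * l⁻¹).1 := by
  obtain ⟨l, r, hr, e⟩ := invM_conj hi
  refine ⟨l, r, hr.trans ?_, e⟩
  obtain ⟨h1, h2, h3, -⟩ := rootIx_ok
  unfold clsOf
  by_cases a : i < 1155
  · rw [if_pos a, h1, blt_eq, decide_eq_true a]; rfl
  · rw [if_neg a, blt_eq i 1155, decide_eq_false a]
    by_cases b : i < 5313
    · rw [if_pos b, h2, blt_eq, decide_eq_true b]; rfl
    · rw [if_neg b, h3, blt_eq i 5313, decide_eq_false b,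
        blt_eq, decide_eq_true hi]; rfl

end CfsgLib.J4Type.Order

namespace CfsgLib.J4Type

open Cfsg Subgroup NV CfsgLib.J4Type.Order Cert

variable {G : Type*} [Group G] [Finite G] {z : G} {P : Subgroup G}

namespace Frame

variable {F : Frame z P} (D : VData F) (hf : Fused D)
include D hf

/-- A lift to the normaliser of `P` of a matrix squaring to one squares to one. -/
theorem lift_sq {g : G} (hg : g ∈ Cen z) (hgn : g ∈ normalizer (P : Set G))
    (h : mm (F.mat g) (F.mat g) = idM) : g * g = 1 := by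
  by_cases he : F.mat g = idM
  · obtain ⟨b, rfl⟩ := norm_cases D hg hgn he
    cases b <;> simp [zp, F.z_mul_z]
  obtain ⟨i, hi, e⟩ := inv_complete (F.mat_inL g hg) h he
  obtain ⟨l, r, hr, e'⟩ := invM_conj_kr hi
  exact sq_of_conj D hf (clsOf_lt i) l r hr hg hgn (by rw [← e, e'])

/-- Lifts of commuting matrices squaring to one commute. -/
theorem lift_comm {g h : G} (hg : g ∈ Cen z) (hgn : g ∈ normalizer (P : Set G)) (hh : h ∈ Cen z)
    (hhn : h ∈ normalizer (P : Set G)) (hg2 : mm (F.mat g) (F.mat g) = idM)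
    (hh2 : mm (F.mat h) (F.mat h) = idM)
    (hc : mm (F.mat g) (F.mat h) = mm (F.mat h) (F.mat g)) : g * h = h * g := by
  have a := lift_sq D hf hg hgn hg2
  have b := lift_sq D hf hh hhn hh2
  have c : g * h * (g * h) = 1 := by
    refine lift_sq D hf (mul_mem hg hh) (mul_mem hgn hhn) ?_
    rw [← F.mat_mul _ (mul_mem hg hh) _ (mul_mem hg hh)]
    have e : g * h * (g * h) = g * (h * g) * h := by group
    have h2 := F.mat_inL h hh
    rw [e, F.mat_mul _ (mul_mem hg (mul_mem hh hg)) _ hh, F.mat_mul _ hg _ (mul_mem hh hg),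
      F.mat_mul _ hh _ hg, ← hc, ← mm_assoc (F.mat g) (F.mat g) (F.mat h), hg2, h2.idM_mm, hh2]
  calc g * h = (g * h)⁻¹ := eq_inv_of_mul_eq_one_left c
    _ = h * g := by rw [mul_inv_rev, inv_eq_of_mul_eq_one_right a, inv_eq_of_mul_eq_one_right b]

omit hf

/-- Conjugation of a coded element of a coset by a coded element. -/
theorem dec_shift {x : G} (hx : x ∈ Cen z) (hxn : x ∈ normalizer (P : Set G)) (f a : ℕ) :
    F.dec f * (F.dec a * x) * (F.dec f)⁻¹ =
      F.dec (shift (F.mat x) f a) * x := by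
  rw [shift, ← F.dec_mul, ← F.dec_mul, ← F.conj_dec hx hxn, F.dec_inv]
  group

/-- Conjugation of a coded element of a coset by an element of the normaliser of `P` fixing it. -/
theorem dec_act {x g : G} (hg : g ∈ Cen z) (hgn : g ∈ normalizer (P : Set G))
    (hc : g * x = x * g) (a : ℕ) :
    g * (F.dec a * x) * g⁻¹ = F.dec (eact (F.mat g) (linB (F.mat g)) a) * x := by
  rw [← F.conj_dec hg hgn]
  calc g * (F.dec a * x) * g⁻¹ = g * F.dec a * g⁻¹ * (g * x * g⁻¹) := by group
    _ = g * F.dec a * g⁻¹ * x := by rw [hc, mul_inv_cancel_right]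

theorem dec_coset_inj {x : G} {a b : ℕ} (ha : a < 8192) (hb : b < 8192)
    (h : F.dec a * x = F.dec b * x) : a = b := F.dec_inj ha hb (mul_right_cancel h)

/-- An element of the centraliser with the matrix of `x` is a coded element times `x`. -/
theorem exists_code {u x : G} (hu : u ∈ Cen z) (hx : x ∈ Cen z) (e : F.mat u = F.mat x) :
    ∃ a < 8192, u = F.dec a * x := by
  have hr : u * x⁻¹ ∈ Rad z := (F.mat_eq_id _ (mul_mem hu (inv_mem hx))).1 (by
    rw [F.mat_mul _ hu _ (inv_mem hx), e, ← F.mat_mul _ hx _ (inv_mem hx), mul_inv_cancel,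
      F.mat_one])
  obtain ⟨a, ha, e'⟩ := F.exists_dec hr
  exact ⟨a, ha, by rw [e']; group⟩

theorem mat_coset {x : G} (hx : x ∈ Cen z) (a : ℕ) : F.mat (F.dec a * x) = F.mat x := by
  rw [F.mat_mul _ (F.dec_mem_cen a) _ hx, F.mat_dec, (F.mat_inL x hx).idM_mm]

theorem coset_sq {x : G} (hx : x ∈ Cen z) (hxn : x ∈ normalizer (P : Set G)) (h2 : x * x = 1)
    (a : ℕ) : F.dec a * x * (F.dec a * x) = 1 ↔
      emul a (eact (F.mat x) (linB (F.mat x)) a) = 0 := by
  have e : F.dec a * x * (F.dec a * x) =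
      F.dec a * (x * F.dec a * x⁻¹) * (x * x) := by group
  rw [e, h2, mul_one, F.conj_dec hx hxn, F.dec_mul, ← F.dec_zero]
  exact ⟨fun h => F.dec_inj (emul_lt _ _) (by norm_num) h, fun h => by rw [h]⟩

end Frame

end CfsgLib.J4Type
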