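import Cfsg.Agent.Lib.J4Type.Order.Code
import Cfsg.Agent.Lib.J4Type.NV.Basic
import Cfsg.Agent.Lib.J4Type.Cert.Perp

/-!
Cheaper forms of the operations on codes, for the checks by the kernel.
-/

set_option autoImplicit false
set_option maxRecDepth 100000

namespace CfsgLib.J4Type.Order

open CfsgLib.J4Type CfsgLib.J4Type.NV CfsgLib.J4Type.Cert

/-- One step of folding the bits. -/
def fold1 (k x : ℕ) : ℕ := x ^^^ (x >>> k)

theorem fold1_xor (k x y : ℕ) : fold1 k (x ^^^ y) = fold1 k x ^^^ fold1 k y := by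
  simp [fold1, Nat.shiftRight_xor_distrib, Nat.xor_assoc, Nat.xor_comm, Nat.xor_left_comm]

/-- The parity of the bits below sixteen. -/
def parB (x : ℕ) : Bool :=
  (fold1 1 (fold1 2 (fold1 4 (fold1 8 x)))).testBit 0

/-- The matrix of the defect form. -/
def betaM : List ℕ := [192, 128, 768, 512, 3072, 2048, 3, 2, 12, 8, 48, 32]

/-- The matrix of the defect of semilinear elements. -/
def gamM : List ℕ := [128, 64, 512, 256, 2048, 1024, 0, 0, 0, 0, 0, 0]

/-- The defect of a product, faster. -/
def fbeta (v w : ℕ) : Bool := parB (w &&& mv betaM v)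

/-- The defect of a semilinear element, faster. -/
def fgam (v : ℕ) : Bool := parB (v &&& mv gamM v)

theorem parB_xor (x y : ℕ) : parB (x ^^^ y) = (parB x).xor (parB y) := by
  simp only [parB, fold1_xor, Nat.testBit_xor]

theorem fgam_ok : ((List.range 4096).all fun v => fgam v == gam v) = true := by decide +kernel

theorem fbeta_basis : ((List.range 12).all fun i => (List.range 12).all fun j =>
    fbeta (2 ^ i) (2 ^ j) == beta (2 ^ i) (2 ^ j)) = true := by decide +kernel

theorem fbeta_xor_right (v a b : ℕ) : fbeta v (a ^^^ b) = (fbeta v a).xor (fbeta v b) := by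
  rw [fbeta, fbeta, fbeta, Nat.and_xor_distrib_right, parB_xor]

theorem fbeta_xor_left (a b w : ℕ) : fbeta (a ^^^ b) w = (fbeta a w).xor (fbeta b w) := by
  rw [fbeta, fbeta, fbeta, mv_xor, Nat.and_xor_distrib_left, parB_xor]

theorem beta_xor_right (v a b : ℕ) : beta v (a ^^^ b) = (beta v a).xor (beta v b) := by
  simp [beta, w1, mv_xor, bF_xor_left, Bool.xor_assoc, Bool.xor_comm, Bool.xor_left_comm]

theorem beta_xor_left (a b w : ℕ) : beta (a ^^^ b) w = (beta a w).xor (beta b w) := by
  simp [beta, w1, w2, mv_xor, bF_xor_right, Bool.xor_assoc, Bool.xor_comm, Bool.xor_left_comm]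

/-- An additive predicate vanishing on a basis vanishes. -/
theorem additive_ext {f g : ℕ → Bool} (hf : ∀ a b, f (a ^^^ b) = (f a).xor (f b))
    (hg : ∀ a b, g (a ^^^ b) = (g a).xor (g b)) (h : ∀ i < 12, f (2 ^ i) = g (2 ^ i)) :
    ∀ v < 2 ^ 12, f v = g v := by
  have e : ∀ v < 2 ^ 12, (f v).toNat = (g v).toNat := by
    refine lin_ext ?_ ?_ fun i hi => by rw [h i hi]
    · intro a b _ _; rw [hf]; cases f a <;> cases f b <;> rfl
    · intro a b _ _; rw [hg]; cases g a <;> cases g b <;> rfl
  intro v hv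
  have := e v hv
  cases hfv : f v <;> cases hgv : g v <;> simp_all

theorem fbeta_eq {v w : ℕ} (hv : v < 4096) (hw : w < 4096) : fbeta v w = beta v w := by
  refine additive_ext (f := fun a => fbeta a w) (g := fun a => beta a w)
    (fun a b => fbeta_xor_left a b w) (fun a b => beta_xor_left a b w)
    (fun i hi => ?_) v hv
  refine additive_ext (f := fun a => fbeta (2 ^ i) a) (g := fun a => beta (2 ^ i) a)
    (fun a b => fbeta_xor_right _ a b) (fun a b => beta_xor_right _ a b)
    (fun j hj => ?_) w hw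
  exact eq_of_beq (List.all_eq_true.1 (List.all_eq_true.1 fbeta_basis i (List.mem_range.2 hi)) j
    (List.mem_range.2 hj))

/-- The product of two codes, faster. -/
def femul (a b : ℕ) : ℕ :=
  eMk (eV a ^^^ eV b) ((eS a).xor ((eS b).xor (fbeta (eV a) (eV b))))

/-- The action on codes, faster. -/
def feact (m : List ℕ) (l : Bool) (a : ℕ) : ℕ :=
  eMk (mv m (eV a)) ((eS a).xor (bif l then false else fgam (eV a)))

/-- The powers, faster. -/
def fepow (n : List ℕ) (l : Bool) (c : ℕ) : ℕ → ℕ
  | 0 => 0
  | j + 1 => femul c (feact n l (fepow n l c j))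

theorem femul_eq (a b : ℕ) : femul a b = emul a b := by
  rw [femul, emul, fbeta_eq (show eV a < 4096 from Nat.mod_lt _ (by norm_num))
    (show eV b < 4096 from Nat.mod_lt _ (by norm_num))]

theorem feact_eq (m : List ℕ) (l : Bool) (a : ℕ) : feact m l a = eact m l a := by
  rw [feact, eact, eq_of_beq (List.all_eq_true.1 fgam_ok (eV a)
    (List.mem_range.2 (Nat.mod_lt _ (by norm_num))))]

theorem fepow_eq (n : List ℕ) (l : Bool) (c : ℕ) : ∀ j, fepow n l c j = epow n l c j
  | 0 => rfl
  | j + 1 => by rw [fepow, epow, fepow_eq n l c j, femul_eq, feact_eq]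

end CfsgLib.J4Type.Order
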