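import Cfsg.Agent.Lib.J4Type.Order.BridgeLinear

/-!
No element commuting with a fixed-point-free element of order three inverts an element of order eleven.
-/

set_option autoImplicit false
set_option linter.style.haveILetI false
set_option linter.unusedSectionVars false

namespace CfsgLib.J4Type.Order

open Finset

variable {A : Type*} [AddCommGroup A]

/-- Nothing commuting with a fixed-point-free element of order three inverts an element of order eleven. -/
theorem no_invert [Finite A] (hA : ∀ a : A, a + a = 0) (h12 : Nat.card A = 2 ^ 12)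
    {P X C C' : AddMonoid.End A} (hp : P ^ 3 = 1) (hfree : ∀ a, P a = a → a = 0) (hX : X ^ 11 = 1)
    (hX1 : X ≠ 1) (hPX : Commute P X) (hC : C' * C = 1) (hC' : C * C' = 1) (hCP : Commute C P)
    (hCX : C * X * C' = X ^ 10) : False := by
  haveI : Fact (Nat.Prime 11) := ⟨by norm_num⟩
  have hP : P * P + P = 1 := AddMonoidHom.ext fun a => by
    have h0 : nrm P 3 a = 0 := hfree _ (fix_nrm hp a)
    rw [nrm, end_sum_apply] at h0
    simp only [Finset.sum_range_succ, Finset.sum_range_zero, zero_add, pow_zero, pow_one, pow_two] at h0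
    show P (P a) + P a = a
    have h0' : a + P a + P (P a) = 0 := h0
    calc P (P a) + P a = (a + P a + P (P a)) + a := by
          rw [add_comm (P (P a)), show a + P a + P (P a) + a = (a + a) + (P a + P (P a)) by abel, hA, zero_add]
      _ = a := by rw [h0', zero_add]
  obtain ⟨N, hN⟩ : ∃ N, N = nrm X 11 := ⟨_, rfl⟩
  obtain ⟨M, hM⟩ : ∃ M, M = 1 + N := ⟨_, rfl⟩
  obtain ⟨θ, hθ⟩ : ∃ θ, θ = X + X ^ 3 + X ^ 4 + X ^ 5 + X ^ 9 := ⟨_, rfl⟩
  obtain ⟨θ', hθ'⟩ : ∃ θ', θ' = X ^ 2 + X ^ 6 + X ^ 7 + X ^ 8 + X ^ 10 := ⟨_, rfl⟩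
  have hmod : ∀ k : ℕ, X ^ k = X ^ (k % 11) := fun k => pow_eq_pow_mod k hX
  have hN1 : N * N = N := hN ▸ nrm_idem hA (by decide) hX
  have hM1 : M * M = M := by
    rw [hM, mul_add, add_mul, one_mul, mul_one, add_mul, one_mul, hN1, end_two hA N, add_zero]
  have hsum : θ + θ' = 1 + N := by
    rw [hN, nrm, hθ, hθ']
    simp only [Finset.sum_range_succ, Finset.sum_range_zero, zero_add, pow_zero, pow_one]
    calc X + X ^ 3 + X ^ 4 + X ^ 5 + X ^ 9 + (X ^ 2 + X ^ 6 + X ^ 7 + X ^ 8 + X ^ 10)
        = 0 + (X + X ^ 2 + X ^ 3 + X ^ 4 + X ^ 5 + X ^ 6 + X ^ 7 + X ^ 8 + X ^ 9 + X ^ 10) := by abel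
      _ = _ := by rw [← end_two hA (1 : AddMonoid.End A)]; abel
  have hsq : θ * θ = θ' := by
    have hc : ∀ i j, Commute (X ^ i) (X ^ j) := fun i j => (Commute.refl X).pow_pow i j
    rw [hθ]
    conv_lhs => rw [← pow_one X]
    simp only [← pow_mul]
    rw [end_sq_add hA, end_sq_add hA, end_sq_add hA, end_sq_add hA]
    · simp only [← pow_add]
      rw [hmod (1 * 9 + 1 * 9), hmod (1 * 4 + 1 * 4), hmod (1 * 3 + 1 * 3), hmod (1 * 5 + 1 * 5), hθ']
      norm_num
      abel
    · exact hc _ _
    · exact (hc _ _).add_left (hc _ _)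
    · exact ((hc _ _).add_left (hc _ _)).add_left (hc _ _)
    · exact (((hc _ _).add_left (hc _ _)).add_left (hc _ _)).add_left (hc _ _)
  have hPθ : Commute P θ := by
    rw [hθ]
    exact ((((hPX).add_right (hPX.pow_right _)).add_right (hPX.pow_right _)).add_right
      (hPX.pow_right _)).add_right (hPX.pow_right _)
  have hXθ : Commute X θ := by
    rw [hθ]
    exact ((((Commute.refl X).add_right (Commute.self_pow X _)).add_right (Commute.self_pow X _)).add_right
      (Commute.self_pow X _)).add_right (Commute.self_pow X _)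
  have hXN : Commute X N := hN ▸ commute_nrm (Commute.refl X) 11
  have hθN : Commute θ N := hN ▸ commute_nrm hXθ.symm 11
  have hPN : Commute P N := hN ▸ commute_nrm hPX 11
  have hθM : Commute θ M := hM ▸ (Commute.one_right θ).add_right hθN
  have hPM : Commute P M := hM ▸ (Commute.one_right P).add_right hPN
  have hXM : Commute X M := hM ▸ (Commute.one_right X).add_right hXN
  obtain ⟨e, he⟩ : ∃ e, e = (θ + P) * M := ⟨_, rfl⟩
  have hθ'M : θ' * M = θ * M + M := by
    have h1 : θ' = θ + (θ + θ') := by rw [← add_assoc, end_two hA, zero_add]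
    rw [h1, hsum, ← hM, add_mul, hM1]
  have hee : e * e = e := by
    have h1 : e * e = (θ + P) * (θ + P) * M := by
      rw [he, mul_assoc, ← mul_assoc M, ((hθM.add_left hPM).symm).eq, mul_assoc, hM1, mul_assoc]
    have h2 : P * P = 1 + P := by
      calc P * P = (P * P + P) + P := by rw [add_assoc, end_two hA, add_zero]
        _ = 1 + P := by rw [hP]
    rw [h1, end_sq_add hA hPθ.symm, hsq, h2, add_mul, hθ'M, add_mul, one_mul, he, add_mul]
    rw [show θ * M + M + (M + P * M) = θ * M + P * M + (M + M) by abel, end_two hA, add_zero]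
  have hXe : Commute X e := by
    rw [he]
    exact (hXθ.add_right hPX.symm).mul_right hXM
  have heM : e * M = e := by rw [he, mul_assoc, hM1]
  have hMe : M * e = e := by rw [he, ← mul_assoc, (hθM.add_left hPM).symm.eq, mul_assoc, hM1]
  set U := kerE (nrm X 11) with hU
  have hUc : Nat.card U = 2 ^ 10 := card_ker_nrm_eleven hA h12 hX hX1
  set R := rangeE (e) with hR
  have hMU : ∀ a, M a ∈ U := fun a => by
    rw [hM, hN]; exact nrm_moving hA (by decide) hX a
  have hRU : R ≤ U := by
    rintro _ ⟨a, rfl⟩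
    show e a ∈ U
    rw [← hMe]; exact hMU (e a)
  have hRinv : ∀ b ∈ R, X b ∈ R := by
    rintro _ ⟨a, rfl⟩
    exact ⟨X a, (DFunLike.congr_fun hXe.eq a).symm⟩
  obtain ⟨k, hk, hkc⟩ := card_pow_two h12 R
  have hm := card_addSubgroup_modEq hX R hRinv fun b hb => eq_of_mem_ker hA (by decide) (hRU hb)
  rw [hkc] at hm
  have hk10 : k = 0 ∨ k = 10 := by
    have : ∀ k ≤ 12, 2 ^ k % 11 = 1 → k = 0 ∨ k = 10 := by decide
    exact this k hk (by simpa [Nat.ModEq] using hm)
  -- conjugation interchanges the two cases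
  have hCM : C * M * C' = M := by
    have hpow : ∀ n : ℕ, C * X ^ n * C' = X ^ (10 * n) := by
      intro n
      induction n with
      | zero => simp [hC']
      | succ n ih =>
        rw [pow_succ, show C * (X ^ n * X) * C' = C * X ^ n * (C' * C) * X * C' by rw [hC]; noncomm_ring,
          show C * X ^ n * (C' * C) * X * C' = (C * X ^ n * C') * (C * X * C') by noncomm_ring, ih, hCX,
          ← pow_add, Nat.mul_succ]
    rw [hM, hN, nrm]
    simp only [Finset.sum_range_succ, Finset.sum_range_zero, zero_add, mul_add, add_mul, hpow]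
    rw [mul_one, hC', hmod (10 * 2), hmod (10 * 3), hmod (10 * 4), hmod (10 * 5), hmod (10 * 6),
      hmod (10 * 7), hmod (10 * 8), hmod (10 * 9), hmod (10 * 10)]
    norm_num
    abel
  have hCθ : C * θ * C' = θ' := by
    have hpow : ∀ n : ℕ, C * X ^ n * C' = X ^ (10 * n) := by
      intro n
      induction n with
      | zero => simp [hC']
      | succ n ih =>
        rw [pow_succ, show C * (X ^ n * X) * C' = C * X ^ n * (C' * C) * X * C' by rw [hC]; noncomm_ring,
          show C * X ^ n * (C' * C) * X * C' = (C * X ^ n * C') * (C * X * C') by noncomm_ring, ih, hCX,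
          ← pow_add, Nat.mul_succ]
    rw [hθ, hθ']
    simp only [mul_add, add_mul, hCX, hpow]
    rw [hmod (10 * 3), hmod (10 * 4), hmod (10 * 5), hmod (10 * 9)]
    norm_num
    abel
  have hCe : C * e * C' = e + M := by
    calc C * e * C' = (C * θ * C' + C * P * C') * (C * M * C') := by
          rw [he, show C * ((θ + P) * M) * C' = C * (θ + P) * (C' * C) * M * C' by rw [hC]; noncomm_ring]
          noncomm_ring
      _ = (θ' + P) * M := by rw [hCθ, hCM, hCP.eq, mul_assoc, hC', mul_one]
      _ = e + M := by rw [add_mul, hθ'M, he, add_mul]; abel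
  have hM0 : M = 0 := by
    rcases hk10 with rfl | rfl
    · haveI := (Nat.card_eq_one_iff_unique.1 hkc).1
      have he0 : e = 0 := AddMonoidHom.ext fun a =>
        congrArg Subtype.val (Subsingleton.elim (⟨e a, a, rfl⟩ : R) 0)
      rw [he0, mul_zero, zero_mul, zero_add] at hCe
      exact hCe.symm
    · have hRe : R = U := by
        refine SetLike.coe_injective (Set.eq_of_subset_of_ncard_le hRU ?_)
        rw [← Nat.card_coe_set_eq, ← Nat.card_coe_set_eq]
        exact le_of_eq (hUc.trans hkc.symm)
      have heM' : e = M := by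
        refine AddMonoidHom.ext fun a => ?_
        obtain ⟨b, hb⟩ : M a ∈ R := hRe.symm ▸ hMU a
        calc e a = e (M a) := (DFunLike.congr_fun heM a).symm
          _ = e (e b) := congrArg e hb.symm
          _ = e b := DFunLike.congr_fun hee b
          _ = M a := hb
      rw [heM', hCM, end_two hA] at hCe
      exact hCe
  refine hX1 ?_
  have hN' : N = 1 := by
    calc N = (1 + N) + 1 := by rw [add_comm 1 N, add_assoc, end_two hA, add_zero]
      _ = 1 := by rw [← hM, hM0, zero_add]
  calc X = X * N := by rw [hN', mul_one]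
    _ = N := by rw [hN]; exact mul_nrm hX
    _ = 1 := hN'

end CfsgLib.J4Type.Order
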