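import Cfsg.Agent.Lib.J4Type.Order.BridgeAct
import Cfsg.Agent.Lib.J4Type.Order.BridgeInvert
import Cfsg.Agent.Lib.J4Type.CoreP.M22Facts
import Cfsg.Agent.Lib.Recog.SpSixThree.Raw
import Cfsg.Agent.Lib.Solvable.PCore
import Cfsg.Prelude.Def_JankoFourType

/-!
The centraliser hypothesis by `3.M22:2` over an extraspecial radical gives the hypothesis of Janko-four type.
-/

set_option autoImplicit false
set_option linter.style.haveILetI false
set_option linter.unusedSectionVars false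

namespace CfsgLib.J4Type.Order

open Subgroup
open scoped commutatorElement

universe u

private theorem bridge_aux {G : Type u} [Group G] [Finite G] (t : G) (ht : orderOf t = 2) (H : Subgroup G)
    (hH : H = Subgroup.centralizer ({t} : Set G)) (Q N M : Subgroup H) [hQn : Q.Normal] [hNn : N.Normal] [hMn : M.Normal]
    (hQN : Q ≤ N) (hNM : N ≤ M) (hM : M.index = 2) (hQ : Cfsg.IsExtraspecial 2 Q)
    (hcard : Nat.card Q = 2 ^ 13) (hN : Nat.card N = 3 * Nat.card Q) (hcent : ⁅M, N⁆ ≤ Q)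
    (hperf : M ≤ ⁅M, M⁆ ⊔ Q)
    (h2c : Subgroup.centralizer (Q : Set H) ≤ Q)
    (hout : ∀ c : H, (∀ m ∈ M, c * m * c⁻¹ * m⁻¹ ∈ N) → c ∈ M)
    (hM22 : Cfsg.Spor.IsoM22 (M ⧸ N.subgroupOf M)) :
    ∃ P : Subgroup G, Cfsg.IsOfJankoFourTypeWith t P := by
  classical
  haveI : Fact (Nat.Prime 2) := ⟨Nat.prime_two⟩
  haveI : Fact (Nat.Prime 3) := ⟨Nat.prime_three⟩
  haveI : Fact (Nat.Prime 7) := ⟨by norm_num⟩
  haveI : Fact (Nat.Prime 11) := ⟨by norm_num⟩
  have hmemH : ∀ g : G, g ∈ H ↔ g * t = t * g := fun g => by rw [hH, mem_centralizer_singleton_iff]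
  obtain ⟨e⟩ := hM22
  haveI := CfsgLib.Golay.isSimple_sporM22
  haveI : (N.subgroupOf M).Normal := Subgroup.Normal.subgroupOf hNn M
  set π := QuotientGroup.mk' (N.subgroupOf M) with hπ
  have hπ1 : ∀ m : ↥M, π m = 1 ↔ (m : H) ∈ N := fun m => QuotientGroup.eq_one_iff m
  have hMN : ∀ c ∈ M, (∀ m ∈ M, c * m * c⁻¹ * m⁻¹ ∈ N) → c ∈ N := by
    intro c hc hcm
    refine (hπ1 ⟨c, hc⟩).1 (e.injective ?_)
    rw [map_one, ← Subgroup.mem_bot, ← CoreP.center_M22]
    refine Subgroup.mem_center_iff.2 fun y => ?_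
    obtain ⟨y, rfl⟩ := e.surjective y
    obtain ⟨m, rfl⟩ := QuotientGroup.mk'_surjective (N.subgroupOf M) y
    show e (π m) * e (π ⟨c, hc⟩) = e (π ⟨c, hc⟩) * e (π m)
    refine ((map_mul e _ _).symm.trans ((congrArg e (Eq.symm ?_)).trans (map_mul e _ _)))
    rw [← mul_inv_eq_one, mul_inv_rev, ← map_inv, ← map_inv, ← map_mul, ← map_mul, ← map_mul, hπ1]
    simpa [mul_assoc] using hcm m m.2
  -- the action on `M/N`
  have hmapM : ∀ c : H,
      (N.subgroupOf M).map (MulAut.conjNormal (H := M) c).toMonoidHom = N.subgroupOf M := by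
    intro c
    ext m
    constructor
    · rintro ⟨n, hn, rfl⟩
      exact hNn.conj_mem _ (Subgroup.mem_subgroupOf.1 hn) c
    · intro hm
      refine ⟨MulAut.conjNormal (H := M) c⁻¹ m, Subgroup.mem_subgroupOf.2 ?_, by simp⟩
      rw [MulAut.conjNormal_apply, inv_inv]
      simpa using hNn.conj_mem _ (Subgroup.mem_subgroupOf.1 hm) c⁻¹
  let θf : H → MulAut (↥M ⧸ N.subgroupOf M) := fun c =>
    QuotientGroup.congr _ _ (MulAut.conjNormal (H := M) c) (hmapM c)
  have hθf : ∀ c (m : ↥M), θf c (π m) = π (MulAut.conjNormal (H := M) c m) := fun c m => rfl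
  let θ : H →* MulAut ↥Cfsg.Spor.M22 := (MulAut.congr e).toMonoidHom.comp
    { toFun := θf
      map_one' := MulEquiv.ext fun y => by
        obtain ⟨m, rfl⟩ := QuotientGroup.mk'_surjective (N.subgroupOf M) y
        rw [hθf, map_one, MulAut.one_apply, MulAut.one_apply]
      map_mul' := fun c d => MulEquiv.ext fun y => by
        obtain ⟨m, rfl⟩ := QuotientGroup.mk'_surjective (N.subgroupOf M) y
        rw [hθf, MulAut.mul_apply, hθf, hθf, map_mul, MulAut.mul_apply] }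
  have hθker : θ.ker = N := by
    ext c
    rw [MonoidHom.mem_ker, MonoidHom.comp_apply, MulEquiv.coe_toMonoidHom, MulEquiv.map_eq_one_iff]
    constructor
    · intro h
      have hall : ∀ m ∈ M, c * m * c⁻¹ * m⁻¹ ∈ N := by
        intro m hm
        have h1 : π (MulAut.conjNormal (H := M) c ⟨m, hm⟩) = π ⟨m, hm⟩ := by
          rw [← hθf]
          exact congrArg (fun f : MulAut (↥M ⧸ N.subgroupOf M) => f (π ⟨m, hm⟩)) h
        rw [← mul_inv_eq_one, ← map_inv, ← map_mul, hπ1] at h1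
        simpa using h1
      exact hMN c (hout c hall) hall
    · intro h
      refine MulEquiv.ext fun y => ?_
      obtain ⟨m, rfl⟩ := QuotientGroup.mk'_surjective (N.subgroupOf M) y
      show θf c (π m) = π m
      rw [hθf, ← mul_inv_eq_one, ← map_inv, ← map_mul, hπ1]
      have : (c : H) * m * c⁻¹ * (m : H)⁻¹ = c * ((m : H) * c⁻¹ * (m : H)⁻¹) := by group
      simp only [Subgroup.coe_mul, Subgroup.coe_inv, MulAut.conjNormal_apply]
      rw [this]
      exact mul_mem h (hNn.conj_mem _ (inv_mem h) m)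
  have hQ0 : Nat.card Q = 8192 := hcard.trans (by norm_num)
  have hMcard : Nat.card M = 443520 * Nat.card N := by
    rw [Subgroup.card_eq_card_quotient_mul_card_subgroup (N.subgroupOf M), Nat.card_congr e.toEquiv,
      CfsgLib.Golay.card_sporM22, Nat.card_congr (Subgroup.subgroupOfEquivOfLe hNM).toEquiv]
  have hHcard : Nat.card H = 887040 * Nat.card N := by
    rw [← Subgroup.card_mul_index M, hM, hMcard]; ring
  have hθsurj : Function.Surjective θ := by
    rw [← MonoidHom.range_eq_top]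
    refine Subgroup.eq_top_of_card_eq _ ?_
    have h := Subgroup.card_eq_card_quotient_mul_card_subgroup θ.ker
    rw [Nat.card_congr (QuotientGroup.quotientKerEquivRange θ).toEquiv, hθker, hHcard] at h
    rw [CoreP.card_aut]
    exact (Nat.eq_of_mul_eq_mul_right Nat.card_pos h).symm
  -- a subgroup of `M` normal in it lies in `N` or covers `M`
  have hsimple : ∀ K : Subgroup H, (∀ m ∈ M, ∀ k ∈ K, m * k * m⁻¹ ∈ K) → K ≤ M → N ≤ K → K = N ∨ K = M := by
    intro K hK hKM hNK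
    have hn : ((K.subgroupOf M).map (e.toMonoidHom.comp π)).Normal :=
      Subgroup.Normal.map ⟨fun k hk (m : ↥M) => hK (m : H) m.2 k hk⟩ _ (e.surjective.comp (QuotientGroup.mk'_surjective _))
    rcases hn.eq_bot_or_eq_top with h | h
    · left
      refine le_antisymm (fun k hk => (hπ1 ⟨k, hKM hk⟩).1 (e.injective ?_)) hNK
      rw [map_one, ← Subgroup.mem_bot, ← h]
      exact ⟨⟨k, hKM hk⟩, hk, rfl⟩
    · right
      refine le_antisymm hKM fun m hm => ?_
      obtain ⟨k, hk, he⟩ : e (π ⟨m, hm⟩) ∈ (K.subgroupOf M).map (e.toMonoidHom.comp π) := h ▸ mem_top _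
      obtain ⟨n, hn', hkn⟩ := (QuotientGroup.mk'_eq_mk' _).1 (e.injective he)
      have := mul_mem (Subgroup.mem_subgroupOf.1 hk) (hNK (Subgroup.mem_subgroupOf.1 hn'))
      rwa [← Subgroup.coe_mul, hkn] at this
  -- the radical
  have hcore : Cfsg.pCore 2 H = Q := by
    haveI := CfsgLib.Solvable.pCore_normal 2 H
    have hO2 := CfsgLib.Solvable.pCore_isPGroup (G := H) 2
    set O := Cfsg.pCore 2 H with hO
    have hQO : Q ≤ O := CfsgLib.Solvable.le_pCore hQn hQ.1.1
    have hK : (O ⊓ M) ⊔ N = N := by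
      refine (hsimple _ (fun m _ k hk => (inferInstance : ((O ⊓ M) ⊔ N).Normal).conj_mem k hk m)
        (sup_le inf_le_right hNM) le_sup_right).resolve_right fun h => ?_
      have h11 : 11 ∣ Nat.card M := by rw [hMcard]; exact Dvd.dvd.mul_right (by norm_num) _
      rw [← h] at h11
      have hd := CfsgLib.Solvable.card_sup_dvd (O ⊓ M) N
      obtain ⟨a, ha⟩ := IsPGroup.iff_card.1 (hO2.to_le (inf_le_left : O ⊓ M ≤ O))
      have h2 := h11.trans hd
      rw [ha, hN, hcard] at h2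
      rcases (Nat.Prime.dvd_mul (by norm_num)).1 h2 with h' | h'
      · exact absurd ((Nat.prime_dvd_prime_iff_eq (by norm_num) Nat.prime_two).1
          ((by norm_num : Nat.Prime 11).dvd_of_dvd_pow h')) (by norm_num)
      · norm_num at h'
    have hON : O ≤ N := fun o ho => by
      have hall : ∀ m ∈ M, o * m * o⁻¹ * m⁻¹ ∈ N := fun m hm => hK.le (mem_sup_left (Subgroup.mem_inf.2 ⟨by
          rw [show o * m * o⁻¹ * m⁻¹ = o * (m * o⁻¹ * m⁻¹) by group]
          exact mul_mem ho ((inferInstance : O.Normal).conj_mem _ (inv_mem ho) m),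
        mul_mem (hMn.conj_mem m hm o) (inv_mem hm)⟩))
      exact hMN o (hout o hall) hall
    refine (eq_of_le_of_card_ge hQO ?_).symm
    obtain ⟨a, ha⟩ := IsPGroup.iff_card.1 hO2
    have hd := Subgroup.card_dvd_of_le hON
    rw [ha, hN, hcard] at hd
    have h13 : 2 ^ a ∣ 2 ^ 13 := ((Nat.Coprime.pow_left a (by norm_num : Nat.Coprime 2 3)).dvd_of_dvd_mul_left hd)
    rw [ha, hcard]
    exact Nat.le_of_dvd (by norm_num) h13
  -- the subgroup of order three
  obtain ⟨p, hpo⟩ := exists_prime_orderOf_dvd_card' (G := N) 3 ⟨Nat.card Q, hN⟩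
  rw [← Subgroup.orderOf_coe] at hpo
  obtain ⟨⟨p, hpN⟩, hpo⟩ : ∃ q : N, orderOf (q : H) = 3 := ⟨p, hpo⟩
  replace hpo : orderOf p = 3 := hpo
  have hpQ : p ∉ Q := fun h => by
    have := Subgroup.orderOf_dvd_natCard _ h
    rw [hpo, hQ0] at this
    norm_num at this
  have hgen : Q ⊔ Subgroup.zpowers p = N := by
    refine eq_of_le_of_card_ge (sup_le hQN (zpowers_le.2 hpN)) ?_
    have h1 := Subgroup.card_dvd_of_le (le_sup_left : Q ≤ Q ⊔ Subgroup.zpowers p)
    have h2 := Subgroup.card_dvd_of_le (le_sup_right : Subgroup.zpowers p ≤ Q ⊔ Subgroup.zpowers p)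
    rw [Nat.card_zpowers, hpo] at h2
    have := Nat.Coprime.mul_dvd_of_dvd_of_dvd (by rw [hcard]; norm_num) h1 h2
    rw [hN, mul_comm]
    exact Nat.le_of_dvd Nat.card_pos this
  have hp3 : p ^ 3 = 1 := hpo ▸ pow_orderOf_eq_one p
  obtain ⟨Ac⟩ := exists_act Q hQ
  have h12 : Nat.card Ac.A = 2 ^ 12 := by
    have := Ac.card; rw [hQ0] at this; norm_num; omega
  have hfaith : ∀ c : H, Ac.ρ c = 1 → Odd (orderOf c) → c = 1 := fun c hc hodd => by
    have h1 := Subgroup.orderOf_dvd_natCard _ (h2c (Ac.ρ_odd c hc hodd))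
    rw [hcard] at h1
    exact orderOf_eq_one_iff.1 (Nat.eq_one_of_dvd_coprimes
      ((Nat.coprime_two_right.2 hodd).pow_right 13) dvd_rfl h1)
  have hρp : ∀ n ∈ N, Ac.ρ n ∈ Submonoid.powers (Ac.ρ p) := by
    intro n hn
    rw [← hgen, ← SetLike.mem_coe, Subgroup.normal_mul] at hn
    obtain ⟨q, hq, r, hr, rfl⟩ := hn
    obtain ⟨k, rfl⟩ := (orderOf_pos p |> fun h => (isOfFinOrder_of_finite p).mem_powers_iff_mem_zpowers.2 hr)
    exact ⟨k, by rw [map_mul, Ac.ρ_inner q hq, one_mul, map_pow]⟩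
  have hPcomm : ∀ m ∈ M, Commute (Ac.ρ m) (Ac.ρ p) := by
    intro m hm
    have h := hcent (Subgroup.commutator_mem_commutator hm hpN)
    have h1 := Ac.ρ_inner _ h
    show Ac.ρ m * Ac.ρ p = Ac.ρ p * Ac.ρ m
    calc Ac.ρ m * Ac.ρ p = Ac.ρ (⁅m, p⁆ * (p * m)) := by
          rw [← map_mul, commutatorElement_def]; congr 1; group
      _ = Ac.ρ p * Ac.ρ m := by rw [map_mul, h1, one_mul, map_mul]
  have hρp1 : Ac.ρ p ≠ 1 := fun h => by
    have := hfaith p h (by rw [hpo]; decide)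
    rw [this, orderOf_one] at hpo
    omega
  -- elements of order eleven and seven
  obtain ⟨φ, x0, hx0o, hφ⟩ := exists_inverted
  obtain ⟨c, hc⟩ := hθsurj φ
  obtain ⟨x1, hx1⟩ : ∃ x : ↥M, e (π x) = x0 := (e.surjective.comp (QuotientGroup.mk'_surjective _)) x0
  have hx111 : (x1 : H) ^ 11 ∈ N := (hπ1 (x1 ^ 11)).1 (e.injective (by
    rw [map_pow, map_pow, hx1, map_one, ← hx0o, pow_orderOf_eq_one]))
  obtain ⟨x, hxdef⟩ : ∃ x : H, x = (x1 : H) ^ (3 * 8192) := ⟨_, rfl⟩
  have hxM : x ∈ M := hxdef ▸ pow_mem x1.2 _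
  have hx11 : x ^ 11 = 1 := by
    rw [hxdef, ← pow_mul, mul_comm, pow_mul]
    have h := pow_card_eq_one' (x := (⟨_, hx111⟩ : ↥N))
    rw [hN, hQ0] at h
    simpa using congrArg Subtype.val h
  have hex : e (π ⟨x, hxM⟩) = x0 ^ (3 * 8192) := by
    rw [← hx1, ← map_pow, ← map_pow]
    exact congrArg (fun m => e (π m)) (Subtype.ext hxdef)
  have hex1 : e (π ⟨x, hxM⟩) ≠ 1 := fun h => by
    rw [hex] at h
    have := orderOf_dvd_of_pow_eq_one h
    rw [hx0o] at this
    norm_num at this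
  have hxN : x ∉ N := fun h => hex1 (by rw [(hπ1 ⟨x, hxM⟩).2 h, map_one])
  have hρx1 : Ac.ρ x ≠ 1 := fun h => hxN (by
    rw [hfaith x h (by
      rw [orderOf_eq_prime hx11 fun h' => hxN (h' ▸ one_mem N)]; decide)]
    exact one_mem N)
  obtain ⟨y, hyo⟩ := exists_prime_orderOf_dvd_card' (G := M) 7 (by
    rw [hMcard]; exact Dvd.dvd.mul_right (by norm_num) _)
  rw [← Subgroup.orderOf_coe] at hyo
  have hy7 : (y : H) ^ 7 = 1 := hyo ▸ pow_orderOf_eq_one _
  have hρy1 : Ac.ρ y ≠ 1 := fun h => by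
    rw [hfaith y h (by rw [hyo]; decide), orderOf_one] at hyo
    omega
  -- `p` in the derived subgroup of `M` modulo `Q`
  obtain ⟨d0, hd0, q0, hq0, hdq⟩ : ∃ d ∈ ⁅M, M⁆, ∃ q ∈ Q, d * q = p := by
    have h := hperf (hNM hpN)
    rw [← SetLike.mem_coe, Subgroup.mul_normal] at h
    exact h
  obtain ⟨d, hd, rfl⟩ : ∃ d ∈ commutator ↥M, (d : H) = d0 := by
    rw [← Subgroup.map_subtype_commutator] at hd0
    exact hd0
  have hfree : ∀ a, Ac.ρ p a = a → a = 0 := by
    refine three_free Ac.hA h12 (Ac.ρ.comp M.subtype) ⟨p, hNM hpN⟩ ⟨x, hxM⟩ y ?_ hρp1 ?_ hρx1 ?_ hρy1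
      (fun m => hPcomm m m.2) ⟨d, hd, ?_⟩ ?_ Ac.s Ac.s_pm Ac.s_zero (fun m => Ac.s_inv m) Ac.s_quad Ac.s_nd
    · show Ac.ρ p ^ 3 = 1; rw [← map_pow, hp3, map_one]
    · show Ac.ρ x ^ 11 = 1; rw [← map_pow, hx11, map_one]
    · show Ac.ρ (y : H) ^ 7 = 1; rw [← map_pow, hy7, map_one]
    · show Ac.ρ (d : H) = Ac.ρ p
      rw [← hdq, map_mul, Ac.ρ_inner q0 hq0, mul_one]
    · intro K hKn hpK hxK hker
      have hKm : ∀ k ∈ K.map M.subtype, k ∈ M := fun k hk => Subgroup.map_subtype_le K hk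
      have hQK : Q ≤ K.map M.subtype := fun q hq =>
        ⟨⟨q, hNM (hQN hq)⟩, hker (MonoidHom.mem_ker.2 (Ac.ρ_inner q hq)), rfl⟩
      have hNK : N ≤ K.map M.subtype := hgen ▸ sup_le hQK (zpowers_le.2 ⟨_, hpK, rfl⟩)
      rcases hsimple (K.map M.subtype) (by
        rintro m hm _ ⟨k, hk, rfl⟩
        exact ⟨⟨m, hm⟩ * k * ⟨m, hm⟩⁻¹, hKn.conj_mem k hk _, rfl⟩) hKm hNK with h | h
      · exact absurd (h.le ⟨_, hxK, rfl⟩ : x ∈ N) hxN
      · refine eq_top_iff.2 fun m _ => ?_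
        obtain ⟨k, hk, he⟩ := h.ge m.2
        exact (M.subtype_injective he) ▸ hk
  -- the conjugating element
  have hcx : c * x * c⁻¹ * x ∈ N := by
    refine (hπ1 ⟨_, mul_mem (hMn.conj_mem x hxM c) hxM⟩).1 (e.injective ?_)
    rw [show (⟨c * x * c⁻¹ * x, _⟩ : ↥M) = MulAut.conjNormal (H := M) c ⟨x, hxM⟩ * ⟨x, hxM⟩ from
      Subtype.ext (by simp), map_mul, map_mul, map_one]
    have : θ c (e (π ⟨x, hxM⟩)) = e (π (MulAut.conjNormal (H := M) c ⟨x, hxM⟩)) := by
      show e (θf c (e.symm (e (π ⟨x, hxM⟩)))) = _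
      rw [MulEquiv.symm_apply_apply, hθf]
    rw [← this, hc, hex, map_pow, hφ, inv_pow, inv_mul_cancel]
  have hρcx : Ac.ρ c * Ac.ρ x * Ac.ρ c⁻¹ = Ac.ρ x ^ 10 := by
    obtain ⟨k, hk⟩ := hρp _ hcx
    have hk' : Ac.ρ p ^ k = Ac.ρ c * Ac.ρ x * Ac.ρ c⁻¹ * Ac.ρ x := by
      rw [← map_mul, ← map_mul, ← map_mul]; exact hk
    have hX10 : Ac.ρ x * Ac.ρ x ^ 10 = 1 := by rw [← pow_succ', ← map_pow, hx11, map_one]
    have h1 : Ac.ρ c * Ac.ρ x * Ac.ρ c⁻¹ = Ac.ρ p ^ k * Ac.ρ x ^ 10 := by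
      rw [hk', mul_assoc (Ac.ρ c * Ac.ρ x * Ac.ρ c⁻¹) (Ac.ρ x), hX10, mul_one]
    have hc11 : (Ac.ρ c * Ac.ρ x * Ac.ρ c⁻¹) ^ 11 = 1 := by
      rw [← map_mul, ← map_mul, ← map_pow, conj_pow, hx11, mul_one, mul_inv_cancel, map_one]
    rw [h1, ((hPcomm x hxM).symm.pow_pow k 10).mul_pow, ← pow_mul (Ac.ρ x), mul_comm 10, pow_mul (Ac.ρ x),
      ← map_pow Ac.ρ x, hx11, map_one, one_pow, mul_one, ← pow_mul] at hc11
    have hk3 : Ac.ρ p ^ k = 1 := by
      calc Ac.ρ p ^ k = Ac.ρ p ^ (k * 11) * Ac.ρ p ^ k := by rw [hc11, one_mul]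
        _ = Ac.ρ p ^ (3 * (4 * k)) := by rw [← pow_add]; congr 1; ring
        _ = 1 := by rw [pow_mul, ← map_pow Ac.ρ p 3, hp3, map_one, one_pow]
    rw [h1, hk3, one_mul]
  obtain ⟨c', hc', hc'n⟩ : ∃ c' : H, c'⁻¹ * c ∈ N ∧
      c' ∈ Subgroup.normalizer (Subgroup.zpowers p : Set H) := by
    have hfac : (Nat.card N).factorization 3 = 1 := by
      rw [hN, hcard, Nat.factorization_mul (by norm_num) (by norm_num), Finsupp.add_apply,
        Nat.prime_three.factorization_self, Nat.factorization_pow]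
      simp [Nat.Prime.factorization Nat.prime_two]
    let S : Sylow 3 N := Sylow.ofCard ((Subgroup.zpowers p).subgroupOf N) (by
      rw [hfac, pow_one, Nat.card_congr (subgroupOfEquivOfLe (zpowers_le.2 hpN)).toEquiv, Nat.card_zpowers, hpo])
    have h := Sylow.normalizer_sup_eq_top S
    have hmapS : (S : Subgroup N).map N.subtype = Subgroup.zpowers p := by
      show ((Subgroup.zpowers p).subgroupOf N).map N.subtype = _
      rw [subgroupOf_map_subtype, inf_eq_left.2 (zpowers_le.2 hpN)]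
    rw [hmapS] at h
    have hc0 : c ∈ ((Subgroup.normalizer (Subgroup.zpowers p : Set H) ⊔ N : Subgroup H) : Set H) := by
      rw [h]; trivial
    rw [Subgroup.mul_normal] at hc0
    obtain ⟨c', hc', n, hn, he⟩ := hc0
    refine ⟨c', ?_, hc'⟩
    rw [← he]
    simpa using hn
  have hmove : c' * p * c'⁻¹ ≠ p := by
    intro hcp
    have hcommc : Commute (Ac.ρ c) (Ac.ρ p) := by
      obtain ⟨k, hk⟩ := hρp _ hc'
      have h1 : Ac.ρ c = Ac.ρ c' * Ac.ρ p ^ k := by
        rw [show Ac.ρ p ^ k = Ac.ρ (c'⁻¹ * c) from hk, ← map_mul, mul_inv_cancel_left]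
      rw [h1]
      refine Commute.mul_left ?_ ((Commute.refl _).pow_left k)
      exact (show Commute c' p from mul_inv_eq_iff_eq_mul.1 hcp).map Ac.ρ
    refine no_invert Ac.hA h12 (P := Ac.ρ p) (X := Ac.ρ x) (C := Ac.ρ c) (C' := Ac.ρ c⁻¹) ?_ hfree ?_ hρx1
      ((hPcomm x hxM).symm) ?_ ?_ hcommc hρcx
    · rw [← map_pow, hp3, map_one]
    · rw [← map_pow, hx11, map_one]
    · rw [← map_mul, inv_mul_cancel, map_one]
    · rw [← map_mul, mul_inv_cancel, map_one]
  -- the fixed points of `p`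
  have hfixQ : ∀ q ∈ Q, q * p = p * q → (q : G) ∈ Subgroup.zpowers t := by
    intro q hq hqp
    have hqc : ∀ r ∈ Q, r * q = q * r := by
      have h0 : Ac.pr ⟨q, hq⟩ = 0 := hfree _ (Ac.ρ_pr p ⟨q, hq⟩ ⟨q, hq⟩ (by
        show p * q * p⁻¹ = q
        rw [← hqp, mul_inv_cancel_right]))
      intro r hr
      exact congrArg Subtype.val (Subgroup.mem_center_iff.1 ((Ac.pr_zero _).1 h0) ⟨r, hr⟩)
    have ht0 : (⟨t, (hmemH t).2 rfl⟩ : H) ∈ Q :=
      h2c (Subgroup.mem_centralizer_iff.2 fun r _ => Subtype.ext ((hmemH _).1 r.2))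
    obtain ⟨a, b, hab, huniv⟩ := Nat.card_eq_two_iff.1 hQ.2
    have hmem : ∀ u : Subgroup.center ↥Q, u = a ∨ u = b := fun u => by
      have : u ∈ ({a, b} : Set (Subgroup.center ↥Q)) := huniv ▸ Set.mem_univ u
      exact this
    let q' : Subgroup.center ↥Q := ⟨⟨q, hq⟩, Subgroup.mem_center_iff.2 fun r => Subtype.ext (hqc r r.2)⟩
    let t' : Subgroup.center ↥Q := ⟨⟨_, ht0⟩, Subgroup.mem_center_iff.2 fun r =>
      Subtype.ext (Subtype.ext ((hmemH _).1 (r : H).2))⟩
    have ht' : t' ≠ 1 := fun h => by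
      have h1 : t = 1 := congrArg (fun u : Subgroup.center ↥Q => (((u : ↥Q) : H) : G)) h
      rw [h1, orderOf_one] at ht
      omega
    have : q' = 1 ∨ q' = t' := by
      rcases hmem q' with h | h <;> rcases hmem 1 with h' | h' <;> rcases hmem t' with h'' | h''
      all_goals first
        | exact Or.inl (h.trans h'.symm)
        | exact Or.inr (h.trans h''.symm)
        | exact absurd (h''.trans h'.symm) ht'
    rcases this with h | h
    · have h1 : (q : G) = 1 := congrArg (fun u : Subgroup.center ↥Q => (((u : ↥Q) : H) : G)) h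
      rw [h1]
      exact one_mem _
    · have h1 : (q : G) = t := congrArg (fun u : Subgroup.center ↥Q => (((u : ↥Q) : H) : G)) h
      rw [h1]
      exact mem_zpowers t
  -- assembly
  have hpG : orderOf (p : G) = 3 := by rw [Subgroup.orderOf_coe, hpo]
  set P := Subgroup.zpowers (p : G) with hP
  have hcentP : ∀ g : G, g ∈ Subgroup.centralizer (P : Set G) ↔ g * (p : G) = p * g := fun g => by
    refine ⟨fun h => (Subgroup.mem_centralizer_iff.1 h _ (mem_zpowers _)).symm, fun h => ?_⟩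
    refine Subgroup.mem_centralizer_iff.2 fun u hu => ?_
    obtain ⟨i, rfl⟩ := mem_zpowers_iff.1 hu
    exact ((show Commute g (p : G) from h).zpow_right i).eq.symm
  have hQmap : Cfsg.twoCoreOfCentralizer t = Q.map H.subtype := by
    subst hH
    rw [Cfsg.twoCoreOfCentralizer, hcore]
  let eQ := Q.equivMapOfInjective H.subtype H.subtype_injective
  refine ⟨P, ?_⟩
  unfold Cfsg.IsOfJankoFourTypeWith
  rw [hQmap, ← hH]
  refine ⟨ht, ?_, ?_, ?_, ?_, ?_, ?_, ?_, ?_⟩
  · refine ⟨CfsgLib.Recog.SpSixThree.special_of_equiv eQ hQ.1, ?_⟩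
    rw [← CfsgLib.Recog.SpSixThree.center_map_equiv eQ, Subgroup.card_map_of_injective eQ.injective, hQ.2]
  · rw [Subgroup.card_map_of_injective H.subtype_injective, hcard]
  · rintro g ⟨hg1, hg2⟩
    refine ⟨⟨g, hg1⟩, h2c (Subgroup.mem_centralizer_iff.2 fun r hr => Subtype.ext ?_), rfl⟩
    exact Subgroup.mem_centralizer_iff.1 hg2 _ ⟨r, hr, rfl⟩
  · have hnorm : H ≤ Subgroup.normalizer ((N.map H.subtype : Subgroup G) : Set G) := by
      have hfwd : ∀ g ∈ H, ∀ u ∈ N.map H.subtype, g * u * g⁻¹ ∈ N.map H.subtype := by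
        rintro g hg _ ⟨n, hn, rfl⟩
        exact ⟨_, hNn.conj_mem n hn ⟨g, hg⟩, rfl⟩
      intro g hg
      refine Subgroup.mem_normalizer_iff.2 fun u => ⟨hfwd g hg u, fun h => ?_⟩
      have := hfwd g⁻¹ (inv_mem hg) _ h
      rwa [show g⁻¹ * (g * u * g⁻¹) * g⁻¹⁻¹ = u by group] at this
    have hsub : (N.map H.subtype).subgroupOf H = N :=
      Subgroup.comap_map_eq_self_of_injective H.subtype_injective N
    refine ⟨N.map H.subtype, ?_, map_subtype_le N, hnorm, ?_, ⟨hsub.symm ▸ hNn, ?_⟩, ?_⟩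
    · exact Subgroup.map_mono hQN
    · rw [Subgroup.card_map_of_injective H.subtype_injective,
        Subgroup.card_map_of_injective H.subtype_injective, hN]
    · haveI : ((N.map H.subtype).subgroupOf H).Normal := hsub.symm ▸ hNn
      exact ⟨(QuotientGroup.quotientMulEquivOfEq (hsub.trans hθker.symm)).trans
        (QuotientGroup.quotientKerEquivOfSurjective θ hθsurj)⟩
    · exact zpowers_le.2 ⟨p, hpN, rfl⟩
  · rw [hP, Nat.card_zpowers, hpG]
  · refine le_antisymm ?_ (zpowers_le.2 ⟨?_, ?_⟩)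
    · rintro g ⟨⟨q, hq, rfl⟩, hg⟩
      exact hfixQ q hq (Subtype.ext ((hcentP _).1 hg))
    · exact ⟨⟨t, (hmemH t).2 rfl⟩,
        h2c (Subgroup.mem_centralizer_iff.2 fun r _ => Subtype.ext ((hmemH _).1 r.2)), rfl⟩
    · exact (hcentP t).2 ((hmemH _).1 p.2).symm
  · intro h
    have hn : (c' : G) ∈ Subgroup.normalizer (P : Set G) := by
      have hmapP : (Subgroup.zpowers p).map H.subtype = P := MonoidHom.map_zpowers H.subtype p
      rw [← hmapP]
      exact Subgroup.le_normalizer_map (H := Subgroup.zpowers p) H.subtype ⟨c', hc'n, rfl⟩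
    have h1 := (h.le ⟨c'.2, hn⟩).2
    exact hmove (Subtype.ext (by
      simp only [Subgroup.coe_mul, Subgroup.coe_inv]
      rw [(hcentP _).1 h1, mul_inv_cancel_right]))
  · -- `p` lies in the derived subgroup of its centraliser
    set K : Subgroup H := Subgroup.centralizer ({p} : Set H) with hK
    have hdec : ∀ m ∈ M, ∃ k ∈ K, k ∈ M ∧ ∃ q ∈ Q, m = k * q := by
      intro m hm
      -- the two generators of order three of `Q p` differ by an element of `Q`
      obtain ⟨q1, hq1, hq1m⟩ : ∃ q ∈ Q, m * p * m⁻¹ = q * p * q⁻¹ := by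
        haveI : (Q.subgroupOf N).Normal := Subgroup.Normal.subgroupOf hQn _
        have hmp : m * p * m⁻¹ ∈ N := hNn.conj_mem p hpN m
        have hfac : (Nat.card N).factorization 3 = 1 := by
          rw [hN, hcard, Nat.factorization_mul (by norm_num) (by norm_num), Finsupp.add_apply,
            Nat.prime_three.factorization_self, Nat.factorization_pow]
          simp [Nat.Prime.factorization Nat.prime_two]
        have hmpo : orderOf (m * p * m⁻¹) = 3 := by
          rw [show m * p * m⁻¹ = (MulAut.conj m).toMonoidHom p from rfl,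
            orderOf_injective _ (MulAut.conj m).injective, hpo]
        let S : Sylow 3 N := Sylow.ofCard (Subgroup.zpowers ⟨p, hpN⟩) (by
          rw [hfac, pow_one, Nat.card_zpowers, Subgroup.orderOf_mk, hpo])
        let S' : Sylow 3 N := Sylow.ofCard (Subgroup.zpowers ⟨_, hmp⟩) (by
          rw [hfac, pow_one, Nat.card_zpowers, Subgroup.orderOf_mk, hmpo])
        obtain ⟨n, hn⟩ := MulAction.exists_smul_eq N S S'
        have hmem : (⟨_, hmp⟩ : ↥N) ∈ (n • S : Sylow 3 N).1 := hn ▸ mem_zpowers _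
        rw [Sylow.coe_subgroup_smul] at hmem
        obtain ⟨u, hu, he⟩ := hmem
        obtain ⟨i, rfl⟩ := mem_zpowers_iff.1 hu
        have he' : (n : H) * p ^ i * (n : H)⁻¹ = m * p * m⁻¹ := congrArg Subtype.val he
        have hn' : (n : H) ∈ ((Q ⊔ Subgroup.zpowers p : Subgroup H) : Set H) := by
          rw [hgen]; exact n.2
        rw [Subgroup.normal_mul] at hn'
        obtain ⟨q, hq, r, hr, hqr⟩ := hn'
        obtain ⟨j, rfl⟩ := mem_zpowers_iff.1 hr
        have e1 : m * p * m⁻¹ = q * p ^ i * q⁻¹ := by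
          rw [← he', ← hqr]; group
        refine ⟨q, hq, ?_⟩
        -- `[M, N] ≤ Q` fixes the exponent
        have e2 : p ^ (i - 1) ∈ Q := by
          have h1 : m * p * m⁻¹ * p⁻¹ ∈ Q := hcent (Subgroup.commutator_mem_commutator hm hpN)
          rw [e1] at h1
          have h2 := mul_mem (mul_mem (inv_mem hq) h1) (hQn.conj_mem q hq p)
          have : p ^ (i - 1) = q⁻¹ * (q * p ^ i * q⁻¹ * p⁻¹) * (p * q * p⁻¹) := by
            rw [zpow_sub_one]; group
          rw [this]; exact h2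
        have e3 : p ^ (i - 1) = 1 := by
          refine orderOf_eq_one_iff.1 (Nat.eq_one_of_dvd_coprimes (by norm_num : Nat.Coprime 3 8192)
            (hpo ▸ orderOf_dvd_of_mem_zpowers (Subgroup.zpow_mem _ (mem_zpowers p) _)) ?_)
          rw [← hQ0]
          exact Subgroup.orderOf_dvd_natCard _ e2
        rw [e1, show p ^ i = p ^ (i - 1) * p by rw [zpow_sub_one, inv_mul_cancel_right], e3, one_mul]
      refine ⟨q1⁻¹ * m, ?_, mul_mem (inv_mem (hNM (hQN hq1))) hm, m⁻¹ * q1 * m, ?_, by group⟩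
      · rw [hK, mem_centralizer_singleton_iff]
        calc q1⁻¹ * m * p = q1⁻¹ * (m * p * m⁻¹) * m := by group
          _ = p * (q1⁻¹ * m) := by rw [hq1m]; group
      · simpa using hQn.conj_mem q1 hq1 m⁻¹
    have hle : ⁅M, M⁆ ≤ ⁅K, K⁆ ⊔ Q := by
      rw [Subgroup.commutator_le]
      intro a ha b hb
      obtain ⟨k, hk, -, q, hq, rfl⟩ := hdec a ha
      obtain ⟨l, hl, -, r, hr, rfl⟩ := hdec b hb
      have hkl : ⁅k, l⁆ ∈ ⁅K, K⁆ ⊔ Q := mem_sup_left (Subgroup.commutator_mem_commutator hk hl)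
      have hq' : ⁅k * q, l * r⁆ * ⁅k, l⁆⁻¹ ∈ Q := by
        rw [← QuotientGroup.eq_one_iff]
        have hq1 : ((q : H) : H ⧸ Q) = 1 := (QuotientGroup.eq_one_iff q).2 hq
        have hr1 : ((r : H) : H ⧸ Q) = 1 := (QuotientGroup.eq_one_iff r).2 hr
        simp [commutatorElement_def, hq1, hr1]
      have := mul_mem (mem_sup_right hq' : _ ∈ ⁅K, K⁆ ⊔ Q) hkl
      rwa [inv_mul_cancel_right] at this
    have hp' : p ∈ ((⁅K, K⁆ ⊔ Q : Subgroup H) : Set H) :=
      (sup_le hle le_sup_right) (hperf (hNM hpN))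
    rw [Subgroup.mul_normal] at hp'
    obtain ⟨u, hu, q, hq, hup⟩ := hp'
    have huK : u ∈ K := Subgroup.commutator_le.2 (fun a ha b hb => by
      rw [commutatorElement_def]
      exact mul_mem (mul_mem (mul_mem ha hb) (inv_mem ha)) (inv_mem hb)) hu
    have hqK : q ∈ K := by
      rw [show q = u⁻¹ * p by rw [← hup, inv_mul_cancel_left]]
      exact mul_mem (inv_mem huK) (mem_centralizer_singleton_iff.2 rfl)
    have hqt := hfixQ q hq (mem_centralizer_singleton_iff.1 hqK)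
    have hq4 : q ^ 4 = 1 := Subtype.ext (by
      obtain ⟨k, hk⟩ := mem_zpowers_iff.1 hqt
      rw [SubgroupClass.coe_pow, OneMemClass.coe_one, ← hk, ← zpow_natCast, ← zpow_mul,
        show k * ((4 : ℕ) : ℤ) = ((2 : ℕ) : ℤ) * (k * 2) by push_cast; ring, zpow_mul, zpow_natCast, ← ht,
        pow_orderOf_eq_one, one_zpow])
    have hpu : p = u ^ 4 := by
      have hcomm : Commute u q := by
        refine Subtype.ext ?_
        obtain ⟨k, hk⟩ := mem_zpowers_iff.1 hqt
        show (u : G) * (q : G) = (q : G) * u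
        rw [← hk]
        exact (show Commute (u : G) t from (hmemH _).1 u.2).zpow_right k
      calc p = p ^ 4 := by rw [pow_succ, hp3, one_mul]
        _ = (u * q) ^ 4 := by rw [show u * q = p from hup]
        _ = u ^ 4 := by rw [hcomm.mul_pow, hq4, mul_one]
    have hKle : K.map H.subtype ≤ H ⊓ Subgroup.centralizer (P : Set G) := by
      rintro _ ⟨k, hk, rfl⟩
      exact ⟨k.2, (hcentP _).2 (congrArg Subtype.val (mem_centralizer_singleton_iff.1 hk))⟩
    rw [hP, zpowers_le]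
    refine Subgroup.commutator_mono hKle hKle ?_
    rw [← Subgroup.map_commutator]
    exact ⟨p, hpu ▸ pow_mem hu 4, rfl⟩

/-- The hypothesis of Janko-four type from the shape of the centraliser. -/
theorem bridge {G : Type u} [Group G] [Finite G] (t : G) (ht : orderOf t = 2)
    (Q N M : Subgroup (Subgroup.centralizer ({t} : Set G))) [hQn : Q.Normal] [hNn : N.Normal] [hMn : M.Normal]
    (hQN : Q ≤ N) (hNM : N ≤ M) (hM : M.index = 2) (hQ : Cfsg.IsExtraspecial 2 Q)
    (hcard : Nat.card Q = 2 ^ 13) (hN : Nat.card N = 3 * Nat.card Q) (hcent : ⁅M, N⁆ ≤ Q)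
    (hperf : M ≤ ⁅M, M⁆ ⊔ Q)
    (h2c : Subgroup.centralizer (Q : Set (Subgroup.centralizer ({t} : Set G))) ≤ Q)
    (hout : ∀ c : Subgroup.centralizer ({t} : Set G), (∀ m ∈ M, c * m * c⁻¹ * m⁻¹ ∈ N) → c ∈ M)
    (hM22 : Cfsg.Spor.IsoM22 (M ⧸ N.subgroupOf M)) :
    ∃ P : Subgroup G, Cfsg.IsOfJankoFourTypeWith t P :=
  bridge_aux t ht _ rfl Q N M hQN hNM hM hQ hcard hN hcent hperf h2c hout hM22

end CfsgLib.J4Type.Order
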