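import Cfsg.Agent.Lib.J4Type.Order.BridgeLinear
import Cfsg.Agent.Lib.Golay.PSL23
import Cfsg.Agent.Lib.StructC.BurnsideBasis
import Cfsg.Prelude.Def_Transfer

/-!
The action on the central quotient of an extraspecial 2-group, and an outer automorphism of `M22`
inverting an element of order eleven.
-/

set_option autoImplicit false
set_option linter.style.haveILetI false
set_option linter.unusedSectionVars false

namespace CfsgLib.J4Type.Order

open Subgroup
open scoped commutatorElement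

universe u

/-- The action of a group on the central quotient of a normal extraspecial 2-subgroup. -/
structure Act {C : Type u} [Group C] (Q : Subgroup C) where
  /-- The space. -/
  A : Type u
  [grp : AddCommGroup A]
  [fin : Finite A]
  /-- The projection. -/
  pr : ↥Q → A
  pr_zero : ∀ q, pr q = 0 ↔ q ∈ Subgroup.center ↥Q
  hA : ∀ a : A, a + a = 0
  card : 2 * Nat.card A = Nat.card Q
  /-- The action. -/
  ρ : C →* AddMonoid.End A
  ρ_inner : ∀ c ∈ Q, ρ c = 1
  ρ_odd : ∀ c, ρ c = 1 → Odd (orderOf c) → c ∈ Subgroup.centralizer (Q : Set C)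
  ρ_pr : ∀ c (q r : ↥Q), c * (q : C) * c⁻¹ = r → ρ c (pr q) = pr r
  /-- The signs. -/
  s : A → ℤ
  s_pm : ∀ a, s a = 1 ∨ s a = -1
  s_zero : s 0 = 1
  s_inv : ∀ c a, s (ρ c a) = s a
  s_quad : ∀ u v w, s (u + v + w) * (s (u + v) * s w) =
    (s (u + w) * (s u * s w)) * (s (v + w) * (s v * s w))
  s_nd : ∀ u, u ≠ 0 → ∃ v, s (u + v) * (s u * s v) = -1

attribute [instance] Act.grp Act.fin

theorem exists_act {C : Type u} [Group C] [Finite C] (Q : Subgroup C) [hQn : Q.Normal]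
    (hQ : Cfsg.IsExtraspecial 2 Q) : Nonempty (Act Q) := by
  classical
  haveI : Fact (Nat.Prime 2) := ⟨Nat.prime_two⟩
  set Z := Subgroup.center ↥Q with hZ
  obtain ⟨ζ, hζ, hζ1, hZall⟩ : ∃ ζ ∈ Z, ζ ≠ 1 ∧ ∀ x ∈ Z, x = 1 ∨ x = ζ := by
    obtain ⟨a, b, hab, huniv⟩ := Nat.card_eq_two_iff.1 hQ.2
    have hmem : ∀ c : Z, c = a ∨ c = b := fun c => by
      have : c ∈ ({a, b} : Set Z) := huniv ▸ Set.mem_univ c
      exact this
    rcases hmem 1 with h | h
    · exact ⟨b, b.2, fun hb => hab (h ▸ (Subtype.ext hb.symm : (1 : Z) = b)), fun x hx => by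
        rcases hmem ⟨x, hx⟩ with e | e
        · exact Or.inl (congrArg Subtype.val (e.trans h.symm))
        · exact Or.inr (congrArg Subtype.val e)⟩
    · exact ⟨a, a.2, fun ha => hab ((Subtype.ext ha : a = (1 : Z)).trans h), fun x hx => by
        rcases hmem ⟨x, hx⟩ with e | e
        · exact Or.inr (congrArg Subtype.val e)
        · exact Or.inl (congrArg Subtype.val (e.trans h.symm))⟩
  have hsqZ : ∀ q : ↥Q, q * q ∈ Z := fun q => by
    rw [← pow_two, hZ, ← hQ.1.2.1]
    exact CfsgLib.StructC.pow_mem_frattini hQ.1.1 q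
  have hcomZ : ∀ q r : ↥Q, q * r * q⁻¹ * r⁻¹ ∈ Z := fun q r => by
    rw [hZ, ← hQ.1.2.2, ← commutatorElement_def]
    exact Subgroup.commutator_mem_commutator (mem_top q) (mem_top r)
  have hcen : ∀ x ∈ Z, ∀ q : ↥Q, q * x = x * q := fun x hx q => Subgroup.mem_center_iff.1 hx q
  let σ : ↥Q → ℤ := fun x => if x = 1 then 1 else -1
  have hσmul : ∀ x ∈ Z, ∀ y ∈ Z, σ (x * y) = σ x * σ y := by
    intro x hx y hy
    have hζζ : ζ * ζ = 1 := by
      rcases hZall _ (mul_mem hζ hζ) with h | h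
      · exact h
      · exact absurd (mul_eq_left.1 h) hζ1
    rcases hZall x hx with rfl | rfl <;> rcases hZall y hy with rfl | rfl <;> simp [σ, hζ1, hζζ]
  letI hV : CommGroup (↥Q ⧸ Z) :=
    { (inferInstance : Group (↥Q ⧸ Z)) with
      mul_comm := by
        intro x y
        obtain ⟨q, rfl⟩ := QuotientGroup.mk'_surjective Z x
        obtain ⟨r, rfl⟩ := QuotientGroup.mk'_surjective Z y
        refine (QuotientGroup.eq.2 ?_ : QuotientGroup.mk (q * r) = QuotientGroup.mk (r * q))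
        have := hcomZ r⁻¹ q⁻¹
        rwa [inv_inv, inv_inv, show r⁻¹ * q⁻¹ * r * q = (q * r)⁻¹ * (r * q) by group] at this }
  let pr : ↥Q → Additive (↥Q ⧸ Z) := fun q => Additive.ofMul (QuotientGroup.mk q)
  have hpr : ∀ q r, pr (q * r) = pr q + pr r := fun q r => rfl
  have hpr0 : ∀ q, pr q = 0 ↔ q ∈ Z := fun q => QuotientGroup.eq_one_iff q
  have hsurj : ∀ a, ∃ q, pr q = a := fun a => QuotientGroup.mk'_surjective Z (Additive.toMul a)
  have hmap : ∀ c : C, Z ≤ Z.comap (MulAut.conjNormal (H := Q) c).toMonoidHom := fun c x hx => by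
    rw [Subgroup.mem_comap]
    refine Subgroup.mem_center_iff.2 fun r => ?_
    obtain ⟨r', rfl⟩ := (MulAut.conjNormal (H := Q) c).surjective r
    rw [MulEquiv.coe_toMonoidHom, ← map_mul, ← map_mul, hcen x hx]
  let ρf : C → AddMonoid.End (Additive (↥Q ⧸ Z)) := fun c =>
    MonoidHom.toAdditive (QuotientGroup.map Z Z (MulAut.conjNormal (H := Q) c).toMonoidHom (hmap c))
  have hρf : ∀ c q, ρf c (pr q) = pr (MulAut.conjNormal (H := Q) c q) := fun c q => rfl
  let ρ : C →* AddMonoid.End (Additive (↥Q ⧸ Z)) :=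
    { toFun := ρf
      map_one' := AddMonoidHom.ext fun a => by
        obtain ⟨q, rfl⟩ := hsurj a
        show ρf 1 (pr q) = pr q
        rw [hρf, map_one, MulAut.one_apply]
      map_mul' := fun c d => AddMonoidHom.ext fun a => by
        obtain ⟨q, rfl⟩ := hsurj a
        show ρf (c * d) (pr q) = ρf c (ρf d (pr q))
        rw [hρf, hρf, hρf, map_mul, MulAut.mul_apply] }
  let s : Additive (↥Q ⧸ Z) → ℤ := fun a =>
    σ ((Additive.toMul a).out * (Additive.toMul a).out)
  have hspr : ∀ q, s (pr q) = σ (q * q) := by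
    intro q
    obtain ⟨e, he⟩ : ∃ e : Z, ((Additive.toMul (pr q)).out : ↥Q) = q * e :=
      QuotientGroup.mk_out_eq_mul Z q
    show σ (_ * _) = _
    rw [he, show q * (e : ↥Q) * (q * e) = q * q * ((e : ↥Q) * e) by
      rw [mul_assoc, ← mul_assoc (e : ↥Q), ← hcen _ e.2 q]; simp only [mul_assoc]]
    rcases hZall _ e.2 with h | h
    · rw [h, one_mul, mul_one]
    · rw [h, hσmul _ (hsqZ q) _ (mul_mem hζ hζ)]
      rcases hZall _ (mul_mem hζ hζ) with h' | h'
      · simp [h', σ]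
      · exact absurd (mul_eq_left.1 h') hζ1
  -- the pairing
  have hpair : ∀ q r, s (pr q + pr r) * (s (pr q) * s (pr r)) = σ (r * q * r⁻¹ * q⁻¹) := by
    intro q r
    rw [← hpr, hspr, hspr, hspr, show q * r * (q * r) = q * (r * q * r⁻¹ * q⁻¹) * q * (r * r) by group,
      hcen _ (hcomZ r q) q, show r * q * r⁻¹ * q⁻¹ * q * q * (r * r) = (r * q * r⁻¹ * q⁻¹) * ((q * q) * (r * r)) by
        group, hσmul _ (hcomZ r q) _ (mul_mem (hsqZ q) (hsqZ r)), hσmul _ (hsqZ q) _ (hsqZ r), mul_assoc]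
    have : ∀ x : ↥Q, σ x * σ x = 1 := fun x => by simp only [σ]; split <;> norm_num
    rw [show σ (q * q) * σ (r * r) * (σ (q * q) * σ (r * r)) =
      (σ (q * q) * σ (q * q)) * (σ (r * r) * σ (r * r)) by ring, this, this, one_mul, mul_one]
  refine ⟨{ A := Additive (↥Q ⧸ Z), pr := pr, pr_zero := hpr0, hA := ?_, card := ?_, ρ := ρ, ρ_inner := ?_,
            ρ_odd := ?_, ρ_pr := ?_, s := s, s_pm := ?_, s_zero := ?_, s_inv := ?_, s_quad := ?_,
            s_nd := ?_ }⟩
  · intro a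
    obtain ⟨q, rfl⟩ := hsurj a
    rw [← hpr, hpr0]
    exact hsqZ q
  · rw [Nat.card_congr Additive.toMul, Subgroup.card_eq_card_quotient_mul_card_subgroup Z, hQ.2, mul_comm]
  · intro c hc
    refine AddMonoidHom.ext fun a => ?_
    obtain ⟨q, rfl⟩ := hsurj a
    show ρf c (pr q) = pr q
    rw [hρf]
    refine congrArg Additive.ofMul (QuotientGroup.eq.2 ?_)
    have h := hcomZ ⟨c, hc⟩ q⁻¹
    have e : (MulAut.conjNormal (H := Q) c q)⁻¹ * q = ⟨c, hc⟩ * q⁻¹ * ⟨c, hc⟩⁻¹ * q⁻¹⁻¹ := Subtype.ext (by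
      simp [mul_assoc])
    rw [e]
    exact h
  · intro c hc hodd
    refine Subgroup.mem_centralizer_iff.2 fun x hx => ?_
    obtain ⟨q, hq⟩ : ∃ q : ↥Q, q = ⟨x, hx⟩ := ⟨_, rfl⟩
    obtain ⟨e, he⟩ : ∃ e : ↥Q, e = q⁻¹ * MulAut.conjNormal (H := Q) c q := ⟨_, rfl⟩
    have heZ : e ∈ Z := by
      have h : ρ c (pr q) = pr q := by rw [hc]; rfl
      have h' : ρf c (pr q) = pr q := h
      rw [hρf] at h'
      rw [he, ← hpr0, hpr, h', ← hpr, inv_mul_cancel, hpr0]
      exact one_mem _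
    have hfixe : MulAut.conjNormal (H := Q) c e = e := by
      rcases hZall e heZ with h | h
      · rw [h, map_one]
      · rcases hZall _ (hmap c heZ) with h' | h'
        · exact absurd (h ▸ (map_eq_one_iff _ (MulAut.conjNormal (H := Q) c).injective).1 h') hζ1
        · exact (show (MulAut.conjNormal (H := Q) c) e = ζ from h').trans h.symm
    have hpow : ∀ k : ℕ, MulAut.conjNormal (H := Q) (c ^ k) q = q * e ^ k := by
      intro k
      induction k with
      | zero => simp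
      | succ k ih =>
        rw [pow_succ' c, map_mul, MulAut.mul_apply, ih, map_mul, map_pow, hfixe,
          show MulAut.conjNormal (H := Q) c q = q * e by rw [he, mul_inv_cancel_left], mul_assoc, ← pow_succ']
    obtain ⟨m, hm⟩ := hodd
    have h1 := hpow (orderOf c)
    rw [pow_orderOf_eq_one, map_one, MulAut.one_apply, left_eq_mul] at h1
    have he2 : e * e = 1 := by
      rcases hZall e heZ with h | h
      · rw [h, one_mul]
      · rcases hZall _ (mul_mem heZ heZ) with h' | h'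
        · exact h'
        · rw [h] at h'; exact absurd (mul_eq_left.1 h') hζ1
    rw [hm, pow_succ, pow_mul, pow_two, he2, one_pow, one_mul] at h1
    rw [h1, eq_comm, inv_mul_eq_one] at he
    have hcx : c * x * c⁻¹ = x := by
      have := congrArg Subtype.val he
      rw [hq] at this
      simpa using this.symm
    exact (mul_inv_eq_iff_eq_mul.1 hcx).symm
  · intro c q r h
    show ρf c (pr q) = pr r
    rw [hρf]
    exact congrArg pr (Subtype.ext (by simpa using h))
  · intro a; simp only [s, σ]; split <;> simp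
  · rw [← (hpr0 1).2 (one_mem _), hspr]; simp [σ]
  · intro c a
    obtain ⟨q, rfl⟩ := hsurj a
    show s (ρf c (pr q)) = _
    rw [hρf, hspr, hspr, ← map_mul]
    simp only [σ, map_eq_one_iff _ (MulAut.conjNormal (H := Q) c).injective]
  · intro u v w
    obtain ⟨a, rfl⟩ := hsurj u
    obtain ⟨b, rfl⟩ := hsurj v
    obtain ⟨c, rfl⟩ := hsurj w
    rw [← hpr a b, hpair, hpair, hpair, ← hσmul _ (hcomZ c a) _ (hcomZ c b)]
    congr 1
    rw [show c * (a * b) * c⁻¹ * (a * b)⁻¹ = (c * a * c⁻¹ * a⁻¹) * (a * (c * b * c⁻¹ * b⁻¹) * a⁻¹) by group,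
      hcen _ (hcomZ c b) a, mul_inv_cancel_right]
  · intro u hu
    obtain ⟨q, rfl⟩ := hsurj u
    obtain ⟨r, hr⟩ : ∃ r, r * q ≠ q * r := by
      by_contra h
      push Not at h
      exact hu ((hpr0 q).2 (Subgroup.mem_center_iff.2 h))
    refine ⟨pr r, ?_⟩
    rw [hpair]
    simp only [σ]
    rw [if_neg fun h => hr (mul_inv_eq_iff_eq_mul.1 (mul_inv_eq_one.1 h))]

/-- The permutation `x ↦ 2x` fixing the two distinguished points. -/
theorem exists_inverted :
    ∃ (φ : MulAut ↥Cfsg.Spor.M22) (x : ↥Cfsg.Spor.M22), orderOf x = 11 ∧ φ x = x⁻¹ := by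
  classical
  let m : Equiv.Perm Cfsg.GolayPt := Equiv.optionCongr (Units.mulLeft CfsgLib.Golay.two23)
  have hm : m ∈ Cfsg.Spor.M22 := by
    refine ⟨⟨CfsgLib.Golay.twoP_mem, MulAction.mem_stabilizer_iff.2 ?_⟩, MulAction.mem_stabilizer_iff.2 ?_⟩ <;>
      simp [m, Equiv.Perm.smul_def]
  have hj : Cfsg.projInv ∈ Cfsg.M24 := CfsgLib.Golay.projInv_mem
  have hjj : Cfsg.projInv * Cfsg.projInv = 1 := Equiv.ext fun p => by revert p; decide
  have hji : Cfsg.projInv⁻¹ = Cfsg.projInv := inv_eq_of_mul_eq_one_right hjj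
  have hnorm : ∀ σ ∈ Cfsg.Spor.M22, Cfsg.projInv * σ * Cfsg.projInv⁻¹ ∈ Cfsg.Spor.M22 := by
    intro σ hσ
    obtain ⟨⟨h1, h2⟩, h3⟩ := hσ
    replace h1 : σ ∈ Cfsg.M24 := h1
    replace h2 : σ none = none := MulAction.mem_stabilizer_iff.1 h2
    replace h3 : σ (some 0) = some 0 := MulAction.mem_stabilizer_iff.1 h3
    have j0 : Cfsg.projInv (some 0) = none := by decide
    have jn : Cfsg.projInv none = some 0 := by decide
    have h4 : Cfsg.projInv * σ * Cfsg.projInv⁻¹ ∈ Cfsg.M24 := mul_mem (mul_mem hj h1) (inv_mem hj)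
    refine ⟨⟨h4, MulAction.mem_stabilizer_iff.2 ?_⟩,
      MulAction.mem_stabilizer_iff.2 ?_⟩ <;>
      rw [Equiv.Perm.smul_def, hji, Equiv.Perm.mul_apply, Equiv.Perm.mul_apply]
    · rw [jn, h3, j0]
    · rw [j0, h2, jn]
  let φ : MulAut ↥Cfsg.Spor.M22 :=
    { toFun := fun σ => ⟨Cfsg.projInv * σ * Cfsg.projInv⁻¹, hnorm σ σ.2⟩
      invFun := fun σ => ⟨Cfsg.projInv * σ * Cfsg.projInv⁻¹, hnorm σ σ.2⟩
      left_inv := fun σ => Subtype.ext (by
        show Cfsg.projInv * (Cfsg.projInv * σ * Cfsg.projInv⁻¹) * Cfsg.projInv⁻¹ = σ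
        rw [hji, ← mul_assoc, ← mul_assoc, hjj, one_mul, mul_assoc, hjj, mul_one])
      right_inv := fun σ => Subtype.ext (by
        show Cfsg.projInv * (Cfsg.projInv * σ * Cfsg.projInv⁻¹) * Cfsg.projInv⁻¹ = σ
        rw [hji, ← mul_assoc, ← mul_assoc, hjj, one_mul, mul_assoc, hjj, mul_one])
      map_mul' := fun σ τ => Subtype.ext (by
        show Cfsg.projInv * ((σ : Equiv.Perm Cfsg.GolayPt) * τ) * Cfsg.projInv⁻¹ =
          Cfsg.projInv * σ * Cfsg.projInv⁻¹ * (Cfsg.projInv * τ * Cfsg.projInv⁻¹)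
        group) }
  haveI : Fact (Nat.Prime 11) := ⟨by norm_num⟩
  refine ⟨φ, ⟨m, hm⟩, orderOf_eq_prime (Subtype.ext ?_) ?_, Subtype.ext ?_⟩
  · refine Equiv.ext fun p => ?_
    revert p
    simp only [SubgroupClass.coe_pow, OneMemClass.coe_one, m]
    decide +kernel
  · intro h
    have := congrArg (fun σ : ↥Cfsg.Spor.M22 => (σ : Equiv.Perm Cfsg.GolayPt) (some 1)) h
    revert this
    simp only [m, OneMemClass.coe_one]
    decide +kernel
  · show Cfsg.projInv * m * Cfsg.projInv⁻¹ = m⁻¹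
    rw [hji]
    refine Equiv.ext fun p => ?_
    revert p
    simp only [m]
    decide +kernel

end CfsgLib.J4Type.Order
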