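import Mathlib.GroupTheory.Perm.Cycle.Type
import Mathlib.Algebra.BigOperators.Group.Finset.Basic
import Mathlib.GroupTheory.Commutator.Basic
import Mathlib.Algebra.Ring.Parity
import Mathlib.Tactic

/-!
Linear algebra on `Q/Z(Q)` for the Janko-four type: an element of order three centralised by a
perfect group with elements of order eleven and seven acts without fixed points, and no element
commuting with it inverts the element of order eleven.
-/

set_option autoImplicit false
set_option linter.style.haveILetI false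
set_option linter.unusedSectionVars false

namespace CfsgLib.J4Type.Order

open Finset

variable {A : Type*} [AddCommGroup A]

/-- The kernel of an endomorphism. -/
def kerE (f : AddMonoid.End A) : AddSubgroup A := AddMonoidHom.ker (f : A →+ A)

/-- The image of an endomorphism. -/
def rangeE (f : AddMonoid.End A) : AddSubgroup A := AddMonoidHom.range (f : A →+ A)

theorem end_sum_apply {ι : Type*} (S : Finset ι) (g : ι → AddMonoid.End A) (a : A) :
    (∑ i ∈ S, g i) a = ∑ i ∈ S, g i a :=
  map_sum (⟨⟨fun f : AddMonoid.End A => f a, rfl⟩, fun _ _ => rfl⟩ : AddMonoid.End A →+ A) g S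

section CharTwo

variable (hA : ∀ a : A, a + a = 0)

/-- The norm of an endomorphism. -/
def nrm (f : AddMonoid.End A) (n : ℕ) : AddMonoid.End A := ∑ i ∈ range n, f ^ i

include hA

theorem end_two (f : AddMonoid.End A) : f + f = 0 := AddMonoidHom.ext fun a => hA (f a)

theorem end_sq_add {f g : AddMonoid.End A} (h : Commute f g) : (f + g) * (f + g) = f * f + g * g := by
  rw [add_mul, mul_add, mul_add, ← h.eq, add_assoc, ← add_assoc (f * g), end_two hA, zero_add]

theorem odd_nsmul {n : ℕ} (hn : Odd n) (a : A) : n • a = a := by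
  obtain ⟨m, rfl⟩ := hn
  rw [add_nsmul, mul_nsmul, two_nsmul, hA, one_nsmul]
  simp

omit hA in
theorem mul_nrm {f : AddMonoid.End A} {n : ℕ} (hf : f ^ n = 1) : f * nrm f n = nrm f n := by
  have h := Finset.sum_range_succ' (fun i => f ^ i) n
  rw [Finset.sum_range_succ, hf, pow_zero] at h
  rw [nrm, Finset.mul_sum]
  conv_rhs => rw [add_right_cancel h]
  exact Finset.sum_congr rfl fun i _ => (pow_succ' f i).symm

omit hA in
theorem nrm_apply_fix {f : AddMonoid.End A} {a : A} (h : f a = a) (n : ℕ) : nrm f n a = n • a := by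
  have hi : ∀ i : ℕ, (f ^ i) a = a := by
    intro i
    induction i with
    | zero => rfl
    | succ i ih => rw [pow_succ, AddMonoid.End.coe_mul, Function.comp_apply, h, ih]
  rw [nrm, end_sum_apply, Finset.sum_congr rfl fun i _ => hi i,
    Finset.sum_const, Finset.card_range]

omit hA in
theorem fix_nrm {f : AddMonoid.End A} {n : ℕ} (hf : f ^ n = 1) (a : A) : f (nrm f n a) = nrm f n a :=
  DFunLike.congr_fun (mul_nrm hf) a

theorem nrm_idem {f : AddMonoid.End A} {n : ℕ} (hn : Odd n) (hf : f ^ n = 1) :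
    nrm f n * nrm f n = nrm f n :=
  AddMonoidHom.ext fun a => by
    show nrm f n (nrm f n a) = nrm f n a
    rw [nrm_apply_fix (fix_nrm hf a), odd_nsmul hA hn]

omit hA in
theorem commute_nrm {f g : AddMonoid.End A} (h : Commute g f) (n : ℕ) : Commute g (nrm f n) :=
  Commute.sum_right _ _ _ fun i _ => h.pow_right i

theorem eq_of_mem_ker {f : AddMonoid.End A} {n : ℕ} (hn : Odd n) {a : A} (h : nrm f n a = 0)
    (hfix : f a = a) : a = 0 := by
  rw [nrm_apply_fix hfix, odd_nsmul hA hn] at h
  exact h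

theorem nrm_moving {f : AddMonoid.End A} {n : ℕ} (hn : Odd n) (hf : f ^ n = 1) (a : A) :
    nrm f n (a + nrm f n a) = 0 := by
  rw [map_add, show nrm f n (nrm f n a) = (nrm f n * nrm f n) a from rfl, nrm_idem hA hn hf]
  exact hA _

end CharTwo

section Count

variable [Finite A]

/-- The kernel and the range. -/
theorem card_ker_mul_range (f : AddMonoid.End A) :
    Nat.card (kerE (f)) * Nat.card (rangeE (f)) = Nat.card A := by
  exact (congrArg (Nat.card (kerE f) * ·) (AddSubgroup.index_ker (f : A →+ A)).symm).trans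
    (AddSubgroup.card_mul_index _)

omit [Finite A] in
theorem range_nrm {f : AddMonoid.End A} {n : ℕ} (hA : ∀ a : A, a + a = 0) (hn : Odd n) (hf : f ^ n = 1)
    (a : A) : a ∈ rangeE (nrm f n) ↔ f a = a := by
  refine ⟨?_, fun h => ⟨a, ?_⟩⟩
  · rintro ⟨b, rfl⟩; exact fix_nrm hf b
  · exact (nrm_apply_fix h n).trans (odd_nsmul hA hn a)

/-- Points counted modulo a prime. -/
theorem card_modEq_of_free {f : AddMonoid.End A} {r : ℕ} [hr : Fact r.Prime] (hf : f ^ r = 1) (T : Set A)
    (hT : ∀ a, a ∈ T ↔ f a ∈ T) (h0 : ∀ a ∈ T, f a = a → a = 0) :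
    Nat.card T ≡ Nat.card {a : T // (a : A) = 0} [MOD r] := by
  classical
  haveI := Fintype.ofFinite T
  let F : T → T := fun a => ⟨f a, (hT a).1 a.2⟩
  have hiter : ∀ (k : ℕ) (a : T), ((F^[k] a : T) : A) = (f ^ k) a := by
    intro k
    induction k with
    | zero => intro a; rfl
    | succ k ih => intro a; rw [Function.iterate_succ_apply, ih, pow_succ]; rfl
  have hF : F^[r ^ 1] = id := funext fun a => Subtype.ext (by rw [hiter, pow_one, hf]; rfl)
  obtain ⟨Fe, hFe⟩ : ∃ Fe : Function.End T, ∀ a, Fe a = F a := ⟨F, fun _ => rfl⟩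
  have hpow : ∀ (k : ℕ) (a : T), (Fe ^ k : Function.End T) a = F^[k] a := by
    intro k
    induction k with
    | zero => intro a; rfl
    | succ k ih =>
      intro a
      rw [Function.iterate_succ_apply, ← ih, ← hFe, pow_succ]
      rfl
  have hF1 : Fe ^ r ^ 1 = 1 := funext fun a => (hpow _ a).trans (congrFun hF a)
  have h := Equiv.Perm.card_fixedPoints_modEq hF1
  have h' : Nat.card T ≡ Nat.card (Function.fixedPoints Fe) [MOD r] := by
    rw [Nat.card_eq_fintype_card, Nat.card_eq_fintype_card]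
    convert h
  refine h'.trans (congrArg (· % r) (Nat.card_congr (Equiv.subtypeEquivRight fun a => ?_)))
  constructor
  · intro ha
    exact h0 a a.2 (congrArg Subtype.val ((hFe a).symm.trans ha))
  · intro ha
    refine (hFe a).trans (Subtype.ext ?_)
    show f (a : A) = a
    rw [ha, map_zero]

theorem card_addSubgroup_modEq {f : AddMonoid.End A} {r : ℕ} [Fact r.Prime] (hf : f ^ r = 1)
    (U : AddSubgroup A) (hU : ∀ a ∈ U, f a ∈ U) (h0 : ∀ a ∈ U, f a = a → a = 0) :
    Nat.card U ≡ 1 [MOD r] := by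
  have hinv : ∀ a, a ∈ U ↔ f a ∈ U := fun a => ⟨hU a, fun h => by
    have hk : ∀ k : ℕ, ∀ b ∈ U, (f ^ k) b ∈ U := by
      intro k
      induction k with
      | zero => exact fun b hb => hb
      | succ k ih => intro b hb; rw [pow_succ, AddMonoid.End.coe_mul, Function.comp_apply]; exact ih _ (hU b hb)
    have h1 := hk (r - 1) _ h
    have e : (f ^ (r - 1)) (f a) = (f ^ r) a := by
      conv_rhs => rw [show r = r - 1 + 1 from (Nat.succ_pred_eq_of_pos (Fact.out : r.Prime).pos).symm, pow_succ]
      rfl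
    rwa [e, hf] at h1⟩
  refine (card_modEq_of_free hf (U : Set A) hinv h0).trans (congrArg (· % r) ?_)
  refine Nat.card_eq_one_iff_unique.2 ⟨⟨fun a b => Subtype.ext (Subtype.ext (a.2.trans b.2.symm))⟩, ?_⟩
  exact ⟨⟨⟨0, U.zero_mem⟩, rfl⟩⟩

theorem card_pow_two (h12 : Nat.card A = 2 ^ 12) (U : AddSubgroup A) :
    ∃ k ≤ 12, Nat.card U = 2 ^ k :=
  (Nat.dvd_prime_pow Nat.prime_two).1 (h12 ▸ AddSubgroup.card_addSubgroup_dvd_card U)

/-- The moving part of an element of order eleven. -/
theorem card_ker_nrm_eleven (hA : ∀ a : A, a + a = 0) (h12 : Nat.card A = 2 ^ 12) {X : AddMonoid.End A}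
    (hX : X ^ 11 = 1) (hX1 : X ≠ 1) : Nat.card (kerE (nrm X 11)) = 2 ^ 10 := by
  haveI : Fact (Nat.Prime 11) := ⟨by norm_num⟩
  set U := kerE (nrm X 11) with hU
  obtain ⟨k, hk, he⟩ := card_pow_two h12 U
  have hinv : ∀ a ∈ U, X a ∈ U := fun a ha => by
    show nrm X 11 (X a) = 0
    rw [show nrm X 11 (X a) = X (nrm X 11 a) from
      (DFunLike.congr_fun (commute_nrm (Commute.refl X) 11).eq a).symm,
      show nrm X 11 a = 0 from ha, map_zero]
  have hmod := card_addSubgroup_modEq hX U hinv fun a ha => eq_of_mem_ker hA (by decide) ha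
  have hne : Nat.card U ≠ 1 := fun h1 => hX1 (AddMonoidHom.ext fun a => by
    haveI := (Nat.card_eq_one_iff_unique.1 h1).1
    have hm : a + nrm X 11 a ∈ U := nrm_moving hA (by decide) hX a
    have h0 : a + nrm X 11 a = 0 := congrArg Subtype.val (Subsingleton.elim (⟨_, hm⟩ : U) 0)
    have hfix : nrm X 11 a = a := by
      rw [← add_zero (nrm X 11 a), ← hA a, add_comm a, ← add_assoc, add_comm (nrm X 11 a), h0, zero_add]
    show X a = a
    rw [← hfix, fix_nrm hX])
  rw [he] at hmod hne ⊢
  have : ∀ k ≤ 12, 2 ^ k % 11 = 1 → k = 0 ∨ k = 10 := by decide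
  rcases this k hk (by simpa [Nat.ModEq] using hmod) with rfl | rfl
  · simp at hne
  · rfl

end Count

/-- An element of order three commuting with a perfect group containing elements of order eleven
and seven, leaving a quadratic form invariant, has no fixed point. -/
theorem three_free [Finite A] (hA : ∀ a : A, a + a = 0) (h12 : Nat.card A = 2 ^ 12) {L : Type*} [Group L]
    (ρ : L →* AddMonoid.End A) (p x y : L) (hp : ρ p ^ 3 = 1) (hp1 : ρ p ≠ 1) (hx : ρ x ^ 11 = 1)
    (hx1 : ρ x ≠ 1) (hy : ρ y ^ 7 = 1) (hy1 : ρ y ≠ 1) (hcomm : ∀ l : L, Commute (ρ l) (ρ p))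
    (hder : ∃ d ∈ commutator L, ρ d = ρ p)
    (hgen : ∀ K : Subgroup L, K.Normal → p ∈ K → x ∈ K → ρ.ker ≤ K → K = ⊤)
    (s : A → ℤ) (hs : ∀ a, s a = 1 ∨ s a = -1) (hs0 : s 0 = 1) (hsinv : ∀ l a, s (ρ l a) = s a)
    (hb : ∀ u v w, s (u + v + w) * (s (u + v) * s w) =
      (s (u + w) * (s u * s w)) * (s (v + w) * (s v * s w)))
    (hnd : ∀ u, u ≠ 0 → ∃ v, s (u + v) * (s u * s v) = -1) :
    ∀ a, ρ p a = a → a = 0 := by
  classical
  haveI : Fact (Nat.Prime 3) := ⟨Nat.prime_three⟩
  haveI : Fact (Nat.Prime 7) := ⟨by norm_num⟩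
  haveI : Fact (Nat.Prime 11) := ⟨by norm_num⟩
  set P := ρ p with hPdef
  set C0 := rangeE (nrm P 3) with hC0
  set W := kerE (nrm P 3) with hW
  have hCW : Nat.card W * Nat.card C0 = 2 ^ 12 := h12 ▸ card_ker_mul_range _
  have hmem0 : ∀ a, a ∈ C0 ↔ P a = a := range_nrm hA (by decide) hp
  have hinvW : ∀ l, ∀ a ∈ W, ρ l a ∈ W := fun l a ha => by
    show nrm P 3 (ρ l a) = 0
    rw [show nrm P 3 (ρ l a) = ρ l (nrm P 3 a) from
      (DFunLike.congr_fun (commute_nrm (hcomm l) 3).eq a).symm, show nrm P 3 a = 0 from ha, map_zero]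
  have hinv0 : ∀ l, ∀ a ∈ C0, ρ l a ∈ C0 := fun l a ha => (hmem0 _).2 (by
    rw [show P (ρ l a) = ρ l (P a) from (DFunLike.congr_fun (hcomm l).eq a).symm, (hmem0 a).1 ha])
  have hfreeW : ∀ a ∈ W, P a = a → a = 0 := fun a ha => eq_of_mem_ker hA (by decide) ha
  obtain ⟨j, hj, hWc⟩ := card_pow_two h12 W
  have hj3 : 2 ^ j % 3 = 1 := by
    have := card_addSubgroup_modEq hp W (hinvW p) hfreeW
    rwa [hWc] at this
  set UX := kerE (nrm (ρ x) 11) with hUX
  have hUXc : Nat.card UX = 2 ^ 10 := card_ker_nrm_eleven hA h12 hx hx1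
  -- `x` centralises the fixed points of `p`
  have hx0 : ∀ a ∈ C0, ρ x a = a := by
    by_contra hne
    push Not at hne
    obtain ⟨a, ha, hxa⟩ := hne
    have hinvI : ∀ b ∈ C0 ⊓ UX, ρ x b ∈ C0 ⊓ UX := fun b hb => ⟨hinv0 x b hb.1, by
      show nrm (ρ x) 11 (ρ x b) = 0
      rw [show nrm (ρ x) 11 (ρ x b) = ρ x (nrm (ρ x) 11 b) from
        (DFunLike.congr_fun (commute_nrm (Commute.refl (ρ x)) 11).eq b).symm,
        show nrm (ρ x) 11 b = 0 from hb.2, map_zero]⟩
    have hm := card_addSubgroup_modEq hx (C0 ⊓ UX) hinvI fun b hb => eq_of_mem_ker hA (by decide) hb.2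
    obtain ⟨k, hk, hkc⟩ := card_pow_two h12 (C0 ⊓ UX)
    rw [hkc] at hm
    have hk10 : k = 0 ∨ k = 10 := by
      have : ∀ k ≤ 12, 2 ^ k % 11 = 1 → k = 0 ∨ k = 10 := by decide
      exact this k hk (by simpa [Nat.ModEq] using hm)
    have hk0 : k ≠ 0 := by
      rintro rfl
      haveI := (Nat.card_eq_one_iff_unique.1 hkc).1
      have hmem : a + nrm (ρ x) 11 a ∈ C0 ⊓ UX := by
        refine ⟨C0.add_mem ha ?_, nrm_moving hA (by decide) hx a⟩
        have hn : Commute P (nrm (ρ x) 11) := commute_nrm (hcomm x).symm 11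
        exact (hmem0 _).2 (by
          rw [show P (nrm (ρ x) 11 a) = nrm (ρ x) 11 (P a) from DFunLike.congr_fun hn.eq a,
            (hmem0 a).1 ha])
      have h0 : a + nrm (ρ x) 11 a = 0 :=
        congrArg Subtype.val (Subsingleton.elim (⟨_, hmem⟩ : (C0 ⊓ UX : AddSubgroup A)) 0)
      have hfix : nrm (ρ x) 11 a = a := by
        rw [← add_zero (nrm (ρ x) 11 a), ← hA a, add_comm a, ← add_assoc,
          add_comm (nrm (ρ x) 11 a), h0, zero_add]
      exact hxa (hfix ▸ fix_nrm hx a)
    have h10 : 2 ^ 10 ≤ Nat.card C0 := by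
      have := AddSubgroup.card_le_of_le (inf_le_left : C0 ⊓ UX ≤ C0)
      rw [hkc, hk10.resolve_left hk0] at this
      exact this
    have hW4 : Nat.card W ≤ 4 := by
      have := Nat.mul_le_mul_left (Nat.card W) h10
      rw [hCW] at this
      omega
    -- the derived group is trivial on `W`
    let K : Subgroup L :=
      { carrier := {l | ∀ a ∈ W, ρ l a = a}
        one_mem' := fun a _ => by rw [map_one]; rfl
        mul_mem' := fun {l m} hl hm a ha => by
          rw [map_mul]; show ρ l (ρ m a) = a; rw [hm a ha, hl a ha]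
        inv_mem' := fun {l} hl a ha => by
          conv_lhs => rw [← hl a ha]
          show (ρ l⁻¹ * ρ l) a = a
          rw [← map_mul, inv_mul_cancel, map_one]; rfl }
    have hcommW : ∀ l m : L, ∀ a ∈ W, ρ l (ρ m a) = ρ m (ρ l a) := by
      intro l m a ha
      by_cases ha0 : a = 0
      · simp [ha0]
      have hPa : P a ∈ W := hinvW p a ha
      have hne1 : P a ≠ a := fun h => ha0 (hfreeW a ha h)
      have h2 : P (P a) ≠ a := fun h => hne1 (by
        have := congrArg P h
        rw [show P (P (P a)) = (P ^ 3) a from rfl, hp] at this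
        exact this.symm)
      have h3 : P (P a) ≠ P a := fun h => hne1 (hfreeW _ hPa h ▸ (by
        have h0 := hfreeW _ hPa h
        exact absurd (by
          have := congrArg (fun b => P (P b)) h0
          rw [map_zero, map_zero, show P (P (P a)) = (P ^ 3) a from rfl, hp] at this
          exact this) ha0))
      -- the nonzero elements of `W` are the three translates of `a`
      have hall : ∀ b ∈ W, b = 0 ∨ b = a ∨ b = P a ∨ b = P (P a) := by
        intro b hb
        by_contra hnb
        push Not at hnb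
        obtain ⟨n0, n1, n2, n3⟩ := hnb
        let S : Finset W := {⟨0, W.zero_mem⟩, ⟨a, ha⟩, ⟨P a, hPa⟩, ⟨P (P a), hinvW p _ hPa⟩, ⟨b, hb⟩}
        have hS : S.card = 5 := by
          have e0 : P a ≠ 0 := fun h => ha0 (hfreeW a ha (by
            have := congrArg (fun b => P (P b)) h
            rw [map_zero, map_zero, show P (P (P a)) = (P ^ 3) a from rfl, hp] at this
            exact absurd this ha0))
          have e1 : P (P a) ≠ 0 := fun h => ha0 (by
            have := congrArg P h
            rw [map_zero, show P (P (P a)) = (P ^ 3) a from rfl, hp] at this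
            exact this)
          simp only [S]
          rw [Finset.card_insert_of_notMem, Finset.card_insert_of_notMem, Finset.card_insert_of_notMem,
            Finset.card_insert_of_notMem, Finset.card_singleton] <;>
            simp [Subtype.ext_iff, Ne.symm ha0, Ne.symm e0, Ne.symm e1, Ne.symm n0, Ne.symm n1,
              Ne.symm n2, Ne.symm n3, Ne.symm hne1, Ne.symm h2, Ne.symm h3]
        haveI := Fintype.ofFinite W
        have := S.card_le_univ
        rw [hS, ← Nat.card_eq_fintype_card] at this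
        omega
      have hc : ∀ n : L, ∀ b, ρ n (P b) = P (ρ n b) := fun n b => DFunLike.congr_fun (hcomm n).eq b
      rcases hall _ (hinvW m a ha) with e | e | e | e <;>
        rcases hall _ (hinvW l a ha) with e' | e' | e' | e' <;>
        simp only [e, e', map_zero, hc]
    have hK : commutator L ≤ K := by
      rw [commutator_def, Subgroup.commutator_le]
      intro l _ m _ a ha
      rw [commutatorElement_def]
      have h2 : ρ l⁻¹ (ρ m⁻¹ a) = ρ m⁻¹ (ρ l⁻¹ a) := hcommW _ _ a ha
      simp only [map_mul, AddMonoid.End.coe_mul, Function.comp_apply]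
      rw [h2]
      show ρ l (ρ m (ρ m⁻¹ (ρ l⁻¹ a))) = a
      rw [show ∀ b, ρ m (ρ m⁻¹ b) = b from fun b => by
        show (ρ m * ρ m⁻¹) b = b; rw [← map_mul, mul_inv_cancel, map_one]; rfl]
      show (ρ l * ρ l⁻¹) a = a
      rw [← map_mul, mul_inv_cancel, map_one]; rfl
    obtain ⟨d, hd, hdp⟩ := hder
    refine hp1 (AddMonoidHom.ext fun b => ?_)
    have hbm : b + nrm P 3 b ∈ W := nrm_moving hA (by decide) hp b
    have hd' := hK hd _ hbm
    rw [hdp] at hd'
    have h0 : b + nrm P 3 b = 0 := hfreeW _ hbm hd'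
    have hfix : nrm P 3 b = b := by
      rw [← add_zero (nrm P 3 b), ← hA b, add_comm b, ← add_assoc, add_comm (nrm P 3 b), h0, zero_add]
    show P b = b
    rw [← hfix, fix_nrm hp]
  -- hence everything centralises them
  have hL0 : ∀ l, ∀ a ∈ C0, ρ l a = a := by
    let K : Subgroup L :=
      { carrier := {l | ∀ a ∈ C0, ρ l a = a}
        one_mem' := fun a _ => by rw [map_one]; rfl
        mul_mem' := fun {l m} hl hm a ha => by
          rw [map_mul]; show ρ l (ρ m a) = a; rw [hm a ha, hl a ha]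
        inv_mem' := fun {l} hl a ha => by
          conv_lhs => rw [← hl a ha]
          show (ρ l⁻¹ * ρ l) a = a
          rw [← map_mul, inv_mul_cancel, map_one]; rfl }
    have hn : K.Normal := ⟨fun k hk l a ha => by
      simp only [map_mul, AddMonoid.End.coe_mul, Function.comp_apply]
      rw [hk _ (hinv0 l⁻¹ a ha)]
      show (ρ l * ρ l⁻¹) a = a
      rw [← map_mul, mul_inv_cancel, map_one]; rfl⟩
    have htop := hgen K hn (fun a ha => (hmem0 a).1 ha) hx0 fun l hl a _ => by
      rw [MonoidHom.mem_ker.1 hl]; rfl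
    exact fun l a ha => (htop ▸ Subgroup.mem_top l : l ∈ K) a ha
  have hXW : UX ≤ W := fun a ha => by
    have hc : Commute (nrm P 3) (nrm (ρ x) 11) := commute_nrm ((commute_nrm (hcomm x) 3).symm) 11
    have h1 : nrm (ρ x) 11 (nrm P 3 a) = 0 := by
      rw [show nrm (ρ x) 11 (nrm P 3 a) = nrm P 3 (nrm (ρ x) 11 a) from (DFunLike.congr_fun hc.eq a).symm,
        show nrm (ρ x) 11 a = 0 from ha, map_zero]
    exact eq_of_mem_ker hA (by decide) h1 (hx0 _ ⟨a, rfl⟩)
  have hj10 : j = 10 ∨ j = 12 := by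
    have h := AddSubgroup.card_le_of_le hXW
    rw [hUXc, hWc] at h
    have h10 : 10 ≤ j := (Nat.pow_le_pow_iff_right (by norm_num)).1 h
    interval_cases j <;> first | (norm_num at hj3; done) | norm_num
  rcases hj10 with rfl | rfl
  swap
  · intro a ha
    have h1 : Nat.card C0 = 1 := by rw [hWc] at hCW; omega
    haveI := (Nat.card_eq_one_iff_unique.1 h1).1
    exact congrArg Subtype.val (Subsingleton.elim (⟨a, (hmem0 a).2 ha⟩ : C0) 0)
  exfalso
  -- the moving part of `y` is a six-dimensional orthogonal space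
  set UY := kerE (nrm (ρ y) 7) with hUY
  have hYW : UY ≤ W := fun a ha => by
    have hc : Commute (nrm P 3) (nrm (ρ y) 7) := commute_nrm ((commute_nrm (hcomm y) 3).symm) 7
    have h1 : nrm (ρ y) 7 (nrm P 3 a) = 0 := by
      rw [show nrm (ρ y) 7 (nrm P 3 a) = nrm P 3 (nrm (ρ y) 7 a) from (DFunLike.congr_fun hc.eq a).symm,
        show nrm (ρ y) 7 a = 0 from ha, map_zero]
    exact eq_of_mem_ker hA (by decide) h1 (hL0 y _ ⟨a, rfl⟩)
  have hPY : ∀ a ∈ UY, P a ∈ UY := fun a ha => by
    show nrm (ρ y) 7 (P a) = 0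
    rw [show nrm (ρ y) 7 (P a) = P (nrm (ρ y) 7 a) from
      (DFunLike.congr_fun (commute_nrm (hcomm y).symm 7).eq a).symm,
      show nrm (ρ y) 7 a = 0 from ha, map_zero]
  have hYY : ∀ a ∈ UY, ρ y a ∈ UY := fun a ha => by
    show nrm (ρ y) 7 (ρ y a) = 0
    rw [show nrm (ρ y) 7 (ρ y a) = ρ y (nrm (ρ y) 7 a) from
      (DFunLike.congr_fun (commute_nrm (Commute.refl (ρ y)) 7).eq a).symm,
      show nrm (ρ y) 7 a = 0 from ha, map_zero]
  have hUYc : Nat.card UY = 64 := by
    obtain ⟨i, hi, hic⟩ := card_pow_two h12 UY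
    have m7 := card_addSubgroup_modEq hy UY hYY fun a ha => eq_of_mem_ker hA (by decide) ha
    have m3 := card_addSubgroup_modEq hp UY hPY fun a ha => hfreeW a (hYW ha)
    have hle := AddSubgroup.card_le_of_le hYW
    rw [hic, hWc] at hle
    have hi10 : i ≤ 10 := (Nat.pow_le_pow_iff_right (by norm_num)).1 hle
    rw [hic] at m7 m3
    have : ∀ i ≤ 10, 2 ^ i % 7 = 1 → 2 ^ i % 3 = 1 → i = 0 ∨ i = 6 := by decide
    rcases this i hi10 (by simpa [Nat.ModEq] using m7) (by simpa [Nat.ModEq] using m3) with rfl | rfl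
    · exfalso
      haveI := (Nat.card_eq_one_iff_unique.1 hic).1
      refine hy1 (AddMonoidHom.ext fun b => ?_)
      have hbm : b + nrm (ρ y) 7 b ∈ UY := nrm_moving hA (by decide) hy b
      have h0 : b + nrm (ρ y) 7 b = 0 := congrArg Subtype.val (Subsingleton.elim (⟨_, hbm⟩ : UY) 0)
      have hfix : nrm (ρ y) 7 b = b := by
        rw [← add_zero (nrm (ρ y) 7 b), ← hA b, add_comm b, ← add_assoc, add_comm (nrm (ρ y) 7 b), h0,
          zero_add]
      show ρ y b = b
      rw [← hfix, fix_nrm hy]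
    · exact hic
  let β : A → A → ℤ := fun u v => s (u + v) * (s u * s v)
  have hss : ∀ a, s a * s a = 1 := fun a => by rcases hs a with h | h <;> rw [h] <;> norm_num
  have hβmul : ∀ u v w, β (u + v) w = β u w * β v w := fun u v w => hb u v w
  have hβ0 : ∀ v, β 0 v = 1 := fun v => by
    show s (0 + v) * (s 0 * s v) = 1
    rw [zero_add, hs0, one_mul, hss]
  have hβinv : ∀ l u v, β (ρ l u) (ρ l v) = β u v := fun l u v => by
    show s (ρ l u + ρ l v) * _ = _
    rw [← map_add, hsinv, hsinv, hsinv]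
  -- nondegenerate on the moving part
  have hndU : ∀ u ∈ UY, u ≠ 0 → ∃ v ∈ UY, β u v = -1 := by
    intro u hu hu0
    obtain ⟨v, hv⟩ := hnd u hu0
    refine ⟨v + nrm (ρ y) 7 v, nrm_moving hA (by decide) hy v, ?_⟩
    have hfix : ρ y (nrm (ρ y) 7 v) = nrm (ρ y) 7 v := fix_nrm hy v
    have hi : ∀ i : ℕ, β ((ρ y ^ i) u) (nrm (ρ y) 7 v) = β u (nrm (ρ y) 7 v) := by
      intro i
      induction i with
      | zero => rfl
      | succ i ih =>
        rw [pow_succ', AddMonoid.End.coe_mul, Function.comp_apply]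
        nth_rewrite 1 [← hfix]
        rw [hβinv, ih]
    have hsum : β (nrm (ρ y) 7 u) (nrm (ρ y) 7 v) = β u (nrm (ρ y) 7 v) := by
      obtain ⟨w, hw⟩ : ∃ w, w = nrm (ρ y) 7 v := ⟨_, rfl⟩
      rw [← hw] at hi ⊢
      rw [nrm, end_sum_apply]
      simp only [Finset.sum_range_succ, Finset.sum_range_zero, zero_add, hβmul, hi]
      have hsq : β u w * β u w = 1 := by
        show (s (u + w) * (s u * s w)) * (s (u + w) * (s u * s w)) = 1
        calc _ = (s (u + w) * s (u + w)) * ((s u * s u) * (s w * s w)) := by ring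
          _ = 1 := by rw [hss, hss, hss]; norm_num
      calc β u w * β u w * β u w * β u w * β u w * β u w * β u w
          = (β u w * β u w) * (β u w * β u w) * (β u w * β u w) * β u w := by ring
        _ = β u w := by rw [hsq]; norm_num
    rw [show nrm (ρ y) 7 u = 0 from hu, hβ0] at hsum
    have hsym : ∀ a b, β a b = β b a := fun a b => by
      show s (a + b) * (s a * s b) = s (b + a) * (s b * s a)
      rw [add_comm, mul_comm (s a)]
    rw [hsym, hβmul, hsym v, hsym (nrm (ρ y) 7 v), ← hsum, mul_one]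
    exact hv
  -- the sum of the signs
  haveI := Fintype.ofFinite UY
  have hcardU : Fintype.card UY = 64 := by rw [← Nat.card_eq_fintype_card, hUYc]
  obtain ⟨S, hS⟩ : ∃ S : ℤ, S = ∑ u : UY, s u := ⟨_, rfl⟩
  have hcol : ∀ w : UY, ∑ u : UY, β u w = if w = 0 then 64 else 0 := by
    intro w
    have hsym : ∀ a b, β a b = β b a := fun a b => by
      show s (a + b) * (s a * s b) = s (b + a) * (s b * s a)
      rw [add_comm, mul_comm (s a)]
    split_ifs with hw
    · subst hw
      simp only [AddSubgroup.coe_zero]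
      rw [Finset.sum_congr rfl fun u _ => (hsym _ _).trans (hβ0 _), Finset.sum_const, Finset.card_univ,
        hcardU]
      norm_num
    · obtain ⟨v, hv, hb'⟩ := hndU w w.2 fun h => hw (Subtype.ext h)
      have h2 : ∑ u : UY, β u w = ∑ u : UY, - β u w := by
        conv_lhs => rw [← Equiv.sum_comp (Equiv.addRight (⟨v, hv⟩ : UY))]
        refine Finset.sum_congr rfl fun u _ => ?_
        show β ((u : A) + v) w = _
        rw [hβmul, hsym v, hb', mul_neg, mul_one]
      rw [Finset.sum_neg_distrib] at h2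
      omega
  have hS2 : S * S = 64 := by
    calc S * S = ∑ u : UY, ∑ v : UY, s u * s v := by rw [hS, Finset.sum_mul_sum]
      _ = ∑ u : UY, ∑ w : UY, s w * β u w := by
        refine Finset.sum_congr rfl fun u _ => ?_
        conv_lhs => rw [← Equiv.sum_comp (Equiv.addLeft u)]
        refine Finset.sum_congr rfl fun w _ => ?_
        show s u * s ((u : A) + w) = s w * (s ((u : A) + w) * (s u * s w))
        calc s u * s ((u : A) + w) = s u * s ((u : A) + w) * (s (w : A) * s w) := by rw [hss, mul_one]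
          _ = _ := by ring
      _ = ∑ w : UY, s w * ∑ u : UY, β u w := by rw [Finset.sum_comm]; simp_rw [Finset.mul_sum]
      _ = 64 := by simp [hcol, hs0]
  obtain ⟨T, hT⟩ : ∃ T : Set A, T = {a | a ∈ UY ∧ a ≠ 0 ∧ s a = 1} := ⟨_, rfl⟩
  have hTm : ∀ a : A, a ∈ T → a ∈ UY ∧ a ≠ 0 ∧ s a = 1 := fun a ha => hT.le ha
  have hTc : (Nat.card T : ℤ) * 2 + 2 = 64 + S := by
    have h1 : Nat.card T + 1 = (univ.filter fun u : UY => s u = 1).card := by
      rw [← Finset.card_erase_add_one (s := univ.filter fun u : UY => s u = 1) (a := 0) (by simp [hs0]),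
        add_left_inj, ← Nat.card_eq_finsetCard]
      refine Nat.card_congr
        { toFun := fun a => ⟨⟨a, (hTm _ a.2).1⟩, ?_⟩
          invFun := fun u => ⟨(u : UY), ?_⟩
          left_inv := fun a => rfl
          right_inv := fun u => rfl }
      · have := (hTm _ a.2)
        simp [Subtype.ext_iff, this.2.1, this.2.2]
      · obtain ⟨h0', h1'⟩ := Finset.mem_erase.1 u.2
        rw [hT]
        exact ⟨(u : UY).2, fun h => h0' (Subtype.ext h), (Finset.mem_filter.1 h1').2⟩
    have h2 : S = 2 * ((univ.filter fun u : UY => s u = 1).card : ℤ) - 64 := by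
      rw [hS, Finset.card_filter, Nat.cast_sum, Finset.mul_sum, show (64 : ℤ) = ∑ _u : UY, 1 by
        simp [hcardU], ← Finset.sum_sub_distrib]
      refine Finset.sum_congr rfl fun u _ => ?_
      rcases hs u with h | h <;> simp [h]
    rw [h2, ← h1]
    push_cast
    ring
  have hT0 : Nat.card {a : T // (a : A) = 0} = 0 := by
    haveI : IsEmpty {a : T // (a : A) = 0} := ⟨fun a => (hTm _ a.1.2).2.1 a.2⟩
    exact Nat.card_of_isEmpty
  have hmod : ∀ (l : L) (r : ℕ) [Fact r.Prime], ρ l ^ r = 1 → (∀ a ∈ UY, ρ l a ∈ UY) →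
      (∀ a ∈ UY, ρ l a = a → a = 0) → Nat.card T % r = 0 := by
    intro l r hr hlr hU hfree
    have h := card_modEq_of_free hlr T (fun a => ?_) fun a ha => hfree a (hTm a ha).1
    · rw [hT0] at h; exact h
    have hl : ∀ b, ρ l⁻¹ (ρ l b) = b := fun b => by
      show (ρ l⁻¹ * ρ l) b = b; rw [← map_mul, inv_mul_cancel, map_one]; rfl
    rw [hT, Set.mem_ofPred_eq, Set.mem_ofPred_eq, hsinv]
    constructor
    · exact fun ⟨h1, h2, h3⟩ => ⟨hU a h1, fun h => h2 (by rw [← hl a, h, map_zero]), h3⟩
    · rintro ⟨h1, h2, h3⟩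
      refine ⟨?_, fun h => h2 (by rw [h, map_zero]), h3⟩
      have hk : ∀ k : ℕ, ∀ b ∈ UY, (ρ l ^ k) b ∈ UY := by
        intro k
        induction k with
        | zero => exact fun b hb => hb
        | succ k ih => intro b hb; rw [pow_succ, AddMonoid.End.coe_mul, Function.comp_apply]; exact ih _ (hU b hb)
      have := hk (r - 1) _ h1
      have e : (ρ l ^ (r - 1)) (ρ l a) = (ρ l ^ r) a := by
        conv_rhs => rw [show r = r - 1 + 1 from (Nat.succ_pred_eq_of_pos hr.out.pos).symm, pow_succ]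
        rfl
      rwa [e, hlr] at this
  have m7 := hmod y 7 hy hYY fun a ha => eq_of_mem_ker hA (by decide) ha
  have m3 := hmod p 3 hp hPY fun a ha => hfreeW a (hYW ha)
  have hSv : S = 8 ∨ S = -8 := by
    rcases Int.natAbs_eq S with h | h <;>
    · have hm : S.natAbs * S.natAbs = 64 := by
        rw [← Int.natAbs_mul, hS2]; rfl
      have : S.natAbs = 8 := Nat.pow_left_injective (n := 2) (by norm_num) (by simpa [pow_two] using hm)
      omega
  rcases hSv with rfl | rfl <;> omega

end CfsgLib.J4Type.Order
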