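import Cfsg.Agent.Lib.J4Type.NV.Formulas
import Cfsg.Agent.Lib.Fusion.TableSylow

/-!
Codes for the centraliser of the central involution: an element of the radical is a number below
`8192` (a vector and, in bit twelve, the central part), a matrix is packed into a number.
-/

set_option autoImplicit false
set_option maxRecDepth 100000

namespace CfsgLib.J4Type.Order

open CfsgLib.J4Type.NV
open CfsgLib.Fusion.TableSylow (Tree Dict)

/-- The vector of a code. -/
def eV (a : ℕ) : ℕ := a % 4096

/-- The central part of a code. -/
def eS (a : ℕ) : Bool := a.testBit 12

/-- A code from its parts. -/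
def eMk (v : ℕ) (s : Bool) : ℕ := bif s then v + 4096 else v

/-- The product of two codes. -/
def emul (a b : ℕ) : ℕ :=
  eMk (eV a ^^^ eV b) ((eS a).xor ((eS b).xor (beta (eV a) (eV b))))

/-- Whether a matrix commutes with the scalar. -/
def linB (m : List ℕ) : Bool := mm m pOm == mm pOm m

/-- The defect of a semilinear element on a canonical element. -/
def gam (v : ℕ) : Bool := bF (w1 v) (w2 v)

/-- Conjugation by an element of the normaliser of `P` with the given matrix and linearity. -/
def eact (m : List ℕ) (l : Bool) (a : ℕ) : ℕ :=
  eMk (mv m (eV a)) ((eS a).xor (bif l then false else gam (eV a)))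

/-- The inverse of a code. -/
def einv (a : ℕ) : ℕ := eMk (eV a) ((eS a).xor (qF (eV a)))

/-- Conjugation of `a` times an involution with matrix `k` by the element with code `f`. -/
def shift (k : List ℕ) (f a : ℕ) : ℕ := emul (emul f a) (eact k (linB k) (einv f))

/-- The radical part of the powers of a code times an element with matrix `n`. -/
def epow (n : List ℕ) (l : Bool) (c : ℕ) : ℕ → ℕ
  | 0 => 0
  | j + 1 => emul c (eact n l (epow n l c j))

/-- Keeps the generated equation of `epow` in this module, for all users to share. -/
theorem epow_eq_def' : type_of% @epow.eq_def := @epow.eq_def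

/-- A matrix packed into a number. -/
def pk (m : List ℕ) : ℕ := m.foldr (fun x acc => x + 4096 * acc) 0

/-- The next `n` columns of a packed matrix. -/
def unpkAux : ℕ → ℕ → List ℕ
  | 0, _ => []
  | j + 1, c => c % 4096 :: unpkAux j (c / 4096)

/-- The matrix of a packed number. -/
def unpk (c : ℕ) : List ℕ := unpkAux 12 c

/-- The root of the inner involutions. -/
def root1 : List ℕ := upperB.getD 0 idM

/-- The generators with their inverses. -/
def genPair (g : ℕ) (ginv : List (List ℕ)) : List ℕ × List ℕ :=
  (gensL.getD g idM, ginv.getD g idM)

/-- The matrix of a word in the generators. -/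
def wordM : List ℕ → List ℕ
  | [] => idM
  | g :: w => mm (gensL.getD g idM) (wordM w)

/-- The powers of a matrix. -/
def powM (n : List ℕ) : ℕ → List ℕ
  | 0 => idM
  | j + 1 => mm n (powM n j)

/-- The order of the matrix is exactly `m`. -/
def exactOrd (n : List ℕ) (m : ℕ) : Bool :=
  Nat.blt 0 m && powM n m == idM && (List.range m).all fun j => Nat.beq j 0 || !(powM n j == idM)

/-- The central involution is the involution of the cyclic group generated by a product with
radical part `e` of its power in the radical. -/
def hitZ (e : ℕ) : Bool := qF (eV e) || Nat.beq e 4096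

end CfsgLib.J4Type.Order
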