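import Cfsg.Agent.Lib.J4Type.Order.CosData
import Cfsg.Agent.Lib.J4Type.Order.HRel
import Cfsg.Agent.Lib.J4Type.Cert.Orbits
import Cfsg.Agent.Lib.J4Type.NV.CountChecks

/-!
The certificate of the orbits on the involutions in the cosets of the radical at the three roots.
-/

set_option autoImplicit false
set_option maxRecDepth 100000
set_option Elab.async false

namespace CfsgLib.J4Type.Order

open CfsgLib.J4Type

/-- The orbit list of a coset. -/
def cosLst (c : ℕ) : List (ℕ × ℕ × ℕ) := [[], cosData1, cosData2, cosData3].getD c []

/-- An entry of an orbit list. -/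
def cosItem (c p : ℕ) : ℕ × ℕ × ℕ := (cosLst c).getD p (0, 0, 0)

/-- The commuting involutions used at a coset. -/
def cosGen (c : ℕ) : List ℕ := [[], cosGens1, cosGens2, cosGens3].getD c []

/-- The matrix of a move. -/
def cosMat (c g : ℕ) : List ℕ := invM ((cosGen c).getD (g - 12) 0)

/-- A move on the codes of a coset. -/
def cosMv (c g a : ℕ) : ℕ :=
  bif Nat.blt g 12 then shift (kr c) (2 ^ g) a else eact (cosMat c g) (linB (cosMat c g)) a

/-- The position of the first member of an orbit. -/
def rootPos (c p : ℕ) : ℕ :=
  bif Nat.beq c 1 then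
    (bif Nat.blt p 16 then 0 else bif Nat.blt p 112 then 16 else bif Nat.blt p 128 then 112 else 128)
  else bif Nat.beq c 3 then (bif Nat.blt p 64 then 0 else 64) else 0

/-- The check of an orbit list. -/
def cosOK (c : ℕ) : Bool := (List.range (cosLst c).length).all fun p =>
  let e := cosItem c p
  Nat.blt e.1 8192 &&
    ((Nat.beq e.2.2 99 && Nat.beq (rootPos c p) p) ||
      (Nat.blt e.2.1 p && Nat.beq (rootPos c e.2.1) (rootPos c p) &&
        (Nat.blt e.2.2 12 || (Nat.blt ((cosGen c).getD (e.2.2 - 12) 0) 6303 &&
          mm (cosMat c e.2.2) (kr c) == mm (kr c) (cosMat c e.2.2))) &&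
        Nat.beq (cosMv c e.2.2 (cosItem c e.2.1).1) e.1))

theorem cosOK_all : (([1, 2, 3] : List ℕ).all cosOK) = true := by decide +kernel

/-- The codes of the members of an orbit, as bits. -/
def segM (c r : ℕ) : ℕ :=
  (((segTab.getD c []).find? fun q => Nat.beq q.1 r).getD (0, 0)).2

theorem segM_ok : (((List.range 4).all fun c => (segTab.getD c []).all fun q =>
    Nat.beq q.2 (((List.range (cosLst c).length).filter fun p => Nat.beq (rootPos c p) q.1).foldl
      (fun m p => m ||| 2 ^ (cosItem c p).1) 0))) = true := by
  decide +kernel

/-- The orbits of a coset with their types, depending on four bits. -/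
def segs (b1 b2 b3 b4 : Bool) (c : ℕ) : List (ℕ × Bool) :=
  [[], [(0, true), (16, false), (112, false), (128, b1)], [(0, b2)], [(0, b3), (64, b4)]].getD c []

/-- The codes of the involutions outside the class of the central involution in a coset. -/
def inT (b1 b2 b3 b4 : Bool) (c a : ℕ) : Bool :=
  bif Nat.beq c 0 then Cert.oneMask.testBit (eV a)
  else (segs b1 b2 b3 b4 c).any fun q => q.2 && (segM c q.1).testBit a

theorem cos_cover : (([1, 2, 3] : List ℕ).all fun c => (List.range 4096).all fun v =>
    !Nat.beq (mv (kr c) v) v || !Nat.beq (emul v (eact (kr c) (linB (kr c)) v)) 0 ||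
      ((segs true true true true c).any (fun q => (segM c q.1).testBit v) &&
        (segs true true true true c).any (fun q => (segM c q.1).testBit (v + 4096)))) = true := by
  decide +kernel

theorem cos_roots : (cosItem 1 0).1 = 0 ∧ (cosItem 1 16).1 = 1 ∧ (cosItem 1 112).1 = 4 ∧
    (cosItem 1 128).1 = 64 ∧ (cosItem 2 0).1 = 0 ∧ (cosItem 3 0).1 = 0 ∧ (cosItem 3 64).1 = 4096 := by
  decide +kernel

theorem root_inB : NV.inB (NV.pack 0 false 1) = true ∧ NV.inB (NV.pack 1 false 1) = false ∧
    NV.inB (NV.pack 4 false 1) = false ∧ NV.inB 5 = false ∧ NV.pack 5 false 0 = 5 ∧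
    shift idM 128 5 = 4101 := by
  decide +kernel

theorem cnt_zero : ((List.range 8192).filter fun a =>
    inT false false false false 0 a).length = 2772 := by decide +kernel

theorem cnt_one : (([false, true] : List Bool).all fun b => Nat.beq
    ((List.range 8192).filter fun a => inT b false false false 1 a).length
    (16 + bif b then 192 else 0)) = true := by decide +kernel

theorem cnt_two : (([false, true] : List Bool).all fun b => Nat.beq
    ((List.range 8192).filter fun a => inT false b false false 2 a).length
    (bif b then 128 else 0)) = true := by decide +kernel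

theorem cnt_three : (([false, true] : List Bool).all fun b => ([false, true] : List Bool).all fun b' =>
    Nat.beq ((List.range 8192).filter fun a => inT false false b b' 3 a).length
    ((bif b then 64 else 0) + bif b' then 64 else 0)) = true := by decide +kernel

end CfsgLib.J4Type.Order
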