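import Cfsg.Agent.Lib.J4Type.Order.Code
import Cfsg.Agent.Lib.J4Type.NV.Canon
import Cfsg.Agent.Lib.J4Type.Cert.Group

/-!
The arithmetic of codes: products, inverses, the action of the normaliser of `P`, powers and the
criterion for a power to reach the central involution.
-/

set_option autoImplicit false
set_option linter.unusedSectionVars false
set_option maxRecDepth 100000

namespace CfsgLib.J4Type.Order

open CfsgLib.J4Type CfsgLib.J4Type.NV

theorem qF_zero : qF 0 = false := by decide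

theorem beta_self_ok : ((List.range 4096).all fun v => beta v v == qF v) = true := by decide +kernel

theorem gam_bits {v : ℕ} (h : v < 4096) : beta v v = qF v :=
  eq_of_beq (List.all_eq_true.1 beta_self_ok v (List.mem_range.2 h))

theorem eV_lt (a : ℕ) : eV a < 4096 := Nat.mod_lt _ (by norm_num)

theorem eV_eMk {v : ℕ} (hv : v < 4096) (s : Bool) : eV (eMk v s) = v := by
  cases s <;> simp [eV, eMk, Nat.mod_eq_of_lt hv]

theorem eS_eMk {v : ℕ} (hv : v < 4096) (s : Bool) : eS (eMk v s) = s := by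
  cases s
  · exact Nat.testBit_lt_two_pow (show v < 2 ^ 12 from hv)
  · show (v + 2 ^ 12).testBit 12 = true
    rw [Nat.add_comm, Nat.testBit_two_pow_add_eq,
      Nat.testBit_lt_two_pow (show v < 2 ^ 12 from hv)]
    rfl

theorem eMk_lt {v : ℕ} (hv : v < 4096) (s : Bool) : eMk v s < 8192 := by
  cases s <;> simp [eMk] <;> omega

theorem eMk_parts {a : ℕ} (ha : a < 8192) : eMk (eV a) (eS a) = a := by
  rcases Nat.lt_or_ge a 4096 with h | h
  · rw [show eS a = false from Nat.testBit_lt_two_pow (show a < 2 ^ 12 from h)]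
    exact Nat.mod_eq_of_lt h
  · have e : eS a = true := by
      show a.testBit 12 = true
      rw [show a = 2 ^ 12 + (a - 4096) by omega, Nat.testBit_two_pow_add_eq,
        Nat.testBit_lt_two_pow (show a - 4096 < 2 ^ 12 by omega)]
      rfl
    rw [e]
    show a % 4096 + 4096 = a
    omega

theorem emul_lt (a b : ℕ) : emul a b < 8192 :=
  eMk_lt (Nat.xor_lt_two_pow (n := 12) (eV_lt a) (eV_lt b)) _

theorem einv_lt (a : ℕ) : einv a < 8192 := eMk_lt (eV_lt a) _

theorem exactOrd.pow_eq {n : List ℕ} {m : ℕ} (h : exactOrd n m = true) :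
    0 < m ∧ powM n m = idM ∧ ∀ j, 0 < j → j < m → powM n j ≠ idM := by
  simp only [exactOrd, Bool.and_eq_true, beq_iff_eq, List.all_eq_true, List.mem_range,
    Bool.or_eq_true] at h
  refine ⟨Nat.le_of_ble_eq_true h.1.1, h.1.2, fun j hj hjm e => ?_⟩
  rcases h.2 j hjm with h' | h'
  · exact absurd (Nat.eq_of_beq_eq_true h') hj.ne'
  · simp [e] at h'

end CfsgLib.J4Type.Order

namespace CfsgLib.J4Type

open Cfsg Subgroup NV CfsgLib.J4Type.Order

variable {G : Type*} [Group G] {z : G} {P : Subgroup G}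

namespace Frame

variable (F : Frame z P)
include F

/-- The element of the radical with the given code. -/
noncomputable def dec (a : ℕ) : G := F.eE (eV a) * F.zp (eS a)

theorem dec_mem (a : ℕ) : F.dec a ∈ Rad z := mul_mem (F.eE_spec (eV_lt a)).1 (F.zp_mem _)

theorem dec_mem_cen (a : ℕ) : F.dec a ∈ Cen z := rad_le_Cen (F.dec_mem a)

theorem co_dec (a : ℕ) : F.co (F.dec a) = eV a := by
  rw [dec, F.co_mul _ (F.eE_spec (eV_lt a)).1 _ (F.zp_mem _), F.co_zp, Nat.xor_zero,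
    (F.eE_spec (eV_lt a)).2.1]

theorem mat_dec (a : ℕ) : F.mat (F.dec a) = idM :=
  (F.mat_eq_id _ (F.dec_mem_cen a)).2 (F.dec_mem a)

theorem dec_eMk {v : ℕ} (hv : v < 4096) (s : Bool) : F.dec (eMk v s) = F.eE v * F.zp s := by
  rw [dec, eV_eMk hv, eS_eMk hv]

theorem dec_zero : F.dec 0 = 1 := by
  rw [show (0 : ℕ) = eMk 0 false from rfl, F.dec_eMk (by norm_num), F.eE_zero]
  simp [zp]

theorem dec_z : F.dec 4096 = z := by
  rw [show (4096 : ℕ) = eMk 0 true from rfl, F.dec_eMk (by norm_num), F.eE_zero]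
  simp [zp]

theorem dec_inj {a b : ℕ} (ha : a < 8192) (hb : b < 8192) (h : F.dec a = F.dec b) : a = b := by
  have hv : eV a = eV b := by rw [← F.co_dec, ← F.co_dec, h]
  simp only [dec, hv] at h
  have hs := F.zp_inj (mul_left_cancel h)
  rw [← eMk_parts ha, ← eMk_parts hb, hv, hs]

theorem exists_dec {x : G} (hx : x ∈ Rad z) : ∃ a < 8192, F.dec a = x := by
  obtain ⟨b, hb⟩ := F.nm_mem_pair hx
  exact ⟨eMk (F.co x) b, eMk_lt (F.co_lt x hx) _, by
    rw [F.dec_eMk (F.co_lt x hx)]; exact (F.eq_eE_mul hx hb).symm⟩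

theorem dec_mul (a b : ℕ) : F.dec a * F.dec b = F.dec (emul a b) := by
  rw [emul, F.dec_eMk (Nat.xor_lt_two_pow (n := 12) (eV_lt a) (eV_lt b)), dec, dec,
    mul_assoc, ← mul_assoc (F.zp (eS a)),
    ← F.zp_comm (rad_le_Cen (F.eE_spec (eV_lt b)).1) (eS a), mul_assoc _ (F.zp (eS a)),
    F.zp_mul, ← mul_assoc, F.eE_mul (eV_lt a) (eV_lt b), mul_assoc, F.zp_mul]
  congr 2
  cases eS a <;> cases eS b <;> cases beta (eV a) (eV b) <;> rfl

theorem dec_inv (a : ℕ) : (F.dec a)⁻¹ = F.dec (einv a) := by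
  refine inv_eq_of_mul_eq_one_right ?_
  rw [F.dec_mul, ← F.dec_zero]
  congr 1
  rw [emul, einv, eV_eMk (eV_lt a), eS_eMk (eV_lt a), gam_bits (eV_lt a), Nat.xor_self]
  cases eS a <;> cases qF (eV a) <;> rfl

/-- Conjugation of a canonical element by an element of the normaliser of `P`. -/
theorem conj_eE_norm {h : G} (hh : h ∈ Cen z) (hn : h ∈ normalizer (P : Set G)) {v : ℕ}
    (hv : v < 4096) : h * F.eE v * h⁻¹ =
      F.eE (mv (F.mat h) v) * F.zp (bif linB (F.mat h) then false else gam v) := by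
  by_cases hl : mm (F.mat h) pOm = mm pOm (F.mat h)
  · have e : linB (F.mat h) = true := beq_iff_eq.2 hl
    rw [e, F.conj_eE (F.mem_CP_of_comm hh hn hl) hv]
    simp [zp]
  have e : linB (F.mat h) = false := Bool.eq_false_iff.2 fun c => hl (beq_iff_eq.1 c)
  rw [e, cond_false]
  have p3 : F.p0 * F.p0 * F.p0 = 1 := by
    have := F.p0_cube
    simpa [pow_succ] using this
  have hp : h * F.p0 * h⁻¹ = F.p0 * F.p0 := by
    have hc : h * F.p0 * h⁻¹ ∈ zpowers F.p0 :=
      F.zpowers_p0.ge ((mem_normalizer_iff.1 hn _).1 F.p0_mem)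
    obtain ⟨k, hk⟩ :=
      (isOfFinOrder_iff_pow_eq_one.2 ⟨3, by norm_num, F.p0_cube⟩).mem_powers_iff_mem_zpowers.2 hc
    change F.p0 ^ k = _ at hk
    rw [pow_eq_pow_mod k F.p0_cube] at hk
    have hlt := Nat.mod_lt k (show 0 < 3 by norm_num)
    interval_cases hk3 : k % 3
    · exfalso
      rw [pow_zero] at hk
      have hp : F.p0 = 1 := conj_eq_one_iff.1 hk.symm
      have := F.mat_p0
      rw [hp, F.mat_one] at this
      exact absurd this (by decide)
    · exfalso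
      rw [pow_one] at hk
      have e' : h * F.p0 = F.p0 * h := (eq_mul_inv_iff_mul_eq.1 hk).symm
      have := congrArg F.mat e'
      rw [F.mat_mul _ hh _ F.p0_mem_cen, F.mat_mul _ F.p0_mem_cen _ hh, F.mat_p0] at this
      exact hl this
    · rw [← hk, pow_two]
  have hpp : h * (F.p0 * F.p0) * h⁻¹ = F.p0 := by
    calc h * (F.p0 * F.p0) * h⁻¹ = (h * F.p0 * h⁻¹) * (h * F.p0 * h⁻¹) := by group
      _ = F.p0 * F.p0 * F.p0 * F.p0 := by rw [hp]; group
      _ = F.p0 := by rw [p3, one_mul]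
  obtain ⟨x0, cx, nx⟩ := F.eE_spec hv
  have x1 := F.rad_conj F.p0_mem_cen x0
  have x2 := F.rad_conj F.p0_mem_cen x1
  have cx1 := F.co_p0 x0
  have cx2 := F.co_p0_two x0
  rw [cx] at cx1 cx2
  set x := F.eE v
  set a := F.p0 * x * F.p0⁻¹ with ha
  set a' := F.p0 * a * F.p0⁻¹ with ha'
  have q : a' * a = a * a' * F.zp (gam v) := by
    have h1 := F.comm_rad x1 x2
    rw [cx1, cx2] at h1
    have h2 : a * a' = a' * a * F.zp (gam v) := h1
    rw [h2, mul_assoc (a' * a), F.zp_mul, Bool.xor_self]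
    simp [zp]
  have e1 : F.p0 * (h * x * h⁻¹) * F.p0⁻¹ = h * a' * h⁻¹ := by
    conv_lhs => rw [← hpp]
    rw [ha', ha]; group
  have e2 : F.p0 * (h * a' * h⁻¹) * F.p0⁻¹ = h * a * h⁻¹ := by
    conv_lhs => rw [← hpp]
    have : F.p0 * F.p0 * a' * (F.p0 * F.p0)⁻¹ = a := by
      rw [ha', ha]
      calc F.p0 * F.p0 * (F.p0 * (F.p0 * x * F.p0⁻¹) * F.p0⁻¹) * (F.p0 * F.p0)⁻¹
          = (F.p0 * F.p0 * F.p0) * (F.p0 * x * F.p0⁻¹) * (F.p0 * F.p0 * F.p0)⁻¹ := by group
        _ = F.p0 * x * F.p0⁻¹ := by rw [p3, one_mul, _root_.inv_one, mul_one]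
    calc h * (F.p0 * F.p0) * h⁻¹ * (h * a' * h⁻¹) * (h * (F.p0 * F.p0) * h⁻¹)⁻¹
        = h * (F.p0 * F.p0 * a' * (F.p0 * F.p0)⁻¹) * h⁻¹ := by group
      _ = h * a * h⁻¹ := by rw [this]
  have hn' : F.nm (h * x * h⁻¹) = F.zp (gam v) := by
    show h * x * h⁻¹ * (F.p0 * (h * x * h⁻¹) * F.p0⁻¹) *
      (F.p0 * (F.p0 * (h * x * h⁻¹) * F.p0⁻¹) * F.p0⁻¹) = _
    rw [e1, e2]
    calc h * x * h⁻¹ * (h * a' * h⁻¹) * (h * a * h⁻¹) = h * (x * (a' * a)) * h⁻¹ := by group
      _ = h * (x * a * a' * F.zp (gam v)) * h⁻¹ := by rw [q]; group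
      _ = F.zp (gam v) := by
        rw [show x * a * a' = 1 from nx, one_mul, F.zp_comm hh, mul_inv_cancel_right]
  have := F.eq_eE_mul (F.rad_conj hh x0) hn'
  rwa [F.conj_co hh x0, cx] at this

theorem mv_mat_lt {h : G} (hh : h ∈ Cen z) {v : ℕ} (hv : v < 4096) : mv (F.mat h) v < 4096 := by
  obtain ⟨x, hx, rfl⟩ := F.co_surj v hv
  rw [← F.conj_co hh hx]
  exact F.co_lt _ (F.rad_conj hh hx)

/-- Conjugation of a coded element by an element of the normaliser of `P`. -/
theorem conj_dec {h : G} (hh : h ∈ Cen z) (hn : h ∈ normalizer (P : Set G)) (a : ℕ) :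
    h * F.dec a * h⁻¹ = F.dec (eact (F.mat h) (linB (F.mat h)) a) := by
  rw [eact, F.dec_eMk (F.mv_mat_lt hh (eV_lt a)), dec,
    show h * (F.eE (eV a) * F.zp (eS a)) * h⁻¹ = h * F.eE (eV a) * h⁻¹ * (h * F.zp (eS a) * h⁻¹)
      by group,
    F.conj_eE_norm hh hn (eV_lt a), F.zp_comm hh, mul_inv_cancel_right, mul_assoc, F.zp_mul]
  congr 2
  cases eS a <;> cases (bif linB (F.mat h) then false else gam (eV a)) <;> rfl

theorem eact_lt {h : G} (hh : h ∈ Cen z) (l : Bool) (a : ℕ) : eact (F.mat h) l a < 8192 :=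
  eMk_lt (F.mv_mat_lt hh (eV_lt a)) _

theorem mat_pow_eq {x : G} (hx : x ∈ Cen z) : ∀ j : ℕ, F.mat (x ^ j) = powM (F.mat x) j
  | 0 => by rw [pow_zero, F.mat_one]; rfl
  | j + 1 => by rw [pow_succ', F.mat_mul _ hx _ (pow_mem hx j), mat_pow_eq hx j]; rfl

/-- The powers of a coded element times an element of the normaliser of `P`. -/
theorem dec_mul_pow {x : G} (hh : x ∈ Cen z) (hn : x ∈ normalizer (P : Set G)) (c : ℕ) :
    ∀ j : ℕ, (F.dec c * x) ^ j = F.dec (epow (F.mat x) (linB (F.mat x)) c j) * x ^ j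
  | 0 => by simp [epow, F.dec_zero]
  | j + 1 => by
    rw [pow_succ', dec_mul_pow hh hn c j, epow, ← F.dec_mul, ← F.conj_dec hh hn, pow_succ']
    group

/-- The central involution is a power of an element whose image has order `m` exactly when it is
read off from the `m`-th power. -/
theorem hitZ_iff {g : G} (hg : g ∈ Cen z) {m e : ℕ} (hm : exactOrd (F.mat g) m = true)
    (he : e < 8192) (hp : g ^ m = F.dec e) : z ∈ zpowers g ↔ hitZ e = true := by
  obtain ⟨hm0, -, hmin⟩ := exactOrd.pow_eq hm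
  have hsq : F.dec e * F.dec e = if qF (eV e) then z else 1 := by
    rw [F.sq _ (F.dec_mem e), F.co_dec]
  constructor
  · intro hz
    by_contra hh
    simp only [hitZ, Bool.or_eq_true, not_or, Bool.not_eq_true] at hh
    have h1 : F.dec e * F.dec e = 1 := by rw [hsq, hh.1]; rfl
    have hg2 : g ^ (2 * m) = 1 := by rw [mul_comm, pow_mul, hp, pow_two, h1]
    obtain ⟨j, hj⟩ := (isOfFinOrder_iff_pow_eq_one.2 ⟨2 * m, by omega, hg2⟩
      ).mem_powers_iff_mem_zpowers.2 hz
    change g ^ j = z at hj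
    have e1 : j = m * (j / m) + j % m := (Nat.div_add_mod j m).symm
    rw [e1, pow_add, pow_mul, hp] at hj
    have hq : F.dec e ^ (j / m) ∈ Rad z := pow_mem (F.dec_mem e) _
    have hr : F.mat (g ^ (j % m)) = idM := by
      refine (F.mat_eq_id _ (pow_mem hg _)).2 ?_
      have e2 := eq_inv_mul_of_mul_eq hj
      rw [e2]
      exact mul_mem (inv_mem hq) F.z_mem_rad
    rcases Nat.eq_zero_or_pos (j % m) with h0 | h0
    · rw [h0, pow_zero, mul_one, pow_eq_pow_mod (j / m) (show F.dec e ^ 2 = 1 by rw [pow_two, h1])]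
        at hj
      rcases Nat.mod_two_eq_zero_or_one (j / m) with d | d
      · rw [d, pow_zero] at hj
        exact F.z_ne hj.symm
      · rw [d, pow_one] at hj
        have := F.dec_inj he (by norm_num : (4096 : ℕ) < 8192) (by rw [hj, F.dec_z])
        rw [this] at hh
        exact absurd hh.2 (by decide)
    · exact hmin _ h0 (Nat.mod_lt _ hm0) (by rw [← F.mat_pow_eq hg, hr])
  · intro hh
    simp only [hitZ, Bool.or_eq_true] at hh
    rcases hh with h | h
    · refine mem_zpowers_iff.2 ⟨((2 * m : ℕ) : ℤ), ?_⟩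
      rw [zpow_natCast, mul_comm, pow_mul, hp, pow_two, hsq, h]
      rfl
    · refine mem_zpowers_iff.2 ⟨(m : ℤ), ?_⟩
      rw [zpow_natCast, hp, Nat.eq_of_beq_eq_true h, F.dec_z]

end Frame

end CfsgLib.J4Type
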