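import Cfsg.Agent.Lib.J4Type.Order.HCode
import Cfsg.Agent.Lib.J4Type.NV.Pairs276
import Cfsg.Agent.Lib.J4Type.NV.Split
import Cfsg.Agent.Lib.J4Type.Cert.Oval

/-!
The lifts of the three root involutions to the normaliser of `P`, the lifts of their conjugates,
and the order of the centraliser of the central involution.
-/

set_option autoImplicit false
set_option linter.unusedSectionVars false
set_option maxRecDepth 100000

namespace CfsgLib.J4Type.Order

open CfsgLib.J4Type CfsgLib.J4Type.NV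

/-- The identity and the three roots. -/
def kr (c : ℕ) : List ℕ := [idM, root1, mm root1 sig, sig].getD c idM

/-- A matrix as an element of the group of matrices. -/
def mkL (m : List ℕ) (h : InL m) : Cert.LGrp := ⟨m, h⟩

theorem kr_ok : root1 = upM 1 ∧ cjSig.getD 1 0 = 1 ∧ pack 0 false 1 = 128 ∧ sF 128 = 128 ∧
    (((List.range 4).all fun c => mm (kr c) (kr c) == idM) = true) := by
  decide +kernel

theorem kr_sq {c : ℕ} (hc : c < 4) : mm (kr c) (kr c) = idM :=
  eq_of_beq (List.all_eq_true.1 kr_ok.2.2.2.2 c (List.mem_range.2 hc))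

end CfsgLib.J4Type.Order

namespace CfsgLib.J4Type

open Cfsg Subgroup NV CfsgLib.J4Type.Order Cert

variable {G : Type*} [Group G] [Finite G] {z : G} {P : Subgroup G}

namespace Frame

/-- An involution outside the class of the central involution. -/
def isT (_F : Frame z P) (u : G) : Prop := u * u = 1 ∧ u ≠ 1 ∧ ¬ IsConj z u

theorem isT_conj (F : Frame z P) (g u : G) : F.isT (g * u * g⁻¹) ↔ F.isT u := by
  have e : g * u * g⁻¹ * (g * u * g⁻¹) = g * (u * u) * g⁻¹ := by group
  have hc : IsConj u (g * u * g⁻¹) := isConj_iff.2 ⟨g, rfl⟩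
  unfold isT
  rw [e, conj_eq_one_iff, Ne, conj_eq_one_iff]
  exact and_congr_right' (and_congr_right' (not_congr
    ⟨fun h => h.trans hc.symm, fun h => h.trans hc⟩))

variable (F : Frame z P)

theorem matL_mem {g : G} (hg : g ∈ Cen z) : InL (F.mat g) := F.mat_inL g hg

/-- The matrix of an element of the centraliser, in the group of matrices. -/
noncomputable def matL : Cen z →* LGrp where
  toFun g := mkL (F.mat g) (F.mat_inL g g.2)
  map_one' := LGrp.ext F.mat_one
  map_mul' a b := LGrp.ext (F.mat_mul _ a.2 _ b.2)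

theorem mat_inv {g : G} (hg : g ∈ Cen z) :
    F.mat g⁻¹ = ((mkL (F.mat g) (F.mat_inL g hg))⁻¹).1 :=
  congrArg Subtype.val (map_inv F.matL (⟨g, hg⟩ : Cen z))

/-- An element of the normaliser of `P` over a matrix. -/
theorem exists_liftN (l : LGrp) :
    ∃ g : G, g ∈ Cen z ∧ g ∈ normalizer (P : Set G) ∧ F.mat g = l.1 := by
  obtain ⟨g, hg, e⟩ := F.mat_surj l.1 l.2
  exact ⟨g, hg.1, hg.2, e⟩

variable {F} (D : VData F)
include D

/-- Two elements of the normaliser of `P` over one matrix differ by the central involution. -/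
theorem eq_or_zmul {g h : G} (hg : g ∈ Cen z) (hgn : g ∈ normalizer (P : Set G)) (hh : h ∈ Cen z)
    (hhn : h ∈ normalizer (P : Set G)) (e : F.mat g = F.mat h) : g = h ∨ g = h * z := by
  obtain ⟨b, hb⟩ := norm_cases D (mul_mem (inv_mem hh) hg) (mul_mem (inv_mem hhn) hgn) (by
    rw [F.mat_mul _ (inv_mem hh) _ hg, e, ← F.mat_mul _ (inv_mem hh) _ hh, inv_mul_cancel,
      F.mat_one])
  rw [inv_mul_eq_iff_eq_mul] at hb
  cases b
  · left; simpa [zp] using hb
  · right; simpa [zp] using hb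

theorem sq_eq_of_mat {g h : G} (hg : g ∈ Cen z) (hgn : g ∈ normalizer (P : Set G)) (hh : h ∈ Cen z)
    (hhn : h ∈ normalizer (P : Set G)) (e : F.mat g = F.mat h) : g * g = h * h := by
  rcases eq_or_zmul D hg hgn hh hhn e with rfl | rfl
  · rfl
  · rw [mul_assoc, ← mul_assoc z, ← F.z_comm hh, mul_assoc h z, F.z_mul_z, mul_one]

open Classical in
/-- The chosen lifts of the identity and of the three roots; the last is of the class of the
central involution when possible. -/
noncomputable def xr (c : ℕ) : G :=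
  if c = 1 then vC D 1 else if c = 2 then vC D 1 * F.sl
  else if c = 3 then (if IsConj z F.sl then F.sl else F.sl * z) else 1

theorem xr_zero : xr D 0 = 1 := by simp [xr]

theorem vC_one_cen : vC D 1 ∈ Cen z ∧ vC D 1 ∈ normalizer (P : Set G) ∧
    F.mat (vC D 1) = root1 ∧ vC D 1 * vC D 1 = 1 := by
  obtain ⟨v1, v2, -⟩ := vC_spec D (show 1 < 16 by norm_num)
  exact ⟨(V0_le_CP D v1).1, centralizer_le_normalizer _ (V0_le_CP D v1).2, by rw [v2, kr_ok.1],
    V_sq D v1.1⟩

variable (hf : Fused D)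
include hf

theorem sl_comm_vC : F.sl * vC D 1 * (F.sl)⁻¹ = vC D 1 := by
  obtain ⟨-, -, -, s4⟩ := sl_spec D
  have h := (vE_act D s4 (show (128 : ℕ) < 2048 by norm_num)).2
  rw [sl_act D (exists_cover D hf).1 (by norm_num), kr_ok.2.2.2.1] at h
  have e : vE D 128 = vC D 1 := by
    rw [← kr_ok.2.2.1, vE_vC D (by norm_num)]
    simp [zp]
  rw [e] at h
  exact h.symm

theorem xr_spec {c : ℕ} (hc : c < 4) : xr D c ∈ Cen z ∧ xr D c ∈ normalizer (P : Set G) ∧
    F.mat (xr D c) = kr c ∧ xr D c * xr D c = 1 := by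
  obtain ⟨s1, s2, s3, -⟩ := sl_spec D
  obtain ⟨-, hs, -, -⟩ := levi_relations D hf
  obtain ⟨v1, v2, v3, v4⟩ := vC_one_cen D
  have zn : z ∈ normalizer (P : Set G) := centralizer_le_normalizer _ F.z_mem_centP
  interval_cases c
  · simp only [xr_zero]
    exact ⟨one_mem _, one_mem _, F.mat_one, one_mul 1⟩
  · exact ⟨v1, v2, v3, v4⟩
  · refine ⟨mul_mem v1 s1, mul_mem v2 s2, ?_, ?_⟩
    · show F.mat (vC D 1 * F.sl) = _
      rw [F.mat_mul _ v1 _ s1, v3, s3]
      rfl
    · show vC D 1 * F.sl * (vC D 1 * F.sl) = 1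
      have := mul_inv_eq_iff_eq_mul.1 (sl_comm_vC D hf)
      rw [mul_assoc, ← mul_assoc F.sl, this, mul_assoc (vC D 1) F.sl, hs, mul_one, v4]
  · classical
    simp only [show xr D 3 = if IsConj z F.sl then F.sl else F.sl * z from rfl]
    split
    · exact ⟨s1, s2, s3, hs⟩
    · refine ⟨mul_mem s1 F.z_mem_cen, mul_mem s2 zn, ?_, ?_⟩
      · rw [F.mat_mul _ s1 _ F.z_mem_cen, F.mat_z, s3]
        decide +kernel
      · rw [mul_assoc, ← mul_assoc z, ← F.z_comm s1, mul_assoc F.sl z, F.z_mul_z, mul_one, hs]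

/-- A lift of a conjugate of a root is an involution. -/
theorem sq_of_conj {c : ℕ} (hc : c < 4) (l r : LGrp) (hr : r.1 = kr c) {g : G} (hg : g ∈ Cen z)
    (hgn : g ∈ normalizer (P : Set G)) (e : F.mat g = (l * r * l⁻¹).1) : g * g = 1 := by
  obtain ⟨w, w1, w2, w3⟩ := F.exists_liftN l
  obtain ⟨x1, x2, x3, x4⟩ := xr_spec D hf hc
  have e' : F.mat (w * xr D c * w⁻¹) = (l * r * l⁻¹).1 := by
    rw [F.mat_mul _ (mul_mem w1 x1) _ (inv_mem w1), F.mat_mul _ w1 _ x1, F.mat_inv w1]
    have el : mkL (F.mat w) (F.mat_inL w w1) = l := LGrp.ext w3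
    rw [el, LGrp.val_mul, LGrp.val_mul, hr, x3, w3]
  rw [sq_eq_of_mat D hg hgn (mul_mem (mul_mem w1 x1) (inv_mem w1))
      (mul_mem (mul_mem w2 x2) (inv_mem w2)) (e.trans e'.symm),
    show w * xr D c * w⁻¹ * (w * xr D c * w⁻¹) = w * (xr D c * xr D c) * w⁻¹ by group, x4]
  group

omit hf

/-- The centraliser of the central involution has order `2 ^ 13 * 2661120`. -/
theorem card_Cen : Nat.card ↥(Cen z) = 21799895040 := by
  choose y y1 y2 y3 using fun l : LGrp => F.exists_liftN l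
  let f : Fin 8192 × LGrp → Cen z := fun q =>
    ⟨F.dec (q.1 : ℕ) * y q.2, mul_mem (F.dec_mem_cen _) (y1 _)⟩
  have hinj : Function.Injective f := by
    rintro ⟨a, l⟩ ⟨b, m⟩ h
    have h' : F.dec (a : ℕ) * y l = F.dec (b : ℕ) * y m := congrArg Subtype.val h
    have hm := congrArg F.mat h'
    rw [F.mat_mul _ (F.dec_mem_cen _) _ (y1 _), F.mat_mul _ (F.dec_mem_cen _) _ (y1 _), F.mat_dec,
      F.mat_dec, y3, y3, l.2.idM_mm, m.2.idM_mm] at hm
    obtain rfl : l = m := LGrp.ext hm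
    exact Prod.ext (Fin.ext (F.dec_inj a.2 b.2 (mul_right_cancel h'))) rfl
  have hsurj : Function.Surjective f := by
    rintro ⟨g, hg⟩
    set l : LGrp := mkL (F.mat g) (F.mat_inL g hg)
    have hr : g * (y l)⁻¹ ∈ Rad z := (F.mat_eq_id _ (mul_mem hg (inv_mem (y1 l)))).1 (by
      rw [F.mat_mul _ hg _ (inv_mem (y1 l)), show F.mat g = F.mat (y l) from (y3 l).symm,
        ← F.mat_mul _ (y1 l) _ (inv_mem (y1 l)), mul_inv_cancel, F.mat_one])
    obtain ⟨a, ha, e⟩ := F.exists_dec hr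
    exact ⟨(⟨a, ha⟩, l), Subtype.ext (by show F.dec a * y l = g; rw [e]; group)⟩
  rw [← Nat.card_eq_of_bijective f ⟨hinj, hsurj⟩, Nat.card_prod, Nat.card_fin, card_LGrp]

end Frame

end CfsgLib.J4Type
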