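import Cfsg.Agent.Lib.J4Type.Order.HRel

/-!
A sum over the involutions of the centraliser of the central involution of a function invariant
under conjugation there is a sum over four cosets of the radical.
-/

set_option autoImplicit false
set_option linter.unusedSectionVars false
set_option maxRecDepth 100000

namespace CfsgLib.J4Type.Order

/-- The number of conjugates of a root. -/
def clsNum (c : ℕ) : ℕ := [1, 1155, 4158, 990].getD c 0

theorem clsNum_ok : (((List.range 4).all fun c =>
    Nat.beq ((List.range 6304).filter fun i => Nat.beq (clsOf i) c).length (clsNum c)) = true) := by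
  decide +kernel

theorem card_clsOf {c : ℕ} (hc : c < 4) :
    ((Finset.range 6304).filter fun i => clsOf i = c).card = clsNum c := by
  have h := Nat.eq_of_beq_eq_true (List.all_eq_true.1 clsNum_ok c (List.mem_range.2 hc))
  rw [← h, Finset.card_def, Finset.filter_val, Finset.range_val, Multiset.range,
    Multiset.filter_coe, Multiset.coe_card]
  congr 1
  refine List.filter_congr fun i _ => ?_
  rw [CfsgLib.J4Type.nat_beq_eq]

end CfsgLib.J4Type.Order

namespace CfsgLib.J4Type

open Cfsg Subgroup NV CfsgLib.J4Type.Order Cert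

variable {G : Type*} [Group G] [Finite G] {z : G} {P : Subgroup G}

namespace Frame

variable {F : Frame z P} (D : VData F) (hf : Fused D)
include D hf

/-- A lift of a list entry, conjugate to the lift of its root. -/
theorem exists_yI (i : ℕ) : ∃ g : G, g ∈ Cen z ∧ g ∈ normalizer (P : Set G) ∧
    F.mat (g * xr D (clsOf i) * g⁻¹) = if i < 6303 then invM i else idM := by
  by_cases hi : i < 6303
  · rw [if_pos hi]
    obtain ⟨l, r, hr, e⟩ := invM_conj_kr hi
    obtain ⟨g, g1, g2, g3⟩ := F.exists_liftN l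
    obtain ⟨x1, x2, x3, x4⟩ := xr_spec D hf (clsOf_lt i)
    refine ⟨g, g1, g2, ?_⟩
    rw [e, F.mat_mul _ (mul_mem g1 x1) _ (inv_mem g1), F.mat_mul _ g1 _ x1, F.mat_inv g1,
      show mkL (F.mat g) (F.mat_inL g g1) = l from LGrp.ext g3, LGrp.val_mul, LGrp.val_mul, hr, x3,
      g3]
  · refine ⟨1, one_mem _, one_mem _, ?_⟩
    rw [if_neg hi, show clsOf i = 0 by
      rw [clsOf, blt_eq, blt_eq, blt_eq, decide_eq_false hi, decide_eq_false (by omega),
        decide_eq_false (by omega)]
      rfl, xr_zero]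
    simp [F.mat_one]

/-- The lift of a list entry; the last one is the identity. -/
noncomputable def yI (i : ℕ) : G :=
  (exists_yI D hf i).choose * xr D (clsOf i) * ((exists_yI D hf i).choose)⁻¹

theorem yI_spec (i : ℕ) : yI D hf i ∈ Cen z ∧
    F.mat (yI D hf i) = if i < 6303 then invM i else idM := by
  obtain ⟨g1, -, g3⟩ := (exists_yI D hf i).choose_spec
  exact ⟨mul_mem (mul_mem g1 (xr_spec D hf (clsOf_lt i)).1) (inv_mem g1), g3⟩

theorem yI_inj {i j : ℕ} (hi : i < 6304) (hj : j < 6304) (e : F.mat (yI D hf i) = F.mat (yI D hf j)) :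
    i = j := by
  rw [(yI_spec D hf i).2, (yI_spec D hf j).2] at e
  by_cases a : i < 6303 <;> by_cases b : j < 6303
  · rw [if_pos a, if_pos b] at e
    exact invM_inj a b e
  · rw [if_pos a, if_neg b] at e
    exact absurd e (invM_ne a)
  · rw [if_neg a, if_pos b] at e
    exact absurd e.symm (invM_ne b)
  · omega

theorem invol_cover {u : G} (hu : u ∈ Cen z) (h2 : u * u = 1) :
    ∃ i < 6304, ∃ a < 8192, u = F.dec a * yI D hf i := by
  have hm : mm (F.mat u) (F.mat u) = idM := by rw [← F.mat_mul _ hu _ hu, h2, F.mat_one]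
  by_cases he : F.mat u = idM
  · obtain ⟨a, ha, e⟩ := exists_code D hu (yI_spec D hf 6303).1 (by
      rw [he, (yI_spec D hf 6303).2, if_neg (lt_irrefl _)])
    exact ⟨6303, by norm_num, a, ha, e⟩
  · obtain ⟨i, hi, e⟩ := inv_complete (F.mat_inL u hu) hm he
    obtain ⟨a, ha, e'⟩ := exists_code D hu (yI_spec D hf i).1 (by
      rw [(yI_spec D hf i).2, if_pos hi, e])
    exact ⟨i, by omega, a, ha, e'⟩

omit hf

theorem radSum_conj {g : G} (hg : g ∈ Cen z) (hgn : g ∈ normalizer (P : Set G)) (f : G → ℕ) :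
    ∑ a ∈ Finset.range 8192, f (g * F.dec a * g⁻¹) = ∑ a ∈ Finset.range 8192, f (F.dec a) := by
  have hgi := inv_mem hg
  have hgni := inv_mem hgn
  refine Finset.sum_nbij' (fun a => eact (F.mat g) (linB (F.mat g)) a)
    (fun a => eact (F.mat g⁻¹) (linB (F.mat g⁻¹)) a) ?_ ?_ ?_ ?_ ?_
  · exact fun a _ => Finset.mem_range.2 (F.eact_lt hg _ a)
  · exact fun a _ => Finset.mem_range.2 (F.eact_lt hgi _ a)
  · intro a ha
    refine F.dec_inj (F.eact_lt hgi _ _) (Finset.mem_range.1 ha) ?_
    rw [← F.conj_dec hgi hgni, ← F.conj_dec hg hgn]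
    group
  · intro a ha
    refine F.dec_inj (F.eact_lt hg _ _) (Finset.mem_range.1 ha) ?_
    rw [← F.conj_dec hg hgn, ← F.conj_dec hgi hgni]
    group
  · exact fun a _ => congrArg f (F.conj_dec hg hgn a)

include hf

open Classical in
/-- The splitting of a sum. -/
theorem sum_H [Fintype G] (h : G → ℕ) (hinv : ∀ g ∈ Cen z, ∀ u, h (g * u * g⁻¹) = h u)
    (hsupp : ∀ u, h u ≠ 0 → u ∈ Cen z ∧ u * u = 1) :
    ∑ u, h u = ∑ c ∈ Finset.range 4,
      clsNum c * ∑ a ∈ Finset.range 8192, h (F.dec a * xr D c) := by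
  let S := Finset.range 6304 ×ˢ Finset.range 8192
  have hinj : Set.InjOn (fun q : ℕ × ℕ => F.dec q.2 * yI D hf q.1) S := by
    rintro ⟨i, a⟩ hq ⟨j, b⟩ hq' e
    simp only [S, Finset.coe_product, Set.mem_prod, Finset.coe_range, Set.mem_Iio] at hq hq'
    have e' : F.dec a * yI D hf i = F.dec b * yI D hf j := e
    have hm := congrArg F.mat e'
    rw [mat_coset D (yI_spec D hf i).1, mat_coset D (yI_spec D hf j).1] at hm
    obtain rfl := yI_inj D hf hq.1 hq'.1 hm
    rw [dec_coset_inj D hq.2 hq'.2 e']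
  have hS : ∑ u, h u = ∑ q ∈ S, h (F.dec q.2 * yI D hf q.1) := by
    rw [← Finset.sum_image (f := h) hinj]
    refine (Finset.sum_subset (Finset.subset_univ _) fun u _ hu => ?_).symm
    by_contra hne
    obtain ⟨h1, h2⟩ := hsupp u hne
    obtain ⟨i, hi, a, ha, e⟩ := invol_cover D hf h1 h2
    exact hu (Finset.mem_image.2 ⟨(i, a), Finset.mem_product.2
      ⟨Finset.mem_range.2 hi, Finset.mem_range.2 ha⟩, e.symm⟩)
  rw [hS, Finset.sum_product, ← Finset.sum_fiberwise_of_maps_to (g := clsOf) (t := Finset.range 4)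
    (fun i _ => Finset.mem_range.2 (clsOf_lt i))]
  refine Finset.sum_congr rfl fun c hc => ?_
  rw [← card_clsOf (Finset.mem_range.1 hc), ← smul_eq_mul, ← Finset.sum_const]
  refine Finset.sum_congr rfl fun i hi => ?_
  obtain ⟨-, rfl⟩ := Finset.mem_filter.1 hi
  obtain ⟨g1, g2, -⟩ := (exists_yI D hf i).choose_spec
  set g := (exists_yI D hf i).choose with hg
  have e : ∀ a, h (F.dec a * yI D hf i) = h (g⁻¹ * F.dec a * g⁻¹⁻¹ * xr D (clsOf i)) := fun a => by
    rw [← hinv g⁻¹ (inv_mem g1) (F.dec a * yI D hf i)]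
    congr 1
    rw [yI, ← hg]
    group
  simp only [e]
  exact radSum_conj D (inv_mem g1) (inv_mem g2) fun x => h (x * xr D (clsOf i))

end Frame

end CfsgLib.J4Type
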