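import Cfsg.Agent.Lib.J4Type.Order.CosChecks
import Cfsg.Agent.Lib.J4Type.Order.HSum

/-!
The classes of the involutions in the cosets of the radical at the three roots.
-/

set_option autoImplicit false
set_option linter.unusedSectionVars false
set_option maxRecDepth 100000

namespace CfsgLib.J4Type.Order

open CfsgLib.J4Type CfsgLib.J4Type.NV

theorem emul_eMk {v : ℕ} (hv : v < 4096) {m : List ℕ} {l : Bool} (hm : mv m v < 4096) (s : Bool) :
    emul (eMk v s) (eact m l (eMk v s)) = emul (eMk v false) (eact m l (eMk v false)) := by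
  simp only [emul, eact, eV_eMk hv, eS_eMk hv, eV_eMk hm, eS_eMk hm]
  cases s <;> cases (bif l then false else gam v) <;> cases beta v (mv m v) <;> rfl

theorem emul_zero_fix {m : List ℕ} {l : Bool} {a : ℕ} (hm : mv m (eV a) < 4096)
    (h : emul a (eact m l a) = 0) : mv m (eV a) = eV a := by
  have h' := congrArg eV h
  rw [emul, eV_eMk (Nat.xor_lt_two_pow (n := 12) (eV_lt a) (eV_lt _)), eact, eV_eMk hm,
    show eV 0 = 0 from rfl] at h'
  exact (Nat.xor_eq_zero_iff.1 h').symm

theorem segM_spec {c : ℕ} {q : ℕ × ℕ} (hc : c < 4) (hq : q ∈ segTab.getD c []) :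
    q.2 = ((List.range (cosLst c).length).filter fun p => Nat.beq (rootPos c p) q.1).foldl
      (fun m p => m ||| 2 ^ (cosItem c p).1) 0 :=
  Nat.eq_of_beq_eq_true
    (List.all_eq_true.1 (List.all_eq_true.1 segM_ok c (List.mem_range.2 hc)) q hq)

theorem segM_mem {c r a : ℕ} (hc : c < 4) (h : (segM c r).testBit a = true) :
    ∃ p < (cosLst c).length, rootPos c p = r ∧ (cosItem c p).1 = a := by
  unfold segM at h
  cases hf : (segTab.getD c []).find? fun q => Nat.beq q.1 r with
  | none => rw [hf] at h; simp at h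
  | some q =>
    rw [hf, Option.getD_some] at h
    have hq := List.mem_of_find?_eq_some hf
    have he := Nat.eq_of_beq_eq_true
      (List.find?_some (p := fun q : ℕ × ℕ => Nat.beq q.1 r) hf)
    rw [segM_spec hc hq] at h
    rcases Cert.testBit_foldl (fun p => (cosItem c p).1) _ _ a h with h0 | ⟨p, hp, e⟩
    · simp at h0
    · obtain ⟨hp1, hp2⟩ := List.mem_filter.1 hp
      exact ⟨p, List.mem_range.1 hp1, by rw [← he]; exact Nat.eq_of_beq_eq_true hp2, e⟩

theorem cos_cover_spec {c a : ℕ} (hc : c ∈ ([1, 2, 3] : List ℕ)) (ha : a < 8192)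
    (hm : mv (kr c) (eV a) < 4096) (h : emul a (eact (kr c) (linB (kr c)) a) = 0) :
    ∃ q ∈ segs true true true true c, (segM c q.1).testBit a = true := by
  have hv := eV_lt a
  have hf := emul_zero_fix hm h
  have hz : emul (eMk (eV a) false) (eact (kr c) (linB (kr c)) (eMk (eV a) false)) = 0 := by
    rw [← emul_eMk hv hm (eS a), eMk_parts ha]
    exact h
  have hk := List.all_eq_true.1 (List.all_eq_true.1 cos_cover c hc) (eV a) (List.mem_range.2 hv)
  rw [show eMk (eV a) false = eV a from rfl] at hz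
  rw [hf, Nat.beq_refl, hz, Nat.beq_refl] at hk
  simp only [Bool.not_true, Bool.false_or, Bool.and_eq_true, List.any_eq_true] at hk
  cases hs : eS a
  · have e := eMk_parts ha
    rw [hs] at e
    rw [show eV a = a from e] at hk
    exact hk.1
  · have e := eMk_parts ha
    rw [hs] at e
    rw [show eV a + 4096 = a from e] at hk
    exact hk.2

end CfsgLib.J4Type.Order

namespace CfsgLib.J4Type

open Cfsg Subgroup NV CfsgLib.J4Type.Order Cert

variable {G : Type*} [Group G] [Finite G] {z : G} {P : Subgroup G}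

namespace Frame

theorem not_isT_z (F : Frame z P) {u : G} (h : IsConj z u) : ¬ F.isT u := fun h' => h'.2.2 h

variable {F : Frame z P} (D : VData F) (hf : Fused D)
include D hf

theorem cos_rel {c : ℕ} (hc : c ∈ ([1, 2, 3] : List ℕ)) : ∀ p < (cosLst c).length,
    (cosItem c p).1 < 8192 ∧ ∃ g ∈ Cen z,
      g * (F.dec (cosItem c (rootPos c p)).1 * xr D c) * g⁻¹ = F.dec (cosItem c p).1 * xr D c := by
  have hc4 : c < 4 := by fin_cases hc <;> norm_num
  obtain ⟨x1, x2, x3, x4⟩ := xr_spec D hf hc4
  have hok := List.all_eq_true.1 (List.all_eq_true.1 cosOK_all c hc)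
  intro p
  induction p using Nat.strong_induction_on with
  | _ p ih =>
    intro hp
    have h := hok p (List.mem_range.2 hp)
    simp only [Bool.and_eq_true, Bool.or_eq_true] at h
    obtain ⟨h1, ⟨-, h2⟩ | ⟨⟨⟨h2, h3⟩, h4⟩, h5⟩⟩ := h
    · refine ⟨Cert.blt_lt h1, 1, one_mem _, ?_⟩
      rw [Nat.eq_of_beq_eq_true h2]
      group
    refine ⟨Cert.blt_lt h1, ?_⟩
    obtain ⟨-, w, w1, w2⟩ := ih _ (Cert.blt_lt h2) ((Cert.blt_lt h2).trans hp)
    rw [Nat.eq_of_beq_eq_true h3] at w2
    have e5 := Nat.eq_of_beq_eq_true h5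
    by_cases hg : Nat.blt (cosItem c p).2.2 12 = true
    · refine ⟨F.dec (2 ^ (cosItem c p).2.2) * w, mul_mem (F.dec_mem_cen _) w1, ?_⟩
      rw [cosMv, hg, cond_true] at e5
      rw [← e5, ← x3, ← dec_shift D x1 x2, ← w2]
      group
    · rcases h4 with h4 | ⟨h4, h4'⟩
      · exact absurd h4 hg
      rw [cosMv, Bool.eq_false_iff.2 hg, cond_false] at e5
      set m := cosMat c (cosItem c p).2.2
      have hi := Cert.blt_lt h4
      obtain ⟨t, t1, t2, t3⟩ := F.exists_liftN (mkL m (invM_inL hi))
      have t3' : F.mat t = m := t3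
      have hcm : t * xr D c = xr D c * t :=
        lift_comm D hf t1 t2 x1 x2 (by rw [t3']; exact invM_sq hi) (by rw [x3]; exact kr_sq hc4)
          (by rw [t3', x3]; exact eq_of_beq h4')
      refine ⟨t * w, mul_mem t1 w1, ?_⟩
      rw [← e5, ← t3', ← dec_act D t1 t2 hcm, ← w2]
      group

/-- The type of a member of an orbit is the type of its first member. -/
theorem cos_type {c p : ℕ} (hc : c ∈ ([1, 2, 3] : List ℕ)) (hp : p < (cosLst c).length) :
    F.isT (F.dec (cosItem c p).1 * xr D c) ↔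
      F.isT (F.dec (cosItem c (rootPos c p)).1 * xr D c) := by
  obtain ⟨-, g, -, e⟩ := cos_rel D hf hc p hp
  rw [← e, F.isT_conj]

theorem isT_plane_vC {w : ℕ} (hw : w < 64) :
    F.isT (F.dec w * xr D 1) ↔ NV.inB (pack w false 1) = true := by
  classical
  have hn : pack w false 1 < 2048 := by
    unfold pack
    have : w ^^^ (0 ^^^ 1 * 128) < 2 ^ 8 :=
      Nat.xor_lt_two_pow (lt_trans hw (by norm_num)) (by norm_num)
    simpa using lt_trans this (by norm_num)
  have e : F.dec w * xr D 1 = vE D (pack w false 1) := by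
    rw [vE_pack D hw (by norm_num), show w = eMk w false from rfl, F.dec_eMk (by omega)]
    rfl
  rw [e]
  constructor
  · intro h
    exact inB_of_pairV D hf ⟨vE_mem D hn, h.2.1, h.2.2⟩ |> fun h' => by
      rwa [coV_vE D hn] at h'
  · intro h
    obtain ⟨h1, h2, h3⟩ := pairV_of_inB D hf hn h
    exact ⟨V_sq D h1, h2, h3⟩

/-- The involutions outside the class of the central involution in the radical. -/
theorem isT_dec {a : ℕ} (ha : a < 8192) : F.isT (F.dec a) ↔ oneMask.testBit (eV a) = true := by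
  classical
  have hv := eV_lt a
  have mask0 : oneMask.testBit 0 = false ∧ (oneMask &&& fiveMask) = 0 := by decide +kernel
  have five : IsConj z (F.dec 5) ∧ IsConj z (F.dec 4101) := by
    obtain ⟨-, -, -, hB, hp, hsh⟩ := root_inB
    have e : F.dec 5 = vE D 5 := by
      rw [← hp, vE_eE D (by norm_num), hp, show (5 : ℕ) = eMk 5 false from rfl,
        F.dec_eMk (by norm_num)]
      rfl
    have h5 : IsConj z (F.dec 5) := by
      have := (exists_cover D hf).2 5 (by norm_num) (by norm_num)
      rw [hB, isZ] at this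
      rw [e]
      exact of_decide_eq_true this
    refine ⟨h5, h5.trans (isConj_iff.2 ⟨F.dec 128, ?_⟩)⟩
    have := dec_shift D (one_mem (Cen z)) (one_mem (normalizer (P : Set G))) 128 5
    rw [F.mat_one, hsh, mul_one, mul_one] at this
    exact this
  have hsq : F.dec a * F.dec a = if qF (eV a) then z else 1 := by
    rw [F.sq _ (F.dec_mem a), F.co_dec]
  have move : ∀ {m : List ℕ} {v : ℕ}, InX m → v < 4096 → mv m v = eV a →
      ∃ g : G, ∃ b < 8192, eV b = v ∧ g * F.dec b * g⁻¹ = F.dec a := by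
    intro m v hm hv' e
    obtain ⟨g, g1, g2, g3⟩ := F.exists_liftN (mkL m hm.inL)
    have g3' : F.mat g = m := g3
    have hx : g⁻¹ * F.dec a * g ∈ Rad z := by
      simpa using F.rad_conj (inv_mem g1) (F.dec_mem a)
    obtain ⟨b, hb, e'⟩ := F.exists_dec hx
    refine ⟨g, b, hb, hm.inL.mv_inj (eV_lt b) hv' ?_, by rw [e']; group⟩
    rw [e, ← F.co_dec, ← g3', ← F.conj_co g1 (F.dec_mem b), e', ← F.co_dec a]
    congr 1
    group
  constructor
  · rintro ⟨h1, h2, h3⟩
    rw [hsq] at h1
    have hq : qF (eV a) = false := by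
      cases hq : qF (eV a)
      · rfl
      · rw [hq] at h1; exact absurd h1 F.z_ne
    have h0 : eV a ≠ 0 := fun h0 => by
      have hc := F.co_dec a
      rw [h0] at hc
      rcases (F.co_eq_zero _ (F.dec_mem a)).1 hc with e | e
      · exact h2 e
      · exact h3 (by rw [e])
    by_contra hone
    have := List.all_eq_true.1 sing_ok (eV a) (List.mem_range.2 hv)
    simp only [Bool.or_eq_true, hq, hone, Bool.false_eq_true, or_false] at this
    rcases this with h | h
    · exact h0 (Nat.eq_of_beq_eq_true h)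
    · obtain ⟨i, hi, e⟩ := fiveMask_iff h
      obtain ⟨m, hm, e'⟩ := orbOK.reach fiveOrb_ok (by norm_num) i hi
      obtain ⟨g, b, hb, hbv, eg⟩ := move hm (by norm_num) (e'.trans e)
      have hb' : b = 5 ∨ b = 4101 := by unfold eV at hbv; omega
      have hz : IsConj z (F.dec b) := by
        rcases hb' with rfl | rfl
        exacts [five.1, five.2]
      exact h3 (hz.trans (isConj_iff.2 ⟨g, eg⟩))
  · intro h
    obtain ⟨i, hi, e⟩ := oneMask_iff h
    obtain ⟨m, hm, e'⟩ := orbOK.reach oneOrb_ok (by norm_num) i hi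
    obtain ⟨g, b, hb, hbv, eg⟩ := move hm (by norm_num) (e'.trans e)
    rw [← eg, F.isT_conj]
    have hq : qF (eV b) = false := by rw [hbv]; decide +kernel
    refine ⟨?_, ?_, hf.not_oval _ (F.dec_mem b) (by rw [F.co_dec, hbv])⟩
    · rw [F.sq _ (F.dec_mem b), F.co_dec, hq]; rfl
    · intro h1
      have := F.co_dec b
      rw [h1, F.co_one, hbv] at this
      exact absurd this (by norm_num)

open Classical in
/-- The unknown types of the four orbits. -/
theorem isT_coset_gen {c a : ℕ} (hc : c < 4) (ha : a < 8192) :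
    F.isT (F.dec a * xr D c) ↔ inT (decide (F.isT (F.dec 64 * xr D 1)))
      (decide (F.isT (F.dec 0 * xr D 2))) (decide (F.isT (F.dec 0 * xr D 3)))
      (decide (F.isT (F.dec 4096 * xr D 3))) c a = true := by
  classical
  by_cases h0 : c = 0
  · subst h0
    rw [xr_zero, mul_one, isT_dec D hf ha]
    rfl
  have hc' : c ∈ ([1, 2, 3] : List ℕ) := by interval_cases c <;> simp_all
  obtain ⟨r0, r16, r112, r128, s0, t0, t64⟩ := cos_roots
  obtain ⟨i0, i1, i4, -⟩ := root_inB
  obtain ⟨x1, x2, x3, x4⟩ := xr_spec D hf hc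
  -- the type at each first member
  have hr : ∀ q ∈ segs (decide (F.isT (F.dec 64 * xr D 1))) (decide (F.isT (F.dec 0 * xr D 2)))
      (decide (F.isT (F.dec 0 * xr D 3))) (decide (F.isT (F.dec 4096 * xr D 3))) c,
      (F.isT (F.dec (cosItem c q.1).1 * xr D c) ↔ q.2 = true) := by
    intro q hq
    interval_cases c <;> simp only [segs, List.getD_cons_zero, List.getD_cons_succ, List.mem_cons,
      List.not_mem_nil, or_false] at hq
    · rcases hq with rfl | rfl | rfl | rfl
      · rw [r0, isT_plane_vC D hf (by norm_num), i0]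
      · rw [r16, isT_plane_vC D hf (by norm_num), i1]
      · rw [r112, isT_plane_vC D hf (by norm_num), i4]
      · rw [r128]; simp
    · subst hq; rw [s0]; simp
    · rcases hq with rfl | rfl
      · rw [t0]; simp
      · rw [t64]; simp
  rw [inT, show Nat.beq c 0 = false by rw [nat_beq_eq, decide_eq_false h0], cond_false,
    List.any_eq_true]
  constructor
  · intro h
    have hinv : emul a (eact (kr c) (linB (kr c)) a) = 0 := by
      rw [← x3]; exact (coset_sq D x1 x2 x4 a).1 h.1
    obtain ⟨q, hq, hqa⟩ := cos_cover_spec hc' ha (x3 ▸ F.mv_mat_lt x1 (eV_lt a)) hinv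
    obtain ⟨p, hp, hpr, hpa⟩ := segM_mem hc hqa
    have hT := (cos_type D hf hc' hp).1 (hpa.symm ▸ h)
    rw [hpr] at hT
    obtain ⟨q', hq', e⟩ : ∃ q' ∈ segs (decide (F.isT (F.dec 64 * xr D 1)))
        (decide (F.isT (F.dec 0 * xr D 2))) (decide (F.isT (F.dec 0 * xr D 3)))
        (decide (F.isT (F.dec 4096 * xr D 3))) c, q'.1 = q.1 := by
      interval_cases c <;> simp [segs] at hq ⊢ <;> first
        | (rcases hq with rfl | rfl | rfl | rfl <;> simp)
        | (rcases hq with rfl | rfl <;> simp)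
        | (subst hq; simp)
    refine ⟨q', hq', ?_⟩
    rw [Bool.and_eq_true, (hr q' hq').1 (e ▸ hT), e]
    exact ⟨rfl, hqa⟩
  · rintro ⟨q, hq, h⟩
    rw [Bool.and_eq_true] at h
    obtain ⟨p, hp, hpr, hpa⟩ := segM_mem hc h.2
    rw [← hpa, cos_type D hf hc' hp, hpr]
    exact (hr q hq).2 h.1

end Frame

end CfsgLib.J4Type
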