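import Cfsg.Agent.Lib.J4Type.Order.Code

/-!
The orbits of the stabiliser of representative 0 on the 6303 involutions.
-/

set_option autoImplicit false
set_option maxRecDepth 100000

namespace CfsgLib.J4Type.Order

open CfsgLib.Fusion.TableSylow (Tree Dict)

/-- Entries `i + 8192 * (0 or 1 + 16 * parent position + generator)`. -/
def orbTree0 : Tree :=
(.node (.node (.node (.node (.node (.node (.node (.node (.node (.node (.node (.node (.node (.leaf 0)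
(.leaf 0x1a746d27))
(.node (.leaf 0xfdaa7c0)
(.leaf 0x2e8c57aa)))
(.node (.node (.leaf 0x74ea20f)
(.leaf 0x25844f1b))
(.node (.leaf 0x14e6a8d7)
(.leaf 0))))
(.node (.node (.node (.leaf 0x292a260)
(.leaf 0x22aac618))
(.node (.leaf 0x134631cd)
(.leaf 0)))
(.node (.node (.leaf 0xadeb211)
(.leaf 0x2bb6756b))
(.node (.leaf 0x16fcac12)
(.leaf 0)))))
(.node (.node (.node (.node (.leaf 0x1106392)
(.leaf 0x20dc49c4))
(.node (.leaf 0x11f28d60)
(.leaf 0)))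
(.node (.node (.leaf 0x9a8ae90)
(.leaf 0x29bed628))
(.node (.leaf 0x15f0abe8)
(.leaf 0))))
(.node (.node (.node (.leaf 0x4fcc0fa)
(.leaf 0x23bc68df))
(.node (.leaf 0x14068e2d)
(.leaf 0)))
(.node (.node (.leaf 0xd80a8a7)
(.leaf 0x2d045878))
(.node (.leaf 0x18686c63)
(.leaf 0))))))
(.node (.node (.node (.node (.node (.leaf 0xb06445)
(.leaf 0x1c2ad0a7))
(.node (.leaf 0x1078262b)
(.leaf 0x30f2b68f)))
(.node (.node (.leaf 0x8de23ed)
(.leaf 0x270484ff))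
(.node (.leaf 0x157eb13b)
(.leaf 0))))
(.node (.node (.node (.leaf 0x486a136)
(.leaf 0x2312c8e4))
(.node (.leaf 0x13a09351)
(.leaf 0)))
(.node (.node (.leaf 0xc3ac50a)
(.leaf 0x2ca8b524))
(.node (.leaf 0x179c8df3)
(.leaf 0)))))
(.node (.node (.node (.node (.leaf 0x1a2a293)
(.leaf 0x224aaf2c))
(.node (.leaf 0x12fc8547)
(.leaf 0)))
(.node (.node (.leaf 0xa2272a5)
(.leaf 0x2a5eb621))
(.node (.leaf 0x16688fd1)
(.leaf 0))))
(.node (.node (.node (.leaf 0x6de62aa)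
(.leaf 0x249033fa))
(.node (.leaf 0x14668a16)
(.leaf 0)))
(.node (.node (.leaf 0xea6ad67)
(.leaf 0x2d84773a))
(.node (.leaf 0x195ed314)
(.leaf 0)))))))
(.node (.node (.node (.node (.node (.node (.leaf 0x7c2012)
(.leaf 0x1b4a702b))
(.node (.leaf 0x103a7199)
(.leaf 0x305a97b9)))
(.node (.node (.leaf 0x7ccc2d4)
(.leaf 0x2634a95a))
(.node (.leaf 0x152e6ec9)
(.leaf 0))))
(.node (.node (.node (.leaf 0x45e4421)
(.leaf 0x22de2603))
(.node (.leaf 0x137426c2)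
(.leaf 0)))
(.node (.node (.leaf 0xb70c51a)
(.leaf 0x2c6eb797))
(.node (.leaf 0x17586f9c)
(.leaf 0)))))
(.node (.node (.node (.node (.leaf 0x15081ee)
(.leaf 0x222248de))
(.node (.leaf 0x122e74aa)
(.leaf 0)))
(.node (.node (.leaf 0x9d86b04)
(.leaf 0x2a08953d))
(.node (.leaf 0x162acdfe)
(.leaf 0))))
(.node (.node (.node (.leaf 0x5522152)
(.leaf 0x241e8786))
(.node (.leaf 0x143848d4)
(.leaf 0)))
(.node (.node (.leaf 0xdd8c539)
(.leaf 0x2d3cd5eb))
(.node (.leaf 0x18e2c634)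
(.leaf 0))))))
(.node (.node (.node (.node (.node (.leaf 0xdec381)
(.leaf 0x1d0c9065))
(.node (.leaf 0x10daaef5)
(.leaf 0)))
(.node (.node (.leaf 0x97ec48c)
(.leaf 0x28d690b9))
(.node (.leaf 0x15acb473)
(.leaf 0))))
(.node (.node (.node (.leaf 0x4bea06e)
(.leaf 0x235845df))
(.node (.leaf 0x13d24cb8)
(.leaf 0)))
(.node (.node (.leaf 0xd526f7a)
(.leaf 0x2cd2b813))
(.node (.leaf 0x17fe6629)
(.leaf 0)))))
(.node (.node (.node (.node (.leaf 0x1f86399)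
(.leaf 0x227a6feb))
(.node (.leaf 0x131ed264)
(.leaf 0)))
(.node (.node (.leaf 0xa68af6c)
(.leaf 0x2b7895f4))
(.node (.leaf 0x16aa748a)
(.leaf 0))))
(.node (.node (.node (.leaf 0x70a645b)
(.leaf 0x25026e5e))
(.node (.leaf 0x14a06b99)
(.leaf 0)))
(.node (.node (.leaf 0xf4e9145)
(.leaf 0x2dccd766))
(.node (.leaf 0x19cca7e6)
(.leaf 0))))))))
(.node (.node (.node (.node (.node (.node (.node (.leaf 0x16a0c6)
(.leaf 0x1ae2c62d))
(.node (.leaf 0x101ea776)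
(.leaf 0x2f2ad558)))
(.node (.node (.leaf 0x79480d0)
(.leaf 0x25f6cb54))
(.node (.leaf 0x150c658b)
(.leaf 0))))
(.node (.node (.node (.leaf 0x34463b6)
(.leaf 0x22c4315f))
(.node (.leaf 0x135c2b93)
(.leaf 0)))
(.node (.node (.leaf 0xb3a84f8)
(.leaf 0x2c0a950c))
(.node (.leaf 0x1724aa26)
(.leaf 0)))))
(.node (.node (.node (.node (.leaf 0x12c60fc)
(.leaf 0x2210b20f))
(.node (.leaf 0x120ac69c)
(.leaf 0)))
(.node (.node (.leaf 0x9c06ec8)
(.leaf 0x29da97e6))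
(.node (.leaf 0x1610662c)
(.leaf 0))))
(.node (.node (.node (.leaf 0x524445f)
(.leaf 0x23e4ae67))
(.node (.leaf 0x141cacb5)
(.leaf 0)))
(.node (.node (.leaf 0xda065ea)
(.leaf 0x2d2095f8))
(.node (.leaf 0x18a62ab5)
(.leaf 0))))))
(.node (.node (.node (.node (.node (.leaf 0xc463cc)
(.leaf 0x1c808ba0))
(.node (.leaf 0x10a487bb)
(.leaf 0)))
(.node (.node (.leaf 0x91aad66)
(.leaf 0x278c9022))
(.node (.leaf 0x15985478)
(.leaf 0))))
(.node (.node (.node (.leaf 0x49c8202)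
(.leaf 0x2330aaed))
(.node (.leaf 0x13baaa04)
(.leaf 0)))
(.node (.node (.leaf 0xd3e2496)
(.leaf 0x2cbcd760))
(.node (.leaf 0x17c08f79)
(.leaf 0)))))
(.node (.node (.node (.node (.leaf 0x1c4a049)
(.leaf 0x2266cb5e))
(.node (.leaf 0x130eb2ba)
(.leaf 0)))
(.node (.node (.leaf 0xa44ce87)
(.leaf 0x2aa8d4cc))
(.node (.leaf 0x16908d6d)
(.leaf 0))))
(.node (.node (.node (.leaf 0x6f08471)
(.leaf 0x24c88c78))
(.node (.leaf 0x14829273)
(.leaf 0)))
(.node (.node (.leaf 0xf2a67a0)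
(.leaf 0x2da0d70d))
(.node (.leaf 0x19908f4a)
(.leaf 0)))))))
(.node (.node (.node (.node (.node (.node (.leaf 0x9e6320)
(.leaf 0x1bc66a54))
(.node (.leaf 0x10506512)
(.leaf 0x30845774)))
(.node (.node (.leaf 0x8b8c0e2)
(.leaf 0x2678910e))
(.node (.leaf 0x1568c8f3)
(.leaf 0))))
(.node (.node (.node (.leaf 0x472c305)
(.leaf 0x22f88678))
(.node (.leaf 0x138ac6a9)
(.leaf 0)))
(.node (.node (.leaf 0xbacc667)
(.leaf 0x2c98d661))
(.node (.leaf 0x177e2aa6)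
(.leaf 0)))))
(.node (.node (.node (.node (.leaf 0x176c10b)
(.leaf 0x2238478c))
(.node (.leaf 0x128aa7d7)
(.leaf 0)))
(.node (.node (.leaf 0xa02d33b)
(.leaf 0x2a32d568))
(.node (.leaf 0x1642d292)
(.leaf 0))))
(.node (.node (.node (.leaf 0x604a2e6)
(.leaf 0x245c8fb3))
(.node (.leaf 0x144eceea)
(.leaf 0)))
(.node (.node (.leaf 0xe26c4de)
(.leaf 0x2d6276ab))
(.node (.leaf 0x19246d96)
(.leaf 0))))))
(.node (.node (.node (.node (.node (.leaf 0xf4631e)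
(.leaf 0x1e42ad3d))
(.node (.leaf 0x1144886a)
(.leaf 0)))
(.node (.node (.leaf 0x992a7d2)
(.leaf 0x29a4b5a0))
(.node (.leaf 0x15c8d105)
(.leaf 0))))
(.node (.node (.node (.leaf 0x4e0a387)
(.leaf 0x23924a9c))
(.node (.leaf 0x13ea8801)
(.leaf 0)))
(.node (.node (.leaf 0xd667319)
(.leaf 0x2ce6978c))
(.node (.leaf 0x182e4ebf)
(.leaf 0)))))
(.node (.node (.node (.node (.leaf 0x2206089)
(.leaf 0x2294490e))
(.node (.leaf 0x1332b35b)
(.leaf 0)))
(.node (.node (.leaf 0xa8a6a79)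
(.leaf 0x2b8ed600))
(.node (.leaf 0x16d47192)
(.leaf 0))))
(.node (.node (.node (.leaf 0x728637f)
(.leaf 0x2550c785))
(.node (.leaf 0x14be739e)
(.leaf 0)))
(.node (.node (.leaf 0xf7471b7)
(.leaf 0x2e2c5636))
(.node (.leaf 0x1a26ab86)
(.leaf 0)))))))))
(.node (.node (.node (.node (.node (.node (.node (.node (.leaf 688978)
(.leaf 0x1aa46e4b))
(.node (.leaf 0x10142b4b)
(.leaf 0x2eba7691)))
(.node (.node (.leaf 0x76861b2)
(.leaf 0x25ced222))
(.node (.leaf 0x14f48f37)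
(.leaf 0))))
(.node (.node (.node (.leaf 0x2baa21c)
(.leaf 0x22b68d9d))
(.node (.leaf 0x13504ed8)
(.leaf 0)))
(.node (.node (.leaf 0xb226a8e)
(.leaf 0x2bdc5713))
(.node (.leaf 0x171493fc)
(.leaf 0)))))
(.node (.node (.node (.node (.leaf 0x11ec2b1)
(.leaf 0x2208abc4))
(.node (.leaf 0x11fe8b60)
(.leaf 0)))
(.node (.node (.leaf 0x9b67404)
(.leaf 0x29ce9867))
(.node (.leaf 0x16046fea)
(.leaf 0))))
(.node (.node (.node (.leaf 0x510c1c8)
(.leaf 0x23ce8b3d))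
(.node (.leaf 0x14128e54)
(.leaf 0)))
(.node (.node (.leaf 0xd8e8914)
(.leaf 0x2d12370c))
(.node (.leaf 0x18864ae9)
(.leaf 0))))))
(.node (.node (.node (.node (.node (.leaf 0xb8a394)
(.leaf 0x1c5c92b9))
(.node (.leaf 0x10862f13)
(.leaf 0x31047696)))
(.node (.node (.leaf 0x90e4930)
(.leaf 0x2746667c))
(.node (.leaf 0x158ca682)
(.leaf 0))))
(.node (.node (.node (.leaf 0x4922059)
(.leaf 0x231e3077))
(.node (.leaf 0x13aa8b6b)
(.leaf 0)))
(.node (.node (.leaf 0xc68ccae)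
(.leaf 0x2cb27728))
(.node (.leaf 0x17ae6cbb)
(.leaf 0)))))
(.node (.node (.node (.node (.leaf 0x1b2628e)
(.leaf 0x2254d0fb))
(.node (.leaf 0x130672fc)
(.leaf 0)))
(.node (.node (.leaf 0xa3667f0)
(.leaf 0x2a80b541))
(.node (.leaf 0x16826850)
(.leaf 0))))
(.node (.node (.node (.leaf 0x6e6841f)
(.leaf 0x24a2d258))
(.node (.leaf 0x14769234)
(.leaf 0)))
(.node (.node (.leaf 0xf1ec4a0)
(.leaf 0x2d90d63a))
(.node (.leaf 0x19724649)
(.leaf 0)))))))
(.node (.node (.node (.node (.node (.node (.leaf 0x96818f)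
(.leaf 0x1b866b33))
(.node (.leaf 0x10444e12)
(.leaf 0x306876d7)))
(.node (.node (.leaf 0x80681e4)
(.leaf 0x2654b043))
(.node (.leaf 0x154c8d1b)
(.leaf 0))))
(.node (.node (.node (.leaf 0x4684166)
(.leaf 0x22ea7277))
(.node (.leaf 0x137e3262)
(.leaf 0)))
(.node (.node (.leaf 0xb88d242)
(.leaf 0x2c9055d7))
(.node (.leaf 0x176ea614)
(.leaf 0)))))
(.node (.node (.node (.node (.leaf 0x1608255)
(.leaf 0x222c6fa5))
(.node (.leaf 0x12446d64)
(.leaf 0)))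
(.node (.node (.leaf 0x9f26805)
(.leaf 0x2a1c56fb))
(.node (.leaf 0x1638a85f)
(.leaf 0))))
(.node (.node (.node (.leaf 0x5bcc386)
(.leaf 0x242a9343))
(.node (.leaf 0x1444adfa)
(.leaf 0)))
(.node (.node (.leaf 0xe0c86b8)
(.leaf 0x2d4e97f7))
(.node (.leaf 0x1906b49e)
(.leaf 0))))))
(.node (.node (.node (.node (.node (.leaf 0xe8a35a)
(.leaf 0x1db4aea7))
(.node (.leaf 0x111a8554)
(.leaf 0)))
(.node (.node (.leaf 0x9884703)
(.leaf 0x299895e5))
(.node (.leaf 0x15ba2c3d)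
(.leaf 0))))
(.node (.node (.node (.leaf 0x4cea27b)
(.leaf 0x2370707f))
(.node (.leaf 0x13de92d3)
(.leaf 0)))
(.node (.node (.leaf 0xd5ec8b4)
(.leaf 0x2cdc77cb))
(.node (.leaf 0x181068d0)
(.leaf 0)))))
(.node (.node (.node (.node (.leaf 0x20ec28a)
(.leaf 0x22882b37))
(.node (.leaf 0x132a6986)
(.leaf 0)))
(.node (.node (.leaf 0xa7c84c3)
(.leaf 0x2b8454dd))
(.node (.leaf 0x16be911a)
(.leaf 0))))
(.node (.node (.node (.leaf 0x71ca10a)
(.leaf 0x2522496d))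
(.node (.leaf 0x14ae6e7f)
(.leaf 0)))
(.node (.node (.leaf 0xf5e90f9)
(.leaf 0x2e089784))
(.node (.leaf 0x19fe30ed)
(.leaf 0))))))))
(.node (.node (.node (.node (.node (.node (.node (.leaf 0x38801d)
(.leaf 0x1b0a3023))
(.node (.leaf 0x102ca68f)
(.leaf 0x3050b788)))
(.node (.node (.leaf 0x7b821ca)
(.leaf 0x2614cc6c))
(.node (.leaf 0x151e8c81)
(.leaf 0))))
(.node (.node (.node (.leaf 0x4566243)
(.leaf 0x22d26972))
(.node (.leaf 0x13666c05)
(.leaf 0)))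
(.node (.node (.leaf 0xb58a806)
(.leaf 0x2c489538))
(.node (.leaf 0x173c26ae)
(.leaf 0)))))
(.node (.node (.node (.node (.leaf 0x13ec1f8)
(.leaf 0x221a872a))
(.node (.leaf 0x122026bd)
(.leaf 0)))
(.node (.node (.leaf 0x9ce8e22)
(.leaf 0x29eab6c6))
(.node (.leaf 0x16204ba6)
(.leaf 0))))
(.node (.node (.node (.leaf 0x53ec430)
(.leaf 0x23fea540))
(.node (.leaf 0x142a317a)
(.leaf 0)))
(.node (.node (.leaf 0xdbc4eb3)
(.leaf 0x2d2c575c))
(.node (.leaf 0x18beb0ac)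
(.leaf 0))))))
(.node (.node (.node (.node (.node (.leaf 0xd060f7)
(.leaf 0x1cca6bb7))
(.node (.leaf 0x10bc90d2)
(.leaf 0)))
(.node (.node (.leaf 0x9309089)
(.leaf 0x280ea999))
(.node (.leaf 0x15a0b423)
(.leaf 0))))
(.node (.node (.node (.leaf 0x4aa23f8)
(.leaf 0x23442ca6))
(.node (.leaf 0x13c8484b)
(.leaf 0)))
(.node (.node (.leaf 0xd48a495)
(.leaf 0x2cca76ba))
(.node (.leaf 0x17e6d22e)
(.leaf 0)))))
(.node (.node (.node (.node (.leaf 0x1e2a1e6)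
(.leaf 0x226e6609))
(.node (.leaf 0x1318c78a)
(.leaf 0)))
(.node (.node (.leaf 0xa5a8572)
(.leaf 0x2ada94f7))
(.node (.leaf 0x169eb109)
(.leaf 0))))
(.node (.node (.node (.leaf 0x6fc8277)
(.leaf 0x24e6934a))
(.node (.leaf 0x14923239)
(.leaf 0)))
(.node (.node (.leaf 0xf3ad0e6)
(.leaf 0x2db077e7))
(.node (.leaf 0x19b68cee)
(.leaf 0)))))))
(.node (.node (.node (.node (.node (.node (.leaf 0xa86057)
(.leaf 0x1bf274af))
(.node (.leaf 0x105a92f8)
(.leaf 0x30a2582a)))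
(.node (.node (.leaf 0x8c683ea)
(.leaf 0x26b0713f))
(.node (.leaf 0x1572ccce)
(.leaf 0))))
(.node (.node (.node (.leaf 0x47c63e1)
(.leaf 0x2306659f))
(.node (.leaf 0x13968d0f)
(.leaf 0)))
(.node (.node (.leaf 0xbc246cd)
(.leaf 0x2ca096bb))
(.node (.leaf 0x17886b94)
(.leaf 0)))))
(.node (.node (.node (.node (.leaf 0x1928265)
(.leaf 0x22402acb))
(.node (.leaf 0x12de24cf)
(.leaf 0)))
(.node (.node (.leaf 0xa12d1de)
(.leaf 0x2a42b6d9))
(.node (.leaf 0x16566d87)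
(.leaf 0))))
(.node (.node (.node (.leaf 0x6d6c1a9)
(.leaf 0x247a4aca))
(.node (.leaf 0x145aaba7)
(.leaf 0)))
(.node (.node (.leaf 0xe6a8515)
(.leaf 0x2d74387d))
(.node (.leaf 0x193cafe5)
(.leaf 0))))))
(.node (.node (.node (.node (.node (.leaf 0x104a27e)
(.leaf 0x1f1e460d))
(.node (.leaf 0x117ca88f)
(.leaf 0)))
(.node (.node (.leaf 0x99e25af)
(.leaf 0x29b0d507))
(.node (.leaf 0x15d64a0b)
(.leaf 0))))
(.node (.node (.node (.leaf 0x4ee6468)
(.leaf 0x23a23253))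
(.node (.leaf 0x13f8d183)
(.leaf 0)))
(.node (.node (.leaf 0xd70ccdd)
(.leaf 0x2cf45795))
(.node (.leaf 0x184a90e0)
(.leaf 0)))))
(.node (.node (.node (.node (.leaf 0x26ac36b)
(.leaf 0x22a0ad35))
(.node (.leaf 0x133c500e)
(.leaf 0)))
(.node (.node (.leaf 0xac2aeb5)
(.leaf 0x2b9a368c))
(.node (.leaf 0x16e66c24)
(.leaf 0))))
(.node (.node (.node (.leaf 0x73c427d)
(.leaf 0x256a4a52))
(.node (.leaf 0x14d68abd)
(.leaf 0)))
(.node (.node (.leaf 0xfa06ceb)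
(.leaf 0x2e48b6b5))
(.node (.leaf 0x1a4490fe)
(.leaf 0))))))))))
(.node (.node (.node (.node (.node (.node (.node (.node (.node (.leaf 295226)
(.leaf 0x1a8c66d4))
(.node (.leaf 0x100ec4a4)
(.leaf 0x2ea05812)))
(.node (.node (.leaf 0x75ec447)
(.leaf 0x25a29122))
(.node (.leaf 0x14ee4a48)
(.leaf 0))))
(.node (.node (.node (.leaf 0x2a441fe)
(.leaf 0x22b2ccd7))
(.node (.leaf 0x134e852f)
(.leaf 0)))
(.node (.node (.leaf 0xafc84d2)
(.leaf 0x2bc0b501))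
(.node (.leaf 0x17068f25)
(.leaf 0)))))
(.node (.node (.node (.node (.leaf 0x118412b)
(.leaf 0x22044654))
(.node (.leaf 0x11f8c757)
(.leaf 0)))
(.node (.node (.leaf 0x9aeadb4)
(.leaf 0x29c695f2))
(.node (.leaf 0x15fe6c65)
(.leaf 0))))
(.node (.node (.node (.leaf 0x50642d9)
(.leaf 0x23c24fd4))
(.node (.leaf 0x140c53b5)
(.leaf 0)))
(.node (.node (.leaf 0xd86cf77)
(.leaf 0x2d0c9779))
(.node (.leaf 0x18746bb5)
(.leaf 0))))))
(.node (.node (.node (.node (.node (.leaf 0xb42443)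
(.leaf 0x1c48d3b7))
(.node (.leaf 0x10809137)
(.leaf 0x30f87580)))
(.node (.node (.leaf 0x908495c)
(.leaf 0x27267386))
(.node (.leaf 0x15867461)
(.leaf 0))))
(.node (.node (.node (.leaf 0x48a4117)
(.leaf 0x2318ae3b))
(.node (.leaf 0x13a47372)
(.leaf 0)))
(.node (.node (.leaf 0xc462794)
(.leaf 0x2cacb84f))
(.node (.leaf 0x17a8720b)
(.leaf 0)))))
(.node (.node (.node (.node (.leaf 0x1ac215f)
(.leaf 0x224e6e3f))
(.node (.leaf 0x1304c4e8)
(.leaf 0)))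
(.node (.node (.leaf 0xa2ea908)
(.leaf 0x2a68961f))
(.node (.leaf 0x1674b11b)
(.leaf 0))))
(.node (.node (.node (.leaf 0x6e26474)
(.leaf 0x2498ad76))
(.node (.leaf 0x1470add7)
(.leaf 0)))
(.node (.node (.leaf 0xecc8868)
(.leaf 0x2d8ad594))
(.node (.leaf 0x1968d302)
(.leaf 0)))))))
(.node (.node (.node (.node (.node (.node (.leaf 0x86a010)
(.leaf 0x1b6a8a20))
(.node (.leaf 0x103e3485)
(.leaf 0x30603768)))
(.node (.node (.leaf 0x7f083d7)
(.leaf 0x2646a984))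
(.node (.leaf 0x153c8cd8)
(.leaf 0))))
(.node (.node (.node (.leaf 0x464c0c5)
(.leaf 0x22e4b4ad))
(.node (.leaf 0x13786fc0)
(.leaf 0)))
(.node (.node (.leaf 0xb7ca5c3)
(.leaf 0x2c8e3520))
(.node (.leaf 0x17647220)
(.leaf 0)))))
(.node (.node (.node (.node (.leaf 0x15c2048)
(.leaf 0x2228cd42))
(.node (.leaf 0x1238657a)
(.leaf 0)))
(.node (.node (.leaf 0x9e2666b)
(.leaf 0x2a127547))
(.node (.leaf 0x16308df1)
(.leaf 0))))
(.node (.node (.node (.leaf 0x57ac38e)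
(.leaf 0x2422545c))
(.node (.leaf 0x143eaa1f)
(.leaf 0)))
(.node (.node (.leaf 0xdfc6866)
(.leaf 0x2d423821))
(.node (.leaf 0x18f052e7)
(.leaf 0))))))
(.node (.node (.node (.node (.node (.leaf 0xe44329)
(.leaf 0x1d3651d1))
(.node (.leaf 0x10ec4924)
(.leaf 0)))
(.node (.node (.leaf 0x9828b7c)
(.leaf 0x298a954c))
(.node (.leaf 0x15b2b2d7)
(.leaf 0))))
(.node (.node (.node (.leaf 0x4c660ef)
(.leaf 0x235e72af))
(.node (.leaf 0x13d692b2)
(.leaf 0)))
(.node (.node (.leaf 0xd58a6f9)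
(.leaf 0x2cd836fe))
(.node (.leaf 0x180ad034)
(.leaf 0)))))
(.node (.node (.node (.node (.leaf 0x202a21d)
(.leaf 0x22807047))
(.node (.leaf 0x1324af8c)
(.leaf 0)))
(.node (.node (.leaf 0xa748f54)
(.leaf 0x2b7eb4d0))
(.node (.leaf 0x16b26bcc)
(.leaf 0))))
(.node (.node (.node (.leaf 0x7128263)
(.leaf 0x2510ce79))
(.node (.leaf 0x14a6d36f)
(.leaf 0)))
(.node (.node (.leaf 0xf56d3cc)
(.leaf 0x2ddc365e))
(.node (.leaf 0x19d8a8e8)
(.leaf 0))))))))
(.node (.node (.node (.node (.node (.node (.node (.leaf 0x2281ab)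
(.leaf 0x1af86500))
(.node (.leaf 0x10248a01)
(.leaf 0x304e355a)))
(.node (.node (.leaf 0x7aca1a8)
(.leaf 0x2606519f))
(.node (.leaf 0x15188a74)
(.leaf 0))))
(.node (.node (.node (.leaf 0x3a68181)
(.leaf 0x22cacfae))
(.node (.leaf 0x13626cbf)
(.leaf 0)))
(.node (.node (.leaf 0xb44c925)
(.leaf 0x2c1695f7))
(.node (.leaf 0x172ccc46)
(.leaf 0)))))
(.node (.node (.node (.node (.leaf 0x13222cf)
(.leaf 0x221686d0))
(.node (.leaf 0x121273fb)
(.leaf 0)))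
(.node (.node (.leaf 0x9c8670b)
(.leaf 0x29e4d5e6))
(.node (.leaf 0x16186a7a)
(.leaf 0))))
(.node (.node (.node (.leaf 0x530a29b)
(.leaf 0x23ea907b))
(.node (.leaf 0x1424abc1)
(.leaf 0)))
(.node (.node (.leaf 0xda8a59a)
(.leaf 0x2d26d6c4))
(.node (.leaf 0x18b26a2f)
(.leaf 0))))))
(.node (.node (.node (.node (.node (.leaf 0xccc170)
(.leaf 0x1c9e2742))
(.node (.leaf 0x10b067ed)
(.leaf 0)))
(.node (.node (.leaf 0x920aa75)
(.leaf 0x27e65147))
(.node (.leaf 0x159c939d)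
(.leaf 0))))
(.node (.node (.node (.leaf 0x4a4a1a5)
(.leaf 0x233c701f))
(.node (.leaf 0x13be9071)
(.leaf 0)))
(.node (.node (.leaf 0xd428d06)
(.leaf 0x2cc2d72e))
(.node (.leaf 0x17ce47da)
(.leaf 0)))))
(.node (.node (.node (.node (.leaf 0x1d86096)
(.leaf 0x22688adc))
(.node (.leaf 0x13148eec)
(.leaf 0)))
(.node (.node (.leaf 0xa54a5ab)
(.leaf 0x2ac894d7))
(.node (.leaf 0x1696b143)
(.leaf 0))))
(.node (.node (.node (.leaf 0x6f881b4)
(.leaf 0x24d48b27))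
(.node (.leaf 0x14884f72)
(.leaf 0)))
(.node (.node (.leaf 0xf32275f)
(.leaf 0x2da8983f))
(.node (.leaf 0x19a86dd0)
(.leaf 0)))))))
(.node (.node (.node (.node (.node (.node (.leaf 0xa281a4)
(.leaf 0x1be8d232))
(.node (.leaf 0x105494b0)
(.leaf 0x3094d770)))
(.node (.node (.leaf 0x8be63bc)
(.leaf 0x268691ae))
(.node (.leaf 0x156c2e0f)
(.leaf 0))))
(.node (.node (.node (.leaf 0x4762204)
(.leaf 0x22fc6cf2))
(.node (.leaf 0x13906856)
(.leaf 0)))
(.node (.node (.leaf 0xbb4cc2d)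
(.leaf 0x2c9c7639))
(.node (.leaf 0x17842d1e)
(.leaf 0)))))
(.node (.node (.node (.node (.leaf 0x182c2f9)
(.leaf 0x223ca9ad))
(.node (.leaf 0x12ac70b1)
(.leaf 0)))
(.node (.node (.leaf 0xa0ea7ca)
(.leaf 0x2a3ad7d3))
(.node (.leaf 0x164eaab7)
(.leaf 0))))
(.node (.node (.node (.leaf 0x66e816f)
(.leaf 0x246a48e5))
(.node (.leaf 0x14546746)
(.leaf 0)))
(.node (.node (.leaf 0xe2c4910)
(.leaf 0x2d6cb7d9))
(.node (.leaf 0x193227aa)
(.leaf 0))))))
(.node (.node (.node (.node (.node (.leaf 0xfc43e7)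
(.leaf 0x1e80ab52))
(.node (.leaf 0x115a8889)
(.leaf 0)))
(.node (.node (.leaf 0x9986cfb)
(.leaf 0x29aa96eb))
(.node (.leaf 0x15ceaf1c)
(.leaf 0))))
(.node (.node (.node (.leaf 0x4e8c2e9)
(.leaf 0x239e6501))
(.node (.leaf 0x13f0316e)
(.leaf 0)))
(.node (.node (.leaf 0xd6a9362)
(.leaf 0x2cec96e2))
(.node (.leaf 0x183cb2b7)
(.leaf 0)))))
(.node (.node (.node (.node (.leaf 0x24a802e)
(.leaf 0x2298b168))
(.node (.leaf 0x133869e4)
(.leaf 0)))
(.node (.node (.leaf 0xaa667c5)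
(.leaf 0x2b94b6df))
(.node (.leaf 0x16deaa31)
(.leaf 0))))
(.node (.node (.node (.leaf 0x72ca08b)
(.leaf 0x2560cd3f))
(.node (.leaf 0x14cc7084)
(.leaf 0)))
(.node (.node (.leaf 0xf8eaa70)
(.leaf 0x2e3c988f))
(.node (.leaf 0x1a3887dd)
(.leaf 0)))))))))
(.node (.node (.node (.node (.node (.node (.node (.node (.leaf 0x104061)
(.leaf 0x1ac6665b))
(.node (.leaf 0x101874b7)
(.leaf 0x2eceb88d)))
(.node (.node (.leaf 0x780843d)
(.leaf 0x25dad45b))
(.node (.leaf 0x15003159)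
(.leaf 0))))
(.node (.node (.node (.leaf 0x2f62177)
(.leaf 0x22becaa0))
(.node (.leaf 0x1356b0bd)
(.leaf 0)))
(.node (.node (.leaf 0xb2e654b)
(.leaf 0x2bf495ec))
(.node (.leaf 0x171e864f)
(.leaf 0)))))
(.node (.node (.node (.node (.leaf 0x124a05c)
(.leaf 0x220cc951))
(.node (.leaf 0x120469d7)
(.leaf 0)))
(.node (.node (.leaf 0x9bc8f60)
(.leaf 0x29d4b61a))
(.node (.leaf 0x160acbaa)
(.leaf 0))))
(.node (.node (.node (.leaf 0x51cc05e)
(.leaf 0x23de3274))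
(.node (.leaf 0x14186c07)
(.leaf 0)))
(.node (.node (.leaf 0xd9628fa)
(.leaf 0x2d1cb6bd))
(.node (.leaf 0x1898c90a)
(.leaf 0))))))
(.node (.node (.node (.node (.node (.leaf 0xbe4298)
(.leaf 0x1c70d46a))
(.node (.leaf 0x1090b0ea)
(.leaf 0x310e980f)))
(.node (.node (.leaf 0x91450bf)
(.leaf 0x275cb13a))
(.node (.leaf 0x15946b9a)
(.leaf 0))))
(.node (.node (.node (.leaf 0x4968244)
(.leaf 0x232a8749))
(.node (.leaf 0x13b0322d)
(.leaf 0)))
(.node (.node (.leaf 0xc7e8696)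
(.leaf 0x2cb8d5c6))
(.node (.leaf 0x17b6c957)
(.leaf 0)))))
(.node (.node (.node (.node (.leaf 0x1baa222)
(.leaf 0x225e8875))
(.node (.leaf 0x130ab3fd)
(.leaf 0)))
(.node (.node (.leaf 0xa40ab64)
(.leaf 0x2a98b581))
(.node (.leaf 0x1688b29e)
(.leaf 0))))
(.node (.node (.node (.leaf 0x6ecc03a)
(.leaf 0x24b66e1e))
(.node (.leaf 0x147c6a33)
(.leaf 0)))
(.node (.node (.leaf 0xf228ae2)
(.leaf 0x2d98b577))
(.node (.leaf 0x1980d15d)
(.leaf 0)))))))
(.node (.node (.node (.node (.node (.node (.leaf 0x9ac19e)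
(.leaf 0x1ba269b0))
(.node (.leaf 0x1048b48f)
(.leaf 0x30769879)))
(.node (.node (.leaf 0x85a63df)
(.leaf 0x26608a0f))
(.node (.leaf 0x155a89f8)
(.leaf 0))))
(.node (.node (.node (.leaf 0x46e80c4)
(.leaf 0x22f2ae51))
(.node (.leaf 0x13826c71)
(.leaf 0)))
(.node (.node (.leaf 0xb9cc771)
(.leaf 0x2c9477d1))
(.node (.leaf 0x177aca4f)
(.leaf 0)))))
(.node (.node (.node (.node (.leaf 0x16a60bf)
(.leaf 0x22324be9))
(.node (.leaf 0x125eb263)
(.leaf 0)))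
(.node (.node (.leaf 0x9fc7449)
(.leaf 0x2a26b815))
(.node (.leaf 0x163cb494)
(.leaf 0))))
(.node (.node (.node (.leaf 0x5ee4275)
(.leaf 0x24388a0d))
(.node (.leaf 0x144a5225)
(.leaf 0)))
(.node (.node (.leaf 0xe18a6cb)
(.leaf 0x2d5c974c))
(.node (.leaf 0x191aa958)
(.leaf 0))))))
(.node (.node (.node (.node (.node (.leaf 0xf0602d)
(.leaf 0x1dd27316))
(.node (.leaf 0x1128a923)
(.leaf 0)))
(.node (.node (.leaf 0x98ea505)
(.leaf 0x299c34e5))
(.node (.leaf 0x15c0af7d)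
(.leaf 0))))
(.node (.node (.node (.leaf 0x4da83f6)
(.leaf 0x23866524))
(.node (.leaf 0x13e29076)
(.leaf 0)))
(.node (.node (.leaf 0xd62a846)
(.leaf 0x2ce0380a))
(.node (.leaf 0x1820b008)
(.leaf 0)))))
(.node (.node (.node (.node (.leaf 0x21683c6)
(.leaf 0x228e69f9))
(.node (.leaf 0x132eb2f0)
(.leaf 0)))
(.node (.node (.leaf 0xa80a6bb)
(.leaf 0x2b887800))
(.node (.leaf 0x16c8a85c)
(.leaf 0))))
(.node (.node (.node (.leaf 0x7226270)
(.leaf 0x25369050))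
(.node (.leaf 0x14b2d04d)
(.leaf 0)))
(.node (.node (.leaf 0xf6490c8)
(.leaf 0x2e245738))
(.node (.leaf 0x1a166730)
(.leaf 0))))))))
(.node (.node (.node (.node (.node (.node (.node (.leaf 0x58a065)
(.leaf 0x1b306daf))
(.node (.leaf 0x10326a59)
(.leaf 0x30547874)))
(.node (.node (.leaf 0x7c2435d)
(.leaf 0x2626a91d))
(.node (.leaf 0x15288841)
(.leaf 0))))
(.node (.node (.node (.leaf 0x45ac206)
(.leaf 0x22d64adb))
(.node (.leaf 0x136ccfaa)
(.leaf 0)))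
(.node (.node (.leaf 0xb628899)
(.leaf 0x2c68d4f6))
(.node (.leaf 0x174674b5)
(.leaf 0)))))
(.node (.node (.node (.node (.leaf 0x146c03d)
(.leaf 0x221e5444))
(.node (.leaf 0x12249456)
(.leaf 0)))
(.node (.node (.leaf 0x9d2544a)
(.leaf 0x29f8d513))
(.node (.leaf 0x1624cb4e)
(.leaf 0))))
(.node (.node (.node (.leaf 0x54ac175)
(.leaf 0x2408b1a4))
(.node (.leaf 0x142e93f3)
(.leaf 0)))
(.node (.node (.leaf 0xdc66c28)
(.leaf 0x2d3097a4))
(.node (.leaf 0x18d49391)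
(.leaf 0))))))
(.node (.node (.node (.node (.node (.leaf 0xd8c0f5)
(.leaf 0x1cdcac48))
(.node (.leaf 0x10c4486b)
(.leaf 0)))
(.node (.node (.leaf 0x9364b20)
(.leaf 0x286a32a0))
(.node (.leaf 0x15a67136)
(.leaf 0))))
(.node (.node (.node (.leaf 0x4b283a5)
(.leaf 0x234c8647))
(.node (.leaf 0x13cc6f3c)
(.leaf 0)))
(.node (.node (.leaf 0xd4c4b59)
(.leaf 0x2cce35dc))
(.node (.leaf 0x17f6ae59)
(.leaf 0)))))
(.node (.node (.node (.node (.leaf 0x1ee802c)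
(.leaf 0x227491ef))
(.node (.leaf 0x131c6836)
(.leaf 0)))
(.node (.node (.leaf 0xa60a894)
(.leaf 0x2b1894da))
(.node (.leaf 0x16a62633)
(.leaf 0))))
(.node (.node (.node (.leaf 0x704a18d)
(.leaf 0x24f28ece))
(.node (.leaf 0x149a8b41)
(.leaf 0)))
(.node (.node (.leaf 0xf4689a7)
(.leaf 0x2dba767c))
(.node (.leaf 0x19c668d5)
(.leaf 0)))))))
(.node (.node (.node (.node (.node (.node (.leaf 0xaaa3a3)
(.leaf 0x1c08d028))
(.node (.leaf 0x106c664d)
(.leaf 0x30ee3660)))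
(.node (.node (.leaf 0x8d0a455)
(.leaf 0x26ea6b1c))
(.node (.leaf 0x15789202)
(.leaf 0))))
(.node (.node (.node (.leaf 0x480a410)
(.leaf 0x230cb2eb))
(.node (.leaf 0x139c8620)
(.leaf 0)))
(.node (.node (.leaf 0xc24a593)
(.leaf 0x2ca4d7a2))
(.node (.leaf 0x179225fe)
(.leaf 0)))))
(.node (.node (.node (.node (.leaf 0x19e605d)
(.leaf 0x22448e37))
(.node (.leaf 0x12e8a50c)
(.leaf 0)))
(.node (.node (.leaf 0xa18d3e2)
(.leaf 0x2a50764d))
(.node (.leaf 0x165c69a2)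
(.leaf 0))))
(.node (.node (.node (.leaf 0x6daa1cd)
(.leaf 0x248ad0b2))
(.node (.leaf 0x1460c53e)
(.leaf 0)))
(.node (.node (.leaf 0xe8aa5bc)
(.leaf 0x2d8095c9))
(.node (.leaf 0x1950d172)
(.leaf 0))))))
(.node (.node (.node (.node (.node (.leaf 0x10a61a2)
(.leaf 0x1fb854a0))
(.node (.leaf 0x11eec49d)
(.leaf 0)))
(.node (.node (.leaf 0x9a46576)
(.leaf 0x29b4b518))
(.node (.leaf 0x15daa948)
(.leaf 0))))
(.node (.node (.node (.leaf 0x4f682a1)
(.leaf 0x23ae70f7))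
(.node (.leaf 0x14008ca2)
(.leaf 0)))
(.node (.node (.leaf 0xd7a32a2)
(.leaf 0x2cfa9665))
(.node (.leaf 0x186067d0)
(.leaf 0)))))
(.node (.node (.node (.node (.leaf 0x280619d)
(.leaf 0x22a4d15b))
(.node (.leaf 0x1342b0db)
(.leaf 0)))
(.node (.node (.leaf 0xaca6f65)
(.leaf 0x2ba8768b))
(.node (.leaf 0x16f2747b)
(.leaf 0))))
(.node (.node (.node (.leaf 0x742a115)
(.leaf 0x257ab1bd))
(.node (.leaf 0x14e0ab49)
(.leaf 0)))
(.node (.node (.leaf 0xfb2a525)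
(.leaf 0x2e5a35fe))
(.node (.leaf 0x1a5ea8a4)
(.leaf 0)))))))))))
(.node (.node (.node (.node (.node (.node (.node (.node (.node (.node (.leaf 147522)
(.leaf 0x1a826c1c))
(.node (.leaf 0xfee8563)
(.leaf 0x2e96750a)))
(.node (.node (.leaf 0x75683d6)
(.leaf 0x25888c77))
(.node (.leaf 0x14eaced4)
(.leaf 0))))
(.node (.node (.node (.leaf 0x29a2291)
(.leaf 0x22ac499b))
(.node (.leaf 0x134ac7e4)
(.leaf 0)))
(.node (.node (.leaf 0xaf4c6f0)
(.leaf 0x2bba9844))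
(.node (.leaf 0x1700712c)
(.leaf 0)))))
(.node (.node (.node (.node (.leaf 0x114a14e)
(.leaf 0x2202c640))
(.node (.leaf 0x11f62881)
(.leaf 0)))
(.node (.node (.leaf 0x9ac8e46)
(.leaf 0x29c4b5a4))
(.node (.leaf 0x15f869e5)
(.leaf 0))))
(.node (.node (.node (.leaf 0x4fe8437)
(.leaf 0x23c0a71b))
(.node (.leaf 0x140c69dc)
(.leaf 0)))
(.node (.node (.leaf 0xd82cc6a)
(.leaf 0x2d08b687))
(.node (.leaf 0x186e6ce4)
(.leaf 0))))))
(.node (.node (.node (.node (.node (.leaf 0xb4a23a)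
(.leaf 0x1c36ae11))
(.node (.leaf 0x107ab165)
(.leaf 0x30f6b820)))
(.node (.node (.leaf 0x906849c)
(.leaf 0x27168ac1))
(.node (.leaf 0x15846962)
(.leaf 0))))
(.node (.node (.node (.leaf 0x488417a)
(.leaf 0x2314ae89))
(.node (.leaf 0x13a4c7d6)
(.leaf 0)))
(.node (.node (.leaf 0xc3e87bc)
(.leaf 0x2caa76be))
(.node (.leaf 0x17a26dc5)
(.leaf 0)))))
(.node (.node (.node (.node (.leaf 0x1a6a154)
(.leaf 0x224c48dd))
(.node (.leaf 0x1302c608)
(.leaf 0)))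
(.node (.node (.leaf 0xa26b41e)
(.leaf 0x2a629843))
(.node (.leaf 0x166c69bd)
(.leaf 0))))
(.node (.node (.node (.leaf 0x6e22276)
(.leaf 0x24964635))
(.node (.leaf 0x146a8e3e)
(.leaf 0)))
(.node (.node (.leaf 0xeb4ab75)
(.leaf 0x2d883783))
(.node (.leaf 0x19605402)
(.leaf 0)))))))
(.node (.node (.node (.node (.node (.node (.leaf 0x7ea3a1)
(.leaf 0x1b568787))
(.node (.leaf 0x103e8a03)
(.leaf 0x305e55ac)))
(.node (.node (.leaf 0x7e86434)
(.leaf 0x263c4eaa))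
(.node (.leaf 0x1530cbc6)
(.leaf 0))))
(.node (.node (.node (.leaf 0x4608274)
(.leaf 0x22e0867b))
(.node (.leaf 0x13748c55)
(.leaf 0)))
(.node (.node (.leaf 0xb742ce0)
(.leaf 0x2c74d4f9))
(.node (.leaf 0x176225e1)
(.leaf 0)))))
(.node (.node (.node (.node (.leaf 0x15882da)
(.leaf 0x22268b46))
(.node (.leaf 0x1234af21)
(.leaf 0)))
(.node (.node (.leaf 0x9da8f78)
(.leaf 0x2a0cd77f))
(.node (.leaf 0x162ccc42)
(.leaf 0))))
(.node (.node (.node (.leaf 0x572413d)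
(.leaf 0x242031db))
(.node (.leaf 0x143a8e21)
(.leaf 0)))
(.node (.node (.leaf 0xdf28cd5)
(.leaf 0x2d4075f9))
(.node (.leaf 0x18e8cc82)
(.leaf 0))))))
(.node (.node (.node (.node (.node (.leaf 0xe262fc)
(.leaf 0x1d246780))
(.node (.leaf 0x10e2a77b)
(.leaf 0)))
(.node (.node (.leaf 0x980873f)
(.leaf 0x298495ed))
(.node (.leaf 0x15b050a4)
(.leaf 0))))
(.node (.node (.node (.leaf 0x4c2626d)
(.leaf 0x235a2590))
(.node (.leaf 0x13d4cd3c)
(.leaf 0)))
(.node (.node (.leaf 0xd566758)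
(.leaf 0x2cd6b734))
(.node (.leaf 0x18066f74)
(.leaf 0)))))
(.node (.node (.node (.node (.leaf 0x1fe211d)
(.leaf 0x227e85de))
(.node (.leaf 0x132229c5)
(.leaf 0)))
(.node (.node (.leaf 0xa6e6dbe)
(.leaf 0x2b7c55f6))
(.node (.leaf 0x16ac8c03)
(.leaf 0))))
(.node (.node (.node (.leaf 0x70e6365)
(.leaf 0x2508482e))
(.node (.leaf 0x14a2cb98)
(.leaf 0)))
(.node (.node (.leaf 0xf52498d)
(.leaf 0x2dd4d802))
(.node (.leaf 0x19d2b3bf)
(.leaf 0))))))))
(.node (.node (.node (.node (.node (.node (.node (.leaf 0x1ca007)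
(.leaf 0x1aea8c23))
(.node (.leaf 0x10205439)
(.leaf 0x2f5e9780)))
(.node (.node (.leaf 0x7a680cd)
(.leaf 0x25fc6f16))
(.node (.leaf 0x15108f53)
(.leaf 0))))
(.node (.node (.node (.leaf 0x354619f)
(.leaf 0x22c6af45))
(.node (.leaf 0x135eca3d)
(.leaf 0)))
(.node (.node (.leaf 0xb426d6a)
(.leaf 0x2c127502))
(.node (.leaf 0x17286da6)
(.leaf 0)))))
(.node (.node (.node (.node (.leaf 0x12e82e1)
(.leaf 0x22142998))
(.node (.leaf 0x120c90bc)
(.leaf 0)))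
(.node (.node (.leaf 0x9c48720)
(.leaf 0x29e0b4dc))
(.node (.leaf 0x1612aea6)
(.leaf 0))))
(.node (.node (.node (.leaf 0x52a634c)
(.leaf 0x23e6d06f))
(.node (.leaf 0x1420ac09)
(.leaf 0)))
(.node (.node (.leaf 0xda4d34f)
(.leaf 0x2d2255ab))
(.node (.leaf 0x18aaae6c)
(.leaf 0))))))
(.node (.node (.node (.node (.node (.leaf 0xc8c3d3)
(.leaf 0x1c8ad200))
(.node (.leaf 0x10a8854d)
(.leaf 0)))
(.node (.node (.leaf 0x91c71a5)
(.leaf 0x27da949f))
(.node (.leaf 0x159a34a2)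
(.leaf 0))))
(.node (.node (.node (.leaf 0x4a220a1)
(.leaf 0x2338cc2a))
(.node (.leaf 0x13bad4b6)
(.leaf 0)))
(.node (.node (.leaf 0xd40c498)
(.leaf 0x2cbeb7bc))
(.node (.leaf 0x17c68e83)
(.leaf 0)))))
(.node (.node (.node (.node (.leaf 0x1ce8047)
(.leaf 0x226672b8))
(.node (.leaf 0x1312c64a)
(.leaf 0)))
(.node (.node (.leaf 0xa4a8f3b)
(.leaf 0x2ab4d6a7))
(.node (.leaf 0x16927474)
(.leaf 0))))
(.node (.node (.node (.leaf 0x6f420d1)
(.leaf 0x24d26810))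
(.node (.leaf 0x14882717)
(.leaf 0)))
(.node (.node (.leaf 0xf2e8652)
(.leaf 0x2da676ad))
(.node (.leaf 0x199e4715)
(.leaf 0)))))))
(.node (.node (.node (.node (.node (.node (.leaf 0xa0a47e)
(.leaf 0x1bd42dda))
(.node (.leaf 0x105264b5)
(.leaf 0x308a9776)))
(.node (.node (.leaf 0x8ba83ee)
(.leaf 0x267cb1d2))
(.node (.leaf 0x156acf94)
(.leaf 0))))
(.node (.node (.node (.leaf 0x4746306)
(.leaf 0x22fa272c))
(.node (.leaf 0x138cb1a9)
(.leaf 0)))
(.node (.node (.leaf 0xbb2868c)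
(.leaf 0x2c9ab749))
(.node (.leaf 0x1780b189)
(.leaf 0)))))
(.node (.node (.node (.node (.leaf 0x17a82d7)
(.leaf 0x223acbb3))
(.node (.leaf 0x12a0cf22)
(.leaf 0)))
(.node (.node (.leaf 0xa0aa8b8)
(.leaf 0x2a36b59c))
(.node (.leaf 0x1648cf3f)
(.leaf 0))))
(.node (.node (.node (.leaf 0x6364315)
(.leaf 0x24626e73))
(.node (.leaf 0x14522c08)
(.leaf 0)))
(.node (.node (.leaf 0xe28c5cd)
(.leaf 0x2d68977e))
(.node (.leaf 0x192aaffe)
(.leaf 0))))))
(.node (.node (.node (.node (.node (.leaf 0xf8c1dd)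
(.leaf 0x1e5cb17b))
(.node (.leaf 0x114ca9d4)
(.leaf 0)))
(.node (.node (.leaf 0x996c52e)
(.leaf 0x29a8b54b))
(.node (.leaf 0x15ccb188)
(.leaf 0))))
(.node (.node (.node (.leaf 0x4e22426)
(.leaf 0x2394b05e))
(.node (.leaf 0x13ecaf07)
(.leaf 0)))
(.node (.node (.leaf 0xd6ac58c)
(.leaf 0x2cead67d))
(.node (.leaf 0x1834ab26)
(.leaf 0)))))
(.node (.node (.node (.node (.leaf 0x22a6091)
(.leaf 0x22968e8d))
(.node (.leaf 0x13368c51)
(.leaf 0)))
(.node (.node (.leaf 0xa9eafcf)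
(.leaf 0x2b9255e7))
(.node (.leaf 0x16d82d4f)
(.leaf 0))))
(.node (.node (.node (.leaf 0x72aa144)
(.leaf 0x2554cd2e))
(.node (.leaf 0x14c68c66)
(.leaf 0)))
(.node (.node (.leaf 0xf7ec63d)
(.leaf 0x2e32d857))
(.node (.leaf 0x1a2a6d92)
(.leaf 0)))))))))
(.node (.node (.node (.node (.node (.node (.node (.node (.leaf 828309)
(.leaf 0x1ab03459))
(.node (.leaf 0x1016c5a5)
(.leaf 0x2ec49664)))
(.node (.node (.leaf 0x76ea140)
(.leaf 0x25d4ac7c))
(.node (.leaf 0x14f8afcd)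
(.leaf 0))))
(.node (.node (.node (.leaf 0x2d8a0f1)
(.leaf 0x22ba2726))
(.node (.leaf 0x1354cfef)
(.leaf 0)))
(.node (.node (.leaf 0xb26531d)
(.leaf 0x2be25804))
(.node (.leaf 0x1718ad32)
(.leaf 0)))))
(.node (.node (.node (.node (.leaf 0x120c3f7)
(.leaf 0x220a4d44))
(.node (.leaf 0x1200c88d)
(.leaf 0)))
(.node (.node (.leaf 0x9ba4744)
(.leaf 0x29d057ea))
(.node (.leaf 0x16088d37)
(.leaf 0))))
(.node (.node (.node (.leaf 0x51a2331)
(.leaf 0x23d6ac5d))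
(.node (.leaf 0x14168dc1)
(.leaf 0)))
(.node (.node (.leaf 0xd94a5cc)
(.leaf 0x2d169704))
(.node (.leaf 0x18888772)
(.leaf 0))))))
(.node (.node (.node (.node (.node (.leaf 0xbc60e7)
(.leaf 0x1c64ac0a))
(.node (.leaf 0x10885212)
(.leaf 0x3106b860)))
(.node (.node (.leaf 0x912d072)
(.leaf 0x27524d21))
(.node (.leaf 0x1590a956)
(.leaf 0))))
(.node (.node (.node (.leaf 0x494c3b7)
(.leaf 0x23208bea))
(.node (.leaf 0x13aec7a9)
(.leaf 0)))
(.node (.node (.leaf 0xc76855a)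
(.leaf 0x2cb455c8))
(.node (.leaf 0x17b48938)
(.leaf 0)))))
(.node (.node (.node (.node (.leaf 0x1b48344)
(.leaf 0x225aca2a))
(.node (.leaf 0x130ac6a0)
(.leaf 0)))
(.node (.node (.leaf 0xa3a84a5)
(.leaf 0x2a8c7814))
(.node (.leaf 0x1686aaea)
(.leaf 0))))
(.node (.node (.node (.leaf 0x6e8837d)
(.leaf 0x24b26a37))
(.node (.leaf 0x147832c1)
(.leaf 0)))
(.node (.node (.leaf 0xf20a6ba)
(.leaf 0x2d96554f))
(.node (.leaf 0x1974723b)
(.leaf 0)))))))
(.node (.node (.node (.node (.node (.node (.leaf 0x9840b7)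
(.leaf 0x1b9273dc))
(.node (.leaf 0x1046acf9)
(.leaf 0x306e97e1)))
(.node (.node (.leaf 0x818a466)
(.leaf 0x26587446))
(.node (.leaf 0x155072f7)
(.leaf 0))))
(.node (.node (.node (.leaf 0x46a218b)
(.leaf 0x22f0a9ce))
(.node (.leaf 0x13809493)
(.leaf 0)))
(.node (.node (.leaf 0xb926db9)
(.leaf 0x2c927559))
(.node (.leaf 0x17728954)
(.leaf 0)))))
(.node (.node (.node (.node (.leaf 0x164a142)
(.leaf 0x223066a1))
(.node (.leaf 0x1248d469)
(.leaf 0)))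
(.node (.node (.leaf 0x9faa665)
(.leaf 0x2a2294ce))
(.node (.leaf 0x163a8f2a)
(.leaf 0))))
(.node (.node (.node (.leaf 0x5bea349)
(.leaf 0x2430a80c))
(.node (.leaf 0x14489115)
(.leaf 0)))
(.node (.node (.leaf 0xe1447fb)
(.leaf 0x2d545881))
(.node (.leaf 0x1910d38e)
(.leaf 0))))))
(.node (.node (.node (.node (.node (.leaf 0xeca2f8)
(.leaf 0x1dc633d1))
(.node (.leaf 0x111ed25e)
(.leaf 0)))
(.node (.node (.leaf 0x98a93e0)
(.leaf 0x299a5658))
(.node (.leaf 0x15bed051)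
(.leaf 0))))
(.node (.node (.node (.leaf 0x4d6441e)
(.leaf 0x237aad72))
(.node (.leaf 0x13e0727e)
(.leaf 0)))
(.node (.node (.leaf 0xd5e734e)
(.leaf 0x2ce0b523))
(.node (.leaf 0x1814d3ff)
(.leaf 0)))))
(.node (.node (.node (.node (.leaf 0x2122290)
(.leaf 0x228acf7c))
(.node (.leaf 0x132cc950)
(.leaf 0)))
(.node (.node (.leaf 0xa7c476f)
(.leaf 0x2b865690))
(.node (.leaf 0x16c25420)
(.leaf 0))))
(.node (.node (.node (.leaf 0x720c37b)
(.leaf 0x2526b045))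
(.node (.leaf 0x14b09483)
(.leaf 0)))
(.node (.node (.leaf 0xf62b1b8)
(.leaf 0x2e1276e3))
(.node (.leaf 0x1a0eb3b8)
(.leaf 0))))))))
(.node (.node (.node (.node (.node (.node (.node (.leaf 0x426075)
(.leaf 0x1b185291))
(.node (.leaf 0x103091ab)
(.leaf 0x3052d7c4)))
(.node (.node (.leaf 0x7ba818c)
(.leaf 0x2618b279))
(.node (.leaf 0x1520527f)
(.leaf 0))))
(.node (.node (.node (.leaf 0x458a153)
(.leaf 0x22d4b235))
(.node (.leaf 0x1368c740)
(.leaf 0)))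
(.node (.node (.leaf 0xb5eb415)
(.leaf 0x2c66b4e3))
(.node (.leaf 0x17406b3b)
(.leaf 0)))))
(.node (.node (.node (.node (.leaf 0x142c0e4)
(.leaf 0x221ea84a))
(.node (.leaf 0x1220748b)
(.leaf 0)))
(.node (.node (.leaf 0x9d26853)
(.leaf 0x29ec771a))
(.node (.leaf 0x162031ea)
(.leaf 0))))
(.node (.node (.node (.leaf 0x540647a)
(.leaf 0x23fe6e5b))
(.node (.leaf 0x142cb16d)
(.leaf 0)))
(.node (.node (.leaf 0xdc2c815)
(.leaf 0x2d2cd853))
(.node (.leaf 0x18c6d2e8)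
(.leaf 0))))))
(.node (.node (.node (.node (.node (.leaf 0xd28267)
(.leaf 0x1cd4ab92))
(.node (.leaf 0x10c24a1e)
(.leaf 0)))
(.node (.node (.leaf 0x93427b1)
(.leaf 0x28466d13))
(.node (.leaf 0x15a48d33)
(.leaf 0))))
(.node (.node (.node (.leaf 0x4aca372)
(.leaf 0x2346b3cd))
(.node (.leaf 0x13caa9c9)
(.leaf 0)))
(.node (.node (.leaf 0xd4c2550)
(.leaf 0x2cccb6a8))
(.node (.leaf 0x17eecd30)
(.leaf 0)))))
(.node (.node (.node (.node (.leaf 0x1e68406)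
(.leaf 0x2270cdb7))
(.node (.leaf 0x13186f14)
(.leaf 0)))
(.node (.node (.leaf 0xa5e47f7)
(.leaf 0x2afc94d8))
(.node (.leaf 0x16a2c9a5)
(.leaf 0))))
(.node (.node (.node (.leaf 0x700835c)
(.leaf 0x24ec93aa))
(.node (.leaf 0x14982ab1)
(.leaf 0)))
(.node (.node (.leaf 0xf3c949b)
(.leaf 0x2db6d695))
(.node (.leaf 0x19bec893)
(.leaf 0)))))))
(.node (.node (.node (.node (.node (.node (.leaf 0xaa2044)
(.leaf 0x1c008fee))
(.node (.leaf 0x10664a1c)
(.leaf 0x30aed60e)))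
(.node (.node (.leaf 0x8ca83b3)
(.leaf 0x26d068ad))
(.node (.leaf 0x1574343c)
(.leaf 0))))
(.node (.node (.node (.leaf 0x47e2324)
(.leaf 0x230acef8))
(.node (.leaf 0x13982e84)
(.leaf 0)))
(.node (.node (.leaf 0xc208542)
(.leaf 0x2ca275ea))
(.node (.leaf 0x178cca58)
(.leaf 0)))))
(.node (.node (.node (.node (.leaf 0x194428f)
(.leaf 0x22427216))
(.node (.leaf 0x12e28588)
(.leaf 0)))
(.node (.node (.leaf 0xa16a8ce)
(.leaf 0x2a4ab58b))
(.node (.leaf 0x16584555)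
(.leaf 0))))
(.node (.node (.node (.leaf 0x6d84148)
(.leaf 0x2484b158))
(.node (.leaf 0x145c4e8c)
(.leaf 0)))
(.node (.node (.leaf 0xe7aa6c8)
(.leaf 0x2d7eb58c))
(.node (.leaf 0x19408d40)
(.leaf 0))))))
(.node (.node (.node (.node (.node (.leaf 0x10822f0)
(.leaf 0x1f50cdcf))
(.node (.leaf 0x1196850d)
(.leaf 0)))
(.node (.node (.leaf 0x9a0ac79)
(.leaf 0x29b2d599))
(.node (.leaf 0x15d8aa66)
(.leaf 0))))
(.node (.node (.node (.leaf 0x4f28398)
(.leaf 0x23a6b20c))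
(.node (.leaf 0x13fc2c35)
(.leaf 0)))
(.node (.node (.leaf 0xd78652d)
(.leaf 0x2cf696cc))
(.node (.leaf 0x185030a6)
(.leaf 0)))))
(.node (.node (.node (.node (.leaf 0x2722092)
(.leaf 0x22a29129))
(.node (.leaf 0x133e72fb)
(.leaf 0)))
(.node (.node (.leaf 0xac4936a)
(.leaf 0x2ba2d531))
(.node (.leaf 0x16ee6ac2)
(.leaf 0))))
(.node (.node (.node (.leaf 0x740a3bb)
(.leaf 0x257672c6))
(.node (.leaf 0x14dc332d)
(.leaf 0)))
(.node (.node (.leaf 0xfa872ce)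
(.leaf 0x2e54d6d2))
(.node (.leaf 0x1a4e91b2)
(.leaf 0))))))))))
(.node (.node (.node (.node (.node (.node (.node (.node (.node (.leaf 565275)
(.leaf 0x1a9ac8fb))
(.node (.leaf 0x10108b4c)
(.leaf 0x2eb4b739)))
(.node (.node (.leaf 0x7606400)
(.leaf 0x25b845ca))
(.node (.leaf 0x14f0a9a4)
(.leaf 0))))
(.node (.node (.node (.leaf 0x2a8216b)
(.leaf 0x22b4a72b))
(.node (.leaf 0x1350a701)
(.leaf 0)))
(.node (.node (.leaf 0xb02b1d6)
(.leaf 0x2bc237d2))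
(.node (.leaf 0x1712d0fc)
(.leaf 0)))))
(.node (.node (.node (.node (.leaf 0x11cc124)
(.leaf 0x2206ca6e))
(.node (.leaf 0x11fa70d7)
(.leaf 0)))
(.node (.node (.leaf 0x9b2729d)
(.leaf 0x29c8773c))
(.node (.leaf 0x16006e48)
(.leaf 0))))
(.node (.node (.node (.leaf 0x50a2446)
(.leaf 0x23c674bd))
(.node (.leaf 0x1410470c)
(.leaf 0)))
(.node (.node (.leaf 0xd8a4c54)
(.leaf 0x2d10755c))
(.node (.leaf 0x187ea911)
(.leaf 0))))))
(.node (.node (.node (.node (.node (.leaf 0xb82017)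
(.leaf 0x1c58aa18))
(.node (.leaf 0x10849498)
(.leaf 0x30fcd67e)))
(.node (.node (.leaf 0x90a8bd9)
(.leaf 0x27386a71))
(.node (.leaf 0x158a4bd2)
(.leaf 0))))
(.node (.node (.node (.leaf 0x48ea0ad)
(.leaf 0x231c3099))
(.node (.leaf 0x13a6aeb6)
(.leaf 0)))
(.node (.node (.leaf 0xc58731e)
(.leaf 0x2cae3705))
(.node (.leaf 0x17ac90d5)
(.leaf 0)))))
(.node (.node (.node (.node (.leaf 0x1ae82a2)
(.leaf 0x22504b73))
(.node (.leaf 0x13049041)
(.leaf 0)))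
(.node (.node (.leaf 0xa30536b)
(.leaf 0x2a6cb5b4))
(.node (.leaf 0x1678921e)
(.leaf 0))))
(.node (.node (.node (.leaf 0x6e66053)
(.leaf 0x249c28b1))
(.node (.leaf 0x1472cd95)
(.leaf 0)))
(.node (.node (.leaf 0xed6a4fa)
(.leaf 0x2d8c95cd))
(.node (.leaf 0x196acd19)
(.leaf 0)))))))
(.node (.node (.node (.node (.node (.node (.leaf 0x962026)
(.leaf 0x1b7873a8))
(.node (.leaf 0x1040d1a7)
(.leaf 0x30629884)))
(.node (.node (.leaf 0x7fea3da)
(.leaf 0x26526be1))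
(.node (.leaf 0x153eb385)
(.leaf 0))))
(.node (.node (.node (.leaf 0x466841b)
(.leaf 0x22e8c9c6))
(.node (.leaf 0x137c91f5)
(.leaf 0)))
(.node (.node (.leaf 0xb8645c5)
(.leaf 0x2c8eb5dd))
(.node (.leaf 0x176ab327)
(.leaf 0)))))
(.node (.node (.node (.node (.leaf 0x15e41a7)
(.leaf 0x222a6ad4))
(.node (.leaf 0x1240926e)
(.leaf 0)))
(.node (.node (.leaf 0x9eea59d)
(.leaf 0x2a16950f))
(.node (.leaf 0x16346ed7)
(.leaf 0))))
(.node (.node (.node (.leaf 0x58aa3fc)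
(.leaf 0x24286830))
(.node (.leaf 0x1440b1b6)
(.leaf 0)))
(.node (.node (.leaf 0xe04868a)
(.leaf 0x2d46b7ab))
(.node (.leaf 0x18f632d8)
(.leaf 0))))))
(.node (.node (.node (.node (.node (.leaf 0xe6c28c)
(.leaf 0x1d5627ac))
(.node (.leaf 0x10fe7272)
(.leaf 0)))
(.node (.node (.leaf 0x984adad)
(.leaf 0x2996d4c9))
(.node (.leaf 0x15b8aa32)
(.leaf 0))))
(.node (.node (.node (.leaf 0x4ca8118)
(.leaf 0x236424ac))
(.node (.leaf 0x13dab09d)
(.leaf 0)))
(.node (.node (.leaf 0xd5ace9d)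
(.leaf 0x2cdad6f1))
(.node (.leaf 0x180c68fe)
(.leaf 0)))))
(.node (.node (.node (.node (.leaf 0x206a0f6)
(.leaf 0x22864ff0))
(.node (.leaf 0x13268c9a)
(.leaf 0)))
(.node (.node (.leaf 0xa784e35)
(.leaf 0x2b80d584))
(.node (.leaf 0x16b86abc)
(.leaf 0))))
(.node (.node (.node (.leaf 0x71642d3)
(.leaf 0x251a88cb))
(.node (.leaf 0x14aa4724)
(.leaf 0)))
(.node (.node (.leaf 0xf5a47b6)
(.leaf 0x2de497c0))
(.node (.leaf 0x19ea6a3a)
(.leaf 0))))))))
(.node (.node (.node (.node (.node (.node (.node (.leaf 0x288269)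
(.leaf 0x1b02d181))
(.node (.leaf 0x10268b06)
(.leaf 0x304e7819)))
(.node (.node (.leaf 0x7b2844f)
(.leaf 0x260ecf49))
(.node (.leaf 0x151850c4)
(.leaf 0))))
(.node (.node (.node (.leaf 0x4562032)
(.leaf 0x22d0c5ff))
(.node (.leaf 0x13642bff)
(.leaf 0)))
(.node (.node (.leaf 0xb4cb1d9)
(.leaf 0x2c30b4e7))
(.node (.leaf 0x172e9454)
(.leaf 0)))))
(.node (.node (.node (.node (.leaf 0x138c31b)
(.leaf 0x221654be))
(.node (.leaf 0x121c4799)
(.leaf 0)))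
(.node (.node (.leaf 0x9ca6ccc)
(.leaf 0x29e6d619))
(.node (.leaf 0x161c67ff)
(.leaf 0))))
(.node (.node (.node (.leaf 0x538a37e)
(.leaf 0x23f29095))
(.node (.leaf 0x1428878b)
(.leaf 0)))
(.node (.node (.leaf 0xdb2cdd2)
(.leaf 0x2d28759a))
(.node (.leaf 0x18b8add5)
(.leaf 0))))))
(.node (.node (.node (.node (.node (.leaf 0xcec253)
(.leaf 0x1ca632d0))
(.node (.leaf 0x10b6a78f)
(.leaf 0)))
(.node (.node (.leaf 0x924d460)
(.leaf 0x27f4b1bf))
(.node (.leaf 0x15a0c83e)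
(.leaf 0))))
(.node (.node (.node (.leaf 0x4aa60a2)
(.leaf 0x23424aad))
(.node (.leaf 0x13c28c18)
(.leaf 0)))
(.node (.node (.leaf 0xd4468d9)
(.leaf 0x2cc6d571))
(.node (.leaf 0x17da68d6)
(.leaf 0)))))
(.node (.node (.node (.node (.leaf 0x1daa2cd)
(.leaf 0x226a8f43))
(.node (.leaf 0x1316c95e)
(.leaf 0)))
(.node (.node (.leaf 0xa546f19)
(.leaf 0x2ad07608))
(.node (.leaf 0x1698d395)
(.leaf 0))))
(.node (.node (.node (.leaf 0x6fa4310)
(.leaf 0x24dccb97))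
(.node (.leaf 0x1490c641)
(.leaf 0)))
(.node (.node (.leaf 0xf3470fa)
(.leaf 0x2dae76e5))
(.node (.leaf 0x19ae8fe3)
(.leaf 0)))))))
(.node (.node (.node (.node (.node (.node (.leaf 0xa4a278)
(.leaf 0x1bf09480))
(.node (.leaf 0x10583250)
(.leaf 0x3098382d)))
(.node (.node (.leaf 0x8c2823e)
(.leaf 0x2698cc8b))
(.node (.leaf 0x156ea861)
(.leaf 0))))
(.node (.node (.node (.leaf 0x478a2ab)
(.leaf 0x2302b0c6))
(.node (.leaf 0x13926ee3)
(.leaf 0)))
(.node (.node (.leaf 0xbb8a775)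
(.leaf 0x2c9eb5c4))
(.node (.leaf 0x178628ec)
(.leaf 0)))))
(.node (.node (.node (.node (.leaf 0x18a81f4)
(.leaf 0x223e4b9f))
(.node (.leaf 0x12c6c5b4)
(.leaf 0)))
(.node (.node (.leaf 0xa10cdb2)
(.leaf 0x2a3e5548))
(.node (.leaf 0x165292e2)
(.leaf 0))))
(.node (.node (.node (.leaf 0x6d6209a)
(.leaf 0x24708823))
(.node (.leaf 0x14588790)
(.leaf 0)))
(.node (.node (.leaf 0xe348e27)
(.leaf 0x2d727730))
(.node (.leaf 0x19365475)
(.leaf 0))))))
(.node (.node (.node (.node (.node (.leaf 0x10080f8)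
(.leaf 0x1edc684c))
(.node (.leaf 0x1166c6ac)
(.leaf 0)))
(.node (.node (.leaf 0x99a86f1)
(.leaf 0x29acd7c2))
(.node (.leaf 0x15d26efb)
(.leaf 0))))
(.node (.node (.node (.leaf 0x4ea6477)
(.leaf 0x23a0abcb))
(.node (.leaf 0x13f67106)
(.leaf 0)))
(.node (.node (.leaf 0xd6e652c)
(.leaf 0x2cf09729))
(.node (.leaf 0x18468ca7)
(.leaf 0)))))
(.node (.node (.node (.node (.leaf 0x26222f7)
(.leaf 0x229c8974))
(.node (.leaf 0x133ab3db)
(.leaf 0)))
(.node (.node (.leaf 0xab2a6ed)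
(.leaf 0x2b9875b6))
(.node (.leaf 0x16e22ac6)
(.leaf 0))))
(.node (.node (.node (.leaf 0x734c225)
(.leaf 0x25686d8e))
(.node (.leaf 0x14d29374)
(.leaf 0)))
(.node (.node (.leaf 0xf9885ee)
(.leaf 0x2e465527))
(.node (.leaf 0x1a3eca61)
(.leaf 0)))))))))
(.node (.node (.node (.node (.node (.node (.node (.node (.leaf 0x122046)
(.leaf 0x1ad2acf8))
(.node (.leaf 0x101c287c)
(.leaf 0x2ef67888)))
(.node (.node (.leaf 0x788835e)
(.leaf 0x25e42bd5))
(.node (.leaf 0x15028eef)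
(.leaf 0))))
(.node (.node (.node (.leaf 0x322c31d)
(.leaf 0x22beb2ad))
(.node (.leaf 0x135a8cdf)
(.leaf 0)))
(.node (.node (.leaf 0xb32b37f)
(.leaf 0x2c02b57c))
(.node (.leaf 0x1722caaf)
(.leaf 0)))))
(.node (.node (.node (.node (.leaf 0x126c22f)
(.leaf 0x220e8b17))
(.node (.leaf 0x1204b3ef)
(.leaf 0)))
(.node (.node (.leaf 0x9be6919)
(.leaf 0x29d4d833))
(.node (.leaf 0x160c6f9e)
(.leaf 0))))
(.node (.node (.node (.leaf 0x5222311)
(.leaf 0x23e2911f))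
(.node (.leaf 0x141a4eee)
(.leaf 0)))
(.node (.node (.leaf 0xd9a9405)
(.leaf 0x2d1c589d))
(.node (.leaf 0x189e8e02)
(.leaf 0))))))
(.node (.node (.node (.node (.node (.leaf 0xc0842d)
(.leaf 0x1c76cdc8))
(.node (.leaf 0x109a86c5)
(.leaf 0x311a3666)))
(.node (.node (.leaf 0x918ab19)
(.leaf 0x2772a61b))
(.node (.leaf 0x1596d27a)
(.leaf 0))))
(.node (.node (.node (.leaf 0x49823f5)
(.leaf 0x232ec5f7))
(.node (.leaf 0x13b6b0ff)
(.leaf 0)))
(.node (.node (.leaf 0xcbc85ac)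
(.leaf 0x2cbab810))
(.node (.leaf 0x17ba6b53)
(.leaf 0)))))
(.node (.node (.node (.node (.leaf 0x1c0a15e)
(.leaf 0x2260af73))
(.node (.leaf 0x130c8a38)
(.leaf 0)))
(.node (.node (.leaf 0xa42b425)
(.leaf 0x2a9e9511))
(.node (.leaf 0x168c308f)
(.leaf 0))))
(.node (.node (.node (.leaf 0x6eea191)
(.leaf 0x24be8a12))
(.node (.leaf 0x147e537a)
(.leaf 0)))
(.node (.node (.leaf 0xf26c7a2)
(.leaf 0x2d9c77c7))
(.node (.leaf 0x198a5070)
(.leaf 0)))))))
(.node (.node (.node (.node (.node (.node (.leaf 0x9c804f)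
(.leaf 0x1bb86faf))
(.node (.leaf 0x104cd13d)
(.leaf 0x307c386e)))
(.node (.node (.leaf 0x8b620e3)
(.leaf 0x266accd4))
(.node (.leaf 0x155e7052)
(.leaf 0))))
(.node (.node (.node (.leaf 0x4708442)
(.leaf 0x22f46643))
(.node (.leaf 0x138686a7)
(.leaf 0)))
(.node (.node (.leaf 0xba2c82b)
(.leaf 0x2c965702))
(.node (.leaf 0x177cb23a)
(.leaf 0)))))
(.node (.node (.node (.node (.leaf 0x172c14a)
(.leaf 0x2234c9f0))
(.node (.leaf 0x127034bb)
(.leaf 0)))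
(.node (.node (.leaf 0xa004be5)
(.leaf 0x2a2cd602))
(.node (.leaf 0x16408ace)
(.leaf 0))))
(.node (.node (.node (.leaf 0x5fc61d6)
(.leaf 0x243ed057))
(.node (.leaf 0x144c9205)
(.leaf 0)))
(.node (.node (.leaf 0xe1c8f82)
(.leaf 0x2d5e76ae))
(.node (.leaf 0x191e9155)
(.leaf 0))))))
(.node (.node (.node (.node (.node (.leaf 0xf2a15c)
(.leaf 0x1e06a8fc))
(.node (.leaf 0x1136a7be)
(.leaf 0)))
(.node (.node (.leaf 0x9902afe)
(.leaf 0x29a05761))
(.node (.leaf 0x15c668f8)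
(.leaf 0))))
(.node (.node (.node (.leaf 0x4dcc433)
(.leaf 0x2388a5e6))
(.node (.leaf 0x13e6682c)
(.leaf 0)))
(.node (.node (.leaf 0xd66c660)
(.leaf 0x2ce29842))
(.node (.leaf 0x182cd43a)
(.leaf 0)))))
(.node (.node (.node (.node (.leaf 0x21cc297)
(.leaf 0x22906784))
(.node (.leaf 0x13307296)
(.leaf 0)))
(.node (.node (.leaf 0xa868691)
(.leaf 0x2b8ad79e))
(.node (.leaf 0x16cc8e0b)
(.leaf 0))))
(.node (.node (.node (.leaf 0x7268375)
(.leaf 0x254029e9))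
(.node (.leaf 0x14b45286)
(.leaf 0)))
(.node (.node (.leaf 0xf6834b8)
(.leaf 0x2e24b85c))
(.node (.leaf 0x1a1eb44c)
(.leaf 0))))))))
(.node (.node (.node (.node (.node (.node (.node (.leaf 4)
(.leaf 0x1b3ca855))
(.node (.leaf 0x1038a6bf)
(.leaf 0x3058b6de)))
(.node (.node (.leaf 0x7c6c1ba)
(.leaf 0x262ab156))
(.node (.leaf 0x152ad3cb)
(.leaf 0))))
(.node (.node (.node (.leaf 0x45c62f4)
(.leaf 0x22da4f9a))
(.node (.leaf 0x137093df)
(.leaf 0)))
(.node (.node (.leaf 0xb68b3c1)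
(.leaf 0x2c6cb54d))
(.node (.leaf 0x174cb431)
(.leaf 0)))))
(.node (.node (.node (.node (.leaf 0x14ac404)
(.leaf 0x22208c37))
(.node (.leaf 0x122a91e9)
(.leaf 0)))
(.node (.node (.leaf 0x9d68b68)
(.leaf 0x29fe96aa))
(.node (.leaf 0x16268c3a)
(.leaf 0))))
(.node (.node (.node (.leaf 0x5502167)
(.leaf 0x24166bc3))
(.node (.leaf 0x1432b1af)
(.leaf 0)))
(.node (.node (.leaf 0xdd03306)
(.leaf 0x2d38d601))
(.node (.leaf 0x18dc64c6)
(.leaf 0))))))
(.node (.node (.node (.node (.node (.leaf 0xda8109)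
(.leaf 0x1cfe8c50))
(.node (.leaf 0x10ca8509)
(.leaf 0)))
(.node (.node (.leaf 0x94c87b0)
(.leaf 0x28c88beb))
(.node (.leaf 0x15aaaa3f)
(.leaf 0))))
(.node (.node (.node (.leaf 0x4b84287)
(.leaf 0x23507130))
(.node (.leaf 0x13d0cb01)
(.leaf 0)))
(.node (.node (.leaf 0xd504752)
(.leaf 0x2cd0d522))
(.node (.leaf 0x17fab0b7)
(.leaf 0)))))
(.node (.node (.node (.node (.leaf 0x1f6615b)
(.leaf 0x22786d8f))
(.node (.leaf 0x131c4fd2)
(.leaf 0)))
(.node (.node (.leaf 0xa62cc68)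
(.leaf 0x2b7634d1))
(.node (.leaf 0x16a8b175)
(.leaf 0))))
(.node (.node (.node (.leaf 0x7068407)
(.leaf 0x24fc4d9e))
(.node (.leaf 0x149c49ca)
(.leaf 0)))
(.node (.node (.leaf 0xf486a6b)
(.leaf 0x2dc6b65a))
(.node (.leaf 0x19c84d69)
(.leaf 0)))))))
(.node (.node (.node (.node (.node (.node (.leaf 0xac4301)
(.leaf 0x1c16d1c9))
(.node (.leaf 0x1070863c)
(.leaf 0x30f0b679)))
(.node (.node (.leaf 0x8d4a34e)
(.leaf 0x26f688e6))
(.node (.leaf 0x157a4f0e)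
(.leaf 0))))
(.node (.node (.node (.leaf 0x482843e)
(.leaf 0x230e92d5))
(.node (.leaf 0x139e8c93)
(.leaf 0)))
(.node (.node (.leaf 0xc32c5b6)
(.leaf 0x2ca6d553))
(.node (.leaf 0x1794aab2)
(.leaf 0)))))
(.node (.node (.node (.node (.leaf 0x1a0c313)
(.leaf 0x22486762))
(.node (.leaf 0x12f6a4b0)
(.leaf 0)))
(.node (.node (.leaf 0xa1e490f)
(.leaf 0x2a5877b6))
(.node (.leaf 0x1664a67e)
(.leaf 0))))
(.node (.node (.node (.leaf 0x6dcc356)
(.leaf 0x248c33ea))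
(.node (.leaf 0x1464cdce)
(.leaf 0)))
(.node (.node (.leaf 0xe96a661)
(.leaf 0x2d82d858))
(.node (.leaf 0x19586b95)
(.leaf 0))))))
(.node (.node (.node (.node (.node (.leaf 0x10ea1ae)
(.leaf 0x209c6c9d))
(.node (.leaf 0x11f0a80a)
(.leaf 0)))
(.node (.node (.leaf 0x9a68db0)
(.leaf 0x29be5514))
(.node (.leaf 0x15e4ac83)
(.leaf 0))))
(.node (.node (.node (.leaf 0x4f843f0)
(.leaf 0x23b48d3b))
(.node (.leaf 0x1402ae5f)
(.leaf 0)))
(.node (.node (.leaf 0xd7ccfa2)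
(.leaf 0x2cfe35a3))
(.node (.leaf 0x1862cc8d)
(.leaf 0)))))
(.node (.node (.node (.node (.leaf 0x288a1e5)
(.leaf 0x22a6d1b4))
(.node (.leaf 0x13466883)
(.leaf 0)))
(.node (.node (.leaf 0xad65330)
(.leaf 0x2bac35d4))
(.node (.leaf 0x16f6c945)
(.leaf 0))))
(.node (.node (.node (.leaf 0x7448427)
(.leaf 0x2580acd1))
(.node (.leaf 0x14e44c84)
(.leaf 0)))
(.node (.node (.leaf 0xfb67086)
(.leaf 0x2e7ab7c5))
(.node (.leaf 0x1a6e8c44)
(.leaf 0))))))))))))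
(.node (.node (.node (.node (.node (.node (.node (.node (.node (.node (.node (.leaf 40975)
(.leaf 0x1a7ab2ab))
(.node (.leaf 0xfde848e)
(.leaf 0x2e9435b3)))
(.node (.node (.leaf 0x75060a6)
(.leaf 0x2586cb23))
(.node (.leaf 0x14e86e64)
(.leaf 0))))
(.node (.node (.node (.leaf 0x29a60b5)
(.leaf 0x22ac6604))
(.node (.leaf 0x1348b186)
(.leaf 0)))
(.node (.node (.leaf 0xaeeae7b)
(.leaf 0x2bb63753))
(.node (.leaf 0x17004e19)
(.leaf 0)))))
(.node (.node (.node (.node (.leaf 0x112822e)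
(.leaf 0x220224f2))
(.node (.leaf 0x11f48cf5)
(.leaf 0)))
(.node (.node (.leaf 0x9aaa4a7)
(.leaf 0x29c096c8))
(.node (.leaf 0x15f4b44f)
(.leaf 0))))
(.node (.node (.node (.leaf 0x4fc62fd)
(.leaf 0x23bc4ff7))
(.node (.leaf 0x140a8927)
(.leaf 0)))
(.node (.node (.leaf 0xd824b5b)
(.leaf 0x2d06960d))
(.node (.leaf 0x186a6f32)
(.leaf 0))))))
(.node (.node (.node (.node (.node (.leaf 0xb2c254)
(.leaf 0x1c32cac0))
(.node (.leaf 0x107870e9)
(.leaf 0x30f4d7f2)))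
(.node (.node (.leaf 0x8e4a214)
(.leaf 0x270c92f4))
(.node (.leaf 0x1582a84f)
(.leaf 0))))
(.node (.node (.node (.leaf 0x488c0ed)
(.leaf 0x231468a5))
(.node (.leaf 0x13a26b08)
(.leaf 0)))
(.node (.node (.leaf 0xc3aa76a)
(.leaf 0x2ca8988e))
(.node (.leaf 0x179e9384)
(.leaf 0)))))
(.node (.node (.node (.node (.leaf 0x1a422db)
(.leaf 0x224c66cf))
(.node (.leaf 0x130224e6)
(.leaf 0)))
(.node (.node (.leaf 0xa24d3e3)
(.leaf 0x2a6057d5))
(.node (.leaf 0x1668d35f)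
(.leaf 0))))
(.node (.node (.node (.leaf 0x6e06192)
(.leaf 0x2492caaa))
(.node (.leaf 0x14686e39)
(.leaf 0)))
(.node (.node (.leaf 0xeaa4a77)
(.leaf 0x2d86b790))
(.node (.leaf 0x19606f8f)
(.leaf 0)))))))
(.node (.node (.node (.node (.node (.node (.leaf 0x7ca3c2)
(.leaf 0x1b503410))
(.node (.leaf 0x103ccd82)
(.leaf 0x305c964b)))
(.node (.node (.leaf 0x7d6a419)
(.leaf 0x2638b142))
(.node (.leaf 0x152e32e3)
(.leaf 0))))
(.node (.node (.node (.leaf 0x460a055)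
(.leaf 0x22de4b25))
(.node (.leaf 0x13746b77)
(.leaf 0)))
(.node (.node (.leaf 0xb72879c)
(.leaf 0x2c729582))
(.node (.leaf 0x175e730e)
(.leaf 0)))))
(.node (.node (.node (.node (.leaf 0x1568080)
(.leaf 0x2224b465))
(.node (.leaf 0x1232a4f9)
(.leaf 0)))
(.node (.node (.leaf 0x9da6491)
(.leaf 0x2a0c75a8))
(.node (.leaf 0x162c2710)
(.leaf 0))))
(.node (.node (.node (.leaf 0x55e8422)
(.leaf 0x242047f9))
(.node (.leaf 0x14386e42)
(.leaf 0)))
(.node (.node (.leaf 0xdde30f2)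
(.leaf 0x2d3ed64f))
(.node (.leaf 0x18e453b3)
(.leaf 0))))))
(.node (.node (.node (.node (.node (.leaf 0xe28155)
(.leaf 0x1d1e68c2))
(.node (.leaf 0x10de87ee)
(.leaf 0)))
(.node (.node (.leaf 0x97e853c)
(.leaf 0x2982b4e4))
(.node (.leaf 0x15b0a92e)
(.leaf 0))))
(.node (.node (.node (.leaf 0x4c0a0a0)
(.leaf 0x2358ac20))
(.node (.leaf 0x13d44781)
(.leaf 0)))
(.node (.node (.leaf 0xd546913)
(.leaf 0x2cd4b5e0))
(.node (.leaf 0x1802b426)
(.leaf 0)))))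
(.node (.node (.node (.node (.leaf 0x1fc8322)
(.leaf 0x227c6e77))
(.node (.leaf 0x1320cae7)
(.leaf 0)))
(.node (.node (.leaf 0xa6c68a6)
(.leaf 0x2b7a969f))
(.node (.leaf 0x16aca949)
(.leaf 0))))
(.node (.node (.node (.leaf 0x70c4440)
(.leaf 0x25066852))
(.node (.leaf 0x14a0b393)
(.leaf 0)))
(.node (.node (.leaf 0xf50725f)
(.leaf 0x2dce9756))
(.node (.leaf 0x19ceb3d8)
(.leaf 0))))))))
(.node (.node (.node (.node (.node (.node (.node (.leaf 0x18205f)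
(.leaf 0x1ae86d84))
(.node (.leaf 0x1020aaf0)
(.leaf 0x2f5c3641)))
(.node (.node (.leaf 0x7a2a3b8)
(.leaf 0x25f6b261))
(.node (.leaf 0x150e9361)
(.leaf 0))))
(.node (.node (.node (.leaf 0x34c6379)
(.leaf 0x22c66960))
(.node (.leaf 0x135ccdf8)
(.leaf 0)))
(.node (.node (.leaf 0xb3eb1d4)
(.leaf 0x2c0e9515))
(.node (.leaf 0x1726cd4e)
(.leaf 0)))))
(.node (.node (.node (.node (.leaf 0x12ea066)
(.leaf 0x2212cade))
(.node (.leaf 0x120a91e7)
(.leaf 0)))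
(.node (.node (.leaf 0x9c28e86)
(.leaf 0x29dc77ca))
(.node (.leaf 0x161268e3)
(.leaf 0))))
(.node (.node (.node (.leaf 0x526a47d)
(.leaf 0x23e4d033))
(.node (.leaf 0x141e6cbc)
(.leaf 0)))
(.node (.node (.leaf 0xda42c88)
(.leaf 0x2d20d823))
(.node (.leaf 0x18a69317)
(.leaf 0))))))
(.node (.node (.node (.node (.node (.leaf 0xc6c343)
(.leaf 0x1c889300))
(.node (.leaf 0x10a6b218)
(.leaf 0)))
(.node (.node (.leaf 0x91c4d31)
(.leaf 0x27d29233))
(.node (.leaf 0x159a7059)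
(.leaf 0))))
(.node (.node (.node (.leaf 0x4a081d5)
(.leaf 0x23324fa7))
(.node (.leaf 0x13ba5133)
(.leaf 0)))
(.node (.node (.leaf 0xd3e85e8)
(.leaf 0x2cbc5835))
(.node (.leaf 0x17c232d2)
(.leaf 0)))))
(.node (.node (.node (.node (.leaf 0x1caa07f)
(.leaf 0x2266adec))
(.node (.leaf 0x13106d9b)
(.leaf 0)))
(.node (.node (.leaf 0xa46887a)
(.leaf 0x2ab0387c))
(.node (.leaf 0x1692881f)
(.leaf 0))))
(.node (.node (.node (.leaf 0x6f2c1e8)
(.leaf 0x24cc87b8))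
(.node (.leaf 0x1484aec2)
(.leaf 0)))
(.node (.node (.leaf 0xf2c86e5)
(.leaf 0x2da47864))
(.node (.leaf 0x19944deb)
(.leaf 0)))))))
(.node (.node (.node (.node (.node (.node (.leaf 0xa0c13b)
(.leaf 0x1bcc8a68))
(.node (.leaf 0x1050a69d)
(.leaf 0x30847893)))
(.node (.node (.leaf 0x8b8833e)
(.leaf 0x267aab0d))
(.node (.leaf 0x156890b5)
(.leaf 0))))
(.node (.node (.node (.leaf 0x4744069)
(.leaf 0x22f8cac4))
(.node (.leaf 0x138c8a4c)
(.leaf 0)))
(.node (.node (.leaf 0xbae6e6b)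
(.leaf 0x2c98972a))
(.node (.leaf 0x177e72db)
(.leaf 0)))))
(.node (.node (.node (.node (.leaf 0x1782120)
(.leaf 0x2238afd5))
(.node (.leaf 0x1298a65c)
(.leaf 0)))
(.node (.node (.leaf 0xa06ae96)
(.leaf 0x2a34b562))
(.node (.leaf 0x1646c8bf)
(.leaf 0))))
(.node (.node (.node (.leaf 0x60822fe)
(.leaf 0x246088f4))
(.node (.leaf 0x1450a700)
(.leaf 0)))
(.node (.node (.leaf 0xe2824d5)
(.leaf 0x2d64d616))
(.node (.leaf 0x19289341)
(.leaf 0))))))
(.node (.node (.node (.node (.node (.leaf 0xf6c303)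
(.leaf 0x1e4cafe2))
(.node (.leaf 0x114a850f)
(.leaf 0)))
(.node (.node (.leaf 0x994acde)
(.leaf 0x29a67611))
(.node (.leaf 0x15ca65d7)
(.leaf 0))))
(.node (.node (.node (.leaf 0x4e2438c)
(.leaf 0x2392b281))
(.node (.leaf 0x13ec68cf)
(.leaf 0)))
(.node (.node (.leaf 0xd68aaf6)
(.leaf 0x2ce8d752))
(.node (.leaf 0x183071c2)
(.leaf 0)))))
(.node (.node (.node (.node (.leaf 0x226a190)
(.leaf 0x2294696a))
(.node (.leaf 0x1334b3a4)
(.leaf 0)))
(.node (.node (.leaf 0xa984520)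
(.leaf 0x2b8eb7cd))
(.node (.leaf 0x16d6939b)
(.leaf 0))))
(.node (.node (.node (.leaf 0x728c448)
(.leaf 0x25526a49))
(.node (.leaf 0x14c47044)
(.leaf 0)))
(.node (.node (.leaf 0xf789002)
(.leaf 0x2e32978a))
(.node (.leaf 0x1a282c95)
(.leaf 0)))))))))
(.node (.node (.node (.node (.node (.node (.node (.node (.leaf 836226)
(.leaf 0x1aaaaed6))
(.node (.leaf 0x1014746d)
(.leaf 0x2ebeb58d)))
(.node (.node (.leaf 0x768246e)
(.leaf 0x25d2caee))
(.node (.leaf 0x14f86b78)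
(.leaf 0))))
(.node (.node (.node (.leaf 0x2d422ce)
(.leaf 0x22bac6f2))
(.node (.leaf 0x13529009)
(.leaf 0)))
(.node (.node (.leaf 0xb26c915)
(.leaf 0x2be27503))
(.node (.leaf 0x1716aa41)
(.leaf 0)))))
(.node (.node (.node (.node (.leaf 0x12041fb)
(.leaf 0x2208724b))
(.node (.leaf 0x120066b4)
(.leaf 0)))
(.node (.node (.leaf 0x9b8697d)
(.leaf 0x29d0769a))
(.node (.leaf 0x160453da)
(.leaf 0))))
(.node (.node (.node (.leaf 0x514c482)
(.leaf 0x23d4874f))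
(.node (.leaf 0x14149254)
(.leaf 0)))
(.node (.node (.leaf 0xd92abf7)
(.leaf 0x2d149877))
(.node (.leaf 0x1886305c)
(.leaf 0))))))
(.node (.node (.node (.node (.node (.leaf 0xba82fb)
(.leaf 0x1c627067))
(.node (.leaf 0x1088ca02)
(.leaf 0x310637b7)))
(.node (.node (.leaf 0x9106a27)
(.leaf 0x2750b0ce))
(.node (.leaf 0x158cd07c)
(.leaf 0))))
(.node (.node (.node (.leaf 0x494a248)
(.leaf 0x231ed463))
(.node (.leaf 0x13ac7006)
(.leaf 0)))
(.node (.node (.leaf 0xc72a4bc)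
(.leaf 0x2cb2d73e))
(.node (.leaf 0x17b08ca3)
(.leaf 0)))))
(.node (.node (.node (.node (.leaf 0x1b2846a)
(.leaf 0x22589284))
(.node (.leaf 0x13088d38)
(.leaf 0)))
(.node (.node (.leaf 0xa38ce9f)
(.leaf 0x2a869509))
(.node (.leaf 0x1684cd6f)
(.leaf 0))))
(.node (.node (.node (.leaf 0x6e8a1ff)
(.leaf 0x24b08ae1))
(.node (.leaf 0x1478d096)
(.leaf 0)))
(.node (.node (.leaf 0xf1ea549)
(.leaf 0x2d927852))
(.node (.leaf 0x19726f2e)
(.leaf 0)))))))
(.node (.node (.node (.node (.node (.node (.leaf 0x986016)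
(.leaf 0x1b8c701a))
(.node (.leaf 0x1044d01b)
(.leaf 0x306ab85b)))
(.node (.node (.leaf 0x80823e6)
(.leaf 0x265430cc))
(.node (.leaf 0x154e92f3)
(.leaf 0))))
(.node (.node (.node (.leaf 0x46ac08f)
(.leaf 0x22ea5445))
(.node (.leaf 0x137e52d6)
(.leaf 0)))
(.node (.node (.leaf 0xb8e688c)
(.leaf 0x2c9077a0))
(.node (.leaf 0x17706aa2)
(.leaf 0)))))
(.node (.node (.node (.node (.leaf 0x162a164)
(.leaf 0x222e6a73))
(.node (.leaf 0x12469055)
(.leaf 0)))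
(.node (.node (.leaf 0x9f24f7e)
(.leaf 0x2a2075fb))
(.node (.leaf 0x163ac627)
(.leaf 0))))
(.node (.node (.node (.leaf 0x5be627c)
(.leaf 0x242c2cc2))
(.node (.leaf 0x14466837)
(.leaf 0)))
(.node (.node (.leaf 0xe12875c)
(.leaf 0x2d52d7dc))
(.node (.leaf 0x190c6942)
(.leaf 0))))))
(.node (.node (.node (.node (.node (.leaf 0xeaa348)
(.leaf 0x1db8746b))
(.node (.leaf 0x111a269a)
(.leaf 0)))
(.node (.node (.leaf 0x988b338)
(.leaf 0x299ad543))
(.node (.leaf 0x15bcaeaf)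
(.leaf 0))))
(.node (.node (.node (.leaf 0x4d48358)
(.leaf 0x2372ad74))
(.node (.leaf 0x13e0aff3)
(.leaf 0)))
(.node (.node (.leaf 0xd5eaea9)
(.leaf 0x2cdeb714))
(.node (.leaf 0x181230ad)
(.leaf 0)))))
(.node (.node (.node (.node (.leaf 0x21060e9)
(.leaf 0x2288d157))
(.node (.leaf 0x132ab304)
(.leaf 0)))
(.node (.node (.leaf 0xa7c2693)
(.leaf 0x2b84b799))
(.node (.leaf 0x16c2cdb5)
(.leaf 0))))
(.node (.node (.node (.leaf 0x720227f)
(.leaf 0x25223348))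
(.node (.leaf 0x14b0a811)
(.leaf 0)))
(.node (.node (.leaf 0xf62501d)
(.leaf 0x2e0c974b))
(.node (.leaf 0x1a08a8f7)
(.leaf 0))))))))
(.node (.node (.node (.node (.node (.node (.node (.leaf 0x3c600a)
(.leaf 0x1b148f6e))
(.node (.leaf 0x102e6988)
(.leaf 0x3052b764)))
(.node (.node (.leaf 0x7b8a370)
(.leaf 0x26169074))
(.node (.leaf 0x1520ceba)
(.leaf 0))))
(.node (.node (.node (.leaf 0x45840c3)
(.leaf 0x22d48aeb))
(.node (.leaf 0x1366b017)
(.leaf 0)))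
(.node (.node (.leaf 0xb5c85c8)
(.leaf 0x2c54d4fe))
(.node (.leaf 0x173e92d4)
(.leaf 0)))))
(.node (.node (.node (.node (.leaf 0x140a22b)
(.leaf 0x221cc9ac))
(.node (.leaf 0x1220cb61)
(.leaf 0)))
(.node (.node (.leaf 0x9d0ab03)
(.leaf 0x29ea5805))
(.node (.leaf 0x1620ac80)
(.leaf 0))))
(.node (.node (.node (.leaf 0x5402346)
(.leaf 0x23fe28ee))
(.node (.leaf 0x142c4d10)
(.leaf 0)))
(.node (.node (.leaf 0xdbed318)
(.leaf 0x2d2c3846))
(.node (.leaf 0x18c46d54)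
(.leaf 0))))))
(.node (.node (.node (.node (.node (.leaf 0xd0434b)
(.leaf 0x1ccc8f4d))
(.node (.leaf 0x10c0cb3a)
(.leaf 0)))
(.node (.node (.leaf 0x9328fec)
(.leaf 0x283c342b))
(.node (.leaf 0x15a2937c)
(.leaf 0))))
(.node (.node (.node (.leaf 0x4ac21a6)
(.leaf 0x2344d231))
(.node (.leaf 0x13c82f91)
(.leaf 0)))
(.node (.node (.leaf 0xd4ac5a4)
(.leaf 0x2ccab726))
(.node (.leaf 0x17ecaa0a)
(.leaf 0)))))
(.node (.node (.node (.node (.leaf 0x1e4a186)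
(.leaf 0x2270a536))
(.node (.leaf 0x1318acdc)
(.leaf 0)))
(.node (.node (.leaf 0xa5c6b02)
(.leaf 0x2adc95ef))
(.node (.leaf 0x16a0d28a)
(.leaf 0))))
(.node (.node (.node (.leaf 0x6fea241)
(.leaf 0x24eaab1d))
(.node (.leaf 0x14968a1a)
(.leaf 0)))
(.node (.node (.leaf 0xf3cc9da)
(.leaf 0x2db4b5ca))
(.node (.leaf 0x19ba730f)
(.leaf 0)))))))
(.node (.node (.node (.node (.node (.node (.leaf 0xa8817f)
(.leaf 0x1bfc85fd))
(.node (.leaf 0x105cb4bf)
(.leaf 0x30a49777)))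
(.node (.node (.leaf 0x8c8239f)
(.leaf 0x26be9027))
(.node (.leaf 0x15749038)
(.leaf 0))))
(.node (.node (.node (.leaf 0x47e8021)
(.leaf 0x23088556))
(.node (.leaf 0x1398abfb)
(.leaf 0)))
(.node (.node (.leaf 0xc06a5a9)
(.leaf 0x2ca07831))
(.node (.leaf 0x178a8d49)
(.leaf 0)))))
(.node (.node (.node (.node (.leaf 0x194a178)
(.leaf 0x22424fbe))
(.node (.leaf 0x12e0c4d0)
(.leaf 0)))
(.node (.node (.leaf 0xa146ce9)
(.leaf 0x2a44b6b7))
(.node (.leaf 0x1656310b)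
(.leaf 0))))
(.node (.node (.node (.leaf 0x6d8c09c)
(.leaf 0x2480496b))
(.node (.leaf 0x145c6b1f)
(.leaf 0)))
(.node (.node (.leaf 0xe729357)
(.leaf 0x2d7ad5ce))
(.node (.leaf 0x193ecd98)
(.leaf 0))))))
(.node (.node (.node (.node (.node (.leaf 0x106c3ff)
(.leaf 0x1f26ac43))
(.node (.leaf 0x1184a48d)
(.leaf 0)))
(.node (.node (.leaf 0x99e7408)
(.leaf 0x29b09754))
(.node (.leaf 0x15d66d46)
(.leaf 0))))
(.node (.node (.node (.leaf 0x4f0c373)
(.leaf 0x23a4b26f))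
(.node (.leaf 0x13fa9313)
(.leaf 0)))
(.node (.node (.leaf 0xd76c6fe)
(.leaf 0x2cf4b838))
(.node (.leaf 0x1850a5fc)
(.leaf 0)))))
(.node (.node (.node (.node (.leaf 0x2708090)
(.leaf 0x22a08eac))
(.node (.leaf 0x133eae07)
(.leaf 0)))
(.node (.node (.leaf 0xac4679d)
(.leaf 0x2b9cb7f8))
(.node (.leaf 0x16e8687e)
(.leaf 0))))
(.node (.node (.node (.leaf 0x73ea121)
(.leaf 0x25746a19))
(.node (.leaf 0x14da8bf2)
(.leaf 0)))
(.node (.node (.leaf 0xfa4a4f0)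
(.leaf 0x2e4ad856))
(.node (.leaf 0x1a488c17)
(.leaf 0))))))))))
(.node (.node (.node (.node (.node (.node (.node (.node (.node (.leaf 409690)
(.leaf 0x1a90c7e3))
(.node (.leaf 0x100e86b0)
(.leaf 0x2eb05793)))
(.node (.node (.leaf 0x760a09b)
(.leaf 0x25aeb371))
(.node (.leaf 0x14ee7114)
(.leaf 0))))
(.node (.node (.node (.leaf 0x2a6c26e)
(.leaf 0x22b2327c))
(.node (.leaf 0x134e6a67)
(.leaf 0)))
(.node (.node (.leaf 0xb022530)
(.leaf 0x2bc27574))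
(.node (.leaf 0x170c8ad9)
(.leaf 0)))))
(.node (.node (.node (.node (.leaf 0x11aa0bb)
(.leaf 0x22048e4c))
(.node (.leaf 0x11fa4886)
(.leaf 0)))
(.node (.node (.leaf 0x9b2a582)
(.leaf 0x29c8d54a))
(.node (.leaf 0x16004bde)
(.leaf 0))))
(.node (.node (.node (.leaf 0x50a4271)
(.leaf 0x23c49036))
(.node (.leaf 0x140e7237)
(.leaf 0)))
(.node (.node (.leaf 0xd8a258d)
(.leaf 0x2d0e75fa))
(.node (.leaf 0x18787376)
(.leaf 0))))))
(.node (.node (.node (.node (.node (.leaf 0xb68257)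
(.leaf 0x1c4ad031))
(.node (.leaf 0x10828a57)
(.leaf 0x30fa97ec)))
(.node (.node (.leaf 0x908b08e)
(.leaf 0x2732ca05))
(.node (.leaf 0x15886ec6)
(.leaf 0))))
(.node (.node (.node (.leaf 0x48c63eb)
(.leaf 0x231c6c64))
(.node (.leaf 0x13a62ead)
(.leaf 0)))
(.node (.node (.leaf 0xc4aa8a1)
(.leaf 0x2cae7675))
(.node (.leaf 0x17aab00f)
(.leaf 0)))))
(.node (.node (.node (.node (.leaf 0x1aea0eb)
(.leaf 0x225029b8))
(.node (.leaf 0x13046afa)
(.leaf 0)))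
(.node (.node (.leaf 0xa3029e1)
(.leaf 0x2a6ad718))
(.node (.leaf 0x1676d0a2)
(.leaf 0))))
(.node (.node (.node (.leaf 0x6e4a189)
(.leaf 0x249a8818))
(.node (.leaf 0x1472a965)
(.leaf 0)))
(.node (.node (.leaf 0xed06e13)
(.leaf 0x2d8a985a))
(.node (.leaf 0x19687443)
(.leaf 0)))))))
(.node (.node (.node (.node (.node (.node (.leaf 0x928005)
(.leaf 0x1b74b39c))
(.node (.leaf 0x10402d0a)
(.leaf 0x30609870)))
(.node (.node (.leaf 0x7f28228)
(.leaf 0x265053e9))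
(.node (.leaf 0x153e4f0a)
(.leaf 0))))
(.node (.node (.node (.leaf 0x46482b6)
(.leaf 0x22e66645))
(.node (.leaf 0x137a89e0)
(.leaf 0)))
(.node (.node (.leaf 0xb82879b)
(.leaf 0x2c8e552b))
(.node (.leaf 0x176ac62e)
(.leaf 0)))))
(.node (.node (.node (.node (.leaf 0x15cc088)
(.leaf 0x222a85ec))
(.node (.leaf 0x123c90dd)
(.leaf 0)))
(.node (.node (.leaf 0x9e691e2)
(.leaf 0x2a1256ca))
(.node (.leaf 0x163489ba)
(.leaf 0))))
(.node (.node (.node (.leaf 0x584818a)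
(.leaf 0x24266ca8))
(.node (.leaf 0x14406f90)
(.leaf 0)))
(.node (.node (.leaf 0xdfe8909)
(.leaf 0x2d4495bb))
(.node (.leaf 0x18f6d10d)
(.leaf 0))))))
(.node (.node (.node (.node (.node (.leaf 0xe681e0)
(.leaf 0x1d3a6a11))
(.node (.leaf 0x10fa8685)
(.leaf 0)))
(.node (.node (.leaf 0x984c871)
(.leaf 0x299034f5))
(.node (.leaf 0x15b6aba5)
(.leaf 0))))
(.node (.node (.node (.leaf 0x4c8a30d)
(.leaf 0x236091cb))
(.node (.leaf 0x13da4943)
(.leaf 0)))
(.node (.node (.leaf 0xd588f76)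
(.leaf 0x2cd857ba))
(.node (.leaf 0x180c25dc)
(.leaf 0)))))
(.node (.node (.node (.node (.leaf 0x20460c7)
(.leaf 0x22848aae))
(.node (.leaf 0x1324732e)
(.leaf 0)))
(.node (.node (.leaf 0xa7633ba)
(.leaf 0x2b8054d6))
(.node (.leaf 0x16b4938a)
(.leaf 0))))
(.node (.node (.node (.leaf 0x714425b)
(.leaf 0x2512c8c4))
(.node (.leaf 0x14a84a62)
(.leaf 0)))
(.node (.node (.leaf 0xf589090)
(.leaf 0x2ddeb76a))
(.node (.leaf 0x19e2b344)
(.leaf 0))))))))
(.node (.node (.node (.node (.node (.node (.node (.leaf 0x248432)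
(.leaf 0x1b00d1a1))
(.node (.leaf 0x1024b4c0)
(.leaf 0x304e963e)))
(.node (.node (.leaf 0x7b08240)
(.leaf 0x260893b2))
(.node (.leaf 0x15186e91)
(.leaf 0))))
(.node (.node (.node (.leaf 0x3faa0b8)
(.leaf 0x22ccc928))
(.node (.leaf 0x13625249)
(.leaf 0)))
(.node (.node (.leaf 0xb4a85c1)
(.leaf 0x2c1875a5))
(.node (.leaf 0x172c6ecc)
(.leaf 0)))))
(.node (.node (.node (.node (.leaf 0x134c0ca)
(.leaf 0x22166e0d))
(.node (.leaf 0x121ac69f)
(.leaf 0)))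
(.node (.node (.leaf 0x9ca8770)
(.leaf 0x29e4b841))
(.node (.leaf 0x161a8bbe)
(.leaf 0))))
(.node (.node (.node (.leaf 0x53480ae)
(.leaf 0x23ee8bc7))
(.node (.leaf 0x1424546e)
(.leaf 0)))
(.node (.node (.leaf 0xdaea76c)
(.leaf 0x2d2637ae))
(.node (.leaf 0x18b6b401)
(.leaf 0))))))
(.node (.node (.node (.node (.node (.leaf 0xcca2c0)
(.leaf 0x1ca073f9))
(.node (.leaf 0x10b48519)
(.leaf 0)))
(.node (.node (.leaf 0x9228d7d)
(.leaf 0x27eab140))
(.node (.leaf 0x159ea677)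
(.leaf 0))))
(.node (.node (.node (.leaf 0x4a8a1b7)
(.leaf 0x23406d2f))
(.node (.leaf 0x13c0cff9)
(.leaf 0)))
(.node (.node (.leaf 0xd44c7cd)
(.leaf 0x2cc437fb))
(.node (.leaf 0x17ce6eca)
(.leaf 0)))))
(.node (.node (.node (.node (.leaf 0x1d82256)
(.leaf 0x226aa849))
(.node (.leaf 0x1314b2be)
(.leaf 0)))
(.node (.node (.leaf 0xa544c29)
(.leaf 0x2ac876d4))
(.node (.leaf 0x16986ad8)
(.leaf 0))))
(.node (.node (.node (.leaf 0x6f86431)
(.leaf 0x24da8e23))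
(.node (.leaf 0x148c68be)
(.leaf 0)))
(.node (.node (.leaf 0xf324a13)
(.leaf 0x2daa97dd))
(.node (.leaf 0x19ac66ce)
(.leaf 0)))))))
(.node (.node (.node (.node (.node (.node (.leaf 0xa4c0fd)
(.leaf 0x1bea7208))
(.node (.leaf 0x1056ade3)
(.leaf 0x3098d69d)))
(.node (.node (.leaf 0x8be43f2)
(.leaf 0x2690b126))
(.node (.leaf 0x156c532a)
(.leaf 0))))
(.node (.node (.node (.leaf 0x478c157)
(.leaf 0x2300c8c3))
(.node (.leaf 0x1390940c)
(.leaf 0)))
(.node (.node (.leaf 0xbb666c1)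
(.leaf 0x2c9e351b))
(.node (.leaf 0x17847349)
(.leaf 0)))))
(.node (.node (.node (.node (.leaf 0x184a44a)
(.leaf 0x223e657c))
(.node (.leaf 0x12c285b2)
(.leaf 0)))
(.node (.node (.leaf 0xa1048bd)
(.leaf 0x2a3eb53f))
(.node (.leaf 0x16508d4c)
(.leaf 0))))
(.node (.node (.node (.leaf 0x67c61bc)
(.leaf 0x246a6902))
(.node (.leaf 0x14568d51)
(.leaf 0)))
(.node (.node (.leaf 0xe308688)
(.leaf 0x2d6e952a))
(.node (.leaf 0x1936aff2)
(.leaf 0))))))
(.node (.node (.node (.node (.node (.leaf 0xfe825e)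
(.leaf 0x1ea053ae))
(.node (.leaf 0x116289c2)
(.leaf 0)))
(.node (.node (.leaf 0x9983053)
(.leaf 0x29ac9744))
(.node (.leaf 0x15ced47e)
(.leaf 0))))
(.node (.node (.node (.leaf 0x4ea8098)
(.leaf 0x23a046a8))
(.node (.leaf 0x13f6cd4d)
(.leaf 0)))
(.node (.node (.leaf 0xd6cce58)
(.leaf 0x2cf0b6da))
(.node (.leaf 0x1840cdc6)
(.leaf 0)))))
(.node (.node (.node (.node (.leaf 0x2608165)
(.leaf 0x229aacd9))
(.node (.leaf 0x133a8d3e)
(.leaf 0)))
(.node (.node (.leaf 0xaac6531)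
(.leaf 0x2b96b592))
(.node (.leaf 0x16e0936c)
(.leaf 0))))
(.node (.node (.node (.leaf 0x72c8390)
(.leaf 0x25624f89))
(.node (.leaf 0x14ceade1)
(.leaf 0)))
(.node (.node (.leaf 0xf9466e6)
(.leaf 0x2e403645))
(.node (.leaf 0x1a3ab295)
(.leaf 0)))))))))
(.node (.node (.node (.node (.node (.node (.node (.node (.leaf 0x1063aa)
(.leaf 0x1acac8b0))
(.node (.leaf 0x101aa86c)
(.leaf 0x2eec376c)))
(.node (.node (.leaf 0x784832e)
(.leaf 0x25e08f9b))
(.node (.leaf 0x15005455)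
(.leaf 0))))
(.node (.node (.node (.leaf 0x2fe6369)
(.leaf 0x22be2e81))
(.node (.leaf 0x13586ff6)
(.leaf 0)))
(.node (.node (.leaf 0xb3086b5)
(.leaf 0x2bfc9656))
(.node (.leaf 0x1720b012)
(.leaf 0)))))
(.node (.node (.node (.node (.leaf 0x1244409)
(.leaf 0x220cb3ac))
(.node (.leaf 0x12042aef)
(.leaf 0)))
(.node (.node (.leaf 0x9be854f)
(.leaf 0x29d45717))
(.node (.leaf 0x160a32c2)
(.leaf 0))))
(.node (.node (.node (.leaf 0x51c6283)
(.leaf 0x23e09276))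
(.node (.leaf 0x1418d312)
(.leaf 0)))
(.node (.node (.leaf 0xd986c27)
(.leaf 0x2d1c387e))
(.node (.leaf 0x1898535e)
(.leaf 0))))))
(.node (.node (.node (.node (.node (.leaf 0xc0a13e)
(.leaf 0x1c728ee2))
(.node (.leaf 0x10948552)
(.leaf 0x3114b80d)))
(.node (.node (.leaf 0x91687b4)
(.leaf 0x276c4655))
(.node (.leaf 0x1596ad17)
(.leaf 0))))
(.node (.node (.node (.leaf 0x498a288)
(.leaf 0x232cb3be))
(.node (.leaf 0x13b27329)
(.leaf 0)))
(.node (.node (.leaf 0xc9ed389)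
(.leaf 0x2cb8b81e))
(.node (.leaf 0x17b874ab)
(.leaf 0)))))
(.node (.node (.node (.node (.leaf 0x1bca025)
(.leaf 0x22606c7e))
(.node (.leaf 0x130c2638)
(.leaf 0)))
(.node (.node (.leaf 0xa4264c7)
(.leaf 0x2a9a7587))
(.node (.leaf 0x168ccd48)
(.leaf 0))))
(.node (.node (.node (.leaf 0x6eca218)
(.leaf 0x24b8c642))
(.node (.leaf 0x147e67f4)
(.leaf 0)))
(.node (.node (.leaf 0xf264561)
(.leaf 0x2d9ad703))
(.node (.leaf 0x1988a922)
(.leaf 0)))))))
(.node (.node (.node (.node (.node (.node (.leaf 0x9a82b9)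
(.leaf 0x1baa8ba4))
(.node (.leaf 0x104a29f2)
(.leaf 0x307a982c)))
(.node (.node (.leaf 0x87c2221)
(.leaf 0x2666670f))
(.node (.leaf 0x155caa0c)
(.leaf 0))))
(.node (.node (.node (.leaf 0x4706156)
(.leaf 0x22f4c5e2))
(.node (.leaf 0x13848c5a)
(.leaf 0)))
(.node (.node (.leaf 0xba0c485)
(.leaf 0x2c963529))
(.node (.leaf 0x177a8ebe)
(.leaf 0)))))
(.node (.node (.node (.node (.leaf 0x1708137)
(.leaf 0x22323299))
(.node (.leaf 0x1264a57f)
(.leaf 0)))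
(.node (.node (.leaf 0xa0067d4)
(.leaf 0x2a28b7bb))
(.node (.leaf 0x163e6cf1)
(.leaf 0))))
(.node (.node (.node (.leaf 0x5f8a473)
(.leaf 0x243e2c94))
(.node (.leaf 0x144c6caf)
(.leaf 0)))
(.node (.node (.leaf 0xe1a3367)
(.leaf 0x2d5e55e3))
(.node (.leaf 0x191ad18e)
(.leaf 0))))))
(.node (.node (.node (.node (.node (.leaf 0xf02347)
(.leaf 0x1ddc735d))
(.node (.leaf 0x112e8631)
(.leaf 0)))
(.node (.node (.leaf 0x99046c9)
(.leaf 0x299ed586))
(.node (.leaf 0x15c48de9)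
(.leaf 0))))
(.node (.node (.node (.leaf 0x4dac481)
(.leaf 0x2386a98c))
(.node (.leaf 0x13e4d113)
(.leaf 0)))
(.node (.node (.leaf 0xd64a88b)
(.leaf 0x2ce27677))
(.node (.leaf 0x182a8639)
(.leaf 0)))))
(.node (.node (.node (.node (.leaf 0x21a819b)
(.leaf 0x228ed094))
(.node (.leaf 0x13304df7)
(.leaf 0)))
(.node (.node (.leaf 0xa82ac2b)
(.leaf 0x2b8a3633))
(.node (.leaf 0x16ca30da)
(.leaf 0))))
(.node (.node (.node (.leaf 0x72420c1)
(.leaf 0x253ab00c))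
(.node (.leaf 0x14b4ad73)
(.leaf 0)))
(.node (.node (.leaf 0xf68ada3)
(.leaf 0x2e24d7f5))
(.node (.leaf 0x1a1a91ed)
(.leaf 0))))))))
(.node (.node (.node (.node (.node (.node (.node (.leaf 0x688002)
(.leaf 0x1b32ab2b))
(.node (.leaf 0x1036a7ba)
(.leaf 0x30567624)))
(.node (.node (.leaf 0x7c22472)
(.leaf 0x262a4a5c))
(.node (.leaf 0x152ab04a)
(.leaf 0))))
(.node (.node (.node (.leaf 0x45c814f)
(.leaf 0x22d872de))
(.node (.leaf 0x1370c838)
(.leaf 0)))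
(.node (.node (.leaf 0xb6664fe)
(.leaf 0x2c6a94f8))
(.node (.leaf 0x174aabec)
(.leaf 0)))))
(.node (.node (.node (.node (.leaf 0x14aa14b)
(.leaf 0x22204a69))
(.node (.leaf 0x122ac6aa)
(.leaf 0)))
(.node (.node (.leaf 0x9d4cfe1)
(.leaf 0x29fe5549))
(.node (.leaf 0x1624328c)
(.leaf 0))))
(.node (.node (.node (.leaf 0x54ca330)
(.leaf 0x241284e3))
(.node (.leaf 0x14324778)
(.leaf 0)))
(.node (.node (.leaf 0xdcec4c4)
(.leaf 0x2d3476ac))
(.node (.leaf 0x18d8281c)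
(.leaf 0))))))
(.node (.node (.node (.node (.node (.leaf 0xda6063)
(.leaf 0x1cec66d3))
(.node (.leaf 0x10c6b4b2)
(.leaf 0)))
(.node (.node (.leaf 0x93cb1c5)
(.leaf 0x28a4b1ad))
(.node (.leaf 0x15a8cd79)
(.leaf 0))))
(.node (.node (.node (.leaf 0x4b660c2)
(.leaf 0x23502b2f))
(.node (.leaf 0x13ceaf00)
(.leaf 0)))
(.node (.node (.leaf 0xd4e8f46)
(.leaf 0x2cce976f))
(.node (.leaf 0x17fa68d1)
(.leaf 0)))))
(.node (.node (.node (.node (.leaf 0x1f28210)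
(.leaf 0x2276d160))
(.node (.leaf 0x131cab44)
(.leaf 0)))
(.node (.node (.leaf 0xa62a755)
(.leaf 0x2b38b54e))
(.node (.leaf 0x16a868d3)
(.leaf 0))))
(.node (.node (.node (.leaf 0x70641b5)
(.leaf 0x24f68bba))
(.node (.leaf 0x149cc613)
(.leaf 0)))
(.node (.node (.leaf 0xf48289e)
(.leaf 0x2dbc9817))
(.node (.leaf 0x19c68de2)
(.leaf 0)))))))
(.node (.node (.node (.node (.node (.node (.leaf 0xacc183)
(.leaf 0x1c0e70b8))
(.node (.leaf 0x106e8651)
(.leaf 0x30ee7731)))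
(.node (.node (.leaf 0x8d2a389)
(.leaf 0x26ea323c))
(.node (.leaf 0x157a2996)
(.leaf 0))))
(.node (.node (.node (.leaf 0x482c3f1)
(.leaf 0x230ec739))
(.node (.leaf 0x139cd101)
(.leaf 0)))
(.node (.node (.leaf 0xc30a5b0)
(.leaf 0x2ca4988b))
(.node (.leaf 0x17926bbc)
(.leaf 0)))))
(.node (.node (.node (.node (.leaf 0x19e8195)
(.leaf 0x224688af))
(.node (.leaf 0x12ecc698)
(.leaf 0)))
(.node (.node (.leaf 0xa1c8eb2)
(.leaf 0x2a5475fc))
(.node (.leaf 0x1660b2dc)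
(.leaf 0))))
(.node (.node (.node (.leaf 0x6da8216)
(.leaf 0x248ab342))
(.node (.leaf 0x14626e1d)
(.leaf 0)))
(.node (.node (.leaf 0xe9467cb)
(.leaf 0x2d82b51c))
(.node (.leaf 0x195284ed)
(.leaf 0))))))
(.node (.node (.node (.node (.node (.leaf 0x10cc1da)
(.leaf 0x1fbcc994))
(.node (.leaf 0x11eea518)
(.leaf 0)))
(.node (.node (.leaf 0x9a42e7a)
(.leaf 0x29bcd506))
(.node (.leaf 0x15dc6cf6)
(.leaf 0))))
(.node (.node (.node (.leaf 0x4f822ae)
(.leaf 0x23b2c9b2))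
(.node (.leaf 0x14024c5f)
(.leaf 0)))
(.node (.node (.leaf 0xd7c4ef2)
(.leaf 0x2cfc94f1))
(.node (.leaf 0x18602d55)
(.leaf 0)))))
(.node (.node (.node (.node (.leaf 0x282637a)
(.leaf 0x22a66aba))
(.node (.leaf 0x1344d14b)
(.leaf 0)))
(.node (.node (.leaf 0xad6270d)
(.leaf 0x2baab51e))
(.node (.leaf 0x16f625fb)
(.leaf 0))))
(.node (.node (.node (.leaf 0x742c1fa)
(.leaf 0x257c3428))
(.node (.leaf 0x14e4c9ec)
(.leaf 0)))
(.node (.node (.leaf 0xfb484bb)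
(.leaf 0x2e6e3803))
(.node (.leaf 0x1a642990)
(.leaf 0)))))))))))
(.node (.node (.node (.node (.node (.node (.node (.node (.node (.node (.leaf 156076)
(.leaf 0x1a864ed9))
(.node (.leaf 0xff4c4b9)
(.leaf 0x2e9a779c)))
(.node (.node (.leaf 0x758645e)
(.leaf 0x25909356))
(.node (.leaf 0x14eca8e0)
(.leaf 0))))
(.node (.node (.node (.leaf 0x2a0c2b8)
(.leaf 0x22b0c7fd))
(.node (.leaf 0x134c8719)
(.leaf 0)))
(.node (.node (.leaf 0xaf88579)
(.leaf 0x2bbc36e0))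
(.node (.leaf 0x1702ce33)
(.leaf 0)))))
(.node (.node (.node (.node (.leaf 0x1144353)
(.leaf 0x22027088))
(.node (.leaf 0x11f66b36)
(.leaf 0)))
(.node (.node (.leaf 0x9aec68b)
(.leaf 0x29c497ff))
(.node (.leaf 0x15fa88d2)
(.leaf 0))))
(.node (.node (.node (.leaf 0x5024428)
(.leaf 0x23c26834))
(.node (.leaf 0x140c2c59)
(.leaf 0)))
(.node (.node (.leaf 0xd84aaf5)
(.leaf 0x2d0a7591))
(.node (.leaf 0x1872b2d9)
(.leaf 0))))))
(.node (.node (.node (.node (.node (.leaf 0xb463a9)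
(.leaf 0x1c407150))
(.node (.leaf 0x107cd3c7)
(.leaf 0x30f67896)))
(.node (.node (.leaf 0x906a5f4)
(.leaf 0x271c867d))
(.node (.leaf 0x158645f9)
(.leaf 0))))
(.node (.node (.node (.leaf 0x48ac0f0)
(.leaf 0x2316cdf0))
(.node (.leaf 0x13a48cfe)
(.leaf 0)))
(.node (.node (.leaf 0xc448570)
(.leaf 0x2cac763b))
(.node (.leaf 0x17a66fb4)
(.leaf 0)))))
(.node (.node (.node (.node (.leaf 0x1acc072)
(.leaf 0x224c92ea))
(.node (.leaf 0x1302aa15)
(.leaf 0)))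
(.node (.node (.leaf 0xa2ab353)
(.leaf 0x2a64b82e))
(.node (.leaf 0x167248bc)
(.leaf 0))))
(.node (.node (.node (.leaf 0x6e2a3e8)
(.leaf 0x2496aac8))
(.node (.leaf 0x146c6c90)
(.leaf 0)))
(.node (.node (.leaf 0xebca753)
(.leaf 0x2d887816))
(.node (.leaf 0x1966a6a3)
(.leaf 0)))))))
(.node (.node (.node (.node (.node (.node (.leaf 0x8283c8)
(.leaf 0x1b5a928d))
(.node (.leaf 0x103ed111)
(.leaf 0x305ed684)))
(.node (.node (.leaf 0x7ec6110)
(.leaf 0x26408ecd))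
(.node (.leaf 0x153493ab)
(.leaf 0))))
(.node (.node (.node (.leaf 0x46280b2)
(.leaf 0x22e2ade8))
(.node (.leaf 0x1376acc5)
(.leaf 0)))
(.node (.node (.leaf 0xb7aa575)
(.leaf 0x2c82d626))
(.node (.leaf 0x176449f7)
(.leaf 0)))))
(.node (.node (.node (.node (.leaf 0x15aa163)
(.leaf 0x2226d278))
(.node (.leaf 0x12345257)
(.leaf 0)))
(.node (.node (.leaf 0x9e0acf4)
(.leaf 0x2a12b4d9))
(.node (.leaf 0x162e8aa3)
(.leaf 0))))
(.node (.node (.node (.leaf 0x578a38d)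
(.leaf 0x24226b09))
(.node (.leaf 0x143c89ae)
(.leaf 0)))
(.node (.node (.leaf 0xdf686b6)
(.leaf 0x2d4096d1))
(.node (.leaf 0x18ec8fa6)
(.leaf 0))))))
(.node (.node (.node (.node (.node (.leaf 0xe4c1a0)
(.leaf 0x1d2e72b3))
(.node (.leaf 0x10e6677c)
(.leaf 0)))
(.node (.node (.leaf 0x98224b1)
(.leaf 0x29869667))
(.node (.leaf 0x15b0d458)
(.leaf 0))))
(.node (.node (.node (.leaf 0x4c223ac)
(.leaf 0x235cd307))
(.node (.leaf 0x13d47476)
(.leaf 0)))
(.node (.node (.leaf 0xd56c8da)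
(.leaf 0x2cd87528))
(.node (.leaf 0x1808af4b)
(.leaf 0)))))
(.node (.node (.node (.node (.leaf 0x2008314)
(.leaf 0x227eb31c))
(.node (.leaf 0x1322d0b0)
(.leaf 0)))
(.node (.node (.leaf 0xa70ab96)
(.leaf 0x2b7cd69e))
(.node (.leaf 0x16aeb21a)
(.leaf 0))))
(.node (.node (.node (.leaf 0x710c1ce)
(.leaf 0x2508324f))
(.node (.leaf 0x14a4ae0c)
(.leaf 0)))
(.node (.node (.leaf 0xf54a8cc)
(.leaf 0x2ddab62f))
(.node (.leaf 0x19d6912a)
(.leaf 0))))))))
(.node (.node (.node (.node (.node (.node (.node (.leaf 0x20425d)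
(.leaf 0x1aee6ad6))
(.node (.leaf 0x10227103)
(.leaf 0x2f7ab7df)))
(.node (.node (.leaf 0x7a86219)
(.leaf 0x26008522))
(.node (.leaf 0x15146814)
(.leaf 0))))
(.node (.node (.node (.leaf 0x35ea220)
(.leaf 0x22c86967))
(.node (.leaf 0x1360aabe)
(.leaf 0)))
(.node (.node (.leaf 0xb425354)
(.leaf 0x2c165517))
(.node (.leaf 0x172ab2bc)
(.leaf 0)))))
(.node (.node (.node (.node (.leaf 0x130a2bf)
(.leaf 0x2214ab8b))
(.node (.leaf 0x12109383)
(.leaf 0)))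
(.node (.node (.leaf 0x9c687f5)
(.leaf 0x29e29681))
(.node (.leaf 0x16164a90)
(.leaf 0))))
(.node (.node (.node (.leaf 0x52cc3fb)
(.leaf 0x23e82dfd))
(.node (.leaf 0x14228c0b)
(.leaf 0)))
(.node (.node (.leaf 0xda64b7f)
(.leaf 0x2d24b555))
(.node (.leaf 0x18ae8ddd)
(.leaf 0))))))
(.node (.node (.node (.node (.node (.leaf 0xcaa2fa)
(.leaf 0x1c8c7081))
(.node (.leaf 0x10ac8630)
(.leaf 0)))
(.node (.node (.leaf 0x91e4a30)
(.leaf 0x27e4aa6a))
(.node (.leaf 0x159caada)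
(.leaf 0))))
(.node (.node (.node (.leaf 0x4a24185)
(.leaf 0x233aa728))
(.node (.leaf 0x13bc6afb)
(.leaf 0)))
(.node (.node (.leaf 0xd408773)
(.leaf 0x2cc0b6c2))
(.node (.leaf 0x17c633f8)
(.leaf 0)))))
(.node (.node (.node (.node (.leaf 0x1d4a26c)
(.leaf 0x22684831))
(.node (.leaf 0x13126c58)
(.leaf 0)))
(.node (.node (.leaf 0xa508fdd)
(.leaf 0x2abcb4eb))
(.node (.leaf 0x16948e55)
(.leaf 0))))
(.node (.node (.node (.leaf 0x6f443cf)
(.leaf 0x24d24be3))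
(.node (.leaf 0x14886c9e)
(.leaf 0)))
(.node (.node (.leaf 0xf306a60)
(.leaf 0x2da835c7))
(.node (.leaf 0x199e2f23)
(.leaf 0)))))))
(.node (.node (.node (.node (.node (.node (.leaf 0xa220ab)
(.leaf 0x1bd6c49a))
(.node (.leaf 0x105294a5)
(.leaf 0x3090965b)))
(.node (.node (.leaf 0x8bc8336)
(.leaf 0x26846b7e))
(.node (.leaf 0x156c660a)
(.leaf 0))))
(.node (.node (.node (.leaf 0x4764071)
(.leaf 0x22fa485b))
(.node (.leaf 0x138eb0c2)
(.leaf 0)))
(.node (.node (.leaf 0xbb48848)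
(.leaf 0x2c9ad87a))
(.node (.leaf 0x17826aa9)
(.leaf 0)))))
(.node (.node (.node (.node (.leaf 0x17c6130)
(.leaf 0x223a32cb))
(.node (.leaf 0x12a684ce)
(.leaf 0)))
(.node (.node (.leaf 0xa0c7326)
(.leaf 0x2a3876b9))
(.node (.leaf 0x16487148)
(.leaf 0))))
(.node (.node (.node (.leaf 0x66ca13f)
(.leaf 0x24643240))
(.node (.leaf 0x1452d0f1)
(.leaf 0)))
(.node (.node (.leaf 0xe2a6a98)
(.leaf 0x2d6a97fc))
(.node (.leaf 0x193085a1)
(.leaf 0))))))
(.node (.node (.node (.node (.node (.leaf 0xfa6340)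
(.leaf 0x1e62712f))
(.node (.leaf 0x1154aa84)
(.leaf 0)))
(.node (.node (.leaf 0x9966fdf)
(.leaf 0x29a87683))
(.node (.leaf 0x15ce6673)
(.leaf 0))))
(.node (.node (.node (.leaf 0x4e42070)
(.leaf 0x239cc9a9))
(.node (.leaf 0x13ecd24e)
(.leaf 0)))
(.node (.node (.leaf 0xd6a4731)
(.leaf 0x2cecb646))
(.node (.leaf 0x183831ee)
(.leaf 0)))))
(.node (.node (.node (.node (.leaf 0x22ac3ec)
(.leaf 0x2296b3e7))
(.node (.leaf 0x133828ae)
(.leaf 0)))
(.node (.node (.leaf 0xaa4a66d)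
(.leaf 0x2b92b669))
(.node (.leaf 0x16daaca1)
(.leaf 0))))
(.node (.node (.node (.leaf 0x72a62b5)
(.leaf 0x255accc1))
(.node (.leaf 0x14cacaa7)
(.leaf 0)))
(.node (.node (.leaf 0xf80b060)
(.leaf 0x2e38b83e))
(.node (.leaf 0x1a34b02a)
(.leaf 0)))))))))
(.node (.node (.node (.node (.node (.node (.node (.node (.leaf 950516)
(.leaf 0x1ab692ae))
(.node (.leaf 0x101850ae)
(.leaf 0x2ec697ee)))
(.node (.node (.leaf 0x77c63c0)
(.leaf 0x25d68b8f))
(.node (.leaf 0x15006ea2)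
(.leaf 0))))
(.node (.node (.node (.leaf 0x2e2a196)
(.leaf 0x22baafa9))
(.node (.leaf 0x13568b48)
(.leaf 0)))
(.node (.node (.leaf 0xb286504)
(.leaf 0x2bec95ad))
(.node (.leaf 0x171a6d83)
(.leaf 0)))))
(.node (.node (.node (.node (.leaf 0x122a123)
(.leaf 0x220a306c))
(.node (.leaf 0x1202a898)
(.leaf 0)))
(.node (.node (.leaf 0x9ba7243)
(.leaf 0x29d295a1))
(.node (.leaf 0x1608b288)
(.leaf 0))))
(.node (.node (.node (.leaf 0x51a43db)
(.leaf 0x23dcd229))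
(.node (.leaf 0x14188876)
(.leaf 0)))
(.node (.node (.leaf 0xd942e61)
(.leaf 0x2d18984b))
(.node (.leaf 0x1892b31f)
(.leaf 0))))))
(.node (.node (.node (.node (.node (.leaf 0xbcc302)
(.leaf 0x1c6ad305))
(.node (.leaf 0x108c9005)
(.leaf 0x310a77f1)))
(.node (.node (.leaf 0x914692a)
(.leaf 0x27546a6d))
(.node (.leaf 0x1590739f)
(.leaf 0))))
(.node (.node (.node (.leaf 0x494646f)
(.leaf 0x23226dde))
(.node (.leaf 0x13b0cae0)
(.leaf 0)))
(.node (.node (.leaf 0xc7aa589)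
(.leaf 0x2cb4b721))
(.node (.leaf 0x17b6a566)
(.leaf 0)))))
(.node (.node (.node (.node (.leaf 0x1b680c9)
(.leaf 0x225c4f99))
(.node (.leaf 0x130a7058)
(.leaf 0)))
(.node (.node (.leaf 0xa3cac92)
(.leaf 0x2a96b598))
(.node (.leaf 0x16884737)
(.leaf 0))))
(.node (.node (.node (.leaf 0x6eac1f2)
(.leaf 0x24b6c5e4))
(.node (.leaf 0x147a8c45)
(.leaf 0)))
(.node (.node (.leaf 0xf22c48a)
(.leaf 0x2d96355d))
(.node (.leaf 0x197acf20)
(.leaf 0)))))))
(.node (.node (.node (.node (.node (.node (.leaf 0x98a2d8)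
(.leaf 0x1b9eab90))
(.node (.leaf 0x1046d398)
(.leaf 0x3070d897)))
(.node (.node (.leaf 0x824a371)
(.leaf 0x265c66d7))
(.node (.leaf 0x15546675)
(.leaf 0))))
(.node (.node (.node (.leaf 0x46c81ea)
(.leaf 0x22f0704f))
(.node (.leaf 0x1382c71a)
(.leaf 0)))
(.node (.node (.leaf 0xb9a8874)
(.leaf 0x2c94d5e2))
(.node (.leaf 0x1774ad14)
(.leaf 0)))))
(.node (.node (.node (.node (.leaf 0x1686223)
(.leaf 0x22309214))
(.node (.leaf 0x124a9489)
(.leaf 0)))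
(.node (.node (.leaf 0x9fcc878)
(.leaf 0x2a225755))
(.node (.leaf 0x163c298f)
(.leaf 0))))
(.node (.node (.node (.leaf 0x5c262a9)
(.leaf 0x2432d303))
(.node (.leaf 0x144a6d1c)
(.leaf 0)))
(.node (.node (.leaf 0xe16c51e)
(.leaf 0x2d58976e))
(.node (.leaf 0x1916d437)
(.leaf 0))))))
(.node (.node (.node (.node (.node (.leaf 0xeea24a)
(.leaf 0x1dceca5b))
(.node (.leaf 0x11226513)
(.leaf 0)))
(.node (.node (.leaf 0x98ca686)
(.leaf 0x299ab6d5))
(.node (.leaf 0x15c045d8)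
(.leaf 0))))
(.node (.node (.node (.leaf 0x4d88284)
(.leaf 0x237c727d))
(.node (.leaf 0x13e2c9d2)
(.leaf 0)))
(.node (.node (.leaf 0xd608847)
(.leaf 0x2ce0d676))
(.node (.leaf 0x1818718a)
(.leaf 0)))))
(.node (.node (.node (.node (.leaf 0x216c035)
(.leaf 0x228c733c))
(.node (.leaf 0x132ec93c)
(.leaf 0)))
(.node (.node (.leaf 0xa7e6a87)
(.leaf 0x2b88b5ae))
(.node (.leaf 0x16c6cc04)
(.leaf 0))))
(.node (.node (.node (.leaf 0x7204467)
(.leaf 0x25287416))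
(.node (.leaf 0x14b22e29)
(.leaf 0)))
(.node (.node (.leaf 0xf62d490)
(.leaf 0x2e16b75a))
(.node (.leaf 0x1a14aa88)
(.leaf 0))))))))
(.node (.node (.node (.node (.node (.node (.node (.leaf 0x506041)
(.leaf 0x1b282877))
(.node (.leaf 0x103244eb)
(.leaf 0x305437b8)))
(.node (.node (.leaf 0x7bcc41c)
(.leaf 0x2620a779))
(.node (.leaf 0x15228e4f)
(.leaf 0))))
(.node (.node (.node (.leaf 0x45aa12c)
(.leaf 0x22d6c926))
(.node (.leaf 0x136c8716)
(.leaf 0)))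
(.node (.node (.leaf 0xb60a658)
(.leaf 0x2c66d504))
(.node (.leaf 0x17448a82)
(.leaf 0)))))
(.node (.node (.node (.node (.leaf 0x144a0d8)
(.leaf 0x221e2ed2))
(.node (.leaf 0x1222cf11)
(.leaf 0)))
(.node (.node (.leaf 0x9d23407)
(.leaf 0x29eed79f))
(.node (.leaf 0x1622acfa)
(.leaf 0))))
(.node (.node (.node (.leaf 0x54662e3)
(.leaf 0x240629ed))
(.node (.leaf 0x142cd2d1)
(.leaf 0)))
(.node (.node (.leaf 0xdc450f6)
(.leaf 0x2d2ed75f))
(.node (.leaf 0x18cc8d0c)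
(.leaf 0))))))
(.node (.node (.node (.node (.node (.leaf 0xd4a245)
(.leaf 0x1cd84707))
(.node (.leaf 0x10c4250e)
(.leaf 0)))
(.node (.node (.leaf 0x9347499)
(.leaf 0x284a899c))
(.node (.leaf 0x15a4d230)
(.leaf 0))))
(.node (.node (.node (.leaf 0x4b0a2bd)
(.leaf 0x2348d378))
(.node (.leaf 0x13cca97f)
(.leaf 0)))
(.node (.node (.leaf 0xd4c658f)
(.leaf 0x2ccc9868))
(.node (.leaf 0x17f07285)
(.leaf 0)))))
(.node (.node (.node (.node (.leaf 0x1e8c3ef)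
(.leaf 0x227288f5))
(.node (.leaf 0x131aaec1)
(.leaf 0)))
(.node (.node (.leaf 0xa5ece34)
(.leaf 0x2b049564))
(.node (.leaf 0x16a48e98)
(.leaf 0))))
(.node (.node (.node (.leaf 0x704c04e)
(.leaf 0x24eeabb0))
(.node (.leaf 0x1498b026)
(.leaf 0)))
(.node (.node (.leaf 0xf4267a5)
(.leaf 0x2db837eb))
(.node (.leaf 0x19c0740b)
(.leaf 0)))))))
(.node (.node (.node (.node (.node (.node (.leaf 0xaa60ba)
(.leaf 0x1c0474a4))
(.node (.leaf 0x1068a9fd)
(.leaf 0x30c0b86d)))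
(.node (.node (.leaf 0x8cea463)
(.leaf 0x26e08d7c))
(.node (.leaf 0x1576c979)
(.leaf 0))))
(.node (.node (.node (.leaf 0x47e643f)
(.leaf 0x230c6941))
(.node (.leaf 0x1398d36e)
(.leaf 0)))
(.node (.node (.leaf 0xc228695)
(.leaf 0x2ca2d746))
(.node (.leaf 0x178ec93b)
(.leaf 0)))))
(.node (.node (.node (.node (.leaf 0x19ac2e0)
(.leaf 0x2244a63e))
(.node (.leaf 0x12e6a699)
(.leaf 0)))
(.node (.node (.leaf 0xa18a8ca)
(.leaf 0x2a4eb593))
(.node (.leaf 0x165c494f)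
(.leaf 0))))
(.node (.node (.node (.leaf 0x6d8821a)
(.leaf 0x24886c3e))
(.node (.leaf 0x145cd0ec)
(.leaf 0)))
(.node (.node (.leaf 0xe848506)
(.leaf 0x2d7e97da))
(.node (.leaf 0x194e8f8e)
(.leaf 0))))))
(.node (.node (.node (.node (.node (.leaf 0x10843fe)
(.leaf 0x1f66ae6a))
(.node (.leaf 0x119e85f0)
(.leaf 0)))
(.node (.node (.leaf 0x9a2d048)
(.leaf 0x29b256a1))
(.node (.leaf 0x15d88f2b)
(.leaf 0))))
(.node (.node (.node (.leaf 0x4f46326)
(.leaf 0x23aac6e7))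
(.node (.leaf 0x13fec69b)
(.leaf 0)))
(.node (.node (.leaf 0xd7a8583)
(.leaf 0x2cf8b75d))
(.node (.leaf 0x185693ca)
(.leaf 0)))))
(.node (.node (.node (.node (.leaf 0x27ea084)
(.leaf 0x22a2d3ce))
(.node (.leaf 0x13409244)
(.leaf 0)))
(.node (.node (.leaf 0xac826ec)
(.leaf 0x2ba636c0))
(.node (.leaf 0x16eeb43b)
(.leaf 0))))
(.node (.node (.node (.leaf 0x742402f)
(.leaf 0x25788a06))
(.node (.leaf 0x14de93dd)
(.leaf 0)))
(.node (.node (.leaf 0xfae84e0)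
(.leaf 0x2e56389a))
(.node (.leaf 0x1a5426e3)
(.leaf 0))))))))))
(.node (.node (.node (.node (.node (.node (.node (.node (.node (.leaf 679991)
(.leaf 0x1aa08dbf))
(.node (.leaf 0x101289d5)
(.leaf 0x2eb6d742)))
(.node (.node (.leaf 0x76240e1)
(.leaf 0x25c28f44))
(.node (.leaf 0x14f06e65)
(.leaf 0))))
(.node (.node (.node (.leaf 0x2b280d5)
(.leaf 0x22b44e2c))
(.node (.leaf 0x135069e8)
(.leaf 0)))
(.node (.node (.leaf 0xb10865a)
(.leaf 0x2bcc9655))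
(.node (.leaf 0x17142f0d)
(.leaf 0)))))
(.node (.node (.node (.node (.leaf 0x11c835b)
(.leaf 0x220670be))
(.node (.leaf 0x11fc8e08)
(.leaf 0)))
(.node (.node (.leaf 0x9b468c9)
(.leaf 0x29cc95c0))
(.node (.leaf 0x1604ca17)
(.leaf 0))))
(.node (.node (.node (.leaf 0x50ec045)
(.leaf 0x23ccd1c0))
(.node (.leaf 0x1410cbdb)
(.leaf 0)))
(.node (.node (.leaf 0xd8ca6fa)
(.leaf 0x2d109889))
(.node (.leaf 0x1880a9ea)
(.leaf 0))))))
(.node (.node (.node (.node (.node (.leaf 0xb86122)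
(.leaf 0x1c5aa783))
(.node (.leaf 0x1086cd1d)
(.leaf 0x30fe97f6)))
(.node (.node (.leaf 0x90c8fe4)
(.leaf 0x273aa9c7))
(.node (.leaf 0x158a7098)
(.leaf 0))))
(.node (.node (.node (.leaf 0x490a127)
(.leaf 0x231c533a))
(.node (.leaf 0x13a89447)
(.leaf 0)))
(.node (.node (.leaf 0xc628844)
(.leaf 0x2cb09898))
(.node (.leaf 0x17ae4978)
(.leaf 0)))))
(.node (.node (.node (.node (.leaf 0x1b0a073)
(.leaf 0x22528dd9))
(.node (.leaf 0x13068db1)
(.leaf 0)))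
(.node (.node (.leaf 0xa329161)
(.leaf 0x2a80d4ca))
(.node (.leaf 0x167e67dc)
(.leaf 0))))
(.node (.node (.node (.leaf 0x6e621cf)
(.leaf 0x24a0d069))
(.node (.leaf 0x147488f9)
(.leaf 0)))
(.node (.node (.leaf 0xede8541)
(.leaf 0x2d8e776d))
(.node (.leaf 0x196e7054)
(.leaf 0)))))))
(.node (.node (.node (.node (.node (.node (.leaf 0x96604a)
(.leaf 0x1b7ac982))
(.node (.leaf 0x1042947c)
(.leaf 0x306497ef)))
(.node (.node (.leaf 0x80023c4)
(.leaf 0x2654679f))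
(.node (.leaf 0x15467093)
(.leaf 0))))
(.node (.node (.node (.leaf 0x468206d)
(.leaf 0x22ea8b74))
(.node (.leaf 0x137ea615)
(.leaf 0)))
(.node (.node (.leaf 0xb8627c6)
(.leaf 0x2c90d4e0))
(.node (.leaf 0x176c2955)
(.leaf 0)))))
(.node (.node (.node (.node (.leaf 0x15e61f0)
(.leaf 0x222a5104))
(.node (.leaf 0x1244c931)
(.leaf 0)))
(.node (.node (.leaf 0x9f0a694)
(.leaf 0x2a1cd5c1))
(.node (.leaf 0x16364854)
(.leaf 0))))
(.node (.node (.node (.leaf 0x5a442d0)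
(.leaf 0x242ac7c4))
(.node (.leaf 0x14425085)
(.leaf 0)))
(.node (.node (.leaf 0xe08851c)
(.leaf 0x2d4ab809))
(.node (.leaf 0x18fc9204)
(.leaf 0))))))
(.node (.node (.node (.node (.node (.leaf 0xe860f2)
(.leaf 0x1d8c6e53))
(.node (.leaf 0x110284a1)
(.leaf 0)))
(.node (.node (.leaf 0x986c4fc)
(.leaf 0x2996b535))
(.node (.leaf 0x15b8cfca)
(.leaf 0))))
(.node (.node (.node (.leaf 0x4ce60f3)
(.leaf 0x23668d9c))
(.node (.leaf 0x13dc74a9)
(.leaf 0)))
(.node (.node (.leaf 0xd5ca79a)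
(.leaf 0x2cdcb5be))
(.node (.leaf 0x180c922b)
(.leaf 0)))))
(.node (.node (.node (.node (.leaf 0x20ca11a)
(.leaf 0x2288667f))
(.node (.leaf 0x132870e4)
(.leaf 0)))
(.node (.node (.leaf 0xa7a680e)
(.leaf 0x2b80781c))
(.node (.leaf 0x16ba8a81)
(.leaf 0))))
(.node (.node (.node (.leaf 0x718a2b2)
(.leaf 0x25204901))
(.node (.leaf 0x14aca8a8)
(.leaf 0)))
(.node (.node (.leaf 0xf5cc7ae)
(.leaf 0x2dfcd69b))
(.node (.leaf 0x19f0c947)
(.leaf 0))))))))
(.node (.node (.node (.node (.node (.node (.node (.leaf 0x34a1ed)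
(.leaf 0x1b08d0cb))
(.node (.leaf 0x102633d4)
(.leaf 0x3050564a)))
(.node (.node (.leaf 0x7b6a29d)
(.leaf 0x260e5419))
(.node (.leaf 0x151c51f7)
(.leaf 0))))
(.node (.node (.node (.leaf 0x456c0b3)
(.leaf 0x22d07453))
(.node (.leaf 0x13648d5c)
(.leaf 0)))
(.node (.node (.leaf 0xb50660b)
(.leaf 0x2c3474d2))
(.node (.leaf 0x1734b1e1)
(.leaf 0)))))
(.node (.node (.node (.node (.leaf 0x13a8246)
(.leaf 0x22188e01))
(.node (.leaf 0x121ea7bf)
(.leaf 0)))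
(.node (.node (.leaf 0x9cccbf6)
(.leaf 0x29e8b53c))
(.node (.leaf 0x161e6e68)
(.leaf 0))))
(.node (.node (.node (.leaf 0x53e22de)
(.leaf 0x23fa9177))
(.node (.leaf 0x142aaaac)
(.leaf 0)))
(.node (.node (.leaf 0xdbaab58)
(.leaf 0x2d289701))
(.node (.leaf 0x18be6d29)
(.leaf 0))))))
(.node (.node (.node (.node (.node (.leaf 0xd0a024)
(.leaf 0x1cc6b1da))
(.node (.leaf 0x10ba6abb)
(.leaf 0)))
(.node (.node (.leaf 0x9288aa5)
(.leaf 0x27fed4a7))
(.node (.leaf 0x15a02bdd)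
(.leaf 0))))
(.node (.node (.node (.leaf 0x4aa834d)
(.leaf 0x23446671))
(.node (.leaf 0x13c48b18)
(.leaf 0)))
(.node (.node (.leaf 0xd46c51d)
(.leaf 0x2cc8d5f0))
(.node (.leaf 0x17e4ac8c)
(.leaf 0)))))
(.node (.node (.node (.node (.leaf 0x1e0c2c3)
(.leaf 0x226c6e4d))
(.node (.leaf 0x131690c1)
(.leaf 0)))
(.node (.node (.leaf 0xa58a59e)
(.leaf 0x2ad8b866))
(.node (.leaf 0x169acd7b)
(.leaf 0))))
(.node (.node (.node (.leaf 0x6fac362)
(.leaf 0x24e08d90))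
(.node (.leaf 0x14926b6d)
(.leaf 0)))
(.node (.node (.leaf 0xf386d75)
(.leaf 0x2db0b62a))
(.node (.leaf 0x19b26534)
(.leaf 0)))))))
(.node (.node (.node (.node (.node (.node (.leaf 0xa682c8)
(.leaf 0x1bf2afc7))
(.node (.leaf 0x105aaa56)
(.leaf 0x309cb883)))
(.node (.node (.leaf 0x8c4c20e)
(.leaf 0x26a02c70))
(.node (.leaf 0x1570d037)
(.leaf 0))))
(.node (.node (.node (.leaf 0x47a6480)
(.leaf 0x230485db))
(.node (.leaf 0x139492c0)
(.leaf 0)))
(.node (.node (.leaf 0xbbcaf63)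
(.leaf 0x2c9e577b))
(.node (.leaf 0x17866c33)
(.leaf 0)))))
(.node (.node (.node (.node (.leaf 0x190c29f)
(.leaf 0x223ed3f1))
(.node (.leaf 0x12ccc55e)
(.leaf 0)))
(.node (.node (.leaf 0xa1033e4)
(.leaf 0x2a407536))
(.node (.leaf 0x1654707d)
(.leaf 0))))
(.node (.node (.node (.leaf 0x6d660bc)
(.leaf 0x2478aac3))
(.node (.leaf 0x1458aee1)
(.leaf 0)))
(.node (.node (.leaf 0xe524cd0)
(.leaf 0x2d74b772))
(.node (.leaf 0x19388ea0)
(.leaf 0))))))
(.node (.node (.node (.node (.node (.leaf 0x102a420)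
(.leaf 0x1ef44dc0))
(.node (.leaf 0x11686880)
(.leaf 0)))
(.node (.node (.leaf 0x99aaf93)
(.leaf 0x29ae95ff))
(.node (.leaf 0x15d47430)
(.leaf 0))))
(.node (.node (.node (.leaf 0x4ec845c)
(.leaf 0x23a2d128))
(.node (.leaf 0x13f633b6)
(.leaf 0)))
(.node (.node (.leaf 0xd706827)
(.leaf 0x2cf2978d))
(.node (.leaf 0x1848b287)
(.leaf 0)))))
(.node (.node (.node (.node (.leaf 0x26a225f)
(.leaf 0x229e6ef9))
(.node (.leaf 0x133cc940)
(.leaf 0)))
(.node (.node (.leaf 0xabca712)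
(.leaf 0x2b9a9678))
(.node (.leaf 0x16e252e9)
(.leaf 0))))
(.node (.node (.node (.leaf 0x7386364)
(.leaf 0x256a6616))
(.node (.leaf 0x14d42f1d)
(.leaf 0)))
(.node (.node (.leaf 0xf9e6502)
(.leaf 0x2e467689))
(.node (.leaf 0x1a422d58)
(.leaf 0)))))))))
(.node (.node (.node (.node (.node (.node (.node (.node (.leaf 0x14a20b)
(.leaf 0x1ada69d9))
(.node (.leaf 0x101c7007)
(.leaf 0x2f04988a)))
(.node (.node (.leaf 0x78aa46c)
(.leaf 0x25eeb45f))
(.node (.leaf 0x15088d28)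
(.leaf 0))))
(.node (.node (.node (.leaf 0x330c224)
(.leaf 0x22c2d1c3))
(.node (.leaf 0x135ab1cc)
(.leaf 0)))
(.node (.node (.leaf 0xb3666f7)
(.leaf 0x2c04b57e))
(.node (.leaf 0x172231f4)
(.leaf 0)))))
(.node (.node (.node (.node (.leaf 0x12a83a2)
(.leaf 0x2210c656))
(.node (.leaf 0x120670ab)
(.leaf 0)))
(.node (.node (.leaf 0x9c028ef)
(.leaf 0x29d6d649))
(.node (.leaf 0x160ead16)
(.leaf 0))))
(.node (.node (.node (.leaf 0x5242325)
(.leaf 0x23e42a94))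
(.node (.leaf 0x141c8610)
(.leaf 0)))
(.node (.node (.leaf 0xd9e4890)
(.leaf 0x2d1e75d9))
(.node (.leaf 0x18a0b42a)
(.leaf 0))))))
(.node (.node (.node (.node (.node (.leaf 0xc2a461)
(.leaf 0x1c7eabf1))
(.node (.leaf 0x10a08580)
(.leaf 0x311cd67a)))
(.node (.node (.leaf 0x91870c0)
(.leaf 0x2776abcd))
(.node (.leaf 0x159829bc)
(.leaf 0))))
(.node (.node (.node (.leaf 0x49ac119)
(.leaf 0x232ead0e))
(.node (.leaf 0x13b8b17e)
(.leaf 0)))
(.node (.node (.leaf 0xcd825a6)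
(.leaf 0x2cbc7590))
(.node (.leaf 0x17be880f)
(.leaf 0)))))
(.node (.node (.node (.node (.leaf 0x1c22273)
(.leaf 0x22629294))
(.node (.leaf 0x130e893e)
(.leaf 0)))
(.node (.node (.leaf 0xa44282a)
(.leaf 0x2aa49510))
(.node (.leaf 0x168e4b0b)
(.leaf 0))))
(.node (.node (.node (.leaf 0x6ee83c7)
(.leaf 0x24c486ff))
(.node (.leaf 0x14808b43)
(.leaf 0)))
(.node (.node (.leaf 0xf2673ee)
(.leaf 0x2d9e96d3))
(.node (.leaf 0x198ead9f)
(.leaf 0)))))))
(.node (.node (.node (.node (.node (.node (.leaf 0x9ea16c)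
(.leaf 0x1bc0d100))
(.node (.leaf 0x104e73d5)
(.leaf 0x3080b84d)))
(.node (.node (.leaf 0x8b6c231)
(.leaf 0x26764683))
(.node (.leaf 0x1564715e)
(.leaf 0))))
(.node (.node (.node (.leaf 0x4722162)
(.leaf 0x22f685f8))
(.node (.leaf 0x1388cb10)
(.leaf 0)))
(.node (.node (.leaf 0xbaa66d1)
(.leaf 0x2c96b7cf))
(.node (.leaf 0x177e881d)
(.leaf 0)))))
(.node (.node (.node (.node (.leaf 0x17243e4)
(.leaf 0x2236a63a))
(.node (.leaf 0x1278cb21)
(.leaf 0)))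
(.node (.node (.leaf 0xa002f70)
(.leaf 0x2a2e94e8))
(.node (.leaf 0x16427162)
(.leaf 0))))
(.node (.node (.node (.leaf 0x60062dd)
(.leaf 0x244a6e92))
(.node (.leaf 0x144c5375)
(.leaf 0)))
(.node (.node (.leaf 0xe2485a2)
(.leaf 0x2d60b617))
(.node (.leaf 0x1922a917)
(.leaf 0))))))
(.node (.node (.node (.node (.node (.leaf 0xf2c32d)
(.leaf 0x1e348d2c))
(.node (.leaf 0x113ca92b)
(.leaf 0)))
(.node (.node (.leaf 0x9906f5e)
(.leaf 0x29a2b4e6))
(.node (.leaf 0x15c82c0f)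
(.leaf 0))))
(.node (.node (.node (.leaf 0x4de6408)
(.leaf 0x238a8d77))
(.node (.leaf 0x13e65325)
(.leaf 0)))
(.node (.node (.leaf 0xd662a8a)
(.leaf 0x2ce4d848))
(.node (.leaf 0x182e8808)
(.leaf 0)))))
(.node (.node (.node (.node (.leaf 0x21c2377)
(.leaf 0x229287df))
(.node (.leaf 0x13328bf3)
(.leaf 0)))
(.node (.node (.leaf 0xa886fcb)
(.leaf 0x2b8cb5af))
(.node (.leaf 0x16d228c0)
(.leaf 0))))
(.node (.node (.node (.leaf 0x72841d7)
(.leaf 0x25426e5d))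
(.node (.leaf 0x14b86d4a)
(.leaf 0)))
(.node (.node (.leaf 0xf72a5ed)
(.leaf 0x2e28b5cf))
(.node (.leaf 0x1a24a6a6)
(.leaf 0))))))))
(.node (.node (.node (.node (.node (.node (.node (.leaf 0x788040)
(.leaf 0x1b46896c))
(.node (.leaf 0x103872b5)
(.leaf 0x3058989e)))
(.node (.node (.leaf 0x7c881f5)
(.leaf 0x262e32a1))
(.node (.leaf 0x152eab51)
(.leaf 0))))
(.node (.node (.node (.leaf 0x45e22e4)
(.leaf 0x22dc6937))
(.node (.leaf 0x13724c61)
(.leaf 0)))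
(.node (.node (.leaf 0xb6caef6)
(.leaf 0x2c6e3565))
(.node (.leaf 0x175671b1)
(.leaf 0)))))
(.node (.node (.node (.node (.leaf 0x14ea0b6)
(.leaf 0x2222a833))
(.node (.leaf 0x122e486e)
(.leaf 0)))
(.node (.node (.leaf 0x9d8a59b)
(.leaf 0x2a0477b5))
(.node (.leaf 0x1628ace7)
(.leaf 0))))
(.node (.node (.node (.leaf 0x55280a5)
(.leaf 0x24162fa8))
(.node (.leaf 0x143686f4)
(.leaf 0)))
(.node (.node (.leaf 0xdd24dbc)
(.leaf 0x2d3ab86f))
(.node (.leaf 0x18de2a44)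
(.leaf 0))))))
(.node (.node (.node (.node (.node (.leaf 0xdac40a)
(.leaf 0x1d06738b))
(.node (.leaf 0x10d284b2)
(.leaf 0)))
(.node (.node (.leaf 0x95a85a3)
(.leaf 0x28cc8a4e))
(.node (.leaf 0x15ac70a8)
(.leaf 0))))
(.node (.node (.node (.leaf 0x4baa2bc)
(.leaf 0x2350b2bd))
(.node (.leaf 0x13d2c714)
(.leaf 0)))
(.node (.node (.leaf 0xd52a87b)
(.leaf 0x2cd256f2))
(.node (.leaf 0x17fc907a)
(.leaf 0)))))
(.node (.node (.node (.node (.leaf 0x1f881ef)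
(.leaf 0x227a8906))
(.node (.leaf 0x131e3174)
(.leaf 0)))
(.node (.node (.leaf 0xa688492)
(.leaf 0x2b76957d))
(.node (.leaf 0x16aa296f)
(.leaf 0))))
(.node (.node (.node (.leaf 0x7084418)
(.leaf 0x2500ae2a))
(.node (.leaf 0x149e666e)
(.leaf 0)))
(.node (.node (.leaf 0xf4ccd94)
(.leaf 0x2dc67854))
(.node (.leaf 0x19c8d37d)
(.leaf 0)))))))
(.node (.node (.node (.node (.node (.node (.leaf 0xb08095)
(.leaf 0x1c1ca4f6))
(.node (.leaf 0x107473cf)
(.leaf 0x30f077f9)))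
(.node (.node (.leaf 0x8dca39e)
(.leaf 0x27009360))
(.node (.leaf 0x157c6c3b)
(.leaf 0))))
(.node (.node (.node (.leaf 0x484817e)
(.leaf 0x23108f8b))
(.node (.leaf 0x13a0ad70)
(.leaf 0)))
(.node (.node (.leaf 0xc34c697)
(.leaf 0x2ca65642))
(.node (.leaf 0x179acc01)
(.leaf 0)))))
(.node (.node (.node (.node (.leaf 0x1a2c108)
(.leaf 0x22484ecf))
(.node (.leaf 0x12f664d7)
(.leaf 0)))
(.node (.node (.leaf 0xa20ad6c)
(.leaf 0x2a5cd6ce))
(.node (.leaf 0x16668e75)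
(.leaf 0))))
(.node (.node (.node (.leaf 0x6de4030)
(.leaf 0x248cd46f))
(.node (.leaf 0x14647412)
(.leaf 0)))
(.node (.node (.leaf 0xe9aa4b3)
(.leaf 0x2d84d720))
(.node (.leaf 0x195aae38)
(.leaf 0))))))
(.node (.node (.node (.node (.node (.leaf 0x10e6321)
(.leaf 0x20c6cb2a))
(.node (.leaf 0x11f2c4c1)
(.leaf 0)))
(.node (.node (.leaf 0x9a84879)
(.leaf 0x29be360b))
(.node (.leaf 0x15e86ee5)
(.leaf 0))))
(.node (.node (.node (.leaf 0x4fa8327)
(.leaf 0x23b886e9))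
(.node (.leaf 0x1404cb38)
(.leaf 0)))
(.node (.node (.leaf 0xd7eacad)
(.leaf 0x2d04779a))
(.node (.leaf 0x1864b064)
(.leaf 0)))))
(.node (.node (.node (.node (.leaf 0x290a29c)
(.leaf 0x22a652e6))
(.node (.leaf 0x13468eeb)
(.leaf 0)))
(.node (.node (.leaf 0xadcc7c3)
(.leaf 0x2bae75e9))
(.node (.leaf 0x16facf4c)
(.leaf 0))))
(.node (.node (.node (.leaf 0x74cc1f6)
(.leaf 0x2584cb3f))
(.node (.leaf 0x14e4730b)
(.leaf 0)))
(.node (.node (.leaf 0xfd6a75d)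
(.leaf 0x2e84b5d8))
(.node (.leaf 0x1a722b55)
(.leaf 0)))))))))))))
(.node (.node (.node (.node (.node (.node (.node (.node (.node (.node (.node (.node (.leaf 32782)
(.leaf 0x1a786975))
(.node (.leaf 0xfdc8546)
(.leaf 0x2e94b570)))
(.node (.node (.leaf 0x75040a3)
(.leaf 0x25843151))
(.node (.leaf 0x14e689fa)
(.leaf 0))))
(.node (.node (.node (.leaf 0x29480ff)
(.leaf 0x22aa8f38))
(.node (.leaf 0x1348894e)
(.leaf 0)))
(.node (.node (.leaf 0xae0686d)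
(.leaf 0x2bb656d0))
(.node (.leaf 0x16fe8fdb)
(.leaf 0)))))
(.node (.node (.node (.node (.leaf 0x1104396)
(.leaf 1179))
(.node (.leaf 0x11f4c6be)
(.leaf 0)))
(.node (.node (.leaf 0x9a86f6a)
(.leaf 0x29c07575))
(.node (.leaf 0x15f46ec0)
(.leaf 0))))
(.node (.node (.node (.leaf 0x4fc20fb)
(.leaf 0x23bccdcc))
(.node (.leaf 0x1408acea)
(.leaf 0)))
(.node (.node (.leaf 0xd80cf7b)
(.leaf 0x2d0675d1))
(.node (.leaf 0x1868af75)
(.leaf 0))))))
(.node (.node (.node (.node (.node (.leaf 0xb261c5)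
(.leaf 0x1c2cc9f1))
(.node (.leaf 0x1078468e)
(.leaf 0x30f29699)))
(.node (.node (.leaf 0x8de8462)
(.leaf 0x27069394))
(.node (.leaf 0x1582c7d1)
(.leaf 0))))
(.node (.node (.node (.leaf 0x48683f4)
(.leaf 0x23128bad))
(.node (.leaf 0x13a2a863)
(.leaf 0)))
(.node (.node (.leaf 0xc3a2548)
(.leaf 0x2ca8d5c3))
(.node (.leaf 0x179ece9e)
(.leaf 0)))))
(.node (.node (.node (.node (.leaf 0x1a46146)
(.leaf 0x224acf7f))
(.node (.leaf 1177)
(.leaf 0)))
(.node (.node (.leaf 0xa2484ab)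
(.leaf 0x2a6075d5))
(.node (.leaf 0x166830e3)
(.leaf 0))))
(.node (.node (.node (.leaf 0x6e080d2)
(.leaf 0x249227ab))
(.node (.leaf 0x1468acca)
(.leaf 0)))
(.node (.node (.leaf 0xeaa8551)
(.leaf 0x2d867757))
(.node (.leaf 0x19608650)
(.leaf 0)))))))
(.node (.node (.node (.node (.node (.node (.leaf 0x7c63b4)
(.leaf 0x1b50739a))
(.node (.leaf 0x103ca9db)
(.leaf 0x305cb632)))
(.node (.node (.leaf 0x7cc83b2)
(.leaf 0x26386bb4))
(.node (.leaf 0x152e4f41)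
(.leaf 0))))
(.node (.node (.node (.leaf 0x45e6479)
(.leaf 0x22dea7b3))
(.node (.leaf 0x1374cb6c)
(.leaf 0)))
(.node (.node (.leaf 0xb708577)
(.leaf 0x2c6e788c))
(.node (.leaf 0x175c9442)
(.leaf 0)))))
(.node (.node (.node (.node (.leaf 0x1548184)
(.leaf 0x2224d24d))
(.node (.leaf 0x1230d0d8)
(.leaf 0)))
(.node (.node (.leaf 0x9d84fb7)
(.leaf 0x2a0a9789))
(.node (.leaf 0x162c4708)
(.leaf 0))))
(.node (.node (.node (.leaf 0x5588102)
(.leaf 0x242066ca))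
(.node (.leaf 0x1438ce31)
(.leaf 0)))
(.node (.node (.leaf 0xdde6c8f)
(.leaf 0x2d3cb77d))
(.node (.leaf 0x18e2b297)
(.leaf 0))))))
(.node (.node (.node (.node (.node (.leaf 0xde844e)
(.leaf 0x1d1a8eab))
(.node (.leaf 0x10dc93bb)
(.leaf 0)))
(.node (.node (.leaf 0x97ea4d3)
(.leaf 5313))
(.node (.leaf 0x15ae86f3)
(.leaf 0))))
(.node (.node (.node (.leaf 0x4bec39b)
(.leaf 0x23582c0c))
(.node (.leaf 0x13d27293)
(.leaf 0)))
(.node (.node (.leaf 0xd54a8b6)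
(.leaf 0x2cd475bd))
(.node (.leaf 0x1800d379)
(.leaf 0)))))
(.node (.node (.node (.node (.leaf 0x1fcc078)
(.leaf 0x227c295f))
(.node (.leaf 0x13208718)
(.leaf 0)))
(.node (.node (.leaf 0xa6a7363)
(.leaf 0x2b7ab4fd))
(.node (.leaf 0x16aa54a8)
(.leaf 0))))
(.node (.node (.node (.leaf 0x70c61be)
(.leaf 0x2504c97a))
(.node (.leaf 0x14a051ec)
(.leaf 0)))
(.node (.node (.leaf 0xf50a503)
(.leaf 0x2dcc979d))
(.node (.leaf 0x19ce6ab3)
(.leaf 0))))))))
(.node (.node (.node (.node (.node (.node (.node (.leaf 0x168299)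
(.leaf 0x1ae67121))
(.node (.leaf 0x101e71b0)
(.leaf 0x2f4a7737)))
(.node (.node (.leaf 0x79e8188)
(.leaf 0x25f66d1f))
(.node (.leaf 0x150ccffc)
(.leaf 0))))
(.node (.node (.node (.leaf 0x346a3c3)
(.leaf 0x22c473a2))
(.node (.leaf 0x135cadac)
(.leaf 0)))
(.node (.node (.leaf 0xb3c6764)
(.leaf 0x2c0c9516))
(.node (.leaf 0x1724749d)
(.leaf 0)))))
(.node (.node (.node (.node (.leaf 0x12c8397)
(.leaf 0x22128ad1))
(.node (.leaf 0x120a4a51)
(.leaf 0)))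
(.node (.node (.leaf 0x9c2ce7e)
(.leaf 0x29dc5537))
(.node (.leaf 0x1610b3b9)
(.leaf 0))))
(.node (.node (.node (.leaf 0x52663e0)
(.leaf 0x23e44fc4))
(.node (.leaf 0x141eaacc)
(.leaf 0)))
(.node (.node (.leaf 0xda2a6b7)
(.leaf 0x2d20b72d))
(.node (.leaf 0x18a672e1)
(.leaf 0))))))
(.node (.node (.node (.node (.node (.leaf 0xc6a236)
(.leaf 0x1c867267))
(.node (.leaf 0x10a691bc)
(.leaf 0)))
(.node (.node (.leaf 0x91c2921)
(.leaf 0x278e8d71))
(.node (.leaf 0x159a4afd)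
(.leaf 0))))
(.node (.node (.node (.leaf 0x49e815a)
(.leaf 0x23304f02))
(.node (.leaf 0x13ba6b2d)
(.leaf 0)))
(.node (.node (.leaf 0xd3ec4da)
(.leaf 0x2cbc9834))
(.node (.leaf 0x17c28edb)
(.leaf 0)))))
(.node (.node (.node (.node (.leaf 0x1c482d5)
(.leaf 0x22662d12))
(.node (.leaf 0x13108b15)
(.leaf 0)))
(.node (.node (.leaf 0xa44af4f)
(.leaf 0x2aae9544))
(.node (.leaf 0x1690d221)
(.leaf 0))))
(.node (.node (.node (.leaf 0x6f280af)
(.leaf 0x24ca8d8d))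
(.node (.leaf 0x14848e06)
(.leaf 0)))
(.node (.node (.leaf 0xf2aa9ee)
(.leaf 0x2da4d7a5))
(.node (.leaf 0x199426dc)
(.leaf 0)))))))
(.node (.node (.node (.node (.node (.node (.leaf 0xa020dc)
(.leaf 0x1bca291f))
(.node (.leaf 0x10502632)
(.leaf 0x3084b876)))
(.node (.node (.leaf 0x8b8423d)
(.leaf 0x267a66e0))
(.node (.leaf 0x15684efd)
(.leaf 0))))
(.node (.node (.node (.leaf 0x472a3ae)
(.leaf 0x22f8a8a0))
(.node (.leaf 0x138a8c4d)
(.leaf 0)))
(.node (.node (.leaf 0xbae855b)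
(.leaf 0x2c983725))
(.node (.leaf 0x177ecc11)
(.leaf 0)))))
(.node (.node (.node (.node (.leaf 0x178604d)
(.leaf 0x22386a2e))
(.node (.leaf 0x1294657e)
(.leaf 0)))
(.node (.node (.leaf 0xa048b8c)
(.leaf 0x2a32b5a6))
(.node (.leaf 0x16429346)
(.leaf 0))))
(.node (.node (.node (.leaf 0x6062295)
(.leaf 0x245e8cdb))
(.node (.leaf 0x144e8efa)
(.leaf 0)))
(.node (.node (.leaf 0xe26a869)
(.leaf 0x2d62d727))
(.node (.leaf 0x1928268d)
(.leaf 0))))))
(.node (.node (.node (.node (.node (.leaf 0xf6818e)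
(.leaf 0x1e4c4788))
(.node (.leaf 0x1148a5ae)
(.leaf 0)))
(.node (.node (.leaf 0x9926f62)
(.leaf 0x29a47712))
(.node (.leaf 0x15c8543d)
(.leaf 0))))
(.node (.node (.node (.leaf 0x4e0c3b5)
(.leaf 0x23926db8))
(.node (.leaf 0x13eab482)
(.leaf 0)))
(.node (.node (.leaf 0xd686820)
(.leaf 0x2ce8b640))
(.node (.leaf 0x182e7440)
(.leaf 0)))))
(.node (.node (.node (.node (.leaf 0x222a22a)
(.leaf 0x2294291c))
(.node (.leaf 0x1334c92f)
(.leaf 0)))
(.node (.node (.leaf 0xa8aace8)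
(.leaf 0x2b8e9652))
(.node (.leaf 0x16d452ef)
(.leaf 0))))
(.node (.node (.node (.leaf 0x728a3ce)
(.leaf 0x25508cb1))
(.node (.leaf 0x14beb3d0)
(.leaf 0)))
(.node (.node (.leaf 0xf76649f)
(.leaf 0x2e2c36e8))
(.node (.leaf 0x1a28aa7e)
(.leaf 0)))))))))
(.node (.node (.node (.node (.node (.node (.node (.node (.leaf 672811)
(.leaf 0x1aa84de6))
(.node (.leaf 0x10144efe)
(.leaf 0x2eba36ec)))
(.node (.node (.leaf 0x7684465)
(.leaf 0x25d0902d))
(.node (.leaf 0x14f68acf)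
(.leaf 0))))
(.node (.node (.node (.leaf 0x2c46104)
(.leaf 0x22b89255))
(.node (.leaf 0x1352ad63)
(.leaf 0)))
(.node (.node (.leaf 0xb26a6c0)
(.leaf 0x2bdc37fe))
(.node (.leaf 0x1714542f)
(.leaf 0)))))
(.node (.node (.node (.node (.leaf 0x1206050)
(.leaf 0x22088e9c))
(.node (.leaf 0x120045b3)
(.leaf 0)))
(.node (.node (.leaf 0x9b8a759)
(.leaf 0x29d0b651))
(.node (.leaf 0x1604b271)
(.leaf 0))))
(.node (.node (.node (.leaf 0x512841d)
(.leaf 0x23ceb33e))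
(.node (.leaf 0x1412d260)
(.leaf 0)))
(.node (.node (.leaf 0xd90d30c)
(.leaf 0x2d14b5da))
(.node (.leaf 0x1886aec7)
(.leaf 0))))))
(.node (.node (.node (.node (.node (.leaf 0xbac182)
(.leaf 0x1c5ead24))
(.node (.leaf 0x108651ac)
(.leaf 0x31049871)))
(.node (.node (.leaf 0x90e69a8)
(.leaf 0x27505082))
(.node (.leaf 0x158c8e47)
(.leaf 0))))
(.node (.node (.node (.leaf 0x4928169)
(.leaf 0x231eb1ff))
(.node (.leaf 0x13aacd7f)
(.leaf 0)))
(.node (.node (.leaf 0xc6ea666)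
(.leaf 0x2cb23736))
(.node (.leaf 0x17aecf05)
(.leaf 0)))))
(.node (.node (.node (.node (.leaf 0x1b2a345)
(.leaf 0x225687d5))
(.node (.leaf 0x1308a99a)
(.leaf 0)))
(.node (.node (.leaf 0xa368d01)
(.leaf 0x2a8494c6))
(.node (.leaf 0x1684a97c)
(.leaf 0))))
(.node (.node (.node (.leaf 0x6e8c1b3)
(.leaf 0x24a8864c))
(.node (.leaf 0x1478aab0)
(.leaf 0)))
(.node (.node (.leaf 0xf1e64a9)
(.leaf 0x2d92b6b0))
(.node (.leaf 0x1972c672)
(.leaf 0)))))))
(.node (.node (.node (.node (.node (.node (.leaf 0x96a1c3)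
(.leaf 0x1b8acf59))
(.node (.leaf 0x10443013)
(.leaf 0x306897c6)))
(.node (.node (.leaf 0x808a3b1)
(.leaf 0x2654d0a3))
(.node (.leaf 0x154cd311)
(.leaf 0))))
(.node (.node (.node (.leaf 0x46881b8)
(.leaf 0x22ea3331))
(.node (.leaf 0x137e7275)
(.leaf 0)))
(.node (.node (.leaf 0xb8ccd5d)
(.leaf 0x2c90b66d))
(.node (.leaf 0x176e6d52)
(.leaf 0)))))
(.node (.node (.node (.node (.leaf 0x160c319)
(.leaf 0x222cb1a8))
(.node (.leaf 0x124451e6)
(.leaf 0)))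
(.node (.node (.leaf 0x9f2cc19)
(.leaf 0x2a1e94cd))
(.node (.leaf 0x16386f51)
(.leaf 0))))
(.node (.node (.node (.leaf 0x5be21fc)
(.leaf 0x242cc741))
(.node (.leaf 0x14447438)
(.leaf 0)))
(.node (.node (.leaf 0xe0e87fa)
(.leaf 0x2d50b521))
(.node (.leaf 0x190a66e8)
(.leaf 0))))))
(.node (.node (.node (.node (.node (.leaf 0xea61c6)
(.leaf 0x1db62646))
(.node (.leaf 0x111a45f1)
(.leaf 0)))
(.node (.node (.leaf 0x9886eff)
(.leaf 0x29987663))
(.node (.leaf 0x15bc6be7)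
(.leaf 0))))
(.node (.node (.node (.leaf 0x4d223f9)
(.leaf 0x237265f6))
(.node (.leaf 0x13deb3d3)
(.leaf 0)))
(.node (.node (.leaf 0xd5e4e2f)
(.leaf 0x2cde7648))
(.node (.leaf 0x18128c76)
(.leaf 0)))))
(.node (.node (.node (.node (.leaf 0x210a0a4)
(.leaf 0x2288afb6))
(.node (.leaf 0x132a4e0e)
(.leaf 0)))
(.node (.node (.leaf 0xa7c64c5)
(.leaf 0x2b8476e4))
(.node (.leaf 0x16c08df2)
(.leaf 0))))
(.node (.node (.node (.leaf 0x71e843c)
(.leaf 0x2522d0df))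
(.node (.leaf 0x14aeb2e4)
(.leaf 0)))
(.node (.node (.leaf 0xf6090e7)
(.leaf 0x2e0a97b2))
(.node (.leaf 0x1a003301)
(.leaf 0))))))))
(.node (.node (.node (.node (.node (.node (.node (.leaf 0x3aa019)
(.leaf 0x1b0e89dd))
(.node (.leaf 0x102c7470)
(.leaf 0x30507839)))
(.node (.node (.leaf 0x7b8c286)
(.leaf 0x26162fba))
(.node (.leaf 0x1520a944)
(.leaf 0))))
(.node (.node (.node (.leaf 0x458c033)
(.leaf 0x22d251e3))
(.node (.leaf 0x1366ce88)
(.leaf 0)))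
(.node (.node (.leaf 0xb5aa507)
(.leaf 0x2c50d53b))
(.node (.leaf 0x173ccb45)
(.leaf 0)))))
(.node (.node (.node (.node (.leaf 0x13e833f)
(.leaf 0x221acb3e))
(.node (.leaf 0x1220aa5d)
(.leaf 0)))
(.node (.node (.leaf 0x9d08873)
(.leaf 0x29ea77bf))
(.node (.leaf 0x16206bdc)
(.leaf 0))))
(.node (.node (.node (.leaf 0x540c2f6)
(.leaf 0x23fe48c7))
(.node (.leaf 0x142a5182)
(.leaf 0)))
(.node (.node (.leaf 0xdbe4bfe)
(.leaf 0x2d2c7763))
(.node (.leaf 0x18be515a)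
(.leaf 0))))))
(.node (.node (.node (.node (.node (.leaf 0xd0c103)
(.leaf 0x1cccccbe))
(.node (.leaf 0x10be6d61)
(.leaf 0)))
(.node (.node (.leaf 0x932aa76)
(.leaf 0x282c509a))
(.node (.leaf 0x15a2c7b2)
(.leaf 0))))
(.node (.node (.node (.leaf 0x4ac61a3)
(.leaf 0x23448e94))
(.node (.leaf 0x13c8ae1b)
(.leaf 0)))
(.node (.node (.leaf 0xd48890b)
(.leaf 0x2cca56ed))
(.node (.leaf 0x17ea5092)
(.leaf 0)))))
(.node (.node (.node (.node (.leaf 0x1e24230)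
(.leaf 0x226eab89))
(.node (.leaf 0x131829f5)
(.leaf 0)))
(.node (.node (.leaf 0xa5ac5c2)
(.leaf 0x2adcd589))
(.node (.leaf 0x169e722f)
(.leaf 0))))
(.node (.node (.node (.leaf 0x6fe823c)
(.leaf 0x24ea64ea))
(.node (.leaf 0x1494a599)
(.leaf 0)))
(.node (.node (.leaf 0xf3a9491)
(.leaf 0x2db2b6c5))
(.node (.leaf 0x19bad224)
(.leaf 0)))))))
(.node (.node (.node (.node (.node (.node (.leaf 0xa8c0b9)
(.leaf 0x1bf6a6b2))
(.node (.leaf 0x105cd135)
(.leaf 0x30a27882)))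
(.node (.node (.leaf 0x8c8c1f7)
(.leaf 0x26b86b7b))
(.node (.leaf 0x1572911e)
(.leaf 0))))
(.node (.node (.node (.leaf 0x47ca47b)
(.leaf 0x2306a97e))
(.node (.leaf 0x1396cef4)
(.leaf 0)))
(.node (.node (.leaf 0xbcac53d)
(.leaf 0x2ca0b7a3))
(.node (.leaf 0x1788b08a)
(.leaf 0)))))
(.node (.node (.node (.node (.leaf 0x194c09d)
(.leaf 0x22422bb8))
(.node (.leaf 0x12dec5b8)
(.leaf 0)))
(.node (.node (.leaf 0xa12b320)
(.leaf 0x2a44d613))
(.node (.leaf 0x16565102)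
(.leaf 0))))
(.node (.node (.node (.leaf 0x6d68351)
(.leaf 0x247a2bc9))
(.node (.leaf 0x145a920d)
(.leaf 0)))
(.node (.node (.leaf 0xe6c8571)
(.leaf 0x2d76d72f))
(.node (.leaf 0x193e88e1)
(.leaf 0))))))
(.node (.node (.node (.node (.node (.leaf 0x10683d8)
(.leaf 0x1f1e6892))
(.node (.leaf 0x11808872)
(.leaf 0)))
(.node (.node (.leaf 0x99eaa9f)
(.leaf 0x29b0b56c))
(.node (.leaf 0x15d62d36)
(.leaf 0))))
(.node (.node (.node (.leaf 0x4f022ad)
(.leaf 0x23a466e1))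
(.node (.leaf 0x13fa6995)
(.leaf 0)))
(.node (.node (.leaf 0xd742f2d)
(.leaf 0x2cf437e4))
(.node (.leaf 0x184e921b)
(.leaf 0)))))
(.node (.node (.node (.node (.leaf 0x26aa3fd)
(.leaf 0x22a0cd53))
(.node (.leaf 0x133cb492)
(.leaf 0)))
(.node (.node (.leaf 0xac2744b)
(.leaf 0x2b9c9670))
(.node (.leaf 0x16e8a5a0)
(.leaf 0))))
(.node (.node (.node (.leaf 0x73ca457)
(.leaf 0x25729226))
(.node (.leaf 0x14d88ea4)
(.leaf 0)))
(.node (.node (.leaf 0xfa26d00)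
(.leaf 0x2e4876db))
(.node (.leaf 0x1a466f86)
(.leaf 0))))))))))
(.node (.node (.node (.node (.node (.node (.node (.node (.node (.leaf 434197)
(.leaf 0x1a9027e1))
(.node (.leaf 0x100e45b1)
(.leaf 0x2ea8b875)))
(.node (.node (.leaf 0x75e2460)
(.leaf 0x25a66d5b))
(.node (.leaf 0x14eeaeae)
(.leaf 0))))
(.node (.node (.node (.leaf 0x2a6a1bf)
(.leaf 0x22b24f5b))
(.node (.leaf 0x134e2812)
(.leaf 0)))
(.node (.node (.leaf 0xafe8581)
(.leaf 0x2bc25561))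
(.node (.leaf 0x1708acc8)
(.leaf 0)))))
(.node (.node (.node (.node (.leaf 0x118a1e1)
(.leaf 0x22046a7c))
(.node (.leaf 0x11f893f2)
(.leaf 0)))
(.node (.node (.leaf 0x9ae71dd)
(.leaf 0x29c894f4))
(.node (.leaf 0x15fe3400)
(.leaf 0))))
(.node (.node (.node (.leaf 0x508a2e7)
(.leaf 0x23c4c91b))
(.node (.leaf 0x140e8c0e)
(.leaf 0)))
(.node (.node (.leaf 0xd88cb71)
(.leaf 0x2d0eb5b2))
(.node (.leaf 0x1878b0aa)
(.leaf 0))))))
(.node (.node (.node (.node (.node (.leaf 0xb6a252)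
(.leaf 0x1c4893bd))
(.node (.leaf 0x1080d19a)
(.leaf 0x30f89899)))
(.node (.node (.leaf 0x90869cc)
(.leaf 0x2728906d))
(.node (.leaf 0x1588a64b)
(.leaf 0))))
(.node (.node (.node (.leaf 0x48a62c6)
(.leaf 0x231a6807))
(.node (.leaf 0x13a66e56)
(.leaf 0)))
(.node (.node (.leaf 0xc488793)
(.leaf 0x2cae95cb))
(.node (.leaf 0x17aa8e0a)
(.leaf 0)))))
(.node (.node (.node (.node (.leaf 0x1ac630a)
(.leaf 0x22506747))
(.node (.leaf 0x13044648)
(.leaf 0)))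
(.node (.node (.leaf 0xa2e6d08)
(.leaf 0x2a68d719))
(.node (.leaf 0x1676a791)
(.leaf 0))))
(.node (.node (.node (.leaf 0x6e4608c)
(.leaf 0x24988fd7))
(.node (.leaf 0x147267a7)
(.leaf 0)))
(.node (.node (.leaf 0xecec497)
(.leaf 0x2d8ab6b4))
(.node (.leaf 0x1968336d)
(.leaf 0)))))))
(.node (.node (.node (.node (.node (.node (.leaf 0x8ca03b)
(.leaf 0x1b6e8ec3))
(.node (.leaf 0x1040494a)
(.leaf 0x3060d84c)))
(.node (.node (.leaf 0x7f2c1bd)
(.leaf 0x26503171))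
(.node (.leaf 0x153ecdcd)
(.leaf 0))))
(.node (.node (.node (.leaf 0x464a128)
(.leaf 0x22e6a567))
(.node (.leaf 0x1378b2a6)
(.leaf 0)))
(.node (.node (.leaf 0xb80cdae)
(.leaf 0x2c8ed525))
(.node (.leaf 0x176866d8)
(.leaf 0)))))
(.node (.node (.node (.node (.leaf 0x15c6082)
(.leaf 0x22286dee))
(.node (.leaf 0x123831a0)
(.leaf 0)))
(.node (.node (.leaf 0x9e492a4)
(.leaf 0x2a123560))
(.node (.leaf 0x1632cc16)
(.leaf 0))))
(.node (.node (.node (.leaf 0x57e2133)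
(.leaf 0x24246e74))
(.node (.leaf 0x143ecea1)
(.leaf 0)))
(.node (.node (.leaf 0xdfc9451)
(.leaf 0x2d42d850))
(.node (.leaf 0x18f64fe6)
(.leaf 0))))))
(.node (.node (.node (.node (.node (.leaf 0xe4642a)
(.leaf 0x1d38d2ee))
(.node (.leaf 0x10f8a78e)
(.leaf 0)))
(.node (.node (.leaf 0x98425a8)
(.leaf 0x298c356d))
(.node (.leaf 0x15b2940f)
(.leaf 0))))
(.node (.node (.node (.leaf 0x4c62158)
(.leaf 0x2360d046))
(.node (.leaf 0x13d888db)
(.leaf 0)))
(.node (.node (.leaf 0xd58ce6d)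
(.leaf 0x2cd8d7b0))
(.node (.leaf 0x180a334c)
(.leaf 0)))))
(.node (.node (.node (.node (.leaf 0x202824c)
(.leaf 0x22829141))
(.node (.leaf 0x13245321)
(.leaf 0)))
(.node (.node (.leaf 0xa76cf66)
(.leaf 0x2b7e9694))
(.node (.leaf 0x16b2af35)
(.leaf 0))))
(.node (.node (.node (.leaf 0x7142087)
(.leaf 0x2512a626))
(.node (.leaf 0x14a8a94d)
(.leaf 0)))
(.node (.node (.leaf 0xf58c62a)
(.leaf 0x2ddc7859))
(.node (.leaf 0x19dcce04)
(.leaf 0))))))))
(.node (.node (.node (.node (.node (.node (.node (.leaf 0x24603c)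
(.leaf 0x1b004e15))
(.node (.leaf 0x1024d018)
(.leaf 0x304e555e)))
(.node (.node (.leaf 0x7ac63d0)
(.leaf 0x2608d339))
(.node (.leaf 0x15182ca0)
(.leaf 0))))
(.node (.node (.node (.leaf 0x3a8a08a)
(.leaf 0x22cc8723))
(.node (.leaf 0x1362ad07)
(.leaf 0)))
(.node (.node (.leaf 0xb442af7)
(.leaf 0x2c16d66b))
(.node (.leaf 0x172c4e45)
(.leaf 0)))))
(.node (.node (.node (.node (.leaf 0x1348038)
(.leaf 0x22162bd8))
(.node (.leaf 0x12169167)
(.leaf 0)))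
(.node (.node (.leaf 0x9c8b368)
(.leaf 0x29e436d8))
(.node (.leaf 0x1618abee)
(.leaf 0))))
(.node (.node (.node (.leaf 0x5328312)
(.leaf 0x23ec9399))
(.node (.leaf 0x14247388)
(.leaf 0)))
(.node (.node (.leaf 0xda88f96)
(.leaf 0x2d2657ad))
(.node (.leaf 0x18b6cbd7)
(.leaf 0))))))
(.node (.node (.node (.node (.node (.leaf 0xcc81de)
(.leaf 0x1c9ecb6f))
(.node (.leaf 0x10b2865d)
(.leaf 0)))
(.node (.node (.leaf 0x920714d)
(.leaf 0x27e8c6df))
(.node (.leaf 0x159e6623)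
(.leaf 0))))
(.node (.node (.node (.leaf 0x4a6a2e8)
(.leaf 0x233c54ae))
(.node (.leaf 0x13beb191)
(.leaf 0)))
(.node (.node (.leaf 0xd442573)
(.leaf 0x2cc4b659))
(.node (.leaf 0x17ce2cba)
(.leaf 0)))))
(.node (.node (.node (.node (.leaf 0x1d8a19a)
(.leaf 0x2268cbdf))
(.node (.leaf 0x1314d097)
(.leaf 0)))
(.node (.node (.leaf 0xa542b5d)
(.leaf 0x2ac8350e))
(.node (.leaf 0x16988835)
(.leaf 0))))
(.node (.node (.node (.leaf 0x6f8a414)
(.leaf 0x24d6877e))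
(.node (.leaf 0x148a89de)
(.leaf 0)))
(.node (.node (.leaf 0xf32a9af)
(.leaf 0x2daab71c))
(.node (.leaf 0x19a8ae97)
(.leaf 0)))))))
(.node (.node (.node (.node (.node (.node (.leaf 0xa241d0)
(.leaf 0x1be8b345))
(.node (.leaf 0x1056c767)
(.leaf 0x30969892)))
(.node (.node (.leaf 0x8be23bd)
(.leaf 0x26886b7a))
(.node (.leaf 0x156cd1c8)
(.leaf 0))))
(.node (.node (.node (.leaf 0x476842e)
(.leaf 0x230086ee))
(.node (.leaf 0x13902e8b)
(.leaf 0)))
(.node (.node (.leaf 0xbb62585)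
(.leaf 0x2c9c96e9))
(.node (.leaf 0x17845039)
(.leaf 0)))))
(.node (.node (.node (.node (.leaf 0x1822429)
(.leaf 0x223c941a))
(.node (.leaf 0x12c0855c)
(.leaf 0)))
(.node (.node (.leaf 0xa0e6a99)
(.leaf 0x2a3c9855))
(.node (.leaf 0x16506ac9)
(.leaf 0))))
(.node (.node (.node (.leaf 0x670a1c9)
(.leaf 0x246a28e9))
(.node (.leaf 0x1454ae57)
(.leaf 0)))
(.node (.node (.leaf 0xe2e87fc)
(.leaf 0x2d6c7829))
(.node (.leaf 0x193270a9)
(.leaf 0))))))
(.node (.node (.node (.node (.node (.leaf 0xfe6194)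
(.leaf 0x1e9eb0f3))
(.node (.leaf 0x11606b1b)
(.leaf 0)))
(.node (.node (.leaf 0x9988f64)
(.leaf 0x29ac7512))
(.node (.leaf 0x15ce321d)
(.leaf 0))))
(.node (.node (.node (.leaf 0x4e8a403)
(.leaf 0x239eaaec))
(.node (.leaf 0x13f48cb4)
(.leaf 0)))
(.node (.node (.leaf 0xd6c881b)
(.leaf 0x2cee3715))
(.node (.leaf 0x1840873e)
(.leaf 0)))))
(.node (.node (.node (.node (.leaf 0x252a32c)
(.leaf 0x22989217))
(.node (.leaf 0x1338ac25)
(.leaf 0)))
(.node (.node (.leaf 0xaaacb67)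
(.leaf 0x2b96550b))
(.node (.leaf 0x16de923f)
(.leaf 0))))
(.node (.node (.node (.leaf 0x72c6294)
(.leaf 0x25626c5e))
(.node (.leaf 0x14ce6ad0)
(.leaf 0)))
(.node (.node (.leaf 0xf9068a3)
(.leaf 0x2e3e7638))
(.node (.leaf 0x1a3a69f4)
(.leaf 0)))))))))
(.node (.node (.node (.node (.node (.node (.node (.node (.leaf 0x10a36a)
(.leaf 0x1ac6ce10))
(.node (.leaf 0x101a8622)
(.leaf 0x2ed2b86a)))
(.node (.node (.leaf 0x7828086)
(.leaf 0x25dcabaf))
(.node (.leaf 0x1500d3e6)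
(.leaf 0))))
(.node (.node (.node (.leaf 0x2faa020)
(.leaf 0x22be6e76))
(.node (.leaf 0x13588d18)
(.leaf 0)))
(.node (.node (.leaf 0xb2ea692)
(.leaf 0x2bf89596))
(.node (.leaf 0x17206ec4)
(.leaf 0)))))
(.node (.node (.node (.node (.leaf 0x124c145)
(.leaf 0x220c908b))
(.node (.leaf 0x1204ca8d)
(.leaf 0)))
(.node (.node (.leaf 0x9bcb409)
(.leaf 0x29d476c7))
(.node (.leaf 0x160a717c)
(.leaf 0))))
(.node (.node (.node (.leaf 0x51c817c)
(.leaf 0x23de72f2))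
(.node (.leaf 0x14182c14)
(.leaf 0)))
(.node (.node (.leaf 0xd96cfa3)
(.leaf 0x2d1c7836))
(.node (.leaf 0x18982fc8)
(.leaf 0))))))
(.node (.node (.node (.node (.node (.leaf 0xbea2c9)
(.leaf 0x1c722e20))
(.node (.leaf 0x10928662)
(.leaf 0x3112b837)))
(.node (.node (.leaf 0x916c4e2)
(.leaf 0x2768d21f))
(.node (.leaf 0x1594ad86)
(.leaf 0))))
(.node (.node (.node (.leaf 0x49662ac)
(.leaf 0x232a716a))
(.node (.leaf 0x13b2addf)
(.leaf 0)))
(.node (.node (.leaf 0xc8244fb)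
(.leaf 0x2cb875e1))
(.node (.leaf 0x17b8a9bf)
(.leaf 0)))))
(.node (.node (.node (.node (.leaf 0x1ba63dd)
(.leaf 0x22602c7b))
(.node (.leaf 0x130cc5f5)
(.leaf 0)))
(.node (.node (.leaf 0xa4092a3)
(.leaf 0x2a98359d))
(.node (.leaf 0x168a8d59)
(.leaf 0))))
(.node (.node (.node (.leaf 0x6ec20d3)
(.leaf 0x24b6905a))
(.node (.leaf 0x147cb369)
(.leaf 0)))
(.node (.node (.leaf 0xf248cec)
(.leaf 0x2d98973d))
(.node (.leaf 0x19844ad5)
(.leaf 0)))))))
(.node (.node (.node (.node (.node (.node (.leaf 0x9aa280)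
(.leaf 0x1ba2b2e0))
(.node (.leaf 0x104ac989)
(.leaf 0x3078d657)))
(.node (.node (.leaf 0x8748217)
(.leaf 0x2662ada7))
(.node (.leaf 0x155c4644)
(.leaf 0))))
(.node (.node (.node (.leaf 0x46ec2b7)
(.leaf 0x22f425cb))
(.node (.leaf 0x1382b282)
(.leaf 0)))
(.node (.node (.leaf 0xb9e654a)
(.leaf 0x2c94984e))
(.node (.leaf 0x177aadf9)
(.leaf 0)))))
(.node (.node (.node (.node (.leaf 0x16aa1cc)
(.leaf 0x2232afb5))
(.node (.leaf 0x1260a897)
(.leaf 0)))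
(.node (.node (.leaf 0x9fe6e32)
(.leaf 0x2a2875f1))
(.node (.leaf 0x163e8a9b)
(.leaf 0))))
(.node (.node (.node (.leaf 0x5f0a08d)
(.leaf 0x243e6706))
(.node (.leaf 0x144ad2c9)
(.leaf 0)))
(.node (.node (.leaf 0xe186cc3)
(.leaf 0x2d5cb751))
(.node (.leaf 0x191a8a2b)
(.leaf 0))))))
(.node (.node (.node (.node (.node (.leaf 0xf0c1df)
(.leaf 0x1ddc2dfc))
(.node (.leaf 0x112c6ef1)
(.leaf 0)))
(.node (.node (.leaf 0x98e8af8)
(.leaf 0x299c9765))
(.node (.leaf 0x15c4c725)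
(.leaf 0))))
(.node (.node (.node (.leaf 0x4da2458)
(.leaf 0x2386c832))
(.node (.leaf 0x13e230d0)
(.leaf 0)))
(.node (.node (.leaf 0xd626fce)
(.leaf 0x2ce2d66c))
(.node (.leaf 0x182870a1)
(.leaf 0)))))
(.node (.node (.node (.node (.leaf 0x218833a)
(.leaf 0x228e2de4))
(.node (.leaf 0x1330c7e8)
(.leaf 0)))
(.node (.node (.leaf 0xa826763)
(.leaf 0x2b8a75bf))
(.node (.leaf 0x16ca4abf)
(.leaf 0))))
(.node (.node (.node (.leaf 0x722a33b)
(.leaf 0x253a6bc5))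
(.node (.leaf 0x14b25298)
(.leaf 0)))
(.node (.node (.leaf 0xf668a22)
(.leaf 0x2e2477f0))
(.node (.leaf 0x1a168804)
(.leaf 0))))))))
(.node (.node (.node (.node (.node (.node (.node (.leaf 0x628014)
(.leaf 0x1b3269d8))
(.node (.leaf 0x1034c4e1)
(.leaf 0x305695e4)))
(.node (.node (.leaf 0x7c263f3)
(.leaf 0x2626741c))
(.node (.leaf 0x152a4a65)
(.leaf 0))))
(.node (.node (.node (.leaf 0x45a8304)
(.leaf 0x22d8b149))
(.node (.leaf 0x136e8d15)
(.leaf 0)))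
(.node (.node (.leaf 0xb6485bf)
(.leaf 0x2c6ad4d4))
(.node (.leaf 0x1748aee7)
(.leaf 0)))))
(.node (.node (.node (.node (.leaf 0x1468197)
(.leaf 0x222064f1))
(.node (.leaf 0x12264885)
(.leaf 0)))
(.node (.node (.leaf 0x9d4ac32)
(.leaf 0x29f8761d))
(.node (.leaf 0x1624b024)
(.leaf 0))))
(.node (.node (.node (.leaf 0x54aa25a)
(.leaf 0x240e8be2))
(.node (.leaf 0x14308e6e)
(.leaf 0)))
(.node (.node (.leaf 0xdc6afc3)
(.leaf 0x2d32d607))
(.node (.leaf 0x18d887db)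
(.leaf 0))))))
(.node (.node (.node (.node (.node (.leaf 0xd883d2)
(.leaf 0x1ceac7eb))
(.node (.leaf 0x10c666af)
(.leaf 0)))
(.node (.node (.leaf 0x93a714f)
(.leaf 0x28a2b118))
(.node (.leaf 0x15a88b28)
(.leaf 0))))
(.node (.node (.node (.leaf 0x4b48179)
(.leaf 0x234ecebc))
(.node (.leaf 0x13ce6ccd)
(.leaf 0)))
(.node (.node (.leaf 0xd4ec4a6)
(.leaf 0x2cced72b))
(.node (.leaf 0x17fa4598)
(.leaf 0)))))
(.node (.node (.node (.node (.leaf 0x1ee607a)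
(.leaf 0x22768fbf))
(.node (.leaf 0x131c283d)
(.leaf 0)))
(.node (.node (.leaf 0xa606d68)
(.leaf 0x2b36950d))
(.node (.leaf 0x16a6ca09)
(.leaf 0))))
(.node (.node (.node (.leaf 0x706610e)
(.leaf 0x24f486e2))
(.node (.leaf 0x149ab025)
(.leaf 0)))
(.node (.node (.leaf 0xf4847c1)
(.leaf 0x2dba368d))
(.node (.leaf 0x19c6cb81)
(.leaf 0)))))))
(.node (.node (.node (.node (.node (.node (.leaf 0xac2147)
(.leaf 0x1c0eadf5))
(.node (.leaf 0x106ca99f)
(.leaf 0x30ee5662)))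
(.node (.node (.leaf 0x8d26208)
(.leaf 0x26ea519d))
(.node (.leaf 0x157ac939)
(.leaf 0))))
(.node (.node (.node (.leaf 0x4806441)
(.leaf 0x230e4538))
(.node (.leaf 0x139cad88)
(.leaf 0)))
(.node (.node (.leaf 0xc2cc5cf)
(.leaf 0x2ca4b7e8))
(.node (.leaf 0x1792883a)
(.leaf 0)))))
(.node (.node (.node (.node (.leaf 0x19ea0df)
(.leaf 0x2246c74d))
(.node (.leaf 0x12ea85b7)
(.leaf 0)))
(.node (.node (.leaf 0xa1ac6c3)
(.leaf 0x2a54558a))
(.node (.leaf 0x165eaec5)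
(.leaf 0))))
(.node (.node (.node (.leaf 0x6da61f3)
(.leaf 0x248a9334))
(.node (.leaf 0x1462ae1a)
(.leaf 0)))
(.node (.node (.leaf 0xe8ca6bc)
(.leaf 0x2d8036e6))
(.node (.leaf 0x1950734b)
(.leaf 0))))))
(.node (.node (.node (.node (.node (.leaf 0x10ca149)
(.leaf 0x1fbac57b))
(.node (.leaf 0x11ee24bf)
(.leaf 0)))
(.node (.node (.leaf 0x9a48e1f)
(.leaf 0x29b635f5))
(.node (.leaf 0x15da70e2)
(.leaf 0))))
(.node (.node (.node (.leaf 0x4f6c2c5)
(.leaf 0x23ae5462))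
(.node (.leaf 0x1400d139)
(.leaf 0)))
(.node (.node (.leaf 0xd7c6bfd)
(.leaf 0x2cfad710))
(.node (.leaf 0x1860489b)
(.leaf 0)))))
(.node (.node (.node (.node (.leaf 0x28240a9)
(.leaf 0x22a4b2bf))
(.node (.leaf 0x1344a8dc)
(.leaf 0)))
(.node (.node (.leaf 0xad02dc2)
(.leaf 0x2ba8b7be))
(.node (.leaf 0x16f4896e)
(.leaf 0))))
(.node (.node (.node (.leaf 0x7426125)
(.leaf 0x257c6ab9))
(.node (.leaf 0x14e28f17)
(.leaf 0)))
(.node (.node (.leaf 0xfb26636)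
(.leaf 0x2e64963c))
(.node (.leaf 0x1a5e6c7a)
(.leaf 0)))))))))))
(.node (.node (.node (.node (.node (.node (.node (.node (.node (.node (.leaf 172401)
(.leaf 0x1a84697b))
(.node (.leaf 0xff4a4b8)
(.leaf 0x2e9656d6)))
(.node (.node (.leaf 0x758c338)
(.leaf 0x258a9075))
(.node (.leaf 0x14eaaf08)
(.leaf 0))))
(.node (.node (.node (.leaf 0x29ca062)
(.leaf 0x22ae70ef))
(.node (.leaf 0x134aad09)
(.leaf 0)))
(.node (.node (.leaf 0xaf4b450)
(.leaf 0x2bbc56cf))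
(.node (.leaf 0x1700b2bb)
(.leaf 0)))))
(.node (.node (.node (.node (.leaf 0x114631f)
(.leaf 0x22028a36))
(.node (.leaf 0x11f6a9cb)
(.leaf 0)))
(.node (.node (.leaf 0x9ae466a)
(.leaf 0x29c4d61e))
(.node (.leaf 0x15f82e28)
(.leaf 0))))
(.node (.node (.node (.leaf 0x500c135)
(.leaf 0x23c06c5c))
(.node (.leaf 0x140cabab)
(.leaf 0)))
(.node (.node (.leaf 0xd84c90c)
(.leaf 0x2d08d6bc))
(.node (.leaf 0x1870af39)
(.leaf 0))))))
(.node (.node (.node (.node (.node (.leaf 0xb4c2ea)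
(.leaf 0x1c3cb190))
(.node (.leaf 0x107c9153)
(.leaf 0x30f65825)))
(.node (.node (.leaf 0x9066527)
(.leaf 0x2718a819))
(.node (.leaf 0x1584abca)
(.leaf 0))))
(.node (.node (.node (.leaf 0x488a401)
(.leaf 0x23164933))
(.node (.leaf 0x13a42bef)
(.leaf 0)))
(.node (.node (.leaf 0xc40a4cc)
(.leaf 0x2caa586b))
(.node (.leaf 0x17a28df4)
(.leaf 0)))))
(.node (.node (.node (.node (.leaf 0x1aac04b)
(.leaf 0x224c2e78))
(.node (.leaf 0x13028981)
(.leaf 0)))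
(.node (.node (.leaf 0xa2a6f6b)
(.leaf 0x2a647671))
(.node (.leaf 0x1670ad26)
(.leaf 0))))
(.node (.node (.node (.leaf 0x6e2c368)
(.leaf 0x24966a2d))
(.node (.leaf 0x146c2c52)
(.leaf 0)))
(.node (.node (.leaf 0xebaaaff)
(.leaf 0x2d88d808))
(.node (.leaf 0x19628f83)
(.leaf 0)))))))
(.node (.node (.node (.node (.node (.node (.leaf 0x7e63d9)
(.leaf 0x1b588d34))
(.node (.leaf 0x103e6d0b)
(.leaf 0x305e761c)))
(.node (.node (.leaf 0x7ea63e3)
(.leaf 0x263e93c6))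
(.node (.leaf 0x1532942d)
(.leaf 0))))
(.node (.node (.node (.leaf 0x462a054)
(.leaf 0x22e26ca9))
(.node (.leaf 0x137668f1)
(.leaf 0)))
(.node (.node (.leaf 0xb78a7f3)
(.leaf 0x2c80d796))
(.node (.leaf 0x1762938d)
(.leaf 0)))))
(.node (.node (.node (.node (.leaf 0x15a4131)
(.leaf 0x2226b132))
(.node (.leaf 0x123470dc)
(.leaf 0)))
(.node (.node (.leaf 0x9dc8e24)
(.leaf 0x2a0e9781))
(.node (.leaf 0x162c6f03)
(.leaf 0))))
(.node (.node (.node (.leaf 0x572a357)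
(.leaf 0x2420d335))
(.node (.leaf 0x143ab3a0)
(.leaf 0)))
(.node (.node (.leaf 0xdf4854e)
(.leaf 0x2d40b674))
(.node (.leaf 0x18eac71d)
(.leaf 0))))))
(.node (.node (.node (.node (.node (.leaf 0xe4a0be)
(.leaf 0x1d244c4e))
(.node (.leaf 0x10e28d5f)
(.leaf 0)))
(.node (.node (.leaf 0x98067c9)
(.leaf 0x2986b533))
(.node (.leaf 0x15b030af)
(.leaf 0))))
(.node (.node (.node (.leaf 0x4c28374)
(.leaf 0x235a4c6d))
(.node (.leaf 0x13d4b180)
(.leaf 0)))
(.node (.node (.leaf 0xd56881a)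
(.leaf 0x2cd6781a))
(.node (.leaf 0x1808685e)
(.leaf 0)))))
(.node (.node (.node (.node (.leaf 0x200c1eb)
(.leaf 0x227ec8c5))
(.node (.leaf 0x13226d5e)
(.leaf 0)))
(.node (.node (.leaf 0xa7066d2)
(.leaf 0x2b7cb644))
(.node (.leaf 0x16ae677d)
(.leaf 0))))
(.node (.node (.node (.leaf 0x70ec3b0)
(.leaf 0x250889e2))
(.node (.leaf 0x14a2b3c9)
(.leaf 0)))
(.node (.node (.leaf 0xf52d46c)
(.leaf 0x2dd8b7fa))
(.node (.leaf 0x19d46fff)
(.leaf 0))))))))
(.node (.node (.node (.node (.node (.node (.node (.leaf 0x1e82d6)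
(.leaf 0x1aead02c))
(.node (.leaf 0x1022acfd)
(.leaf 0x2f6a7886)))
(.node (.node (.leaf 0x7a6c35f)
(.leaf 0x25fe7429))
(.node (.leaf 0x1510b10f)
(.leaf 0))))
(.node (.node (.node (.leaf 0x35862a6)
(.leaf 0x22c88535))
(.node (.leaf 0x135e8d9a)
(.leaf 0)))
(.node (.node (.leaf 0xb4290f0)
(.leaf 0x2c14d573))
(.node (.leaf 0x172a7091)
(.leaf 0)))))
(.node (.node (.node (.node (.leaf 0x130606c)
(.leaf 0x22144a92))
(.node (.leaf 0x120e6b11)
(.leaf 0)))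
(.node (.node (.leaf 0x9c46fde)
(.leaf 0x29e096c1))
(.node (.leaf 0x16148822)
(.leaf 0))))
(.node (.node (.node (.leaf 0x52aa453)
(.leaf 0x23e84a14))
(.node (.leaf 0x1420cc36)
(.leaf 0)))
(.node (.node (.leaf 0xda6a689)
(.leaf 0x2d227849))
(.node (.leaf 0x18ae259c)
(.leaf 0))))))
(.node (.node (.node (.node (.node (.leaf 0xc88435)
(.leaf 0x1c8a3201))
(.node (.leaf 0x10ac6558)
(.leaf 0)))
(.node (.node (.leaf 0x91e2929)
(.leaf 0x27de2619))
(.node (.leaf 0x159ad4b1)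
(.leaf 0))))
(.node (.node (.node (.leaf 0x4a2617b)
(.leaf 0x23384eb9))
(.node (.leaf 0x13bc4745)
(.leaf 0)))
(.node (.node (.leaf 0xd40a657)
(.leaf 0x2cc07569))
(.node (.leaf 0x17c671f8)
(.leaf 0)))))
(.node (.node (.node (.node (.leaf 0x1d421ad)
(.leaf 0x2268653b))
(.node (.leaf 0x131287e5)
(.leaf 0)))
(.node (.node (.leaf 0xa4c6f04)
(.leaf 0x2ab6d60a))
(.node (.leaf 0x1694c83f)
(.leaf 0))))
(.node (.node (.node (.leaf 0x6f4a229)
(.leaf 0x24d22be0))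
(.node (.leaf 0x1488cc56)
(.leaf 0)))
(.node (.node (.leaf 0xf3027a1)
(.leaf 0x2da6b81d))
(.node (.leaf 0x199eabe4)
(.leaf 0)))))))
(.node (.node (.node (.node (.node (.node (.leaf 0xa2c076)
(.leaf 0x1bd451a2))
(.node (.leaf 0x1052aa4a)
(.leaf 0x308e9895)))
(.node (.node (.leaf 0x8bca233)
(.leaf 0x2682d056))
(.node (.leaf 0x156ab22c)
(.leaf 0))))
(.node (.node (.node (.leaf 0x4766031)
(.leaf 0x22fa674c))
(.node (.leaf 0x138e6aa8)
(.leaf 0)))
(.node (.node (.leaf 0xbb4270a)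
(.leaf 0x2c9a978f))
(.node (.leaf 0x1780d2b4)
(.leaf 0)))))
(.node (.node (.node (.node (.leaf 0x17ca077)
(.leaf 0x223a5062))
(.node (.leaf 0x12a467ea)
(.leaf 0)))
(.node (.node (.leaf 0xa0cac47)
(.leaf 0x2a36759e))
(.node (.leaf 0x1648304e)
(.leaf 0))))
(.node (.node (.node (.leaf 0x63cc27a)
(.leaf 0x24644a53))
(.node (.leaf 0x14529014)
(.leaf 0)))
(.node (.node (.leaf 0xe28488a)
(.leaf 0x2d68d7a6))
(.node (.leaf 0x192e6eb7)
(.leaf 0))))))
(.node (.node (.node (.node (.node (.leaf 0xf88316)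
(.leaf 0x1e60d43f))
(.node (.leaf 0x1152a7d3)
(.leaf 0)))
(.node (.node (.leaf 0x996a89d)
(.leaf 0x29a8d63d))
(.node (.leaf 0x15cc731b)
(.leaf 0))))
(.node (.node (.node (.leaf 0x4e26449)
(.leaf 0x2396866c))
(.node (.leaf 0x13ec2f80)
(.leaf 0)))
(.node (.node (.leaf 0xd6a6721)
(.leaf 0x2ceab78e))
(.node (.leaf 0x18368c9c)
(.leaf 0)))))
(.node (.node (.node (.node (.leaf 0x22a43d4)
(.leaf 0x22967066))
(.node (.leaf 0x1338c702)
(.leaf 0)))
(.node (.node (.leaf 0xaa2648b)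
(.leaf 0x2b92764e))
(.node (.leaf 0x16d8adff)
(.leaf 0))))
(.node (.node (.node (.leaf 0x72ac1fd)
(.leaf 0x255871f2))
(.node (.leaf 0x14c88c6e)
(.leaf 0)))
(.node (.node (.leaf 0xf7e2a24)
(.leaf 0x2e36b76b))
(.node (.leaf 0x1a32a93f)
(.leaf 0)))))))))
(.node (.node (.node (.node (.node (.node (.node (.node (.leaf 958465)
(.leaf 0x1ab4900a))
(.node (.leaf 0x1016861d)
(.leaf 0x2ec6d6a2)))
(.node (.node (.leaf 0x778645d)
(.leaf 0x25d6cadf))
(.node (.leaf 0x14fe6f6f)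
(.leaf 0))))
(.node (.node (.node (.leaf 0x2e2602a)
(.leaf 0x22ba6738))
(.node (.leaf 0x135493d6)
(.leaf 0)))
(.node (.node (.leaf 0xb28a4cd)
(.leaf 0x2bea7595))
(.node (.leaf 0x17187021)
(.leaf 0)))))
(.node (.node (.node (.node (.leaf 0x1208464)
(.leaf 0x220aadfb))
(.node (.leaf 0x1200b13e)
(.leaf 0)))
(.node (.node (.leaf 0x9bac803)
(.leaf 0x29d03826))
(.node (.leaf 0x1608cd47)
(.leaf 0))))
(.node (.node (.node (.leaf 0x51aa342)
(.leaf 0x23dc8d57))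
(.node (.leaf 0x1416afb1)
(.leaf 0)))
(.node (.node (.leaf 0xd944d6b)
(.leaf 0x2d18d81f))
(.node (.leaf 0x188e6ce6)
(.leaf 0))))))
(.node (.node (.node (.node (.node (.leaf 0xbc2160)
(.leaf 0x1c6a2c9f))
(.node (.leaf 0x108aab1e)
(.leaf 0x3108974e)))
(.node (.node (.leaf 0x912b1bb)
(.leaf 0x2752d266))
(.node (.leaf 0x15904f98)
(.leaf 0))))
(.node (.node (.node (.leaf 0x4944402)
(.leaf 0x2322aae4))
(.node (.leaf 0x13ae8f28)
(.leaf 0)))
(.node (.node (.leaf 0xc7887ce)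
(.leaf 0x2cb476c3))
(.node (.leaf 0x17b42a55)
(.leaf 0)))))
(.node (.node (.node (.node (.leaf 0x1b4c39a)
(.leaf 0x225cad25))
(.node (.leaf 0x130a2b16)
(.leaf 0)))
(.node (.node (.leaf 0xa3c84d1)
(.leaf 0x2a8e771f))
(.node (.leaf 0x16864e40)
(.leaf 0))))
(.node (.node (.node (.leaf 0x6ea816d)
(.leaf 0x24b624dd))
(.node (.leaf 0x147852f1)
(.leaf 0)))
(.node (.node (.leaf 0xf208ae3)
(.leaf 0x2d967556))
(.node (.leaf 0x1976a557)
(.leaf 0)))))))
(.node (.node (.node (.node (.node (.node (.leaf 0x9880ee)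
(.leaf 0x1b9aa64e))
(.node (.leaf 0x1046915c)
(.leaf 0x306ed87f)))
(.node (.node (.leaf 0x81ca239)
(.leaf 0x265aa997))
(.node (.leaf 0x155292fd)
(.leaf 0))))
(.node (.node (.node (.leaf 0x46aa3c5)
(.leaf 0x22f04e2b))
(.node (.leaf 0x13822533)
(.leaf 0)))
(.node (.node (.leaf 0xb98ae25)
(.leaf 0x2c9295cc))
(.node (.leaf 0x17746ae8)
(.leaf 0)))))
(.node (.node (.node (.node (.leaf 0x16461b1)
(.leaf 0x2230a8ac))
(.node (.leaf 0x1248348d)
(.leaf 0)))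
(.node (.node (.leaf 0x9fa6b69)
(.leaf 0x2a22d650))
(.node (.leaf 0x163c4971)
(.leaf 0))))
(.node (.node (.node (.leaf 0x5bec3a7)
(.leaf 0x24306b6a))
(.node (.leaf 0x144aa607)
(.leaf 0)))
(.node (.node (.leaf 0xe14a8c8)
(.leaf 0x2d56b60c))
(.node (.leaf 0x191272fa)
(.leaf 0))))))
(.node (.node (.node (.node (.node (.leaf 0xee6132)
(.leaf 0x1dc86fb9))
(.node (.leaf 0x11207259)
(.leaf 0)))
(.node (.node (.leaf 0x98cc49e)
(.leaf 0x299a76c9))
(.node (.leaf 0x15be335c)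
(.leaf 0))))
(.node (.node (.node (.leaf 0x4d8c139)
(.leaf 0x237caab6))
(.node (.leaf 0x13e26946)
(.leaf 0)))
(.node (.node (.leaf 0xd60c4d6)
(.leaf 0x2ce07672))
(.node (.leaf 0x1816b0ba)
(.leaf 0)))))
(.node (.node (.node (.node (.leaf 0x2146094)
(.leaf 0x228caf34))
(.node (.leaf 0x132cb3de)
(.leaf 0)))
(.node (.node (.leaf 0xa7ea858)
(.leaf 0x2b8676ea))
(.node (.leaf 0x16c6a6db)
(.leaf 0))))
(.node (.node (.node (.leaf 0x720a456)
(.leaf 0x25284bf8))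
(.node (.leaf 0x14b26b5a)
(.leaf 0)))
(.node (.node (.leaf 0xf6271d7)
(.leaf 0x2e14b53e))
(.node (.leaf 0x1a10904c)
(.leaf 0))))))))
(.node (.node (.node (.node (.node (.node (.node (.leaf 0x448009)
(.leaf 0x1b1a738f))
(.node (.leaf 0x1030d4a6)
(.leaf 0x3054d740)))
(.node (.node (.leaf 0x7bc6333)
(.leaf 0x261ab20a))
(.node (.leaf 0x1520329c)
(.leaf 0))))
(.node (.node (.node (.leaf 0x45882e5)
(.leaf 0x22d688aa))
(.node (.leaf 0x136a6ddc)
(.leaf 0)))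
(.node (.node (.leaf 0xb602545)
(.leaf 0x2c6634ed))
(.node (.leaf 0x1742ab4d)
(.leaf 0)))))
(.node (.node (.node (.node (.leaf 0x1428105)
(.leaf 0x221e6e16))
(.node (.leaf 0x12226b4f)
(.leaf 0)))
(.node (.node (.leaf 0x9d2afda)
(.leaf 0x29eeb716))
(.node (.leaf 0x16228709)
(.leaf 0))))
(.node (.node (.node (.leaf 0x5426416)
(.leaf 0x2406853f))
(.node (.leaf 0x142c3215)
(.leaf 0)))
(.node (.node (.leaf 0xdc42ca5)
(.leaf 0x2d2eb6a4))
(.node (.leaf 0x18ccac22)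
(.leaf 0))))))
(.node (.node (.node (.node (.node (.leaf 0xd4810c)
(.leaf 0x1cd4cee6))
(.node (.leaf 0x10c484b6)
(.leaf 0)))
(.node (.node (.leaf 0x934b3c4)
(.leaf 0x284630a5))
(.node (.leaf 0x15a43016)
(.leaf 0))))
(.node (.node (.node (.leaf 0x4ae820a)
(.leaf 0x234889cd))
(.node (.leaf 0x13ca6c30)
(.leaf 0)))
(.node (.node (.leaf 0xd4ca58e)
(.leaf 0x2ccc770a))
(.node (.leaf 0x17f02c60)
(.leaf 0)))))
(.node (.node (.node (.node (.leaf 0x1e8823b)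
(.leaf 0x2272c510))
(.node (.leaf 0x131a857d)
(.leaf 0)))
(.node (.node (.leaf 0xa5e6cbd)
(.leaf 0x2afe9545))
(.node (.leaf 0x16a2ade0)
(.leaf 0))))
(.node (.node (.node (.leaf 0x7024227)
(.leaf 0x24ee6a29))
(.node (.leaf 0x14986b9b)
(.leaf 0)))
(.node (.node (.leaf 0xf3eaa4b)
(.leaf 0x2db8b7b4))
(.node (.leaf 0x19c08743)
(.leaf 0)))))))
(.node (.node (.node (.node (.node (.node (.leaf 0xaac0ac)
(.leaf 0x1c026fc6))
(.node (.leaf 0x1068662f)
(.leaf 0x30ae582b)))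
(.node (.node (.leaf 0x8cca3ca)
(.leaf 0x26d0ac1e))
(.node (.leaf 0x1576871f)
(.leaf 0))))
(.node (.node (.node (.leaf 0x47ec366)
(.leaf 0x230c4621))
(.node (.leaf 0x13985247)
(.leaf 0)))
(.node (.node (.leaf 0xc20cb05)
(.leaf 0x2ca2370b))
(.node (.leaf 0x178c3197)
(.leaf 0)))))
(.node (.node (.node (.node (.leaf 0x19a81ec)
(.leaf 0x2242b269))
(.node (.leaf 0x12e664af)
(.leaf 0)))
(.node (.node (.leaf 0xa166c91)
(.leaf 0x2a4c7792))
(.node (.leaf 0x1658684e)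
(.leaf 0))))
(.node (.node (.node (.leaf 0x6d861f1)
(.leaf 0x248692e5))
(.node (.leaf 0x145caefc)
(.leaf 0)))
(.node (.node (.leaf 0xe7c6b6e)
(.leaf 0x2d7ed7c9))
(.node (.leaf 0x1944cb5f)
(.leaf 0))))))
(.node (.node (.node (.node (.node (.leaf 0x108c2f1)
(.leaf 0x1f5ec840))
(.node (.leaf 0x11988867)
(.leaf 0)))
(.node (.node (.leaf 0x9a2a91a)
(.leaf 0x29b23605))
(.node (.leaf 0x15d8cc49)
(.leaf 0))))
(.node (.node (.node (.leaf 0x4f2c43a)
(.leaf 0x23a888e7))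
(.node (.leaf 0x13fcb340)
(.leaf 0)))
(.node (.node (.leaf 0xd78a7c8)
(.leaf 0x2cf8770f))
(.node (.leaf 0x18529466)
(.leaf 0)))))
(.node (.node (.node (.node (.leaf 0x2724201)
(.leaf 0x22a23397))
(.node (.leaf 0x1340c95b)
(.leaf 0)))
(.node (.node (.leaf 0xac6a828)
(.leaf 0x2ba49865))
(.node (.leaf 0x16ee4bce)
(.leaf 0))))
(.node (.node (.node (.leaf 0x7404413)
(.leaf 0x2578c6a2))
(.node (.leaf 0x14dcb3a1)
(.leaf 0)))
(.node (.node (.leaf 0xfaa8565)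
(.leaf 0x2e56b7f4))
(.node (.leaf 0x1a5466da)
(.leaf 0))))))))))
(.node (.node (.node (.node (.node (.node (.node (.node (.node (.leaf 549329)
(.leaf 0x1a9a8f2f))
(.node (.leaf 0x1012c6b9)
(.leaf 0x2eb6366e)))
(.node (.node (.leaf 0x762a0dd)
(.leaf 0x25baae60))
(.node (.leaf 0x14f029c8)
(.leaf 0))))
(.node (.node (.node (.leaf 0x2b0c0bd)
(.leaf 0x22b46c4c))
(.node (.leaf 0x13502860)
(.leaf 0)))
(.node (.node (.leaf 0xb0a87f1)
(.leaf 0x2bc8b579))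
(.node (.leaf 0x1714c882)
(.leaf 0)))))
(.node (.node (.node (.node (.leaf 0x11ca1b6)
(.leaf 0x2206aff4))
(.node (.leaf 0x11fca5a7)
(.leaf 0)))
(.node (.node (.leaf 0x9b4a5be)
(.leaf 0x29ccd500))
(.node (.leaf 0x160267b7)
(.leaf 0))))
(.node (.node (.node (.leaf 0x50a8475)
(.leaf 0x23ca8da5))
(.node (.leaf 0x14106733)
(.leaf 0)))
(.node (.node (.leaf 0xd8ab40d)
(.leaf 0x2d10d70e))
(.node (.leaf 0x1880c6f8)
(.leaf 0))))))
(.node (.node (.node (.node (.node (.leaf 0xb8c051)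
(.leaf 0x1c587324))
(.node (.leaf 0x1086ab07)
(.leaf 0x30fc9794)))
(.node (.node (.leaf 0x90cc5d6)
(.leaf 0x273a473a))
(.node (.leaf 0x158a2c97)
(.leaf 0))))
(.node (.node (.node (.leaf 0x48e8376)
(.leaf 0x231cb0a0))
(.node (.leaf 0x13a6cf8a)
(.leaf 0)))
(.node (.node (.leaf 0xc5a850b)
(.leaf 0x2cb0d786))
(.node (.leaf 0x17acd32f)
(.leaf 0)))))
(.node (.node (.node (.node (.leaf 0x1b0c043)
(.leaf 0x2250ce44))
(.node (.leaf 0x1306ca46)
(.leaf 0)))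
(.node (.node (.leaf 0xa32cb7d)
(.leaf 0x2a6c985d))
(.node (.leaf 0x167a8d97)
(.leaf 0))))
(.node (.node (.node (.leaf 0x6e6c0b0)
(.leaf 0x249e7472))
(.node (.leaf 0x1472314c)
(.leaf 0)))
(.node (.node (.leaf 0xed864d9)
(.leaf 0x2d8e575b))
(.node (.leaf 0x196e8fbd)
(.leaf 0)))))))
(.node (.node (.node (.node (.node (.node (.leaf 0x964034)
(.leaf 0x1b7a260c))
(.node (.leaf 0x1042a60e)
(.leaf 0x3064d7d8)))
(.node (.node (.leaf 0x800c212)
(.leaf 0x265253a6))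
(.node (.leaf 0x15428a39)
(.leaf 0))))
(.node (.node (.node (.leaf 0x4686018)
(.leaf 0x22e8b03b))
(.node (.leaf 0x137cd381)
(.leaf 0)))
(.node (.node (.leaf 0xb86865e)
(.leaf 0x2c8e762d))
(.node (.leaf 0x176cc600)
(.leaf 0)))))
(.node (.node (.node (.node (.leaf 0x15ea1e3)
(.leaf 0x222a3001))
(.node (.leaf 0x1242928e)
(.leaf 0)))
(.node (.node (.leaf 0x9ee6dbb)
(.leaf 0x2a1a9618))
(.node (.leaf 0x1636673d)
(.leaf 0))))
(.node (.node (.node (.leaf 0x58a4469)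
(.leaf 0x2428b248))
(.node (.leaf 0x14426a10)
(.leaf 0)))
(.node (.node (.leaf 0xe068544)
(.leaf 0x2d489634))
(.node (.leaf 0x18f8afe8)
(.leaf 0))))))
(.node (.node (.node (.node (.node (.leaf 0xe622a8)
(.leaf 0x1d7c49a3))
(.node (.leaf 0x1100876b)
(.leaf 0)))
(.node (.node (.leaf 0x9847418)
(.leaf 0x2996952e))
(.node (.leaf 0x15b88de7)
(.leaf 0))))
(.node (.node (.node (.leaf 0x4cac17d)
(.leaf 0x23646594))
(.node (.leaf 0x13dcb17f)
(.leaf 0)))
(.node (.node (.leaf 0xd5a6fd0)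
(.leaf 0x2cdab7c1))
(.node (.leaf 0x180c4e30)
(.leaf 0)))))
(.node (.node (.node (.node (.leaf 0x20aa023)
(.leaf 0x2286d24a))
(.node (.leaf 0x1326d087)
(.leaf 0)))
(.node (.node (.leaf 0xa78af5f)
(.leaf 0x2b80b6bf))
(.node (.leaf 0x16b83223)
(.leaf 0))))
(.node (.node (.node (.leaf 0x716a37c)
(.leaf 0x251eb47a))
(.node (.leaf 0x14aa6821)
(.leaf 0)))
(.node (.node (.leaf 0xf5acd7e)
(.leaf 0x2de4d7e3))
(.node (.leaf 0x19ee6f6d)
(.leaf 0))))))))
(.node (.node (.node (.node (.node (.node (.node (.leaf 0x2ea01e)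
(.leaf 0x1b06ada2))
(.node (.leaf 0x1026d2da)
(.leaf 0x3050d55b)))
(.node (.node (.leaf 0x7b48226)
(.leaf 0x260e9078))
(.node (.leaf 0x151caef0)
(.leaf 0))))
(.node (.node (.node (.leaf 0x4564036)
(.leaf 0x22d0908c))
(.node (.leaf 0x13646c10)
(.leaf 0)))
(.node (.node (.leaf 0xb4e6b65)
(.leaf 0x2c32b505))
(.node (.leaf 0x17309390)
(.leaf 0)))))
(.node (.node (.node (.node (.leaf 0x138236f)
(.leaf 0x2218aa28))
(.node (.leaf 0x121c718c)
(.leaf 0)))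
(.node (.node (.leaf 0x9ca2f27)
(.leaf 0x29e65707))
(.node (.leaf 0x161ca99d)
(.leaf 0))))
(.node (.node (.node (.leaf 0x53c8258)
(.leaf 0x23f892ca))
(.node (.leaf 0x1428b0c9)
(.leaf 0)))
(.node (.node (.leaf 0xdb864aa)
(.leaf 0x2d28b66f))
(.node (.leaf 0x18bc8a5f)
(.leaf 0))))))
(.node (.node (.node (.node (.node (.leaf 0xce82c1)
(.leaf 0x1cac8cc7))
(.node (.leaf 0x10b8711d)
(.leaf 0)))
(.node (.node (.leaf 0x9262da1)
(.leaf 0x27fa8602))
(.node (.leaf 0x15a04a45)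
(.leaf 0))))
(.node (.node (.node (.leaf 0x4aac2ff)
(.leaf 0x234272dd))
(.node (.leaf 0x13c2adea)
(.leaf 0)))
(.node (.node (.leaf 0xd444e14)
(.leaf 0x2cc69733))
(.node (.leaf 0x17de6c13)
(.leaf 0)))))
(.node (.node (.node (.node (.leaf 0x1de40de)
(.leaf 0x226ca824))
(.node (.leaf 0x13166f33)
(.leaf 0)))
(.node (.node (.leaf 0xa568560)
(.leaf 0x2ad4959f))
(.node (.leaf 0x169853f4)
(.leaf 0))))
(.node (.node (.node (.leaf 0x6fa2318)
(.leaf 0x24de8b88))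
(.node (.leaf 0x1490931a)
(.leaf 0)))
(.node (.node (.leaf 0xf36a564)
(.leaf 0x2daed80c))
(.node (.leaf 0x19b06c98)
(.leaf 0)))))))
(.node (.node (.node (.node (.node (.node (.leaf 0xa6a143)
(.leaf 0x1bf2cb50))
(.node (.leaf 0x10585251)
(.leaf 0x309a97e5)))
(.node (.node (.leaf 0x8c42199)
(.leaf 0x26a068b5))
(.node (.leaf 0x1570ac41)
(.leaf 0))))
(.node (.node (.node (.leaf 0x47aa2f2)
(.leaf 0x230272a8))
(.node (.leaf 0x1394ccb3)
(.leaf 0)))
(.node (.node (.leaf 0xbbc8754)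
(.leaf 0x2c9e76f0))
(.node (.leaf 0x17864c21)
(.leaf 0)))))
(.node (.node (.node (.node (.leaf 0x18ea0d9)
(.leaf 0x223e2e00))
(.node (.leaf 0x12ca8756)
(.leaf 0)))
(.node (.node (.leaf 0xa106f06)
(.leaf 0x2a40b4e1))
(.node (.leaf 0x1652d380)
(.leaf 0))))
(.node (.node (.node (.leaf 0x6d6409e)
(.leaf 0x2476c7e0))
(.node (.leaf 0x1458c9b4)
(.leaf 0)))
(.node (.node (.leaf 0xe3a8fcc)
(.leaf 0x2d72b7c8))
(.node (.leaf 0x19386766)
(.leaf 0))))))
(.node (.node (.node (.node (.node (.leaf 0x102840e)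
(.leaf 0x1ef42628))
(.node (.leaf 0x11668a78)
(.leaf 0)))
(.node (.node (.leaf 0x99aca8f)
(.leaf 0x29ac585f))
(.node (.leaf 0x15d4b0bb)
(.leaf 0))))
(.node (.node (.node (.leaf 0x4eca385)
(.leaf 0x23a28f5c))
(.node (.leaf 0x13f6517d)
(.leaf 0)))
(.node (.node (.leaf 0xd6ea6c6)
(.leaf 0x2cf2d57f))
(.node (.leaf 0x1848d127)
(.leaf 0)))))
(.node (.node (.node (.node (.leaf 0x26a6173)
(.leaf 0x229e86ad))
(.node (.leaf 0x133c25fa)
(.leaf 0)))
(.node (.node (.leaf 0xab4a6c4)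
(.leaf 0x2b9ad57b))
(.node (.leaf 0x16e2cf1e)
(.leaf 0))))
(.node (.node (.node (.leaf 0x736c0d6)
(.leaf 0x25682d93))
(.node (.leaf 0x14d4ac85)
(.leaf 0)))
(.node (.node (.leaf 0xf9a8663)
(.leaf 0x2e4635df))
(.node (.leaf 0x1a40c789)
(.leaf 0)))))))))
(.node (.node (.node (.node (.node (.node (.node (.node (.leaf 0x1261dc)
(.leaf 0x1ad8ae4e))
(.node (.leaf 0x101cc9d3)
(.leaf 0x2ef8b750)))
(.node (.node (.leaf 0x788c459)
(.leaf 0x25ee2bcf))
(.node (.leaf 0x150273e8)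
(.leaf 0))))
(.node (.node (.node (.leaf 0x32ca180)
(.leaf 0x22c0aba9))
(.node (.leaf 0x135ad02e)
(.leaf 0)))
(.node (.node (.leaf 0xb3484d4)
(.leaf 0x2c0474fb))
(.node (.leaf 0x17226ba1)
(.leaf 0)))))
(.node (.node (.node (.node (.leaf 0x12ac317)
(.leaf 0x220eae95))
(.node (.leaf 0x1206cd65)
(.leaf 0)))
(.node (.node (.leaf 0x9c0c72d)
(.leaf 0x29d69610))
(.node (.leaf 0x160c5486)
(.leaf 0))))
(.node (.node (.node (.leaf 0x5226452)
(.leaf 0x23e2b1fe))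
(.node (.leaf 0x141a70f4)
(.leaf 0)))
(.node (.node (.leaf 0xd9e652b)
(.leaf 0x2d1ed552))
(.node (.leaf 0x18a03392)
(.leaf 0))))))
(.node (.node (.node (.node (.node (.leaf 0xc2422d)
(.leaf 0x1c7a6eed))
(.node (.leaf 0x109e91e5)
(.leaf 0x311ad7f3)))
(.node (.node (.leaf 0x918500b)
(.leaf 0x2774ac75))
(.node (.leaf 0x1598c61c)
(.leaf 0))))
(.node (.node (.node (.leaf 0x498c415)
(.leaf 0x232e8b32))
(.node (.leaf 0x13b8c79e)
(.leaf 0)))
(.node (.node (.leaf 0xcce85b5)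
(.leaf 0x2cba9873))
(.node (.leaf 0x17ba5123)
(.leaf 0)))))
(.node (.node (.node (.node (.leaf 0x1c08161)
(.leaf 0x22605417))
(.node (.leaf 0x130c6ffb)
(.leaf 0)))
(.node (.node (.leaf 0xa446734)
(.leaf 0x2aa276f6))
(.node (.leaf 0x168ec842)
(.leaf 0))))
(.node (.node (.node (.leaf 0x6ee61a1)
(.leaf 0x24c286d5))
(.node (.leaf 0x1480aa9a)
(.leaf 0)))
(.node (.node (.leaf 0xf26b0e8)
(.leaf 0x2d9e76b2))
(.node (.leaf 0x198cb1a6)
(.leaf 0)))))))
(.node (.node (.node (.node (.node (.node (.leaf 0x9ca42f)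
(.leaf 0x1bba6782))
(.node (.leaf 0x104eb203)
(.leaf 0x307e9861)))
(.node (.node (.leaf 0x8b640e6)
(.leaf 0x266a4e3a))
(.node (.leaf 0x156293b1)
(.leaf 0))))
(.node (.node (.node (.leaf 0x472614c)
(.leaf 0x22f44cd2))
(.node (.leaf 0x1386d068)
(.leaf 0)))
(.node (.node (.leaf 0xba4ad5a)
(.leaf 0x2c96773b))
(.node (.leaf 0x177c9309)
(.leaf 0)))))
(.node (.node (.node (.node (.leaf 0x172221b)
(.leaf 0x22348c74))
(.node (.leaf 0x12749015)
(.leaf 0)))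
(.node (.node (.leaf 0xa008cb0)
(.leaf 0x2a2c773f))
(.node (.leaf 0x16422fc5)
(.leaf 0))))
(.node (.node (.node (.leaf 0x5fea25c)
(.leaf 0x2446b3fe))
(.node (.leaf 0x144c3207)
(.leaf 0)))
(.node (.node (.leaf 0xe1e876d)
(.leaf 0x2d6095bc))
(.node (.leaf 0x192247fe)
(.leaf 0))))))
(.node (.node (.node (.node (.node (.leaf 0xf2821e)
(.leaf 0x1e20b16c))
(.node (.leaf 0x113a64a3)
(.leaf 0)))
(.node (.node (.leaf 0x990acc9)
(.leaf 0x29a077c3))
(.node (.leaf 0x15c6af31)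
(.leaf 0))))
(.node (.node (.node (.leaf 0x4de82d1)
(.leaf 0x23886900))
(.node (.leaf 0x13e6af85)
(.leaf 0)))
(.node (.node (.leaf 0xd66488e)
(.leaf 0x2ce495e8))
(.node (.leaf 0x182ec6b3)
(.leaf 0)))))
(.node (.node (.node (.node (.leaf 0x21ca309)
(.leaf 0x2290b236))
(.node (.leaf 0x133093b0)
(.leaf 0)))
(.node (.node (.leaf 0xa88ae1c)
(.leaf 0x2b8a57a8))
(.node (.leaf 0x16ce8d2b)
(.leaf 0))))
(.node (.node (.node (.leaf 0x726c3a4)
(.leaf 0x2540ce52))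
(.node (.leaf 0x14b68d6e)
(.leaf 0)))
(.node (.node (.leaf 0xf6e656a)
(.leaf 0x2e26d688))
(.node (.leaf 0x1a20ac15)
(.leaf 0))))))))
(.node (.node (.node (.node (.node (.node (.node (.leaf 0x78a01a)
(.leaf 0x1b404f0c))
(.node (.leaf 0x103849c1)
(.leaf 0x3058d7fd)))
(.node (.node (.leaf 0x7c84064)
(.leaf 0x262a720e))
(.node (.leaf 0x152c905d)
(.leaf 0))))
(.node (.node (.node (.leaf 0x45ec1d8)
(.leaf 0x22dab2ec))
(.node (.leaf 0x13726595)
(.leaf 0)))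
(.node (.node (.leaf 0xb6a85aa)
(.leaf 0x2c6c9566))
(.node (.leaf 0x1752add1)
(.leaf 0)))))
(.node (.node (.node (.node (.leaf 0x14cc2ba)
(.leaf 0x2220cfbb))
(.node (.leaf 0x122cc896)
(.leaf 0)))
(.node (.node (.leaf 0x9d82592)
(.leaf 0x2a00777a))
(.node (.leaf 0x16284b56)
(.leaf 0))))
(.node (.node (.node (.leaf 0x55082dc)
(.leaf 0x24164e93))
(.node (.leaf 0x1434ad0d)
(.leaf 0)))
(.node (.node (.leaf 0xdd265d4)
(.leaf 0x2d3a3869))
(.node (.leaf 0x18dea9fb)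
(.leaf 0))))))
(.node (.node (.node (.node (.node (.leaf 0xda2264)
(.leaf 0x1d006a5e))
(.node (.leaf 0x10ce8a6f)
(.leaf 0)))
(.node (.node (.leaf 0x95685ef)
(.leaf 0x28ca9196))
(.node (.leaf 0x15aa8fa0)
(.leaf 0))))
(.node (.node (.node (.leaf 0x4b8638b)
(.leaf 0x23505228))
(.node (.leaf 0x13d0906a)
(.leaf 0)))
(.node (.node (.leaf 0xd50ab8d)
(.leaf 0x2cd0b6dd))
(.node (.leaf 0x17fcac8e)
(.leaf 0)))))
(.node (.node (.node (.node (.leaf 0x1f62355)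
(.leaf 0x22782f8d))
(.node (.leaf 0x131e69a0)
(.leaf 0)))
(.node (.node (.leaf 0xa668dab)
(.leaf 0x2b76d4ff))
(.node (.leaf 0x16aa84e7)
(.leaf 0))))
(.node (.node (.node (.leaf 0x7086380)
(.leaf 0x24fec750))
(.node (.leaf 0x149c6a50)
(.leaf 0)))
(.node (.node (.leaf 0xf4aa4ba)
(.leaf 0x2dc6582f))
(.node (.leaf 0x19c86db6)
(.leaf 0)))))))
(.node (.node (.node (.node (.node (.node (.leaf 0xaec11e)
(.leaf 0x1c1652aa))
(.node (.leaf 0x10742da9)
(.leaf 0x30f057ac)))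
(.node (.node (.leaf 0x8daa33d)
(.leaf 0x26fe94a1))
(.node (.leaf 0x157a70cd)
(.leaf 0))))
(.node (.node (.node (.leaf 0x484c056)
(.leaf 0x2310a826))
(.node (.leaf 0x139ecf95)
(.leaf 0)))
(.node (.node (.leaf 0xc342516)
(.leaf 0x2ca675aa))
(.node (.leaf 0x1796b3d9)
(.leaf 0)))))
(.node (.node (.node (.node (.leaf 0x1a0234a)
(.leaf 0x2248a851))
(.node (.leaf 0x12f684c9)
(.leaf 0)))
(.node (.node (.leaf 0xa1ecf58)
(.leaf 0x2a58b7d0))
(.node (.leaf 0x1666a523)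
(.leaf 0))))
(.node (.node (.node (.leaf 0x6dc83ad)
(.leaf 0x248c53eb))
(.node (.leaf 0x14642e49)
(.leaf 0)))
(.node (.node (.leaf 0xe98a65f)
(.leaf 0x2d84971e))
(.node (.leaf 0x195a6e2e)
(.leaf 0))))))
(.node (.node (.node (.node (.node (.leaf 0x10ec2f3)
(.leaf 0x20c4b283))
(.node (.leaf 0x11f08a83)
(.leaf 0)))
(.node (.node (.leaf 0x9a8c80b)
(.leaf 0x29be7554))
(.node (.leaf 0x15e6d355)
(.leaf 0))))
(.node (.node (.node (.leaf 0x4f8a423)
(.leaf 0x23b6d227))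
(.node (.leaf 0x14046b0c)
(.leaf 0)))
(.node (.node (.leaf 0xd7e8751)
(.leaf 0x2d00d526))
(.node (.leaf 0x1862530a)
(.leaf 0)))))
(.node (.node (.node (.node (.leaf 0x288432a)
(.leaf 0x22a63241))
(.node (.leaf 0x1346cb47)
(.leaf 0)))
(.node (.node (.leaf 0xadaaa85)
(.leaf 0x2bac7706))
(.node (.leaf 0x16f64d62)
(.leaf 0))))
(.node (.node (.node (.leaf 0x74a840d)
(.leaf 0x258268f2))
(.node (.leaf 0x14e48f15)
(.leaf 0)))
(.node (.node (.leaf 0xfd48562)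
(.leaf 0x2e7eb747))
(.node (.leaf 0x1a724952)
(.leaf 0))))))))))))
(.node (.node (.node (.node (.node (.node (.node (.node (.node (.node (.node (.leaf 139267)
(.leaf 0x1a7eac69))
(.node (.leaf 0xfeca5c6)
(.leaf 0x2e9475d0)))
(.node (.node (.leaf 0x750a1bb)
(.leaf 0x2586b1ba))
(.node (.leaf 0x14e8b34d)
(.leaf 0))))
(.node (.node (.node (.leaf 0x29a80cc)
(.leaf 0x22aca8ea))
(.node (.leaf 0x1348735a)
(.leaf 0)))
(.node (.node (.leaf 0xaf284be)
(.leaf 0x2bb8b7ce))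
(.node (.leaf 0x1700312b)
(.leaf 0)))))
(.node (.node (.node (.node (.leaf 0x112c32f)
(.leaf 0x220244f7))
(.node (.leaf 0x11f6455d)
(.leaf 0)))
(.node (.node (.leaf 0x9aa8aa1)
(.leaf 0x29c29818))
(.node (.leaf 0x15f6a5d1)
(.leaf 0))))
(.node (.node (.node (.leaf 0x4fca36e)
(.leaf 0x23be9125))
(.node (.leaf 0x140a310a)
(.leaf 0)))
(.node (.node (.leaf 0xd822bf5)
(.leaf 0x2d0636f4))
(.node (.leaf 0x186c6ced)
(.leaf 0))))))
(.node (.node (.node (.node (.node (.leaf 0xb22279)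
(.leaf 0x1c36c4ec))
(.node (.leaf 0x107a7003)
(.leaf 0x30f49890)))
(.node (.node (.leaf 1155)
(.leaf 0x270e4a0e))
(.node (.leaf 0x15828ff8)
(.leaf 0))))
(.node (.node (.node (.leaf 0x488210d)
(.leaf 0x231449aa))
(.node (.leaf 0x13a293e5)
(.leaf 0)))
(.node (.node (.leaf 0xc3cca93)
(.leaf 0x2caab6a0))
(.node (.leaf 0x17a0ce69)
(.leaf 0)))))
(.node (.node (.node (.node (.leaf 0x1a4831a)
(.leaf 0x224cc86f))
(.node (.leaf 0x130244f5)
(.leaf 0)))
(.node (.node (.leaf 0xa266f61)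
(.leaf 0x2a62d71b))
(.node (.leaf 0x166a5164)
(.leaf 0))))
(.node (.node (.node (.leaf 0x6e0a272)
(.leaf 0x24924d2a))
(.node (.leaf 0x146aa7a3)
(.leaf 0)))
(.node (.node (.leaf 0xeb088b7)
(.leaf 0x2d86984a))
(.node (.leaf 0x1960d14a)
(.leaf 0)))))))
(.node (.node (.node (.node (.node (.node (.leaf 0x7e205b)
(.leaf 0x1b54d13c))
(.node (.leaf 0x103c90d6)
(.leaf 0x305cd64c)))
(.node (.node (.leaf 0x7e6c34f)
(.leaf 0x263c6c89))
(.node (.leaf 0x1530898b)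
(.leaf 0))))
(.node (.node (.node (.leaf 0x460c134)
(.leaf 0x22de6b42))
(.node (.leaf 0x13744c1d)
(.leaf 0)))
(.node (.node (.leaf 0xb72d38c)
(.leaf 0x2c7434cf))
(.node (.leaf 0x175ed49c)
(.leaf 0)))))
(.node (.node (.node (.node (.leaf 0x158a079)
(.leaf 0x22249477))
(.node (.leaf 0x12327256)
(.leaf 0)))
(.node (.node (.leaf 0x9daacac)
(.leaf 0x2a0cb6a9))
(.node (.leaf 0x162ca862)
(.leaf 0))))
(.node (.node (.node (.leaf 0x56a647c)
(.leaf 0x2420ae63))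
(.node (.leaf 0x14382fc9)
(.leaf 0)))
(.node (.node (.leaf 0xde6a8b3)
(.leaf 0x2d3e9709))
(.node (.leaf 0x18e4d422)
(.leaf 0))))))
(.node (.node (.node (.node (.node (.leaf 0xe2a24b)
(.leaf 0x1d1eae41))
(.node (.leaf 0x10e06f18)
(.leaf 0)))
(.node (.node (.leaf 0x980a668)
(.leaf 0x298274fc))
(.node (.leaf 0x15b06992)
(.leaf 0))))
(.node (.node (.node (.leaf 0x4c06334)
(.leaf 0x23586f92))
(.node (.leaf 0x13d42a80)
(.leaf 0)))
(.node (.node (.leaf 0xd5625d9)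
(.leaf 0x2cd45692))
(.node (.leaf 0x1804b43e)
(.leaf 0)))))
(.node (.node (.node (.node (.leaf 0x1fe6067)
(.leaf 0x227c918f))
(.node (.leaf 0x13224611)
(.leaf 0)))
(.node (.node (.leaf 0xa6cadba)
(.leaf 0x2b7c35f3))
(.node (.leaf 0x16accb29)
(.leaf 0))))
(.node (.node (.node (.leaf 0x70c247f)
(.leaf 0x2506a8fd))
(.node (.leaf 0x14a28802)
(.leaf 0)))
(.node (.node (.leaf 0xf526526)
(.leaf 0x2dceb7db))
(.node (.leaf 0x19d07193)
(.leaf 0))))))))
(.node (.node (.node (.node (.node (.node (.node (.leaf 0x1ac26a)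
(.leaf 0x1aeaabd1))
(.node (.leaf 0x10207004)
(.leaf 0x2f5eb62b)))
(.node (.node (.leaf 0x7a463cb)
(.leaf 0x25f8b185))
(.node (.leaf 0x1510cda4)
(.leaf 0))))
(.node (.node (.node (.leaf 0x3522093)
(.leaf 0x22c62969))
(.node (.leaf 0x135c5457)
(.leaf 0)))
(.node (.node (.leaf 0xb40a80d)
(.leaf 0x2c109534))
(.node (.leaf 0x1726b19c)
(.leaf 0)))))
(.node (.node (.node (.node (.leaf 0x12ec266)
(.leaf 0x221468c1))
(.node (.leaf 0x120ccb35)
(.leaf 0)))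
(.node (.node (.leaf 0x9c2afb8)
(.leaf 0x29dcb85e))
(.node (.leaf 0x16124bf0)
(.leaf 0))))
(.node (.node (.node (.leaf 0x528646b)
(.leaf 0x23e685dd))
(.node (.leaf 0x14206b9c)
(.leaf 0)))
(.node (.node (.leaf 0xda452ac)
(.leaf 0x2d22b557))
(.node (.leaf 0x18aa6e50)
(.leaf 0))))))
(.node (.node (.node (.node (.node (.leaf 0xc860db)
(.leaf 0x1c8a4cb6))
(.node (.leaf 0x10a6d497)
(.leaf 0)))
(.node (.node (.leaf 0x91cb14e)
(.leaf 0x27d6af3d))
(.node (.leaf 0x159a91df)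
(.leaf 0))))
(.node (.node (.node (.leaf 0x4a2c07c)
(.leaf 0x23366973))
(.node (.leaf 0x13ba3452)
(.leaf 0)))
(.node (.node (.leaf 0xd3ea7ef)
(.leaf 0x2cbed698))
(.node (.leaf 0x17c4c9f3)
(.leaf 0)))))
(.node (.node (.node (.node (.leaf 0x1ca23cd)
(.leaf 0x226651f0))
(.node (.leaf 0x1310af0f)
(.leaf 0)))
(.node (.node (.leaf 0xa48670e)
(.leaf 0x2ab29604))
(.node (.leaf 0x1692b03c)
(.leaf 0))))
(.node (.node (.node (.leaf 0x6f4c0cf)
(.leaf 0x24ce90c3))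
(.node (.leaf 0x14869403)
(.leaf 0)))
(.node (.node (.leaf 0xf2ca76e)
(.leaf 0x2da65631))
(.node (.leaf 0x199c6cb7)
(.leaf 0)))))))
(.node (.node (.node (.node (.node (.node (.leaf 0xa04237)
(.leaf 0x1bce69c3))
(.node (.leaf 0x10504a64)
(.leaf 0x3088d7d7)))
(.node (.node (.leaf 0x8bac3e9)
(.leaf 0x267c66e4))
(.node (.leaf 0x156a8bb1)
(.leaf 0))))
(.node (.node (.node (.leaf 0x474a247)
(.leaf 0x22fac537))
(.node (.leaf 0x138c6b0a)
(.leaf 0)))
(.node (.node (.leaf 0xbb2c669)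
(.leaf 0x2c985807))
(.node (.leaf 0x17808cc6)
(.leaf 0)))))
(.node (.node (.node (.node (.leaf 0x17ac29a)
(.leaf 0x223a8606))
(.node (.leaf 0x12a084b7)
(.leaf 0)))
(.node (.node (.leaf 0xa086980)
(.leaf 0x2a3475b0))
(.node (.leaf 0x16488b12)
(.leaf 0))))
(.node (.node (.node (.leaf 0x612810f)
(.leaf 0x2462a859))
(.node (.leaf 0x14526c02)
(.leaf 0)))
(.node (.node (.leaf 0xe2885bd)
(.leaf 0x2d6436ff))
(.node (.leaf 0x192a6d2d)
(.leaf 0))))))
(.node (.node (.node (.node (.node (.leaf 0xf6a3c1)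
(.leaf 0x1e56b3ec))
(.node (.leaf 0x114c6797)
(.leaf 0)))
(.node (.node (.leaf 0x9947413)
(.leaf 0x29a65654))
(.node (.leaf 0x15cab011)
(.leaf 0))))
(.node (.node (.node (.leaf 0x4e2c40f)
(.leaf 0x23946936))
(.node (.leaf 0x13ec4ca4)
(.leaf 0)))
(.node (.node (.leaf 0xd685163)
(.leaf 0x2ce8986c))
(.node (.leaf 0x1832b26c)
(.leaf 0)))))
(.node (.node (.node (.node (.leaf 0x226c444)
(.leaf 0x2294cfe0))
(.node (.leaf 0x1336c932)
(.leaf 0)))
(.node (.node (.leaf 0xa9aa895)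
(.leaf 0x2b90d4db))
(.node (.leaf 0x16d8c7e2)
(.leaf 0))))
(.node (.node (.node (.leaf 0x72a40e8)
(.leaf 0x2552b484))
(.node (.leaf 0x14c4b49a)
(.leaf 0)))
(.node (.node (.leaf 0xf7c8a23)
(.leaf 0x2e32b845))
(.node (.leaf 0x1a28d358)
(.leaf 0)))))))))
(.node (.node (.node (.node (.node (.node (.node (.node (.leaf 819851)
(.leaf 0x1ab08b62))
(.node (.leaf 0x1014b487)
(.leaf 0x2ec0d550)))
(.node (.node (.leaf 0x76e6052)
(.leaf 0x25d4667a))
(.node (.leaf 0x14f82d05)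
(.leaf 0))))
(.node (.node (.node (.leaf 0x2d660ec)
(.leaf 0x22ba4722))
(.node (.leaf 0x135272f5)
(.leaf 0)))
(.node (.node (.leaf 0xb266dcb)
(.leaf 0x2be2366a))
(.node (.leaf 0x17166d85)
(.leaf 0)))))
(.node (.node (.node (.node (.leaf 0x120236d)
(.leaf 0x220a692c))
(.node (.leaf 0x12002796)
(.leaf 0)))
(.node (.node (.leaf 0x9b84b76)
(.leaf 0x29d0d722))
(.node (.leaf 0x16068dd4)
(.leaf 0))))
(.node (.node (.node (.leaf 0x516a438)
(.leaf 0x23d6891e))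
(.node (.leaf 0x1414b435)
(.leaf 0)))
(.node (.node (.leaf 0xd9464df)
(.leaf 0x2d16b59b))
(.node (.leaf 0x1886705f)
(.leaf 0))))))
(.node (.node (.node (.node (.node (.leaf 0xbc408e)
(.leaf 0x1c6467cc))
(.node (.leaf 0x10883117)
(.leaf 0x3106d828)))
(.node (.node (.leaf 0x910ab72)
(.leaf 0x2752a959))
(.node (.leaf 0x158e9433)
(.leaf 0))))
(.node (.node (.node (.leaf 0x49423a8)
(.leaf 0x231e74bc))
(.node (.leaf 0x13ac9377)
(.leaf 0)))
(.node (.node (.leaf 0xc74a4ae)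
(.leaf 0x2cb2b7b1))
(.node (.leaf 0x17b29083)
(.leaf 0)))))
(.node (.node (.node (.node (.leaf 0x1b4a06a)
(.leaf 0x225a6653))
(.node (.leaf 0x130873d7)
(.leaf 0)))
(.node (.node (.leaf 0xa388f9d)
(.leaf 0x2a8676a6))
(.node (.leaf 0x16866809)
(.leaf 0))))
(.node (.node (.node (.leaf 0x6e86323)
(.leaf 0x24b248b2))
(.node (.leaf 0x1478709e)
(.leaf 0)))
(.node (.node (.leaf 0xf1e8680)
(.leaf 0x2d94980b))
(.node (.leaf 0x19748864)
(.leaf 0)))))))
(.node (.node (.node (.node (.node (.node (.leaf 0x98c028)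
(.leaf 0x1b8ed05b))
(.node (.leaf 0x10447468)
(.leaf 0x306c7862)))
(.node (.node (.leaf 0x816a3d5)
(.leaf 0x2656663f))
(.node (.leaf 0x1550a676)
(.leaf 0))))
(.node (.node (.node (.leaf 0x46a414d)
(.leaf 0x22ee8601))
(.node (.leaf 0x1380b45a)
(.leaf 0)))
(.node (.node (.leaf 0xb90ac8a)
(.leaf 0x2c92b551))
(.node (.leaf 0x1770abb6)
(.leaf 0)))))
(.node (.node (.node (.node (.leaf 0x162626b)
(.leaf 0x222eb1c4))
(.node (.leaf 0x1248af10)
(.leaf 0)))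
(.node (.node (.leaf 0x9f2b42c)
(.leaf 0x2a20b822))
(.node (.leaf 0x163aa6fc)
(.leaf 0))))
(.node (.node (.node (.leaf 0x5be42ca)
(.leaf 0x242c4cda))
(.node (.leaf 0x1446aa07)
(.leaf 0)))
(.node (.node (.leaf 0xe1465d0)
(.leaf 0x2d54b7af))
(.node (.leaf 0x190e2ae5)
(.leaf 0))))))
(.node (.node (.node (.node (.node (.leaf 0xecc24f)
(.leaf 0x1dc293c2))
(.node (.leaf 0x111c69c0)
(.leaf 0)))
(.node (.node (.leaf 0x98aa795)
(.leaf 0x299a3563))
(.node (.leaf 0x15be4c4a)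
(.leaf 0))))
(.node (.node (.node (.leaf 0x4d6c388)
(.leaf 0x2378887d))
(.node (.leaf 0x13e0d010)
(.leaf 0)))
(.node (.node (.leaf 0xd5e2ee4)
(.leaf 0x2cde983c))
(.node (.leaf 0x181491fb)
(.leaf 0)))))
(.node (.node (.node (.node (.leaf 0x212628d)
(.leaf 0x228a8e5c))
(.node (.leaf 0x132c8845)
(.leaf 0)))
(.node (.node (.leaf 0xa7cc75e)
(.leaf 0x2b86b597))
(.node (.leaf 0x16c2b32c)
(.leaf 0))))
(.node (.node (.node (.leaf 0x7206360)
(.leaf 0x25246a47))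
(.node (.leaf 0x14b0ce6f)
(.leaf 0)))
(.node (.node (.leaf 0xf623173)
(.leaf 0x2e1236e1))
(.node (.leaf 0x1a0e6d20)
(.leaf 0))))))))
(.node (.node (.node (.node (.node (.node (.node (.leaf 0x40801c)
(.leaf 0x1b14748e))
(.node (.leaf 0x102e8a63)
(.leaf 0x305277a9)))
(.node (.node (.leaf 0x7b8644c)
(.leaf 0x2618cebd))
(.node (.leaf 0x15206f3e)
(.leaf 0))))
(.node (.node (.node (.leaf 0x45860ea)
(.leaf 0x22d4cdef))
(.node (.leaf 0x1368a6fb)
(.leaf 0)))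
(.node (.node (.leaf 0xb5e64ad)
(.leaf 5323))
(.node (.leaf 0x1740a9a1)
(.leaf 0)))))
(.node (.node (.node (.node (.leaf 0x14082eb)
(.leaf 0x221c8b9e))
(.node (.leaf 0x12204ce2)
(.leaf 0)))
(.node (.node (.leaf 0x9d0d382)
(.leaf 0x29ecb4c8))
(.node (.leaf 0x1620ce85)
(.leaf 0))))
(.node (.node (.node (.leaf 0x54043be)
(.leaf 0x23fecacd))
(.node (.leaf 0x142c6d4b)
(.leaf 0)))
(.node (.node (.leaf 0xdc08f87)
(.leaf 0x2d2c9851))
(.node (.leaf 0x18c646dd)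
(.leaf 0))))))
(.node (.node (.node (.node (.node (.leaf 0xd2c172)
(.leaf 0x1cce31ca))
(.node (.leaf 0x10c266ab)
(.leaf 0)))
(.node (.node (.leaf 0x9344568)
(.leaf 0x2844c9d1))
(.node (.leaf 0x15a4692d)
(.leaf 0))))
(.node (.node (.node (.leaf 0x4ac424d)
(.leaf 0x2346721c))
(.node (.leaf 0x13c87336)
(.leaf 0)))
(.node (.node (.leaf 0xd4a901e)
(.leaf 0x2ccad791))
(.node (.leaf 0x17ec7194)
(.leaf 0)))))
(.node (.node (.node (.node (.leaf 0x1e6a1c0)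
(.leaf 0x22706b8e))
(.node (.leaf 0x13184ed3)
(.leaf 0)))
(.node (.node (.leaf 0xa5c8fd9)
(.leaf 0x2af895fd))
(.node (.leaf 0x16a053a7)
(.leaf 0))))
(.node (.node (.node (.leaf 0x700a29e)
(.leaf 0x24ecd152))
(.node (.leaf 0x149846a5)
(.leaf 0)))
(.node (.node (.leaf 0xf3cb1a3)
(.leaf 0x2db4971d))
(.node (.leaf 0x19bcd246)
(.leaf 0)))))))
(.node (.node (.node (.node (.node (.node (.leaf 0xa8a439)
(.leaf 0x1bfeb3d2))
(.node (.leaf 0x105e916f)
(.leaf 0x30aab89c)))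
(.node (.node (.leaf 0x8c8a3de)
(.leaf 0x26ceca21))
(.node (.leaf 0x1574d322)
(.leaf 0))))
(.node (.node (.node (.leaf 0x47e4209)
(.leaf 0x230aac38))
(.node (.leaf 0x13986cf3)
(.leaf 0)))
(.node (.node (.leaf 0xc146659)
(.leaf 0x2ca255c5))
(.node (.leaf 0x178ace09)
(.leaf 0)))))
(.node (.node (.node (.node (.leaf 0x19421af)
(.leaf 0x2242d187))
(.node (.leaf 0x12e08517)
(.leaf 0)))
(.node (.node (.leaf 0xa149245)
(.leaf 0x2a4895a9))
(.node (.leaf 0x1656b3c5)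
(.leaf 0))))
(.node (.node (.node (.leaf 0x6d8a116)
(.leaf 0x24807195))
(.node (.leaf 0x145c2dca)
(.leaf 0)))
(.node (.node (.leaf 0xe7ac5d3)
(.leaf 0x2d7cb6cd))
(.node (.leaf 0x193eb170)
(.leaf 0))))))
(.node (.node (.node (.node (.node (.leaf 0x10862b4)
(.leaf 0x1f4e6ccb))
(.node (.leaf 0x11888543)
(.leaf 0)))
(.node (.node (.leaf 0x9a06732)
(.leaf 0x29b2b51f))
(.node (.leaf 0x15d6d0fd)
(.leaf 0))))
(.node (.node (.node (.leaf 0x4f08470)
(.leaf 0x23a64e72))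
(.node (.leaf 0x13fc685d)
(.leaf 0)))
(.node (.node (.leaf 0xd768eb1)
(.leaf 0x2cf6d630))
(.node (.leaf 0x1850d06e)
(.leaf 0)))))
(.node (.node (.node (.node (.leaf 0x272c029)
(.leaf 0x22a26b2c))
(.node (.leaf 0x133e92df)
(.leaf 0)))
(.node (.node (.leaf 0xac42f47)
(.leaf 0x2ba0b74f))
(.node (.leaf 0x16ea4ed5)
(.leaf 0))))
(.node (.node (.node (.leaf 0x7406350)
(.leaf 0x2574acf0))
(.node (.leaf 0x14dc7265)
(.leaf 0)))
(.node (.node (.leaf 0xfa66a8c)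
(.leaf 0x2e4ed629))
(.node (.leaf 0x1a4ab0ca)
(.leaf 0))))))))))
(.node (.node (.node (.node (.node (.node (.node (.node (.node (.leaf 418204)
(.leaf 0x1a94709c))
(.node (.leaf 0x1010a5f2)
(.leaf 0x2eb0b80e)))
(.node (.node (.leaf 0x7602112)
(.leaf 0x25b2aa2c))
(.node (.leaf 0x14f044e9)
(.leaf 0))))
(.node (.node (.node (.leaf 0x2a68378)
(.leaf 0x22b293a9))
(.node (.leaf 0x134ecb22)
(.leaf 0)))
(.node (.node (.leaf 0xb02653a)
(.leaf 0x2bc2b60f))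
(.node (.leaf 0x17128c67)
(.leaf 0)))))
(.node (.node (.node (.node (.leaf 0x11a61db)
(.leaf 0x2204b2c5))
(.node (.leaf 0x11faa9d6)
(.leaf 0)))
(.node (.node (.leaf 0x9b24888)
(.leaf 0x29c835a7))
(.node (.leaf 0x1600abf9)
(.leaf 0))))
(.node (.node (.node (.leaf 0x50ac412)
(.leaf 0x23c6a907))
(.node (.leaf 0x141026eb)
(.leaf 0)))
(.node (.node (.leaf 0xd8a68bb)
(.leaf 0x2d0e5811))
(.node (.leaf 0x187c6ee8)
(.leaf 0))))))
(.node (.node (.node (.node (.node (.leaf 0xb66454)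
(.leaf 0x1c4c6c6f))
(.node (.leaf 0x10846553)
(.leaf 0x30fab824)))
(.node (.node (.leaf 0x90aa6c7)
(.leaf 0x2734674b))
(.node (.leaf 0x158a8bbf)
(.leaf 0))))
(.node (.node (.node (.leaf 0x48c445a)
(.leaf 0x231ccdd8))
(.node (.leaf 0x13a64eb0)
(.leaf 0)))
(.node (.node (.leaf 0xc58851b)
(.leaf 0x2caed68e))
(.node (.leaf 0x17aca82f)
(.leaf 0)))))
(.node (.node (.node (.node (.leaf 0x1ae6150)
(.leaf 0x2250aaf3))
(.node (.leaf 0x1304b01c)
(.leaf 0)))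
(.node (.node (.leaf 0xa306b57)
(.leaf 0x2a6c7508))
(.node (.leaf 0x1678711c)
(.leaf 0))))
(.node (.node (.node (.leaf 0x6e483a0)
(.leaf 0x249c68ab))
(.node (.leaf 0x14724a3b)
(.leaf 0)))
(.node (.node (.leaf 0xed4a574)
(.leaf 0x2d8cd5b1))
(.node (.leaf 0x196a89b6)
(.leaf 0)))))))
(.node (.node (.node (.node (.node (.node (.leaf 11)
(.leaf 0x1b7671f9))
(.node (.leaf 0x10407116)
(.leaf 0x3062d7d4)))
(.node (.node (.leaf 0x7f462cc)
(.leaf 0x2650d471))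
(.node (.leaf 0x153e72a9)
(.leaf 0))))
(.node (.node (.node (.leaf 0x466c2bb)
(.leaf 0x22e88961))
(.node (.leaf 0x137aaeda)
(.leaf 0)))
(.node (.node (.leaf 0xb82ccfc)
(.leaf 0x2c8e95d2))
(.node (.leaf 0x176a8f24)
(.leaf 0)))))
(.node (.node (.node (.node (.leaf 0x15c42c7)
(.leaf 0x222ac93a))
(.node (.leaf 0x123e85c0)
(.leaf 0)))
(.node (.node (.leaf 0x9ec64c8)
(.leaf 0x2a1494fa))
(.node (.leaf 0x1634ae8f)
(.leaf 0))))
(.node (.node (.node (.leaf 0x58882d2)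
(.leaf 0x2426b37e))
(.node (.leaf 0x1440518d)
(.leaf 0)))
(.node (.node (.leaf 0xe0085ce)
(.leaf 0x2d469622))
(.node (.leaf 0x18f692cc)
(.leaf 0))))))
(.node (.node (.node (.node (.node (.leaf 0xe66200)
(.leaf 0x1d3ab080))
(.node (.leaf 0x10fcad1a)
(.leaf 0)))
(.node (.node (.leaf 0x9844887)
(.leaf 5314))
(.node (.leaf 0x15b63488)
(.leaf 0))))
(.node (.node (.node (.leaf 0x4c8c359)
(.leaf 0x236286d6))
(.node (.leaf 0x13da6963)
(.leaf 0)))
(.node (.node (.leaf 0xd5aab80)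
(.leaf 0x2cda962c))
(.node (.leaf 0x180cc8e2)
(.leaf 0)))))
(.node (.node (.node (.node (.leaf 0x204a187)
(.leaf 0x2284cfbc))
(.node (.leaf 0x1326aa4d)
(.leaf 0)))
(.node (.node (.leaf 0xa7867cf)
(.leaf 0x2b803539))
(.node (.leaf 0x16b691ce)
(.leaf 0))))
(.node (.node (.node (.leaf 0x7146332)
(.leaf 0x25148ebb))
(.node (.leaf 0x14a86f50)
(.leaf 0)))
(.node (.node (.leaf 0xf5a27a6)
(.leaf 0x2de2569c))
(.node (.leaf 0x19e4b289)
(.leaf 0))))))))
(.node (.node (.node (.node (.node (.node (.node (.leaf 0x26a0d7)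
(.leaf 0x1b02a9b5))
(.node (.leaf 0x10266768)
(.leaf 0x304ed63f)))
(.node (.node (.leaf 0x7b26100)
(.leaf 0x260ccc5b))
(.node (.leaf 0x1518cfab)
(.leaf 0))))
(.node (.node (.node (.leaf 13)
(.leaf 0x22ce8a9d))
(.node (.leaf 0x1364c817)
(.leaf 0)))
(.node (.node (.leaf 0xb4c656f)
(.leaf 0x2c2eb4c5))
(.node (.leaf 0x172caee0)
(.leaf 0)))))
(.node (.node (.node (.node (.leaf 0x136840b)
(.leaf 0x2216d035))
(.node (.leaf 0x121a8ef7)
(.leaf 0)))
(.node (.node (.leaf 0x9cac89c)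
(.leaf 0x29e67540))
(.node (.leaf 0x161ad359)
(.leaf 0))))
(.node (.node (.node (.leaf 0x534646d)
(.leaf 0x23f089cf))
(.node (.leaf 0x14269131)
(.leaf 0)))
(.node (.node (.leaf 0xdb0937b)
(.leaf 0x2d269832))
(.node (.leaf 0x18b88da8)
(.leaf 0))))))
(.node (.node (.node (.node (.node (.leaf 0xcea249)
(.leaf 0x1ca489df))
(.node (.leaf 0x10b4c94b)
(.leaf 0)))
(.node (.node (.leaf 0x922afed)
(.leaf 0x27f28bac))
(.node (.leaf 0x159e8d3a)
(.leaf 0))))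
(.node (.node (.node (.leaf 0x4a84292)
(.leaf 0x2340b481))
(.node (.leaf 0x13c0941b)
(.leaf 0)))
(.node (.node (.leaf 0xd44a8d8)
(.leaf 0x2cc45891))
(.node (.leaf 0x17d6ad8a)
(.leaf 0)))))
(.node (.node (.node (.node (.leaf 0x1da6027)
(.leaf 0x226acc3f))
(.node (.leaf 0x1316294c)
(.leaf 0)))
(.node (.node (.leaf 0xa54cc6b)
(.leaf 0x2accd6b8))
(.node (.leaf 0x16983146)
(.leaf 0))))
(.node (.node (.node (.leaf 0x6fa630e)
(.leaf 0x24dc4825))
(.node (.leaf 0x148c910c)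
(.leaf 0)))
(.node (.node (.leaf 0xf32747d)
(.leaf 0x2dac775e))
(.node (.leaf 0x19acb30d)
(.leaf 0)))))))
(.node (.node (.node (.node (.node (.node (.leaf 0xa4823f)
(.leaf 0x1bee8ba3))
(.node (.leaf 0x1058d219)
(.leaf 0x30985775)))
(.node (.node (.leaf 0x8c08234)
(.leaf 0x2692a9e3))
(.node (.leaf 0x156e6748)
(.leaf 0))))
(.node (.node (.node (.leaf 0x47881d3)
(.leaf 0x23002f56))
(.node (.leaf 0x1392ac7d)
(.leaf 0)))
(.node (.node (.leaf 0xbb64b70)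
(.leaf 0x2c9ed5b9))
(.node (.leaf 0x1786c800)
(.leaf 0)))))
(.node (.node (.node (.node (.leaf 0x188812f)
(.leaf 0x223ea6de))
(.node (.leaf 0x12c485bb)
(.leaf 0)))
(.node (.node (.leaf 0xa108c39)
(.leaf 0x2a3e7542))
(.node (.leaf 0x1652a987)
(.leaf 0))))
(.node (.node (.node (.leaf 43)
(.leaf 0x246ecbae))
(.node (.leaf 0x14567373)
(.leaf 0)))
(.node (.node (.leaf 0xe3285ad)
(.leaf 0x2d70d5de))
(.node (.leaf 0x1936d213)
(.leaf 0))))))
(.node (.node (.node (.node (.node (.leaf 0xfec361)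
(.leaf 0x1ec45323))
(.node (.leaf 0x11648865)
(.leaf 0)))
(.node (.node (.leaf 0x998d29a)
(.leaf 0x29ac3798))
(.node (.leaf 0x15d2a6f6)
(.leaf 0))))
(.node (.node (.node (.leaf 0x4eaa285)
(.leaf 0x23a06add))
(.node (.leaf 0x13f6af40)
(.leaf 0)))
(.node (.node (.leaf 0xd6cae8a)
(.leaf 0x2cf07724))
(.node (.leaf 0x18446d22)
(.leaf 0)))))
(.node (.node (.node (.node (.leaf 0x262a15d)
(.leaf 0x229ad000))
(.node (.leaf 0x133ad27b)
(.leaf 0)))
(.node (.node (.leaf 0xaae2735)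
(.leaf 0x2b967782))
(.node (.leaf 0x16e2a624)
(.leaf 0))))
(.node (.node (.node (.leaf 0x72e830f)
(.leaf 0x25622fd3))
(.node (.leaf 0x14d089bb)
(.leaf 0)))
(.node (.node (.leaf 0xf9685d5)
(.leaf 0x2e4497a1))
(.node (.leaf 0x1a3c67a8)
(.leaf 0)))))))))
(.node (.node (.node (.node (.node (.node (.node (.node (.leaf 0x124022)
(.leaf 0x1ad090c7))
(.node (.leaf 0x101c461f)
(.leaf 0x2ef63847)))
(.node (.node (.leaf 0x7868232)
(.leaf 0x25e28985))
(.node (.leaf 0x15022d7a)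
(.leaf 0))))
(.node (.node (.node (.leaf 0x31ec00c)
(.leaf 0x22be4eb8))
(.node (.leaf 0x1358b09f)
(.leaf 0)))
(.node (.node (.leaf 0xb3267f2)
(.leaf 0x2c0094c7))
(.node (.leaf 0x172284ee)
(.leaf 0)))))
(.node (.node (.node (.node (.leaf 0x126803e)
(.leaf 0x220e6afc))
(.node (.leaf 0x12044b13)
(.leaf 0)))
(.node (.node (.leaf 0x9bea918)
(.leaf 0x29d43748))
(.node (.leaf 0x160a52c8)
(.leaf 0))))
(.node (.node (.node (.leaf 0x5208300)
(.leaf 0x23e26fad))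
(.node (.leaf 0x141aa870)
(.leaf 0)))
(.node (.node (.leaf 0xd98ac2e)
(.leaf 0x2d1cd887))
(.node (.leaf 0x189ab2c4)
(.leaf 0))))))
(.node (.node (.node (.node (.node (.leaf 0xc0c341)
(.leaf 0x1c76a52a))
(.node (.leaf 0x10988777)
(.leaf 0x31143827)))
(.node (.node (.leaf 0x91826ea)
(.leaf 0x276c89b9))
(.node (.leaf 0x1596906b)
(.leaf 0))))
(.node (.node (.node (.leaf 0x49842af)
(.leaf 0x232c74b9))
(.node (.leaf 0x13b6ce03)
(.leaf 0)))
(.node (.node (.leaf 0xcb8aa96)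
(.leaf 0x2cbad767))
(.node (.leaf 0x17baaa7f)
(.leaf 0)))))
(.node (.node (.node (.node (.leaf 0x1bea307)
(.leaf 0x2260ccef))
(.node (.leaf 0x130c4a25)
(.leaf 0)))
(.node (.node (.leaf 0xa428529)
(.leaf 0x2a9cb620))
(.node (.leaf 0x168c4d78)
(.leaf 0))))
(.node (.node (.node (.leaf 0x6ec43dc)
(.leaf 0x24ba6f52))
(.node (.leaf 0x147e2a08)
(.leaf 0)))
(.node (.node (.leaf 0xf26275b)
(.leaf 0x2d9c36f5))
(.node (.leaf 0x198a6d11)
(.leaf 0)))))))
(.node (.node (.node (.node (.node (.node (.leaf 0x9cc04c)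
(.leaf 0x1bb6ad8c))
(.node (.leaf 0x104a7138)
(.leaf 0x307cd7de)))
(.node (.node (.leaf 63)
(.leaf 0x266a65e7))
(.node (.leaf 0x155c725d)
(.leaf 0))))
(.node (.node (.node (.leaf 0x470a1d2)
(.leaf 0x22f4a5e3))
(.node (.leaf 0x1384723e)
(.leaf 0)))
(.node (.node (.leaf 0xba0a56b)
(.leaf 0x2c96d5ba))
(.node (.leaf 0x177cccaa)
(.leaf 0)))))
(.node (.node (.node (.node (.leaf 0x172a0c8)
(.leaf 0x22327333))
(.node (.leaf 0x126e8ff5)
(.leaf 0)))
(.node (.node (.leaf 0xa00ca86)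
(.leaf 0x2a2a7697))
(.node (.leaf 0x1640c5e5)
(.leaf 0))))
(.node (.node (.node (.leaf 0x5fac250)
(.leaf 0x243e4f68))
(.node (.leaf 0x144cd1b9)
(.leaf 0)))
(.node (.node (.leaf 0xe1a73c0)
(.leaf 0x2d5eb635))
(.node (.leaf 0x191caa3e)
(.leaf 0))))))
(.node (.node (.node (.node (.node (.leaf 0xf043fa)
(.leaf 0x1dfc29e7))
(.node (.leaf 0x1132a56d)
(.leaf 0)))
(.node (.node (.leaf 0x990ca91)
(.leaf 0x299e96fc))
(.node (.leaf 0x15c4af71)
(.leaf 0))))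
(.node (.node (.node (.leaf 0x4dca41a)
(.leaf 0x238824dc))
(.node (.leaf 0x13e494b3)
(.leaf 0)))
(.node (.node (.leaf 0xd648dc3)
(.leaf 0x2ce2374a))
(.node (.leaf 0x182c8a40)
(.leaf 0)))))
(.node (.node (.node (.node (.leaf 0x21c416e)
(.leaf 0x228e9427))
(.node (.leaf 0x13302e05)
(.leaf 0)))
(.node (.node (.leaf 0xa8484c2)
(.leaf 0x2b8a9680))
(.node (.leaf 0x16ca726a)
(.leaf 0))))
(.node (.node (.node (.leaf 0x72463b9)
(.leaf 0x253e874a))
(.node (.leaf 0x14b46df6)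
(.leaf 0)))
(.node (.node (.leaf 0xf68d45d)
(.leaf 0x2e243806))
(.node (.leaf 0x1a1c712e)
(.leaf 0))))))))
(.node (.node (.node (.node (.node (.node (.node (.leaf 0x6ea008)
(.leaf 0x1b346ecb))
(.node (.leaf 0x1036693d)
(.leaf 0x3056b77c)))
(.node (.node (.leaf 0x7c463ba)
(.leaf 0x262acbc2))
(.node (.leaf 0x152a7120)
(.leaf 0))))
(.node (.node (.node (.leaf 0x45ca16a)
(.leaf 0x22da67de))
(.node (.leaf 0x1370ae18)
(.leaf 0)))
(.node (.node (.leaf 0xb66a704)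
(.leaf 0x2c6ab627))
(.node (.leaf 0x174a6dc7)
(.leaf 0)))))
(.node (.node (.node (.node (.leaf 0x14a432b)
(.leaf 0x22202a6c))
(.node (.leaf 0x122a51aa)
(.leaf 0)))
(.node (.node (.leaf 0x9d4929b)
(.leaf 0x29fed612))
(.node (.leaf 0x16245441)
(.leaf 0))))
(.node (.node (.node (.leaf 0x54ec1e9)
(.leaf 0x2416aae6))
(.node (.leaf 0x143269d0)
(.leaf 0)))
(.node (.node (.leaf 0xdd0afc2)
(.leaf 0x2d36b6a5))
(.node (.leaf 0x18d8740a)
(.leaf 0))))))
(.node (.node (.node (.node (.node (.leaf 0xda4068)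
(.leaf 0x1cec9308))
(.node (.leaf 0x10cac508)
(.leaf 0)))
(.node (.node (.leaf 0x94a87b9)
(.leaf 0x28aa2612))
(.node (.leaf 0x15aac77a)
(.leaf 0))))
(.node (.node (.node (.leaf 0x4b6c1d4)
(.leaf 0x2350d124))
(.node (.leaf 0x13d0a977)
(.leaf 0)))
(.node (.node (.leaf 0xd5066fd)
(.leaf 0x2cce583a))
(.node (.leaf 0x17fa2b84)
(.leaf 0)))))
(.node (.node (.node (.node (.leaf 0x1f482ec)
(.leaf 0x2278acb2))
(.node (.leaf 0x131ccc62)
(.leaf 0)))
(.node (.node (.leaf 0xa626be6)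
(.leaf 5316))
(.node (.leaf 0x16a85107)
(.leaf 0))))
(.node (.node (.node (.leaf 0x7062393)
(.leaf 0x24fa9347))
(.node (.leaf 0x149c299e)
(.leaf 0)))
(.node (.node (.leaf 0xf48a98e)
(.leaf 0x2dbe9686))
(.node (.leaf 0x19c65366)
(.leaf 0)))))))
(.node (.node (.node (.node (.node (.node (.leaf 0xac62be)
(.leaf 0x1c0e525b))
(.node (.leaf 0x106e6a8b)
(.leaf 0x30ee97e9)))
(.node (.node (.leaf 0x8d46207)
(.leaf 0x26f48ad3))
(.node (.leaf 0x157aabbb)
(.leaf 0))))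
(.node (.node (.node (.leaf 0x482a43b)
(.leaf 0x230e29eb))
(.node (.leaf 0x139e4b85)
(.leaf 0)))
(.node (.node (.leaf 0xc30c765)
(.leaf 0x2ca634f0))
(.node (.leaf 0x17946a1b)
(.leaf 0)))))
(.node (.node (.node (.node (.leaf 0x1a0807b)
(.leaf 0x2246acd6))
(.node (.leaf 1172)
(.leaf 0)))
(.node (.node (.leaf 0xa1ccf84)
(.leaf 0x2a543700))
(.node (.leaf 0x1662b176)
(.leaf 0))))
(.node (.node (.node (.leaf 0x6dca111)
(.leaf 0x248c6f88))
(.node (.leaf 0x146484e4)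
(.leaf 0)))
(.node (.node (.leaf 0xe94ac0d)
(.leaf 0x2d8297ed))
(.node (.leaf 0x1954d206)
(.leaf 0))))))
(.node (.node (.node (.node (.node (.leaf 0x10c830c)
(.leaf 0x203a4b66))
(.node (.leaf 0x11ee87e9)
(.leaf 0)))
(.node (.node (.leaf 0x9a6c5ba)
(.leaf 0x29bc9530))
(.node (.leaf 0x15e28511)
(.leaf 0))))
(.node (.node (.node (.leaf 0x4f8c391)
(.leaf 0x23b293a3))
(.node (.leaf 0x14026ccf)
(.leaf 0)))
(.node (.node (.leaf 0xd7c2f09)
(.leaf 0x2cfcd643))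
(.node (.leaf 0x1860d1c7)
(.leaf 0)))))
(.node (.node (.node (.node (.leaf 0x284c07e)
(.leaf 0x22a68bb2))
(.node (.leaf 0x13449495)
(.leaf 0)))
(.node (.node (.leaf 0xad6c72f)
(.leaf 0x2baad762))
(.node (.leaf 0x16f66605)
(.leaf 0))))
(.node (.node (.node (.leaf 0x7446308)
(.leaf 0x25806a34))
(.node (.leaf 0x14e42bfc)
(.leaf 0)))
(.node (.node (.leaf 0xfb42920)
(.leaf 0x2e76d7b3))
(.node (.leaf 0x1a6ecb9d)
(.leaf 0)))))))))))
(.node (.node (.node (.node (.node (.node (.node (.node (.node (.node (.leaf 311302)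
(.leaf 0x1a8ac89f))
(.node (.leaf 1161)
(.leaf 0x2e9e7578)))
(.node (.node (.leaf 0x75a6417)
(.leaf 0x25988c7f))
(.node (.leaf 0x14ec6d50)
(.leaf 0))))
(.node (.node (.node (.leaf 0x2a2636c)
(.leaf 0x22b0af55))
(.node (.leaf 0x134cd23d)
(.leaf 0)))
(.node (.node (.leaf 0xafa8769)
(.leaf 0x2bbeb6b6))
(.node (.leaf 0x17048b14)
(.leaf 0)))))
(.node (.node (.node (.node (.leaf 0x1186058)
(.leaf 0x2204c4f4))
(.node (.leaf 0x11f6cce1)
(.leaf 0)))
(.node (.node (.leaf 0x9ae2af9)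
(.leaf 0x29c67576))
(.node (.leaf 0x15fc94b4)
(.leaf 0))))
(.node (.node (.node (.leaf 0x506a1b9)
(.leaf 0x23c2af48))
(.node (.leaf 0x140cd337)
(.leaf 0)))
(.node (.node (.leaf 0xd86a912)
(.leaf 0x2d0ab685))
(.node (.leaf 0x1874c71e)
(.leaf 0))))))
(.node (.node (.node (.node (.node (.leaf 0xb4440c)
(.leaf 0x1c42d270))
(.node (.leaf 0x107e725a)
(.leaf 0x30f83572)))
(.node (.node (.leaf 0x9082487)
(.leaf 0x27226617))
(.node (.leaf 0x1586b238)
(.leaf 0))))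
(.node (.node (.node (.leaf 0x48a2114)
(.leaf 0x23186c40))
(.node (.leaf 0x13a45154)
(.leaf 0)))
(.node (.node (.leaf 0xc468578)
(.leaf 0x2cac96f3))
(.node (.leaf 0x17a8ad56)
(.leaf 0)))))
(.node (.node (.node (.node (.leaf 0x1ac8106)
(.leaf 0x224ea73b))
(.node (.leaf 0x13026bd6)
(.leaf 0)))
(.node (.node (.leaf 0xa2e8532)
(.leaf 0x2a66d52f))
(.node (.leaf 0x167469b3)
(.leaf 0))))
(.node (.node (.node (.leaf 0x6e2444d)
(.leaf 0x24963032))
(.node (.leaf 0x146e877f)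
(.leaf 0)))
(.node (.node (.leaf 0xec084bd)
(.leaf 0x2d885830))
(.node (.leaf 0x1968a713)
(.leaf 0)))))))
(.node (.node (.node (.node (.node (.node (.leaf 0x8483c9)
(.leaf 0x1b629479))
(.node (.leaf 0x103e53a5)
(.leaf 0x305eb787)))
(.node (.node (.leaf 0x7f0c2a5)
(.leaf 0x264668ff))
(.node (.leaf 0x15388891)
(.leaf 0))))
(.node (.node (.node (.leaf 0x4626159)
(.leaf 0x22e47496))
(.node (.leaf 0x1378c71c)
(.leaf 0)))
(.node (.node (.leaf 0xb7cc490)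
(.leaf 5342))
(.node (.leaf 0x1764b1d0)
(.leaf 0)))))
(.node (.node (.node (.node (.leaf 0x15ac20c)
(.leaf 0x2228a7d9))
(.node (.leaf 0x1236a4c0)
(.leaf 0)))
(.node (.node (.leaf 0x9e07406)
(.leaf 0x2a12d4f3))
(.node (.leaf 0x1630c5c9)
(.leaf 0))))
(.node (.node (.node (.leaf 0x5786424)
(.leaf 0x2422acd3))
(.node (.leaf 0x143e8843)
(.leaf 0)))
(.node (.node (.leaf 0xdf886cc)
(.leaf 0x2d427693))
(.node (.leaf 0x18ee932b)
(.leaf 0))))))
(.node (.node (.node (.node (.node (.leaf 0xe42328)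
(.leaf 0x1d30733f))
(.node (.leaf 0x10e8a6b1)
(.leaf 0)))
(.node (.node (.leaf 0x982c4fd)
(.leaf 0x29883625))
(.node (.leaf 0x15b2d0cf)
(.leaf 0))))
(.node (.node (.node (.leaf 0x4c4a261)
(.leaf 0x235eab00))
(.node (.leaf 0x13d6a9b1)
(.leaf 0)))
(.node (.node (.leaf 0xd564c86)
(.leaf 0x2cd896fd))
(.node (.leaf 0x180a6fa1)
(.leaf 0)))))
(.node (.node (.node (.node (.leaf 0x2026174)
(.leaf 0x2280ae82))
(.node (.leaf 0x1322916b)
(.leaf 0)))
(.node (.node (.leaf 0xa728eb4)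
(.leaf 0x2b7c77a7))
(.node (.leaf 0x16b06d39)
(.leaf 0))))
(.node (.node (.node (.leaf 0x712a1e7)
(.leaf 0x250c685a))
(.node (.leaf 0x14a471eb)
(.leaf 0)))
(.node (.node (.leaf 0xf56860f)
(.leaf 0x2ddcd5a2))
(.node (.leaf 0x19d8c81e)
(.leaf 0))))))))
(.node (.node (.node (.node (.node (.node (.node (.leaf 0x20a2df)
(.leaf 0x1af4cba2))
(.node (.leaf 0x1022d3bc)
(.leaf 5362)))
(.node (.node (.leaf 0x7aa6383)
(.leaf 0x26066a72))
(.node (.leaf 0x1516ae8e)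
(.leaf 0))))
(.node (.node (.node (.leaf 0x39643d1)
(.leaf 0x22ca8903))
(.node (.leaf 0x13606f57)
(.leaf 0)))
(.node (.node (.leaf 0xb44a690)
(.leaf 0x2c16356e))
(.node (.leaf 0x172c2711)
(.leaf 0)))))
(.node (.node (.node (.node (.leaf 0x132612e)
(.leaf 0x2214cdc9))
(.node (.leaf 0x12122e43)
(.leaf 0)))
(.node (.node (.leaf 0x9c6c976)
(.leaf 0x29e45585))
(.node (.leaf 0x16166c96)
(.leaf 0))))
(.node (.node (.node (.leaf 0x5306296)
(.leaf 0x23e8d0f8))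
(.node (.leaf 0x1422d40e)
(.leaf 0)))
(.node (.node (.leaf 0xda66e7c)
(.leaf 0x2d24758e))
(.node (.leaf 0x18b0addb)
(.leaf 0))))))
(.node (.node (.node (.node (.node (.leaf 0xca6339)
(.leaf 0x1c9cc953))
(.node (.leaf 0x10acb0eb)
(.leaf 0)))
(.node (.node (.leaf 0x91e71c6)
(.leaf 0x27e690b3))
(.node (.leaf 0x159cccf7)
(.leaf 0))))
(.node (.node (.node (.leaf 0x4a2a33c)
(.leaf 0x233caf97))
(.node (.leaf 0x13bcb315)
(.leaf 0)))
(.node (.node (.leaf 0xd42a4d8)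
(.leaf 0x2cc2b6f7))
(.node (.leaf 0x17c8aee9)
(.leaf 0)))))
(.node (.node (.node (.node (.leaf 0x1d6a081)
(.leaf 0x2268283c))
(.node (.leaf 0x1312acb9)
(.leaf 0)))
(.node (.node (.leaf 0xa529414)
(.leaf 0x2abed4c3))
(.node (.leaf 0x16966e9a)
(.leaf 0))))
(.node (.node (.node (.leaf 0x6f68337)
(.leaf 0x24d2d2fe))
(.node (.leaf 0x1488af1f)
(.leaf 0)))
(.node (.node (.leaf 0xf30abc8)
(.leaf 0x2da875db))
(.node (.leaf 0x19a6cab4)
(.leaf 0)))))))
(.node (.node (.node (.node (.node (.node (.leaf 0xa26113)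
(.leaf 0x1bdaac72))
(.node (.leaf 0x1054d0e1)
(.leaf 0x309297e2)))
(.node (.node (.leaf 0x8bec38a)
(.leaf 0x268630f5))
(.node (.leaf 0x156c8bd3)
(.leaf 0))))
(.node (.node (.node (.leaf 0x476c168)
(.leaf 0x22fcacc0))
(.node (.leaf 0x138e328b)
(.leaf 0)))
(.node (.node (.leaf 0xbb46c1a)
(.leaf 0x2c9cb52c))
(.node (.leaf 0x1782b42e)
(.leaf 0)))))
(.node (.node (.node (.node (.leaf 0x182613c)
(.leaf 0x223a745e))
(.node (.leaf 0x12a6c95d)
(.leaf 0)))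
(.node (.node (.leaf 0xa0e47c2)
(.leaf 0x2a3a3653))
(.node (.leaf 0x164aa813)
(.leaf 0))))
(.node (.node (.node (.leaf 0x66e20fe)
(.leaf 0x2464724c))
(.node (.leaf 0x145251e4)
(.leaf 0)))
(.node (.node (.leaf 0xe2c65e9)
(.leaf 0x2d6c56b1))
(.node (.leaf 0x1930d2f6)
(.leaf 0))))))
(.node (.node (.node (.node (.node (.leaf 0xfca3ab)
(.leaf 0x1e68b166))
(.node (.leaf 0x115884a2)
(.leaf 0)))
(.node (.node (.leaf 0x9984a95)
(.leaf 0x29aad57a))
(.node (.leaf 0x15ce4aab)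
(.leaf 0))))
(.node (.node (.node (.leaf 0x4e44074)
(.leaf 0x239cafb0))
(.node (.leaf 0x13f08ad7)
(.leaf 0)))
(.node (.node (.leaf 0xd6a2816)
(.leaf 0x2cec7673))
(.node (.leaf 0x18387464)
(.leaf 0)))))
(.node (.node (.node (.node (.leaf 0x2448235)
(.leaf 0x2298d00d))
(.node (.leaf 0x13384904)
(.leaf 0)))
(.node (.node (.leaf 0xaa46687)
(.leaf 0x2b94d51d))
(.node (.leaf 0x16dc903d)
(.leaf 0))))
(.node (.node (.node (.leaf 0x72a22ee)
(.leaf 0x255e85d2))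
(.node (.leaf 0x14ca8c26)
(.leaf 0)))
(.node (.node (.leaf 0xf8c2d81)
(.leaf 0x2e3cd72c))
(.node (.leaf 0x1a38c78d)
(.leaf 0)))))))))
(.node (.node (.node (.node (.node (.node (.node (.node (.leaf 0x102060)
(.leaf 0x1ac233af))
(.node (.leaf 0x1018b4a3)
(.leaf 0x2ecab5d3)))
(.node (.node (.leaf 0x77e6478)
(.leaf 0x25da3448))
(.node (.leaf 0x1500af12)
(.leaf 0))))
(.node (.node (.node (.leaf 0x2f660a8)
(.leaf 0x22bcc63b))
(.node (.leaf 0x1356d030)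
(.leaf 0)))
(.node (.node (.leaf 0xb2aa55f)
(.leaf 0x2bee95ee))
(.node (.leaf 0x171cac06)
(.leaf 0)))))
(.node (.node (.node (.node (.leaf 0x1228251)
(.leaf 0x220ad25c))
(.node (.leaf 0x120291d8)
(.leaf 0)))
(.node (.node (.leaf 0x9bcce17)
(.leaf 0x29d2d668))
(.node (.leaf 0x160a8935)
(.leaf 0))))
(.node (.node (.node (.leaf 0x51a6436)
(.leaf 0x23de8b79))
(.node (.leaf 0x14184c00)
(.leaf 0)))
(.node (.node (.leaf 0xd96672e)
(.leaf 0x2d1a96f9))
(.node (.leaf 0x1894b387)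
(.leaf 0))))))
(.node (.node (.node (.node (.node (.leaf 0xbe6268)
(.leaf 0x1c70926d))
(.node (.leaf 0x1090ca00)
(.leaf 0x310cb83d)))
(.node (.node (.leaf 0x9142fa4)
(.leaf 0x275aa9be))
(.node (.leaf 0x1592ce71)
(.leaf 0))))
(.node (.node (.node (.leaf 0x496a0b1)
(.leaf 0x232251f1))
(.node (.leaf 0x13b08d04)
(.leaf 0)))
(.node (.node (.leaf 0xc7c87c7)
(.leaf 0x2cb6779b))
(.node (.leaf 0x17b68596)
(.leaf 0)))))
(.node (.node (.node (.node (.leaf 0x1ba40cb)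
(.leaf 0x225c6ffa))
(.node (.leaf 0x130a51cf)
(.leaf 0)))
(.node (.node (.leaf 0xa3e851f)
(.leaf 0x2a98d567))
(.node (.leaf 0x16886e80)
(.leaf 0))))
(.node (.node (.node (.leaf 0x6eaa30b)
(.leaf 0x24b64905))
(.node (.leaf 0x147ace99)
(.leaf 0)))
(.node (.node (.leaf 0xf22a5c4)
(.leaf 0x2d96d647))
(.node (.leaf 0x19809079)
(.leaf 0)))))))
(.node (.node (.node (.node (.node (.node (.leaf 0x9a611c)
(.leaf 0x1ba0b134))
(.node (.leaf 0x104873f7)
(.leaf 0x30749885)))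
(.node (.node (.leaf 0x834a1aa)
(.leaf 0x265ca9b7))
(.node (.leaf 0x1558a84d)
(.leaf 0))))
(.node (.node (.node (.leaf 0x46cc363)
(.leaf 0x22f28ac5))
(.node (.leaf 0x13824736)
(.leaf 0)))
(.node (.node (.leaf 0xb9ca591)
(.leaf 0x2c94b759))
(.node (.leaf 0x1776a66f)
(.leaf 0)))))
(.node (.node (.node (.node (.leaf 0x16822e2)
(.leaf 0x2232cb63))
(.node (.leaf 0x125e70de)
(.leaf 0)))
(.node (.node (.leaf 0x9fcaa7b)
(.leaf 0x2a24d5b5))
(.node (.leaf 0x163cd063)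
(.leaf 0))))
(.node (.node (.node (.leaf 0x5d283a6)
(.leaf 0x2436aedf))
(.node (.leaf 0x144a2d89)
(.leaf 0)))
(.node (.node (.leaf 0xe1688a2)
(.leaf 0x2d5ad6af))
(.node (.leaf 0x191887ec)
(.leaf 0))))))
(.node (.node (.node (.node (.node (.leaf 0xeec281)
(.leaf 0x1dd06d23))
(.node (.leaf 0x11246514)
(.leaf 0)))
(.node (.node (.leaf 0x98c8a9e)
(.leaf 0x299cd4d5))
(.node (.leaf 0x15c06b8a)
(.leaf 0))))
(.node (.node (.node (.leaf 0x4da4384)
(.leaf 0x23808fac))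
(.node (.leaf 0x13e24ff1)
(.leaf 0)))
(.node (.node (.leaf 0xd624839)
(.leaf 0x2ce056ee))
(.node (.leaf 0x181eaad2)
(.leaf 0)))))
(.node (.node (.node (.node (.leaf 0x216a1c1)
(.leaf 0x228c9352))
(.node (.leaf 0x132e7252)
(.leaf 0)))
(.node (.node (.leaf 0xa80c58a)
(.leaf 0x2b88d745))
(.node (.leaf 0x16c68c57)
(.leaf 0))))
(.node (.node (.node (.leaf 0x7228215)
(.leaf 0x253068f6))
(.node (.leaf 0x14b28f5a)
(.leaf 0)))
(.node (.node (.leaf 0xf64a569)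
(.leaf 0x2e1ed711))
(.node (.leaf 0x1a1646f5)
(.leaf 0))))))))
(.node (.node (.node (.node (.node (.node (.node (.leaf 0x568011)
(.leaf 0x1b2caea3))
(.node (.leaf 0x1032aa1d)
(.leaf 0x3054b872)))
(.node (.node (.leaf 0x7be438f)
(.leaf 0x2624a679))
(.node (.leaf 0x15248ce5)
(.leaf 0))))
(.node (.node (.node (.leaf 0x45a6205)
(.leaf 0x22d6298a))
(.node (.leaf 0x136c6993)
(.leaf 0)))
(.node (.node (.leaf 0xb60c75a)
(.leaf 0x2c669546))
(.node (.leaf 0x1746affd)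
(.leaf 0)))))
(.node (.node (.node (.node (.leaf 0x14481cb)
(.leaf 0x221ed0ee))
(.node (.leaf 0x1224cb0f)
(.leaf 0)))
(.node (.node (.leaf 0x9d2d41f)
(.leaf 0x29f2b519))
(.node (.leaf 0x16246b0e)
(.leaf 0))))
(.node (.node (.node (.leaf 0x548a259)
(.leaf 0x240673c3))
(.node (.leaf 0x142eaab8)
(.leaf 0)))
(.node (.node (.leaf 0xdc685b9)
(.leaf 0x2d2e978b))
(.node (.leaf 0x18ccd04b)
(.leaf 0))))))
(.node (.node (.node (.node (.node (.leaf 0xd6c0f9)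
(.leaf 0x1cdab2ff))
(.node (.leaf 0x10c4c69e)
(.leaf 0)))
(.node (.node (.leaf 0x936a8cd)
(.leaf 0x286690b4))
(.node (.leaf 0x15a6ab2e)
(.leaf 0))))
(.node (.node (.node (.leaf 0x4b0c3bf)
(.leaf 0x234a8bb9))
(.node (.leaf 0x13cc4c53)
(.leaf 0)))
(.node (.node (.leaf 0xd4cc774)
(.leaf 0x2cce74df))
(.node (.leaf 0x17f26c34)
(.leaf 0)))))
(.node (.node (.node (.node (.leaf 0x1ea80e5)
(.leaf 0x2274ca43))
(.node (.leaf 0x131a7396)
(.leaf 0)))
(.node (.node (.leaf 0xa5eb19b)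
(.leaf 0x2b0e94ec))
(.node (.leaf 0x16a4cf9f)
(.leaf 0))))
(.node (.node (.node (.leaf 0x70480a7)
(.leaf 0x24f0519e))
(.node (.leaf 0x1498d0d1)
(.leaf 0)))
(.node (.node (.leaf 0xf44ad91)
(.leaf 0x2dba5532))
(.node (.leaf 0x19c4ace3)
(.leaf 0)))))))
(.node (.node (.node (.node (.node (.node (.leaf 0xaa411f)
(.leaf 0x1c06712d))
(.node (.leaf 0x106a6559)
(.leaf 5482)))
(.node (.node (.leaf 0x8ce6476)
(.leaf 0x26e28de5))
(.node (.leaf 0x15786597)
(.leaf 0))))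
(.node (.node (.node (.leaf 0x480c2f5)
(.leaf 0x230c2f29))
(.node (.leaf 0x139a93b4)
(.leaf 0)))
(.node (.node (.leaf 0xc224af1)
(.leaf 0x2ca297bd))
(.node (.leaf 0x178e8bf4)
(.leaf 0)))))
(.node (.node (.node (.node (.leaf 0x19ca06b)
(.leaf 0x22446b1a))
(.node (.leaf 0x12e864ca)
(.leaf 0)))
(.node (.node (.leaf 0xa188edd)
(.leaf 0x2a50b4e9))
(.node (.leaf 0x165cc966)
(.leaf 0))))
(.node (.node (.node (.leaf 0x6dac101)
(.leaf 0x24884f5d))
(.node (.leaf 0x145e909b)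
(.leaf 0)))
(.node (.node (.leaf 0xe886a35)
(.leaf 0x2d807588))
(.node (.leaf 0x19504970)
(.leaf 0))))))
(.node (.node (.node (.node (.node (.leaf 0x10aa01f)
(.leaf 0x1f8acbbd))
(.node (.leaf 1167)
(.leaf 0)))
(.node (.node (.leaf 0x9a29290)
(.leaf 0x29b27801))
(.node (.leaf 0x15dac792)
(.leaf 0))))
(.node (.node (.node (.leaf 0x4f4842c)
(.leaf 0x23aa9184))
(.node (.leaf 0x13fe8983)
(.leaf 0)))
(.node (.node (.leaf 0xd7a6af4)
(.leaf 0x2cf89785))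
(.node (.leaf 0x185eae9b)
(.leaf 0)))))
(.node (.node (.node (.node (.leaf 0x27e620d)
(.leaf 0x22a2547f))
(.node (.leaf 0x13424b3c)
(.leaf 0)))
(.node (.node (.leaf 0xac86f4e)
(.leaf 0x2ba656fa))
(.node (.leaf 0x16f06ba8)
(.leaf 0))))
(.node (.node (.node (.leaf 0x74220c0)
(.leaf 0x257a6ac7))
(.node (.leaf 0x14e0661a)
(.leaf 0)))
(.node (.node (.leaf 0xfb06681)
(.leaf 0x2e58974d))
(.node (.leaf 0x1a54cbc0)
(.leaf 0))))))))))
(.node (.node (.node (.node (.node (.node (.node (.node (.node (.leaf 664348)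
(.leaf 0x1aa48991))
(.node (.leaf 0x1014c7bd)
(.leaf 0x2eba551a)))
(.node (.node (.leaf 0x76263af)
(.leaf 0x25cc92b1))
(.node (.leaf 0x14f0d0b6)
(.leaf 0))))
(.node (.node (.node (.leaf 0x2b8a2c4)
(.leaf 0x22b6ac1b))
(.node (.leaf 0x1350cd8b)
(.leaf 0)))
(.node (.node (.leaf 0xb1ca528)
(.leaf 0x2bd2b68a))
(.node (.leaf 0x1714703e)
(.leaf 0)))))
(.node (.node (.node (.node (.leaf 0x11e6242)
(.leaf 0x220691be))
(.node (.leaf 0x11fec664)
(.leaf 0)))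
(.node (.node (.leaf 0x9b6afd8)
(.leaf 0x29ce74ee))
(.node (.leaf 0x16042fe9)
(.leaf 0))))
(.node (.node (.node (.leaf 0x50e81e2)
(.leaf 0x23cc92ed))
(.node (.leaf 0x1410b1d5)
(.leaf 0)))
(.node (.node (.leaf 0xd8c6dbd)
(.leaf 0x2d12b5b7))
(.node (.leaf 0x18846b83)
(.leaf 0))))))
(.node (.node (.node (.node (.node (.leaf 0xb842b3)
(.leaf 0x1c5a70d3))
(.node (.leaf 0x10866ef3)
(.leaf 0x3100989b)))
(.node (.node (.leaf 0x90ea5f3)
(.leaf 0x2744b1e0))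
(.node (.leaf 0x158ad22a)
(.leaf 0))))
(.node (.node (.node (.leaf 0x4908354)
(.leaf 0x231e4fb2))
(.node (.leaf 0x13a8744d)
(.leaf 0)))
(.node (.node (.leaf 0xc6684cb)
(.leaf 0x2cb2561b))
(.node (.leaf 0x17ae2bed)
(.leaf 0)))))
(.node (.node (.node (.node (.leaf 0x1b0809f)
(.leaf 0x225490d9))
(.node (.leaf 0x1306b1fd)
(.leaf 0)))
(.node (.node (.leaf 0xa3625eb)
(.leaf 0x2a8034ea))
(.node (.leaf 0x1680ae3d)
(.leaf 0))))
(.node (.node (.node (.leaf 0x6e64203)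
(.leaf 0x24a2a934))
(.node (.leaf 0x14746a5a)
(.leaf 0)))
(.node (.node (.leaf 1160)
(.leaf 0x2d90b58f))
(.node (.leaf 0x19708dd6)
(.leaf 0)))))))
(.node (.node (.node (.node (.node (.node (.leaf 0x96c085)
(.leaf 0x1b849108))
(.node (.leaf 0x1042d4ba)
(.leaf 0x306697e0)))
(.node (.node (.leaf 0x804a141)
(.leaf 0x265447a4))
(.node (.leaf 0x154a6af2)
(.leaf 0))))
(.node (.node (.node (.leaf 0x468c06f)
(.leaf 0x22eaced0))
(.node (.leaf 0x137ecb24)
(.leaf 0)))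
(.node (.node (.leaf 0xb866ede)
(.leaf 0x2c9095b8))
(.node (.leaf 0x176c8cc4)
(.leaf 0)))))
(.node (.node (.node (.node (.leaf 0x160a11b)
(.leaf 0x222c4c1f))
(.node (.leaf 0x12442aa4)
(.leaf 0)))
(.node (.node (.leaf 0x9f227f6)
(.leaf 0x2a1c7603))
(.node (.leaf 0x1636cea5)
(.leaf 0))))
(.node (.node (.node (.leaf 0x5aa82a0)
(.leaf 0x242aab87))
(.node (.leaf 0x1442d2f9)
(.leaf 0)))
(.node (.node (.leaf 0xe0a8c87)
(.leaf 0x2d4cd606))
(.node (.leaf 0x1906c8a9)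
(.leaf 0))))))
(.node (.node (.node (.node (.node (.leaf 0xe84138)
(.leaf 0x1d92c964))
(.node (.leaf 0x1104ab39)
(.leaf 0)))
(.node (.node (.leaf 0x986887f)
(.leaf 0x2998b53a))
(.node (.leaf 0x15ba8c3c)
(.leaf 0))))
(.node (.node (.node (.leaf 0x4ce8129)
(.leaf 0x2370b03a))
(.node (.leaf 0x13decbd4)
(.leaf 0)))
(.node (.node (.leaf 0xd5c8a89)
(.leaf 0x2cdcd732))
(.node (.leaf 0x180ece5a)
(.leaf 0)))))
(.node (.node (.node (.node (.leaf 0x20e8213)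
(.leaf 0x22884b30))
(.node (.leaf 0x1328b2c7)
(.leaf 0)))
(.node (.node (.leaf 0xa7a4f3a)
(.leaf 0x2b82d56f))
(.node (.leaf 0x16bc92cd)
(.leaf 0))))
(.node (.node (.node (.leaf 0x71aa107)
(.leaf 0x2520b019))
(.node (.leaf 0x14ac6f36)
(.leaf 0)))
(.node (.node (.leaf 0xf5c9061)
(.leaf 0x2e043771))
(.node (.leaf 0x19f2cb4a)
(.leaf 0))))))))
(.node (.node (.node (.node (.node (.node (.node (.leaf 0x368013)
(.leaf 0x1b0a67d8))
(.node (.leaf 0x102653ed)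
(.leaf 0x305096dc)))
(.node (.node (.leaf 0x7b68451)
(.leaf 0x2612a4f3))
(.node (.leaf 0x151c73f5)
(.leaf 0))))
(.node (.node (.node (.leaf 0x45681d9)
(.leaf 0x22d2a73c))
(.node (.leaf 0x136452b6)
(.leaf 0)))
(.node (.node (.leaf 0xb566c31)
(.leaf 0x2c3c9583))
(.node (.leaf 0x173893f6)
(.leaf 0)))))
(.node (.node (.node (.node (.leaf 0x13c8083)
(.leaf 0x22187467))
(.node (.leaf 0x121e9268)
(.leaf 0)))
(.node (.node (.leaf 0x9cc8e36)
(.leaf 0x29e87708))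
(.node (.leaf 0x161ed44e)
(.leaf 0))))
(.node (.node (.node (.leaf 0x53e4425)
(.leaf 0x23fc928f))
(.node (.leaf 0x142acb91)
(.leaf 0)))
(.node (.node (.leaf 0xdbc6e7d)
(.leaf 0x2d2ab6b3))
(.node (.leaf 0x18be2d41)
(.leaf 0))))))
(.node (.node (.node (.node (.node (.leaf 0xd02099)
(.leaf 0x1cca8584))
(.node (.leaf 0x10ba918b)
(.leaf 0)))
(.node (.node (.leaf 0x92e90e5)
(.leaf 0x280ab2c3))
(.node (.leaf 0x15a07350)
(.leaf 0))))
(.node (.node (.node (.leaf 0x4aa43e5)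
(.leaf 0x234447ad))
(.node (.leaf 0x13c68625)
(.leaf 0)))
(.node (.node (.leaf 0xd4691dc)
(.leaf 0x2cca3623))
(.node (.leaf 0x17e6b1f3)
(.leaf 0)))))
(.node (.node (.node (.node (.leaf 0x1e260e0)
(.leaf 0x226c4f30))
(.node (.leaf 0x131651b3)
(.leaf 0)))
(.node (.node (.leaf 0xa588c2f)
(.leaf 0x2adad4e2))
(.node (.leaf 0x169ab2cf)
(.leaf 0))))
(.node (.node (.node (.leaf 0x6faa450)
(.leaf 0x24e28fd6))
(.node (.leaf 0x149291c1)
(.leaf 0)))
(.node (.node (.leaf 0xf3a49ef)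
(.leaf 0x2db056e7))
(.node (.leaf 0x19b2aa97)
(.leaf 0)))))))
(.node (.node (.node (.node (.node (.node (.leaf 0xa66405)
(.leaf 0x1bf25040))
(.node (.leaf 0x105a707e)
(.leaf 0x309ed773)))
(.node (.node (.leaf 0x8c4a44b)
(.leaf 0x26a04e70))
(.node (.leaf 0x15709179)
(.leaf 0))))
(.node (.node (.node (.leaf 0x47c42ef)
(.leaf 0x2304c8ed))
(.node (.leaf 0x1394b310)
(.leaf 0)))
(.node (.node (.leaf 0xbbeaf67)
(.leaf 0x2ca0d52d))
(.node (.leaf 0x1786af01)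
(.leaf 0)))))
(.node (.node (.node (.node (.leaf 0x192a22c)
(.leaf 0x224086a4))
(.node (.leaf 1171)
(.leaf 0)))
(.node (.node (.leaf 0xa128c73)
(.leaf 0x2a427682))
(.node (.leaf 0x1656c9fe)
(.leaf 0))))
(.node (.node (.node (.leaf 0x6d6a126)
(.leaf 0x2478726b))
(.node (.leaf 0x145ac8b9)
(.leaf 0)))
(.node (.node (.leaf 0xe52adc4)
(.leaf 0x2d74787b))
(.node (.leaf 0x1938b110)
(.leaf 0))))))
(.node (.node (.node (.node (.node (.leaf 0x104821f)
(.leaf 0x1efc2dd3))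
(.node (.leaf 0x116ac4b4)
(.leaf 0)))
(.node (.node (.leaf 0x99ca521)
(.leaf 0x29aeb609))
(.node (.leaf 0x15d68968)
(.leaf 0))))
(.node (.node (.node (.leaf 0x4eea2b0)
(.leaf 0x23a25178))
(.node (.leaf 0x13f889fc)
(.leaf 0)))
(.node (.node (.leaf 0xd70ab5c)
(.leaf 0x2cf4d758))
(.node (.leaf 0x18487432)
(.leaf 0)))))
(.node (.node (.node (.node (.leaf 0x26a4289)
(.leaf 0x229eaf42))
(.node (.leaf 0x133c6b40)
(.leaf 0)))
(.node (.node (.leaf 0xac06586)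
(.leaf 0x2b9a567f))
(.node (.leaf 0x16e4c760)
(.leaf 0))))
(.node (.node (.node (.leaf 0x73a826f)
(.leaf 0x256aa9ab))
(.node (.leaf 0x14d4cf26)
(.leaf 0)))
(.node (.node (.leaf 0xfa0a7b5)
(.leaf 0x2e489615))
(.node (.leaf 0x1a44a4db)
(.leaf 0)))))))))
(.node (.node (.node (.node (.node (.node (.node (.node (.leaf 0x146382)
(.leaf 0x1ade748c))
(.node (.leaf 0x101cb112)
(.leaf 0x2f16b6ef)))
(.node (.node (.leaf 0x78ca411)
(.leaf 0x25f08cab))
(.node (.leaf 0x150aa9f6)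
(.leaf 0))))
(.node (.node (.node (.leaf 0x332a039)
(.leaf 0x22c48bda))
(.node (.leaf 0x135c68f0)
(.leaf 0)))
(.node (.node (.leaf 0xb36af81)
(.leaf 0x2c069778))
(.node (.leaf 0x172251fa)
(.leaf 0)))))
(.node (.node (.node (.node (.leaf 0x12ca0b4)
(.leaf 0x221087e7))
(.node (.leaf 0x12084798)
(.leaf 0)))
(.node (.node (.leaf 0x9c0490d)
(.leaf 0x29d89741))
(.node (.leaf 0x160e7029)
(.leaf 0))))
(.node (.node (.node (.leaf 0x524c39c)
(.leaf 0x23e46d02))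
(.node (.leaf 0x141cc9e6)
(.leaf 0)))
(.node (.node (.leaf 0xd9eae26)
(.leaf 0x2d1eb840))
(.node (.leaf 0x18a28a7d)
(.leaf 0))))))
(.node (.node (.node (.node (.node (.leaf 0xc4a1f9)
(.leaf 0x1c7e73ad))
(.node (.leaf 0x10a2856c)
(.leaf 0)))
(.node (.node (.leaf 0x91a87af)
(.leaf 0x277c8d80))
(.node (.leaf 0x15986d99)
(.leaf 0))))
(.node (.node (.node (.leaf 0x49a81c7)
(.leaf 0x233068eb))
(.node (.leaf 0x13b89370)
(.leaf 0)))
(.node (.node (.leaf 1158)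
(.leaf 0x2cbc3723))
(.node (.leaf 0x17be6a42)
(.leaf 0)))))
(.node (.node (.node (.node (.leaf 0x1c2639d)
(.leaf 0x22648761))
(.node (.leaf 0x130ecbd0)
(.leaf 0)))
(.node (.node (.leaf 0xa444c2c)
(.leaf 0x2aa4b5d6))
(.node (.leaf 0x168e2ea8)
(.leaf 0))))
(.node (.node (.node (.leaf 0x6f060aa)
(.leaf 0x24c68727))
(.node (.leaf 0x1480d280)
(.leaf 0)))
(.node (.node (.leaf 0xf288637)
(.leaf 0x2d9eb81b))
(.node (.leaf 0x198e9365)
(.leaf 0)))))))
(.node (.node (.node (.node (.node (.node (.leaf 0x9e81c4)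
(.leaf 0x1bc27198))
(.node (.leaf 0x1050c4ef)
(.leaf 0x30807894)))
(.node (.node (.leaf 0x8b683e2)
(.leaf 0x267630d4))
(.node (.leaf 0x156691b5)
(.leaf 0))))
(.node (.node (.node (.leaf 0x47241b0)
(.leaf 0x22f6cb31))
(.node (.leaf 0x13889169)
(.leaf 0)))
(.node (.node (.leaf 0xbaa2db3)
(.leaf 0x2c98765f))
(.node (.leaf 0x177e49a6)
(.leaf 0)))))
(.node (.node (.node (.node (.leaf 0x174c211)
(.leaf 0x223690c5))
(.node (.leaf 0x1288d02f)
(.leaf 0)))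
(.node (.node (.leaf 0xa0291d3)
(.leaf 0x2a3294ef))
(.node (.leaf 0x16425210)
(.leaf 0))))
(.node (.node (.node (.leaf 0x602a193)
(.leaf 0x245a6e3c))
(.node (.leaf 0x144ea729)
(.leaf 0)))
(.node (.node (.leaf 0xe24ccff)
(.leaf 0x2d60d62e))
(.node (.leaf 0x1922d332)
(.leaf 0))))))
(.node (.node (.node (.node (.node (.leaf 0xf480d4)
(.leaf 0x1e3eb119))
(.node (.leaf 0x1140a61e)
(.leaf 0)))
(.node (.node (.leaf 0x9924705)
(.leaf 0x29a29769))
(.node (.leaf 0x15c86e66)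
(.leaf 0))))
(.node (.node (.node (.leaf 0x4e082a4)
(.leaf 0x238e8829))
(.node (.leaf 0x13e88c9b)
(.leaf 0)))
(.node (.node (.leaf 0xd66aed1)
(.leaf 0x2ce6d65d))
(.node (.leaf 0x182e2b34)
(.leaf 0)))))
(.node (.node (.node (.node (.leaf 0x21ec0da)
(.leaf 0x2292d08d))
(.node (.leaf 0x13327073)
(.leaf 0)))
(.node (.node (.leaf 0xa8a47f8)
(.leaf 0x2b8c77cc))
(.node (.leaf 0x16d27411)
(.leaf 0))))
(.node (.node (.node (.leaf 0x72822cb)
(.leaf 0x2542b049))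
(.node (.leaf 0x14b8b364)
(.leaf 0)))
(.node (.node (.leaf 0xf74a4a8)
(.leaf 0x2e2ab5c2))
(.node (.leaf 0x1a24729f)
(.leaf 0))))))))
(.node (.node (.node (.node (.node (.node (.node (.leaf 0x7a812d)
(.leaf 0x1b4889ff))
(.node (.leaf 0x103aa54c)
(.leaf 0x305a76f8)))
(.node (.node (.leaf 0x7c8c2a3)
(.leaf 0x262e72a7))
(.node (.leaf 0x152ecd03)
(.leaf 0))))
(.node (.node (.node (.leaf 0x45ea2ed)
(.leaf 0x22dec4e5))
(.node (.leaf 0x1372aedc)
(.leaf 0)))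
(.node (.node (.leaf 0xb6e6e4a)
(.leaf 0x2c6ed65c))
(.node (.leaf 0x17588d45)
(.leaf 0)))))
(.node (.node (.node (.node (.leaf 0x14e8238)
(.leaf 0x22226857))
(.node (.leaf 0x122eaa3c)
(.leaf 0)))
(.node (.node (.leaf 0x9d8c6ef)
(.leaf 0x2a06755f))
(.node (.leaf 0x162871fc)
(.leaf 0))))
(.node (.node (.node (.leaf 0x552c151)
(.leaf 0x241a8da0))
(.node (.leaf 0x1436cded)
(.leaf 0)))
(.node (.node (.leaf 0xdd22e62)
(.leaf 0x2d3a7880))
(.node (.leaf 0x18de5434)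
(.leaf 0))))))
(.node (.node (.node (.node (.node (.leaf 0xdca335)
(.leaf 0x1d088c99))
(.node (.leaf 0x10d66884)
(.leaf 0)))
(.node (.node (.leaf 1156)
(.leaf 0x28d292b0))
(.node (.leaf 0x15ac9421)
(.leaf 0))))
(.node (.node (.node (.leaf 0x4bca097)
(.leaf 0x235294ac))
(.node (.leaf 0x13d22c4f)
(.leaf 0)))
(.node (.node (.leaf 0xd524916)
(.leaf 0x2cd27743))
(.node (.leaf 0x17fcd436)
(.leaf 0)))))
(.node (.node (.node (.node (.leaf 0x1f8224e)
(.leaf 0x227aafe7))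
(.node (.leaf 0x131e91f6)
(.leaf 0)))
(.node (.node (.leaf 0xa68c5c7)
(.leaf 0x2b78d4d3))
(.node (.leaf 0x16aad042)
(.leaf 0))))
(.node (.node (.node (.leaf 0x70aa367)
(.leaf 0x250228ba))
(.node (.leaf 0x149eb1e8)
(.leaf 0)))
(.node (.node (.leaf 0xf4c9144)
(.leaf 0x2dc8b637))
(.node (.leaf 0x19cab3e1)
(.leaf 0)))))))
(.node (.node (.node (.node (.node (.node (.leaf 0xb0a2c2)
(.leaf 0x1c247424))
(.node (.leaf 0x1076d3c8)
(.leaf 0x30f2767b)))
(.node (.node (.leaf 0x8de6198)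
(.leaf 0x27028670))
(.node (.leaf 0x157cb328)
(.leaf 0))))
(.node (.node (.node (.leaf 0x486612a)
(.leaf 0x2312a74e))
(.node (.leaf 0x13a0d020)
(.leaf 0)))
(.node (.node (.leaf 0xc38333d)
(.leaf 0x2ca696cb))
(.node (.leaf 0x179c65da)
(.leaf 0)))))
(.node (.node (.node (.node (.leaf 0x1a28262)
(.leaf 0x224a682d))
(.node (.leaf 0x12fa2587)
(.leaf 0)))
(.node (.node (.leaf 0xa224b82)
(.leaf 0x2a5c583b))
(.node (.leaf 0x16684674)
(.leaf 0))))
(.node (.node (.node (.leaf 0x6de22a7)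
(.leaf 0x2490d03f))
(.node (.leaf 0x1466c8c6)
(.leaf 0)))
(.node (.node (.leaf 0xea2afdc)
(.leaf 0x2d843735))
(.node (.leaf 0x195c483b)
(.leaf 0))))))
(.node (.node (.node (.node (.node (.leaf 0x110a176)
(.leaf 0x20d646d9))
(.node (.leaf 0x11f2a684)
(.leaf 0)))
(.node (.node (.leaf 0x9a82daa)
(.leaf 0x29beb614))
(.node (.leaf 0x15eeac4b)
(.leaf 0))))
(.node (.node (.node (.leaf 0x4fc407d)
(.leaf 0x23ba8f1a))
(.node (.leaf 0x140493f0)
(.leaf 0)))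
(.node (.node (.leaf 0xd7e6fc1)
(.leaf 0x2d04d863))
(.node (.leaf 0x1866cbfa)
(.leaf 0)))))
(.node (.node (.node (.node (.leaf 0x29280ce)
(.leaf 0x22a885e0))
(.node (.leaf 0x13464f0b)
(.leaf 0)))
(.node (.node (.leaf 0xadcb41d)
(.leaf 0x2baeb7d6))
(.node (.leaf 0x16fa8f69)
(.leaf 0))))
(.node (.node (.node (.leaf 0x74e21c2)
(.leaf 0x25848d43))
(.node (.leaf 0x14e6c89a)
(.leaf 0)))
(.node (.node (.leaf 0xfd8a56e)
(.leaf 0x2e8636a3))
(.node (.leaf 0x1a72d209)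
(.leaf 0))))))))))))))

/-- The root of an index. -/
def posTree0 : Tree :=
(.node (.node (.node (.node (.node (.node (.node (.node (.node (.node (.node (.node (.node (.leaf 0)
(.leaf 1179))
(.node (.leaf 1177)
(.leaf 5316)))
(.node (.node (.leaf 43)
(.leaf 1177))
(.node (.leaf 1177)
(.leaf 0))))
(.node (.node (.node (.leaf 11)
(.leaf 1177))
(.node (.leaf 1161)
(.leaf 0)))
(.node (.node (.leaf 1177)
(.leaf 5316))
(.node (.leaf 1179)
(.leaf 0)))))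
(.node (.node (.node (.node (.leaf 43)
(.leaf 1177))
(.node (.leaf 1179)
(.leaf 0)))
(.node (.node (.leaf 1177)
(.leaf 5314))
(.node (.leaf 1160)
(.leaf 0))))
(.node (.node (.node (.leaf 13)
(.leaf 1177))
(.node (.leaf 1179)
(.leaf 0)))
(.node (.node (.leaf 1177)
(.leaf 5314))
(.node (.leaf 1177)
(.leaf 0))))))
(.node (.node (.node (.node (.node (.leaf 11)
(.leaf 1177))
(.node (.leaf 1161)
(.leaf 5342)))
(.node (.node (.leaf 13)
(.leaf 1177))
(.node (.leaf 1177)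
(.leaf 0))))
(.node (.node (.node (.leaf 11)
(.leaf 1177))
(.node (.leaf 1177)
(.leaf 0)))
(.node (.node (.leaf 1160)
(.leaf 5316))
(.node (.leaf 1177)
(.leaf 0)))))
(.node (.node (.node (.node (.leaf 11)
(.leaf 1177))
(.node (.leaf 1156)
(.leaf 0)))
(.node (.node (.leaf 1161)
(.leaf 5482))
(.node (.leaf 1179)
(.leaf 0))))
(.node (.node (.node (.leaf 43)
(.leaf 1177))
(.node (.leaf 1158)
(.leaf 0)))
(.node (.node (.leaf 1177)
(.leaf 5342))
(.node (.leaf 1177)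
(.leaf 0)))))))
(.node (.node (.node (.node (.node (.node (.leaf 4)
(.leaf 1177))
(.node (.leaf 1177)
(.leaf 5342)))
(.node (.node (.leaf 43)
(.leaf 1177))
(.node (.leaf 1179)
(.leaf 0))))
(.node (.node (.node (.leaf 43)
(.leaf 1179))
(.node (.leaf 1177)
(.leaf 0)))
(.node (.node (.leaf 1179)
(.leaf 5342))
(.node (.leaf 1177)
(.leaf 0)))))
(.node (.node (.node (.node (.leaf 43)
(.leaf 1179))
(.node (.leaf 1177)
(.leaf 0)))
(.node (.node (.leaf 1179)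
(.leaf 5314))
(.node (.leaf 1177)
(.leaf 0))))
(.node (.node (.node (.leaf 11)
(.leaf 1177))
(.node (.leaf 1177)
(.leaf 0)))
(.node (.node (.leaf 1177)
(.leaf 5362))
(.node (.leaf 1177)
(.leaf 0))))))
(.node (.node (.node (.node (.node (.leaf 43)
(.leaf 1155))
(.node (.leaf 1177)
(.leaf 0)))
(.node (.node (.leaf 1167)
(.leaf 1161))
(.node (.leaf 1179)
(.leaf 0))))
(.node (.node (.node (.leaf 11)
(.leaf 1177))
(.node (.leaf 1177)
(.leaf 0)))
(.node (.node (.leaf 1156)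
(.leaf 5316))
(.node (.leaf 1177)
(.leaf 0)))))
(.node (.node (.node (.node (.leaf 11)
(.leaf 1179))
(.node (.leaf 1161)
(.leaf 0)))
(.node (.node (.leaf 1167)
(.leaf 5314))
(.node (.leaf 1177)
(.leaf 0))))
(.node (.node (.node (.leaf 43)
(.leaf 1158))
(.node (.leaf 1177)
(.leaf 0)))
(.node (.node (.leaf 1160)
(.leaf 5342))
(.node (.leaf 1177)
(.leaf 0))))))))
(.node (.node (.node (.node (.node (.node (.node (.leaf 11)
(.leaf 1177))
(.node (.leaf 1158)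
(.leaf 5482)))
(.node (.node (.leaf 11)
(.leaf 1177))
(.node (.leaf 1179)
(.leaf 0))))
(.node (.node (.node (.leaf 11)
(.leaf 1177))
(.node (.leaf 1177)
(.leaf 0)))
(.node (.node (.leaf 1177)
(.leaf 5314))
(.node (.leaf 1177)
(.leaf 0)))))
(.node (.node (.node (.node (.leaf 11)
(.leaf 1177))
(.node (.leaf 1160)
(.leaf 0)))
(.node (.node (.leaf 1156)
(.leaf 5342))
(.node (.leaf 1177)
(.leaf 0))))
(.node (.node (.node (.leaf 11)
(.leaf 1156))
(.node (.leaf 1155)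
(.leaf 0)))
(.node (.node (.leaf 1156)
(.leaf 5342))
(.node (.leaf 1177)
(.leaf 0))))))
(.node (.node (.node (.node (.node (.leaf 13)
(.leaf 1179))
(.node (.leaf 1179)
(.leaf 0)))
(.node (.node (.leaf 1160)
(.leaf 1177))
(.node (.leaf 1177)
(.leaf 0))))
(.node (.node (.node (.leaf 13)
(.leaf 1179))
(.node (.leaf 1179)
(.leaf 0)))
(.node (.node (.leaf 1177)
(.leaf 5342))
(.node (.leaf 1177)
(.leaf 0)))))
(.node (.node (.node (.node (.leaf 11)
(.leaf 1167))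
(.node (.leaf 1177)
(.leaf 0)))
(.node (.node (.leaf 1177)
(.leaf 5314))
(.node (.leaf 1179)
(.leaf 0))))
(.node (.node (.node (.leaf 43)
(.leaf 1177))
(.node (.leaf 1177)
(.leaf 0)))
(.node (.node (.leaf 1160)
(.leaf 5342))
(.node (.leaf 1177)
(.leaf 0)))))))
(.node (.node (.node (.node (.node (.node (.leaf 0)
(.leaf 1160))
(.node (.leaf 1177)
(.leaf 5482)))
(.node (.node (.leaf 43)
(.leaf 1155))
(.node (.leaf 1177)
(.leaf 0))))
(.node (.node (.node (.leaf 11)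
(.leaf 1177))
(.node (.leaf 1160)
(.leaf 0)))
(.node (.node (.leaf 1158)
(.leaf 5482))
(.node (.leaf 1179)
(.leaf 0)))))
(.node (.node (.node (.node (.leaf 11)
(.leaf 1179))
(.node (.leaf 1179)
(.leaf 0)))
(.node (.node (.leaf 1156)
(.leaf 5314))
(.node (.leaf 1167)
(.leaf 0))))
(.node (.node (.node (.leaf 43)
(.leaf 1179))
(.node (.leaf 1167)
(.leaf 0)))
(.node (.node (.leaf 1177)
(.leaf 5342))
(.node (.leaf 1156)
(.leaf 0))))))
(.node (.node (.node (.node (.node (.leaf 11)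
(.leaf 1177))
(.node (.leaf 1177)
(.leaf 0)))
(.node (.node (.leaf 1160)
(.leaf 5342))
(.node (.leaf 1156)
(.leaf 0))))
(.node (.node (.node (.leaf 11)
(.leaf 1177))
(.node (.leaf 1177)
(.leaf 0)))
(.node (.node (.leaf 1179)
(.leaf 5316))
(.node (.leaf 1177)
(.leaf 0)))))
(.node (.node (.node (.node (.leaf 11)
(.leaf 1179))
(.node (.leaf 1177)
(.leaf 0)))
(.node (.node (.leaf 1179)
(.leaf 5342))
(.node (.leaf 1177)
(.leaf 0))))
(.node (.node (.node (.leaf 13)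
(.leaf 1156))
(.node (.leaf 1179)
(.leaf 0)))
(.node (.node (.leaf 1179)
(.leaf 5362))
(.node (.leaf 1179)
(.leaf 0)))))))))
(.node (.node (.node (.node (.node (.node (.node (.node (.leaf 4)
(.leaf 1177))
(.node (.leaf 1179)
(.leaf 5342)))
(.node (.node (.leaf 13)
(.leaf 1177))
(.node (.leaf 1177)
(.leaf 0))))
(.node (.node (.node (.leaf 11)
(.leaf 1177))
(.node (.leaf 1177)
(.leaf 0)))
(.node (.node (.leaf 1177)
(.leaf 5314))
(.node (.leaf 1177)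
(.leaf 0)))))
(.node (.node (.node (.node (.leaf 43)
(.leaf 1177))
(.node (.leaf 1158)
(.leaf 0)))
(.node (.node (.leaf 1179)
(.leaf 5314))
(.node (.leaf 1177)
(.leaf 0))))
(.node (.node (.node (.leaf 43)
(.leaf 1177))
(.node (.leaf 1177)
(.leaf 0)))
(.node (.node (.leaf 1177)
(.leaf 5342))
(.node (.leaf 1167)
(.leaf 0))))))
(.node (.node (.node (.node (.node (.leaf 11)
(.leaf 1160))
(.node (.leaf 1158)
(.leaf 5482)))
(.node (.node (.leaf 1156)
(.leaf 1160))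
(.node (.leaf 1177)
(.leaf 0))))
(.node (.node (.node (.leaf 11)
(.leaf 1156))
(.node (.leaf 1177)
(.leaf 0)))
(.node (.node (.leaf 1156)
(.leaf 5316))
(.node (.leaf 1156)
(.leaf 0)))))
(.node (.node (.node (.node (.leaf 11)
(.leaf 1177))
(.node (.leaf 1177)
(.leaf 0)))
(.node (.node (.leaf 1179)
(.leaf 5342))
(.node (.leaf 1179)
(.leaf 0))))
(.node (.node (.node (.leaf 43)
(.leaf 1177))
(.node (.leaf 1177)
(.leaf 0)))
(.node (.node (.leaf 1177)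
(.leaf 5342))
(.node (.leaf 1177)
(.leaf 0)))))))
(.node (.node (.node (.node (.node (.node (.leaf 11)
(.leaf 1179))
(.node (.leaf 1177)
(.leaf 5342)))
(.node (.node (.leaf 43)
(.leaf 1156))
(.node (.leaf 1177)
(.leaf 0))))
(.node (.node (.node (.leaf 13)
(.leaf 1161))
(.node (.leaf 1177)
(.leaf 0)))
(.node (.node (.leaf 1177)
(.leaf 5314))
(.node (.leaf 1177)
(.leaf 0)))))
(.node (.node (.node (.node (.leaf 11)
(.leaf 1177))
(.node (.leaf 1177)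
(.leaf 0)))
(.node (.node (.leaf 1158)
(.leaf 5342))
(.node (.leaf 1177)
(.leaf 0))))
(.node (.node (.node (.leaf 43)
(.leaf 1177))
(.node (.leaf 1177)
(.leaf 0)))
(.node (.node (.leaf 1179)
(.leaf 5342))
(.node (.leaf 1177)
(.leaf 0))))))
(.node (.node (.node (.node (.node (.leaf 43)
(.leaf 1177))
(.node (.leaf 1177)
(.leaf 0)))
(.node (.node (.leaf 1171)
(.leaf 5316))
(.node (.leaf 1158)
(.leaf 0))))
(.node (.node (.node (.leaf 13)
(.leaf 1177))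
(.node (.leaf 1177)
(.leaf 0)))
(.node (.node (.leaf 1179)
(.leaf 5316))
(.node (.leaf 1179)
(.leaf 0)))))
(.node (.node (.node (.node (.leaf 11)
(.leaf 1177))
(.node (.leaf 1177)
(.leaf 0)))
(.node (.node (.leaf 1158)
(.leaf 5342))
(.node (.leaf 1177)
(.leaf 0))))
(.node (.node (.node (.leaf 43)
(.leaf 1177))
(.node (.leaf 1177)
(.leaf 0)))
(.node (.node (.leaf 1177)
(.leaf 5314))
(.node (.leaf 1158)
(.leaf 0))))))))
(.node (.node (.node (.node (.node (.node (.node (.leaf 43)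
(.leaf 1177))
(.node (.leaf 1179)
(.leaf 5342)))
(.node (.node (.leaf 13)
(.leaf 1177))
(.node (.leaf 1177)
(.leaf 0))))
(.node (.node (.node (.leaf 11)
(.leaf 1177))
(.node (.leaf 1155)
(.leaf 0)))
(.node (.node (.leaf 1161)
(.leaf 5342))
(.node (.leaf 1177)
(.leaf 0)))))
(.node (.node (.node (.node (.leaf 11)
(.leaf 1179))
(.node (.leaf 1155)
(.leaf 0)))
(.node (.node (.leaf 1156)
(.leaf 5314))
(.node (.leaf 1177)
(.leaf 0))))
(.node (.node (.node (.leaf 13)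
(.leaf 1156))
(.node (.leaf 1179)
(.leaf 0)))
(.node (.node (.leaf 1177)
(.leaf 5342))
(.node (.leaf 1179)
(.leaf 0))))))
(.node (.node (.node (.node (.node (.leaf 43)
(.leaf 1177))
(.node (.leaf 1177)
(.leaf 0)))
(.node (.node (.leaf 1172)
(.leaf 1161))
(.node (.leaf 1156)
(.leaf 0))))
(.node (.node (.node (.leaf 13)
(.leaf 1179))
(.node (.leaf 1177)
(.leaf 0)))
(.node (.node (.leaf 1161)
(.leaf 5342))
(.node (.leaf 1177)
(.leaf 0)))))
(.node (.node (.node (.node (.leaf 13)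
(.leaf 1161))
(.node (.leaf 1177)
(.leaf 0)))
(.node (.node (.leaf 1156)
(.leaf 5314))
(.node (.leaf 1156)
(.leaf 0))))
(.node (.node (.node (.leaf 43)
(.leaf 1177))
(.node (.leaf 1179)
(.leaf 0)))
(.node (.node (.leaf 1155)
(.leaf 5342))
(.node (.leaf 1179)
(.leaf 0)))))))
(.node (.node (.node (.node (.node (.node (.leaf 13)
(.leaf 1177))
(.node (.leaf 1177)
(.leaf 5362)))
(.node (.node (.leaf 13)
(.leaf 1161))
(.node (.leaf 1179)
(.leaf 0))))
(.node (.node (.node (.leaf 43)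
(.leaf 1177))
(.node (.leaf 1160)
(.leaf 0)))
(.node (.node (.leaf 1179)
(.leaf 5316))
(.node (.leaf 1179)
(.leaf 0)))))
(.node (.node (.node (.node (.leaf 11)
(.leaf 1177))
(.node (.leaf 1177)
(.leaf 0)))
(.node (.node (.leaf 1156)
(.leaf 5342))
(.node (.leaf 1177)
(.leaf 0))))
(.node (.node (.node (.leaf 43)
(.leaf 1177))
(.node (.leaf 1156)
(.leaf 0)))
(.node (.node (.leaf 1156)
(.leaf 5362))
(.node (.leaf 1156)
(.leaf 0))))))
(.node (.node (.node (.node (.node (.leaf 13)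
(.leaf 1156))
(.node (.leaf 1177)
(.leaf 0)))
(.node (.node (.leaf 1160)
(.leaf 5342))
(.node (.leaf 1179)
(.leaf 0))))
(.node (.node (.node (.leaf 11)
(.leaf 1177))
(.node (.leaf 1161)
(.leaf 0)))
(.node (.node (.leaf 1156)
(.leaf 5342))
(.node (.leaf 1177)
(.leaf 0)))))
(.node (.node (.node (.node (.leaf 11)
(.leaf 1179))
(.node (.leaf 1179)
(.leaf 0)))
(.node (.node (.leaf 1161)
(.leaf 5342))
(.node (.leaf 1179)
(.leaf 0))))
(.node (.node (.node (.leaf 13)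
(.leaf 1177))
(.node (.leaf 1177)
(.leaf 0)))
(.node (.node (.leaf 1156)
(.leaf 5342))
(.node (.leaf 1179)
(.leaf 0))))))))))
(.node (.node (.node (.node (.node (.node (.node (.node (.node (.leaf 0)
(.leaf 1177))
(.node (.leaf 1177)
(.leaf 5342)))
(.node (.node (.leaf 13)
(.leaf 1156))
(.node (.leaf 1177)
(.leaf 0))))
(.node (.node (.node (.leaf 63)
(.leaf 1177))
(.node (.leaf 1177)
(.leaf 0)))
(.node (.node (.leaf 1177)
(.leaf 5314))
(.node (.leaf 1167)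
(.leaf 0)))))
(.node (.node (.node (.node (.leaf 11)
(.leaf 1177))
(.node (.leaf 1156)
(.leaf 0)))
(.node (.node (.leaf 1161)
(.leaf 5314))
(.node (.leaf 1156)
(.leaf 0))))
(.node (.node (.node (.leaf 43)
(.leaf 1177))
(.node (.leaf 1177)
(.leaf 0)))
(.node (.node (.leaf 1177)
(.leaf 5314))
(.node (.leaf 1177)
(.leaf 0))))))
(.node (.node (.node (.node (.node (.leaf 11)
(.leaf 1179))
(.node (.leaf 1156)
(.leaf 5342)))
(.node (.node (.leaf 1160)
(.leaf 1177))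
(.node (.leaf 1158)
(.leaf 0))))
(.node (.node (.node (.leaf 13)
(.leaf 1177))
(.node (.leaf 1177)
(.leaf 0)))
(.node (.node (.leaf 1158)
(.leaf 5342))
(.node (.leaf 1177)
(.leaf 0)))))
(.node (.node (.node (.node (.leaf 43)
(.leaf 1177))
(.node (.leaf 1161)
(.leaf 0)))
(.node (.node (.leaf 1171)
(.leaf 5342))
(.node (.leaf 1177)
(.leaf 0))))
(.node (.node (.node (.leaf 13)
(.leaf 1177))
(.node (.leaf 1179)
(.leaf 0)))
(.node (.node (.leaf 1177)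
(.leaf 5362))
(.node (.leaf 1179)
(.leaf 0)))))))
(.node (.node (.node (.node (.node (.node (.leaf 11)
(.leaf 1156))
(.node (.leaf 1156)
(.leaf 5342)))
(.node (.node (.leaf 43)
(.leaf 1179))
(.node (.leaf 1177)
(.leaf 0))))
(.node (.node (.node (.leaf 13)
(.leaf 1179))
(.node (.leaf 1177)
(.leaf 0)))
(.node (.node (.leaf 1177)
(.leaf 5342))
(.node (.leaf 1177)
(.leaf 0)))))
(.node (.node (.node (.node (.leaf 43)
(.leaf 1177))
(.node (.leaf 1177)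
(.leaf 0)))
(.node (.node (.leaf 1156)
(.leaf 5314))
(.node (.leaf 1177)
(.leaf 0))))
(.node (.node (.node (.leaf 11)
(.leaf 1179))
(.node (.leaf 1177)
(.leaf 0)))
(.node (.node (.leaf 1177)
(.leaf 5314))
(.node (.leaf 1179)
(.leaf 0))))))
(.node (.node (.node (.node (.node (.leaf 11)
(.leaf 1160))
(.node (.leaf 1158)
(.leaf 0)))
(.node (.node (.leaf 1156)
(.leaf 5314))
(.node (.leaf 1177)
(.leaf 0))))
(.node (.node (.node (.leaf 11)
(.leaf 1177))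
(.node (.leaf 1179)
(.leaf 0)))
(.node (.node (.leaf 1158)
(.leaf 5314))
(.node (.leaf 1156)
(.leaf 0)))))
(.node (.node (.node (.node (.leaf 13)
(.leaf 1177))
(.node (.leaf 1177)
(.leaf 0)))
(.node (.node (.leaf 1156)
(.leaf 5342))
(.node (.leaf 1177)
(.leaf 0))))
(.node (.node (.node (.leaf 4)
(.leaf 1161))
(.node (.leaf 1160)
(.leaf 0)))
(.node (.node (.leaf 1158)
(.leaf 5342))
(.node (.leaf 1177)
(.leaf 0))))))))
(.node (.node (.node (.node (.node (.node (.node (.leaf 11)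
(.leaf 1177))
(.node (.leaf 1156)
(.leaf 5482)))
(.node (.node (.leaf 13)
(.leaf 1179))
(.node (.leaf 1158)
(.leaf 0))))
(.node (.node (.node (.leaf 43)
(.leaf 1179))
(.node (.leaf 1179)
(.leaf 0)))
(.node (.node (.leaf 1177)
(.leaf 5314))
(.node (.leaf 1177)
(.leaf 0)))))
(.node (.node (.node (.node (.leaf 13)
(.leaf 1179))
(.node (.leaf 1179)
(.leaf 0)))
(.node (.node (.leaf 1156)
(.leaf 5342))
(.node (.leaf 1177)
(.leaf 0))))
(.node (.node (.node (.leaf 11)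
(.leaf 1177))
(.node (.leaf 1177)
(.leaf 0)))
(.node (.node (.leaf 1179)
(.leaf 5342))
(.node (.leaf 1177)
(.leaf 0))))))
(.node (.node (.node (.node (.node (.leaf 11)
(.leaf 1177))
(.node (.leaf 1177)
(.leaf 0)))
(.node (.node (.leaf 1160)
(.leaf 1177))
(.node (.leaf 1179)
(.leaf 0))))
(.node (.node (.node (.leaf 11)
(.leaf 1179))
(.node (.leaf 1177)
(.leaf 0)))
(.node (.node (.leaf 1179)
(.leaf 5342))
(.node (.leaf 1177)
(.leaf 0)))))
(.node (.node (.node (.node (.leaf 43)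
(.leaf 1179))
(.node (.leaf 1155)
(.leaf 0)))
(.node (.node (.leaf 1156)
(.leaf 5314))
(.node (.leaf 1177)
(.leaf 0))))
(.node (.node (.node (.leaf 13)
(.leaf 1177))
(.node (.leaf 1177)
(.leaf 0)))
(.node (.node (.leaf 1177)
(.leaf 5316))
(.node (.leaf 1179)
(.leaf 0)))))))
(.node (.node (.node (.node (.node (.node (.leaf 11)
(.leaf 1177))
(.node (.leaf 1158)
(.leaf 5342)))
(.node (.node (.leaf 13)
(.leaf 1161))
(.node (.leaf 1156)
(.leaf 0))))
(.node (.node (.node (.leaf 11)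
(.leaf 1167))
(.node (.leaf 1177)
(.leaf 0)))
(.node (.node (.leaf 1156)
(.leaf 5314))
(.node (.leaf 1177)
(.leaf 0)))))
(.node (.node (.node (.node (.leaf 13)
(.leaf 1179))
(.node (.leaf 1177)
(.leaf 0)))
(.node (.node (.leaf 1155)
(.leaf 5314))
(.node (.leaf 1156)
(.leaf 0))))
(.node (.node (.node (.leaf 43)
(.leaf 1156))
(.node (.leaf 1156)
(.leaf 0)))
(.node (.node (.leaf 1161)
(.leaf 5362))
(.node (.leaf 1179)
(.leaf 0))))))
(.node (.node (.node (.node (.node (.leaf 43)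
(.leaf 1160))
(.node (.leaf 1177)
(.leaf 0)))
(.node (.node (.leaf 1177)
(.leaf 5314))
(.node (.leaf 1156)
(.leaf 0))))
(.node (.node (.node (.leaf 13)
(.leaf 1177))
(.node (.leaf 1177)
(.leaf 0)))
(.node (.node (.leaf 1177)
(.leaf 5342))
(.node (.leaf 1177)
(.leaf 0)))))
(.node (.node (.node (.node (.leaf 43)
(.leaf 1177))
(.node (.leaf 1177)
(.leaf 0)))
(.node (.node (.leaf 1158)
(.leaf 5342))
(.node (.leaf 1179)
(.leaf 0))))
(.node (.node (.node (.leaf 43)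
(.leaf 1177))
(.node (.leaf 1177)
(.leaf 0)))
(.node (.node (.leaf 1177)
(.leaf 5342))
(.node (.leaf 1177)
(.leaf 0)))))))))
(.node (.node (.node (.node (.node (.node (.node (.node (.leaf 13)
(.leaf 1161))
(.node (.leaf 1179)
(.leaf 5314)))
(.node (.node (.leaf 43)
(.leaf 1156))
(.node (.leaf 1177)
(.leaf 0))))
(.node (.node (.node (.leaf 43)
(.leaf 1161))
(.node (.leaf 1177)
(.leaf 0)))
(.node (.node (.leaf 1179)
(.leaf 5314))
(.node (.leaf 1177)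
(.leaf 0)))))
(.node (.node (.node (.node (.leaf 13)
(.leaf 1179))
(.node (.leaf 1156)
(.leaf 0)))
(.node (.node (.leaf 1167)
(.leaf 5314))
(.node (.leaf 1177)
(.leaf 0))))
(.node (.node (.node (.leaf 43)
(.leaf 1158))
(.node (.leaf 1177)
(.leaf 0)))
(.node (.node (.leaf 1177)
(.leaf 5314))
(.node (.leaf 1161)
(.leaf 0))))))
(.node (.node (.node (.node (.node (.leaf 13)
(.leaf 1177))
(.node (.leaf 1167)
(.leaf 5342)))
(.node (.node (.leaf 1158)
(.leaf 1161))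
(.node (.leaf 1177)
(.leaf 0))))
(.node (.node (.node (.leaf 11)
(.leaf 1177))
(.node (.leaf 1158)
(.leaf 0)))
(.node (.node (.leaf 1171)
(.leaf 5342))
(.node (.leaf 1177)
(.leaf 0)))))
(.node (.node (.node (.node (.leaf 63)
(.leaf 1177))
(.node (.leaf 1179)
(.leaf 0)))
(.node (.node (.leaf 1177)
(.leaf 5314))
(.node (.leaf 1177)
(.leaf 0))))
(.node (.node (.node (.leaf 13)
(.leaf 1161))
(.node (.leaf 1177)
(.leaf 0)))
(.node (.node (.leaf 1167)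
(.leaf 5314))
(.node (.leaf 1177)
(.leaf 0)))))))
(.node (.node (.node (.node (.node (.node (.leaf 11)
(.leaf 1177))
(.node (.leaf 1156)
(.leaf 5342)))
(.node (.node (.leaf 13)
(.leaf 1177))
(.node (.leaf 1177)
(.leaf 0))))
(.node (.node (.node (.leaf 13)
(.leaf 1179))
(.node (.leaf 1177)
(.leaf 0)))
(.node (.node (.leaf 1156)
(.leaf 5314))
(.node (.leaf 1158)
(.leaf 0)))))
(.node (.node (.node (.node (.leaf 13)
(.leaf 1179))
(.node (.leaf 1177)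
(.leaf 0)))
(.node (.node (.leaf 1161)
(.leaf 5342))
(.node (.leaf 1177)
(.leaf 0))))
(.node (.node (.node (.leaf 13)
(.leaf 1177))
(.node (.leaf 1158)
(.leaf 0)))
(.node (.node (.leaf 1158)
(.leaf 5342))
(.node (.leaf 1156)
(.leaf 0))))))
(.node (.node (.node (.node (.node (.leaf 11)
(.leaf 1167))
(.node (.leaf 1158)
(.leaf 0)))
(.node (.node (.leaf 1158)
(.leaf 5314))
(.node (.leaf 1177)
(.leaf 0))))
(.node (.node (.node (.leaf 11)
(.leaf 1177))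
(.node (.leaf 1177)
(.leaf 0)))
(.node (.node (.leaf 1177)
(.leaf 5314))
(.node (.leaf 1177)
(.leaf 0)))))
(.node (.node (.node (.node (.leaf 13)
(.leaf 1167))
(.node (.leaf 1177)
(.leaf 0)))
(.node (.node (.leaf 1177)
(.leaf 5342))
(.node (.leaf 1179)
(.leaf 0))))
(.node (.node (.node (.leaf 11)
(.leaf 1177))
(.node (.leaf 1179)
(.leaf 0)))
(.node (.node (.leaf 1177)
(.leaf 5362))
(.node (.leaf 1156)
(.leaf 0))))))))
(.node (.node (.node (.node (.node (.node (.node (.leaf 11)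
(.leaf 1177))
(.node (.leaf 1177)
(.leaf 5342)))
(.node (.node (.leaf 13)
(.leaf 1177))
(.node (.leaf 1179)
(.leaf 0))))
(.node (.node (.node (.leaf 11)
(.leaf 1177))
(.node (.leaf 1177)
(.leaf 0)))
(.node (.node (.leaf 1177)
(.leaf 5342))
(.node (.leaf 1177)
(.leaf 0)))))
(.node (.node (.node (.node (.leaf 11)
(.leaf 1161))
(.node (.leaf 1177)
(.leaf 0)))
(.node (.node (.leaf 1179)
(.leaf 5316))
(.node (.leaf 1177)
(.leaf 0))))
(.node (.node (.node (.leaf 43)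
(.leaf 1156))
(.node (.leaf 1177)
(.leaf 0)))
(.node (.node (.leaf 1179)
(.leaf 5342))
(.node (.leaf 1179)
(.leaf 0))))))
(.node (.node (.node (.node (.node (.leaf 11)
(.leaf 1177))
(.node (.leaf 1156)
(.leaf 0)))
(.node (.node (.leaf 1160)
(.leaf 1160))
(.node (.leaf 1177)
(.leaf 0))))
(.node (.node (.node (.leaf 11)
(.leaf 1179))
(.node (.leaf 1177)
(.leaf 0)))
(.node (.node (.leaf 1158)
(.leaf 5314))
(.node (.leaf 1179)
(.leaf 0)))))
(.node (.node (.node (.node (.leaf 13)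
(.leaf 1160))
(.node (.leaf 1179)
(.leaf 0)))
(.node (.node (.leaf 1171)
(.leaf 5342))
(.node (.leaf 1179)
(.leaf 0))))
(.node (.node (.node (.leaf 43)
(.leaf 1177))
(.node (.leaf 1179)
(.leaf 0)))
(.node (.node (.leaf 1179)
(.leaf 5362))
(.node (.leaf 1156)
(.leaf 0)))))))
(.node (.node (.node (.node (.node (.node (.leaf 11)
(.leaf 1179))
(.node (.leaf 1156)
(.leaf 5342)))
(.node (.node (.leaf 43)
(.leaf 1177))
(.node (.leaf 1179)
(.leaf 0))))
(.node (.node (.node (.leaf 11)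
(.leaf 1179))
(.node (.leaf 1161)
(.leaf 0)))
(.node (.node (.leaf 1179)
(.leaf 5316))
(.node (.leaf 1179)
(.leaf 0)))))
(.node (.node (.node (.node (.leaf 11)
(.leaf 1179))
(.node (.leaf 1177)
(.leaf 0)))
(.node (.node (.leaf 1156)
(.leaf 5342))
(.node (.leaf 1177)
(.leaf 0))))
(.node (.node (.node (.leaf 11)
(.leaf 1179))
(.node (.leaf 1177)
(.leaf 0)))
(.node (.node (.leaf 1177)
(.leaf 5316))
(.node (.leaf 1156)
(.leaf 0))))))
(.node (.node (.node (.node (.node (.leaf 11)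
(.leaf 1179))
(.node (.leaf 1177)
(.leaf 0)))
(.node (.node (.leaf 1156)
(.leaf 5323))
(.node (.leaf 1177)
(.leaf 0))))
(.node (.node (.node (.leaf 11)
(.leaf 1161))
(.node (.leaf 1156)
(.leaf 0)))
(.node (.node (.leaf 1177)
(.leaf 5362))
(.node (.leaf 1179)
(.leaf 0)))))
(.node (.node (.node (.node (.leaf 11)
(.leaf 1177))
(.node (.leaf 1177)
(.leaf 0)))
(.node (.node (.leaf 1179)
(.leaf 5342))
(.node (.leaf 1177)
(.leaf 0))))
(.node (.node (.node (.leaf 13)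
(.leaf 1177))
(.node (.leaf 1179)
(.leaf 0)))
(.node (.node (.leaf 1156)
(.leaf 5316))
(.node (.leaf 1177)
(.leaf 0)))))))))))
(.node (.node (.node (.node (.node (.node (.node (.node (.node (.node (.leaf 4)
(.leaf 1161))
(.node (.leaf 1177)
(.leaf 5316)))
(.node (.node (.leaf 11)
(.leaf 1156))
(.node (.leaf 1177)
(.leaf 0))))
(.node (.node (.node (.leaf 13)
(.leaf 1177))
(.node (.leaf 1177)
(.leaf 0)))
(.node (.node (.leaf 1179)
(.leaf 5314))
(.node (.leaf 1177)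
(.leaf 0)))))
(.node (.node (.node (.node (.leaf 11)
(.leaf 1179))
(.node (.leaf 1177)
(.leaf 0)))
(.node (.node (.leaf 1156)
(.leaf 5323))
(.node (.leaf 1177)
(.leaf 0))))
(.node (.node (.node (.leaf 13)
(.leaf 1177))
(.node (.leaf 1156)
(.leaf 0)))
(.node (.node (.leaf 1156)
(.leaf 5342))
(.node (.leaf 1156)
(.leaf 0))))))
(.node (.node (.node (.node (.node (.leaf 11)
(.leaf 1177))
(.node (.leaf 1161)
(.leaf 5362)))
(.node (.node (.leaf 1156)
(.leaf 1179))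
(.node (.leaf 1177)
(.leaf 0))))
(.node (.node (.node (.leaf 13)
(.leaf 1179))
(.node (.leaf 1161)
(.leaf 0)))
(.node (.node (.leaf 1167)
(.leaf 5362))
(.node (.leaf 1177)
(.leaf 0)))))
(.node (.node (.node (.node (.leaf 11)
(.leaf 1179))
(.node (.leaf 1179)
(.leaf 0)))
(.node (.node (.leaf 1177)
(.leaf 5316))
(.node (.leaf 1177)
(.leaf 0))))
(.node (.node (.node (.leaf 13)
(.leaf 1177))
(.node (.leaf 1177)
(.leaf 0)))
(.node (.node (.leaf 1179)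
(.leaf 5342))
(.node (.leaf 1156)
(.leaf 0)))))))
(.node (.node (.node (.node (.node (.node (.leaf 11)
(.leaf 1177))
(.node (.leaf 1156)
(.leaf 5316)))
(.node (.node (.leaf 11)
(.leaf 1179))
(.node (.leaf 1177)
(.leaf 0))))
(.node (.node (.node (.leaf 13)
(.leaf 1177))
(.node (.leaf 1177)
(.leaf 0)))
(.node (.node (.leaf 1177)
(.leaf 5316))
(.node (.leaf 1179)
(.leaf 0)))))
(.node (.node (.node (.node (.leaf 43)
(.leaf 1160))
(.node (.leaf 1177)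
(.leaf 0)))
(.node (.node (.leaf 1158)
(.leaf 5314))
(.node (.leaf 1179)
(.leaf 0))))
(.node (.node (.node (.leaf 11)
(.leaf 1177))
(.node (.leaf 1177)
(.leaf 0)))
(.node (.node (.leaf 1156)
(.leaf 5314))
(.node (.leaf 1179)
(.leaf 0))))))
(.node (.node (.node (.node (.node (.leaf 13)
(.leaf 1177))
(.node (.leaf 1179)
(.leaf 0)))
(.node (.node (.leaf 1158)
(.leaf 5316))
(.node (.leaf 1177)
(.leaf 0))))
(.node (.node (.node (.leaf 11)
(.leaf 1177))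
(.node (.leaf 1179)
(.leaf 0)))
(.node (.node (.leaf 1156)
(.leaf 5342))
(.node (.leaf 1177)
(.leaf 0)))))
(.node (.node (.node (.node (.leaf 11)
(.leaf 1179))
(.node (.leaf 1177)
(.leaf 0)))
(.node (.node (.leaf 1160)
(.leaf 5342))
(.node (.leaf 1158)
(.leaf 0))))
(.node (.node (.node (.leaf 43)
(.leaf 1155))
(.node (.leaf 1179)
(.leaf 0)))
(.node (.node (.leaf 1179)
(.leaf 5362))
(.node (.leaf 1179)
(.leaf 0))))))))
(.node (.node (.node (.node (.node (.node (.node (.leaf 11)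
(.leaf 1177))
(.node (.leaf 1179)
(.leaf 5482)))
(.node (.node (.leaf 13)
(.leaf 1177))
(.node (.leaf 1177)
(.leaf 0))))
(.node (.node (.node (.leaf 11)
(.leaf 1177))
(.node (.leaf 1160)
(.leaf 0)))
(.node (.node (.leaf 1177)
(.leaf 5362))
(.node (.leaf 1156)
(.leaf 0)))))
(.node (.node (.node (.node (.leaf 11)
(.leaf 1179))
(.node (.leaf 1161)
(.leaf 0)))
(.node (.node (.leaf 1179)
(.leaf 5342))
(.node (.leaf 1177)
(.leaf 0))))
(.node (.node (.node (.leaf 13)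
(.leaf 1177))
(.node (.leaf 1177)
(.leaf 0)))
(.node (.node (.leaf 1177)
(.leaf 5342))
(.node (.leaf 1177)
(.leaf 0))))))
(.node (.node (.node (.node (.node (.leaf 11)
(.leaf 1177))
(.node (.leaf 1177)
(.leaf 0)))
(.node (.node (.leaf 1161)
(.leaf 1177))
(.node (.leaf 1177)
(.leaf 0))))
(.node (.node (.node (.leaf 13)
(.leaf 1156))
(.node (.leaf 1167)
(.leaf 0)))
(.node (.node (.leaf 1179)
(.leaf 5342))
(.node (.leaf 1177)
(.leaf 0)))))
(.node (.node (.node (.node (.leaf 11)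
(.leaf 1179))
(.node (.leaf 1177)
(.leaf 0)))
(.node (.node (.leaf 1158)
(.leaf 5314))
(.node (.leaf 1177)
(.leaf 0))))
(.node (.node (.node (.leaf 43)
(.leaf 1177))
(.node (.leaf 1177)
(.leaf 0)))
(.node (.node (.leaf 1179)
(.leaf 5342))
(.node (.leaf 1155)
(.leaf 0)))))))
(.node (.node (.node (.node (.node (.node (.leaf 43)
(.leaf 1177))
(.node (.leaf 1177)
(.leaf 5342)))
(.node (.node (.leaf 11)
(.leaf 1177))
(.node (.leaf 1179)
(.leaf 0))))
(.node (.node (.node (.leaf 11)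
(.leaf 1177))
(.node (.leaf 1161)
(.leaf 0)))
(.node (.node (.leaf 1167)
(.leaf 5342))
(.node (.leaf 1177)
(.leaf 0)))))
(.node (.node (.node (.node (.leaf 11)
(.leaf 1177))
(.node (.leaf 1177)
(.leaf 0)))
(.node (.node (.leaf 1160)
(.leaf 5314))
(.node (.leaf 1167)
(.leaf 0))))
(.node (.node (.node (.leaf 43)
(.leaf 1177))
(.node (.leaf 1156)
(.leaf 0)))
(.node (.node (.leaf 1156)
(.leaf 5362))
(.node (.leaf 1156)
(.leaf 0))))))
(.node (.node (.node (.node (.node (.leaf 11)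
(.leaf 1177))
(.node (.leaf 1179)
(.leaf 0)))
(.node (.node (.leaf 1177)
(.leaf 5313))
(.node (.leaf 1177)
(.leaf 0))))
(.node (.node (.node (.leaf 13)
(.leaf 1177))
(.node (.leaf 1179)
(.leaf 0)))
(.node (.node (.leaf 1179)
(.leaf 5316))
(.node (.leaf 1158)
(.leaf 0)))))
(.node (.node (.node (.node (.leaf 43)
(.leaf 1177))
(.node (.leaf 1177)
(.leaf 0)))
(.node (.node (.leaf 1179)
(.leaf 5362))
(.node (.leaf 1179)
(.leaf 0))))
(.node (.node (.node (.leaf 11)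
(.leaf 1156))
(.node (.leaf 1177)
(.leaf 0)))
(.node (.node (.leaf 1177)
(.leaf 5342))
(.node (.leaf 1155)
(.leaf 0)))))))))
(.node (.node (.node (.node (.node (.node (.node (.node (.leaf 0)
(.leaf 1177))
(.node (.leaf 1177)
(.leaf 5314)))
(.node (.node (.leaf 43)
(.leaf 1156))
(.node (.leaf 1177)
(.leaf 0))))
(.node (.node (.node (.leaf 63)
(.leaf 1179))
(.node (.leaf 1179)
(.leaf 0)))
(.node (.node (.leaf 1177)
(.leaf 5314))
(.node (.leaf 1158)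
(.leaf 0)))))
(.node (.node (.node (.node (.leaf 13)
(.leaf 1177))
(.node (.leaf 1158)
(.leaf 0)))
(.node (.node (.leaf 1161)
(.leaf 5314))
(.node (.leaf 1177)
(.leaf 0))))
(.node (.node (.node (.leaf 11)
(.leaf 1177))
(.node (.leaf 1177)
(.leaf 0)))
(.node (.node (.leaf 1177)
(.leaf 5342))
(.node (.leaf 1177)
(.leaf 0))))))
(.node (.node (.node (.node (.node (.leaf 11)
(.leaf 1179))
(.node (.leaf 1156)
(.leaf 5362)))
(.node (.node (.leaf 1172)
(.leaf 1177))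
(.node (.leaf 1179)
(.leaf 0))))
(.node (.node (.node (.leaf 43)
(.leaf 1179))
(.node (.leaf 1179)
(.leaf 0)))
(.node (.node (.leaf 1156)
(.leaf 5316))
(.node (.leaf 1179)
(.leaf 0)))))
(.node (.node (.node (.node (.leaf 11)
(.leaf 1177))
(.node (.leaf 1177)
(.leaf 0)))
(.node (.node (.leaf 1179)
(.leaf 5342))
(.node (.leaf 1160)
(.leaf 0))))
(.node (.node (.node (.leaf 11)
(.leaf 1179))
(.node (.leaf 1177)
(.leaf 0)))
(.node (.node (.leaf 1156)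
(.leaf 5482))
(.node (.leaf 1177)
(.leaf 0)))))))
(.node (.node (.node (.node (.node (.node (.leaf 13)
(.leaf 1177))
(.node (.leaf 1177)
(.leaf 5342)))
(.node (.node (.leaf 11)
(.leaf 1177))
(.node (.leaf 1158)
(.leaf 0))))
(.node (.node (.node (.leaf 11)
(.leaf 1177))
(.node (.leaf 1177)
(.leaf 0)))
(.node (.node (.leaf 1179)
(.leaf 5314))
(.node (.leaf 1177)
(.leaf 0)))))
(.node (.node (.node (.node (.leaf 11)
(.leaf 1177))
(.node (.leaf 1177)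
(.leaf 0)))
(.node (.node (.leaf 1161)
(.leaf 5314))
(.node (.leaf 1177)
(.leaf 0))))
(.node (.node (.node (.leaf 13)
(.leaf 1156))
(.node (.leaf 1179)
(.leaf 0)))
(.node (.node (.leaf 1156)
(.leaf 5314))
(.node (.leaf 1156)
(.leaf 0))))))
(.node (.node (.node (.node (.node (.leaf 11)
(.leaf 1179))
(.node (.leaf 1177)
(.leaf 0)))
(.node (.node (.leaf 1156)
(.leaf 5323))
(.node (.leaf 1179)
(.leaf 0))))
(.node (.node (.node (.leaf 43)
(.leaf 1177))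
(.node (.leaf 1179)
(.leaf 0)))
(.node (.node (.leaf 1177)
(.leaf 5314))
(.node (.leaf 1177)
(.leaf 0)))))
(.node (.node (.node (.node (.leaf 13)
(.leaf 1156))
(.node (.leaf 1161)
(.leaf 0)))
(.node (.node (.leaf 1158)
(.leaf 5316))
(.node (.leaf 1177)
(.leaf 0))))
(.node (.node (.node (.leaf 11)
(.leaf 1161))
(.node (.leaf 1177)
(.leaf 0)))
(.node (.node (.leaf 1156)
(.leaf 5362))
(.node (.leaf 1179)
(.leaf 0))))))))
(.node (.node (.node (.node (.node (.node (.node (.leaf 11)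
(.leaf 1177))
(.node (.leaf 1179)
(.leaf 5342)))
(.node (.node (.leaf 43)
(.leaf 1177))
(.node (.leaf 1177)
(.leaf 0))))
(.node (.node (.node (.leaf 63)
(.leaf 1177))
(.node (.leaf 1179)
(.leaf 0)))
(.node (.node (.leaf 1177)
(.leaf 5342))
(.node (.leaf 1156)
(.leaf 0)))))
(.node (.node (.node (.node (.leaf 13)
(.leaf 1177))
(.node (.leaf 1179)
(.leaf 0)))
(.node (.node (.leaf 1177)
(.leaf 5316))
(.node (.leaf 1177)
(.leaf 0))))
(.node (.node (.node (.leaf 13)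
(.leaf 1179))
(.node (.leaf 1177)
(.leaf 0)))
(.node (.node (.leaf 1156)
(.leaf 5342))
(.node (.leaf 1179)
(.leaf 0))))))
(.node (.node (.node (.node (.node (.leaf 11)
(.leaf 1179))
(.node (.leaf 1158)
(.leaf 0)))
(.node (.node (.leaf 1161)
(.leaf 1177))
(.node (.leaf 1177)
(.leaf 0))))
(.node (.node (.node (.leaf 11)
(.leaf 1177))
(.node (.leaf 1177)
(.leaf 0)))
(.node (.node (.leaf 1167)
(.leaf 5342))
(.node (.leaf 1156)
(.leaf 0)))))
(.node (.node (.node (.node (.leaf 43)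
(.leaf 1179))
(.node (.leaf 1177)
(.leaf 0)))
(.node (.node (.leaf 1167)
(.leaf 5314))
(.node (.leaf 1156)
(.leaf 0))))
(.node (.node (.node (.leaf 4)
(.leaf 1177))
(.node (.leaf 1179)
(.leaf 0)))
(.node (.node (.leaf 1155)
(.leaf 5342))
(.node (.leaf 1177)
(.leaf 0)))))))
(.node (.node (.node (.node (.node (.node (.leaf 13)
(.leaf 1179))
(.node (.leaf 1156)
(.leaf 5362)))
(.node (.node (.leaf 43)
(.leaf 1177))
(.node (.leaf 1179)
(.leaf 0))))
(.node (.node (.node (.leaf 13)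
(.leaf 1179))
(.node (.leaf 1177)
(.leaf 0)))
(.node (.node (.leaf 1177)
(.leaf 5342))
(.node (.leaf 1179)
(.leaf 0)))))
(.node (.node (.node (.node (.leaf 11)
(.leaf 1177))
(.node (.leaf 1179)
(.leaf 0)))
(.node (.node (.leaf 1158)
(.leaf 5316))
(.node (.leaf 1179)
(.leaf 0))))
(.node (.node (.node (.leaf 13)
(.leaf 1177))
(.node (.leaf 1179)
(.leaf 0)))
(.node (.node (.leaf 1158)
(.leaf 5362))
(.node (.leaf 1177)
(.leaf 0))))))
(.node (.node (.node (.node (.node (.leaf 0)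
(.leaf 1177))
(.node (.leaf 1179)
(.leaf 0)))
(.node (.node (.leaf 1179)
(.leaf 5314))
(.node (.leaf 1156)
(.leaf 0))))
(.node (.node (.node (.leaf 13)
(.leaf 1179))
(.node (.leaf 1158)
(.leaf 0)))
(.node (.node (.leaf 1177)
(.leaf 5342))
(.node (.leaf 1177)
(.leaf 0)))))
(.node (.node (.node (.node (.leaf 11)
(.leaf 1177))
(.node (.leaf 1177)
(.leaf 0)))
(.node (.node (.leaf 1155)
(.leaf 5316))
(.node (.leaf 1177)
(.leaf 0))))
(.node (.node (.node (.leaf 13)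
(.leaf 1177))
(.node (.leaf 1177)
(.leaf 0)))
(.node (.node (.leaf 1177)
(.leaf 5342))
(.node (.leaf 1179)
(.leaf 0))))))))))
(.node (.node (.node (.node (.node (.node (.node (.node (.node (.leaf 11)
(.leaf 1179))
(.node (.leaf 1179)
(.leaf 5342)))
(.node (.node (.leaf 11)
(.leaf 1177))
(.node (.leaf 1179)
(.leaf 0))))
(.node (.node (.node (.leaf 11)
(.leaf 1179))
(.node (.leaf 1177)
(.leaf 0)))
(.node (.node (.leaf 1177)
(.leaf 5342))
(.node (.leaf 1177)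
(.leaf 0)))))
(.node (.node (.node (.node (.leaf 11)
(.leaf 1177))
(.node (.leaf 1158)
(.leaf 0)))
(.node (.node (.leaf 1171)
(.leaf 5316))
(.node (.leaf 1177)
(.leaf 0))))
(.node (.node (.node (.leaf 11)
(.leaf 1158))
(.node (.leaf 1177)
(.leaf 0)))
(.node (.node (.leaf 1177)
(.leaf 5342))
(.node (.leaf 1177)
(.leaf 0))))))
(.node (.node (.node (.node (.node (.leaf 43)
(.leaf 1179))
(.node (.leaf 1156)
(.leaf 5323)))
(.node (.node (.leaf 1156)
(.leaf 1177))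
(.node (.leaf 1177)
(.leaf 0))))
(.node (.node (.node (.leaf 11)
(.leaf 1177))
(.node (.leaf 1160)
(.leaf 0)))
(.node (.node (.leaf 1156)
(.leaf 5316))
(.node (.leaf 1177)
(.leaf 0)))))
(.node (.node (.node (.node (.leaf 43)
(.leaf 1167))
(.node (.leaf 1179)
(.leaf 0)))
(.node (.node (.leaf 1158)
(.leaf 5342))
(.node (.leaf 1177)
(.leaf 0))))
(.node (.node (.node (.leaf 13)
(.leaf 1156))
(.node (.leaf 1156)
(.leaf 0)))
(.node (.node (.leaf 1179)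
(.leaf 5342))
(.node (.leaf 1177)
(.leaf 0)))))))
(.node (.node (.node (.node (.node (.node (.leaf 11)
(.leaf 1177))
(.node (.leaf 1177)
(.leaf 5362)))
(.node (.node (.leaf 43)
(.leaf 1177))
(.node (.leaf 1179)
(.leaf 0))))
(.node (.node (.node (.leaf 11)
(.leaf 1179))
(.node (.leaf 1177)
(.leaf 0)))
(.node (.node (.leaf 1179)
(.leaf 5362))
(.node (.leaf 1179)
(.leaf 0)))))
(.node (.node (.node (.node (.leaf 13)
(.leaf 1177))
(.node (.leaf 1177)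
(.leaf 0)))
(.node (.node (.leaf 1161)
(.leaf 5313))
(.node (.leaf 1177)
(.leaf 0))))
(.node (.node (.node (.leaf 13)
(.leaf 1177))
(.node (.leaf 1161)
(.leaf 0)))
(.node (.node (.leaf 1179)
(.leaf 5342))
(.node (.leaf 1177)
(.leaf 0))))))
(.node (.node (.node (.node (.node (.leaf 11)
(.leaf 1179))
(.node (.leaf 1160)
(.leaf 0)))
(.node (.node (.leaf 1156)
(.leaf 5314))
(.node (.leaf 1156)
(.leaf 0))))
(.node (.node (.node (.leaf 43)
(.leaf 1177))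
(.node (.leaf 1177)
(.leaf 0)))
(.node (.node (.leaf 1158)
(.leaf 5342))
(.node (.leaf 1177)
(.leaf 0)))))
(.node (.node (.node (.node (.leaf 11)
(.leaf 1177))
(.node (.leaf 1155)
(.leaf 0)))
(.node (.node (.leaf 1158)
(.leaf 5342))
(.node (.leaf 1179)
(.leaf 0))))
(.node (.node (.node (.leaf 11)
(.leaf 1160))
(.node (.leaf 1177)
(.leaf 0)))
(.node (.node (.leaf 1177)
(.leaf 5316))
(.node (.leaf 1158)
(.leaf 0))))))))
(.node (.node (.node (.node (.node (.node (.node (.leaf 11)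
(.leaf 1177))
(.node (.leaf 1177)
(.leaf 5362)))
(.node (.node (.leaf 13)
(.leaf 1156))
(.node (.leaf 1156)
(.leaf 0))))
(.node (.node (.node (.leaf 11)
(.leaf 1177))
(.node (.leaf 1179)
(.leaf 0)))
(.node (.node (.leaf 1177)
(.leaf 5342))
(.node (.leaf 1179)
(.leaf 0)))))
(.node (.node (.node (.node (.leaf 13)
(.leaf 1177))
(.node (.leaf 1179)
(.leaf 0)))
(.node (.node (.leaf 1158)
(.leaf 5342))
(.node (.leaf 1177)
(.leaf 0))))
(.node (.node (.node (.leaf 11)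
(.leaf 1177))
(.node (.leaf 1179)
(.leaf 0)))
(.node (.node (.leaf 1179)
(.leaf 5342))
(.node (.leaf 1179)
(.leaf 0))))))
(.node (.node (.node (.node (.node (.leaf 11)
(.leaf 1177))
(.node (.leaf 1179)
(.leaf 0)))
(.node (.node (.leaf 1179)
(.leaf 1179))
(.node (.leaf 1156)
(.leaf 0))))
(.node (.node (.node (.leaf 13)
(.leaf 1158))
(.node (.leaf 1177)
(.leaf 0)))
(.node (.node (.leaf 1161)
(.leaf 5342))
(.node (.leaf 1179)
(.leaf 0)))))
(.node (.node (.node (.node (.leaf 0)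
(.leaf 1161))
(.node (.leaf 1179)
(.leaf 0)))
(.node (.node (.leaf 1156)
(.leaf 5362))
(.node (.leaf 1177)
(.leaf 0))))
(.node (.node (.node (.leaf 13)
(.leaf 1179))
(.node (.leaf 1179)
(.leaf 0)))
(.node (.node (.leaf 1177)
(.leaf 5482))
(.node (.leaf 1179)
(.leaf 0)))))))
(.node (.node (.node (.node (.node (.node (.leaf 11)
(.leaf 1179))
(.node (.leaf 1161)
(.leaf 5342)))
(.node (.node (.leaf 43)
(.leaf 1160))
(.node (.leaf 1179)
(.leaf 0))))
(.node (.node (.node (.leaf 11)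
(.leaf 1177))
(.node (.leaf 1179)
(.leaf 0)))
(.node (.node (.leaf 1179)
(.leaf 5342))
(.node (.leaf 1177)
(.leaf 0)))))
(.node (.node (.node (.node (.leaf 11)
(.leaf 1177))
(.node (.leaf 1177)
(.leaf 0)))
(.node (.node (.leaf 1161)
(.leaf 5314))
(.node (.leaf 1156)
(.leaf 0))))
(.node (.node (.node (.leaf 11)
(.leaf 1177))
(.node (.leaf 1177)
(.leaf 0)))
(.node (.node (.leaf 1158)
(.leaf 5342))
(.node (.leaf 1156)
(.leaf 0))))))
(.node (.node (.node (.node (.node (.leaf 11)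
(.leaf 1177))
(.node (.leaf 1177)
(.leaf 0)))
(.node (.node (.leaf 1177)
(.leaf 5314))
(.node (.leaf 1160)
(.leaf 0))))
(.node (.node (.node (.leaf 11)
(.leaf 1179))
(.node (.leaf 1179)
(.leaf 0)))
(.node (.node (.leaf 1156)
(.leaf 5342))
(.node (.leaf 1177)
(.leaf 0)))))
(.node (.node (.node (.node (.leaf 11)
(.leaf 1177))
(.node (.leaf 1177)
(.leaf 0)))
(.node (.node (.leaf 1179)
(.leaf 5316))
(.node (.leaf 1179)
(.leaf 0))))
(.node (.node (.node (.leaf 11)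
(.leaf 1177))
(.node (.leaf 1177)
(.leaf 0)))
(.node (.node (.leaf 1177)
(.leaf 5482))
(.node (.leaf 1155)
(.leaf 0)))))))))
(.node (.node (.node (.node (.node (.node (.node (.node (.leaf 0)
(.leaf 1177))
(.node (.leaf 1177)
(.leaf 5316)))
(.node (.node (.leaf 43)
(.leaf 1179))
(.node (.leaf 1177)
(.leaf 0))))
(.node (.node (.node (.leaf 11)
(.leaf 1179))
(.node (.leaf 1161)
(.leaf 0)))
(.node (.node (.leaf 1177)
(.leaf 5362))
(.node (.leaf 1156)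
(.leaf 0)))))
(.node (.node (.node (.node (.leaf 11)
(.leaf 1177))
(.node (.leaf 1179)
(.leaf 0)))
(.node (.node (.leaf 1158)
(.leaf 5342))
(.node (.leaf 1177)
(.leaf 0))))
(.node (.node (.node (.leaf 0)
(.leaf 1179))
(.node (.leaf 1179)
(.leaf 0)))
(.node (.node (.leaf 1177)
(.leaf 5342))
(.node (.leaf 1177)
(.leaf 0))))))
(.node (.node (.node (.node (.node (.leaf 43)
(.leaf 1177))
(.node (.leaf 1156)
(.leaf 5362)))
(.node (.node (.leaf 1155)
(.leaf 1177))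
(.node (.leaf 1177)
(.leaf 0))))
(.node (.node (.node (.leaf 11)
(.leaf 1177))
(.node (.leaf 1179)
(.leaf 0)))
(.node (.node (.leaf 1167)
(.leaf 5342))
(.node (.leaf 1179)
(.leaf 0)))))
(.node (.node (.node (.node (.leaf 0)
(.leaf 1177))
(.node (.leaf 1179)
(.leaf 0)))
(.node (.node (.leaf 1177)
(.leaf 5314))
(.node (.leaf 1179)
(.leaf 0))))
(.node (.node (.node (.leaf 13)
(.leaf 1177))
(.node (.leaf 1177)
(.leaf 0)))
(.node (.node (.leaf 1156)
(.leaf 5342))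
(.node (.leaf 1177)
(.leaf 0)))))))
(.node (.node (.node (.node (.node (.node (.leaf 11)
(.leaf 1177))
(.node (.leaf 1177)
(.leaf 5342)))
(.node (.node (.leaf 13)
(.leaf 1179))
(.node (.leaf 1179)
(.leaf 0))))
(.node (.node (.node (.leaf 13)
(.leaf 1179))
(.node (.leaf 1179)
(.leaf 0)))
(.node (.node (.leaf 1167)
(.leaf 5323))
(.node (.leaf 1179)
(.leaf 0)))))
(.node (.node (.node (.node (.leaf 11)
(.leaf 1161))
(.node (.leaf 1155)
(.leaf 0)))
(.node (.node (.leaf 1167)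
(.leaf 5342))
(.node (.leaf 1177)
(.leaf 0))))
(.node (.node (.node (.leaf 43)
(.leaf 1177))
(.node (.leaf 1158)
(.leaf 0)))
(.node (.node (.leaf 1158)
(.leaf 5342))
(.node (.leaf 1179)
(.leaf 0))))))
(.node (.node (.node (.node (.node (.leaf 11)
(.leaf 1167))
(.node (.leaf 1177)
(.leaf 0)))
(.node (.node (.leaf 1179)
(.leaf 5314))
(.node (.leaf 1177)
(.leaf 0))))
(.node (.node (.node (.leaf 13)
(.leaf 1177))
(.node (.leaf 1179)
(.leaf 0)))
(.node (.node (.leaf 1177)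
(.leaf 5362))
(.node (.leaf 1177)
(.leaf 0)))))
(.node (.node (.node (.node (.leaf 0)
(.leaf 1158))
(.node (.leaf 1177)
(.leaf 0)))
(.node (.node (.leaf 1177)
(.leaf 5342))
(.node (.leaf 1177)
(.leaf 0))))
(.node (.node (.node (.leaf 43)
(.leaf 1177))
(.node (.leaf 1177)
(.leaf 0)))
(.node (.node (.leaf 1177)
(.leaf 5342))
(.node (.leaf 1158)
(.leaf 0))))))))
(.node (.node (.node (.node (.node (.node (.node (.leaf 0)
(.leaf 1177))
(.node (.leaf 1179)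
(.leaf 5342)))
(.node (.node (.leaf 43)
(.leaf 1177))
(.node (.leaf 1177)
(.leaf 0))))
(.node (.node (.node (.leaf 43)
(.leaf 1179))
(.node (.leaf 1167)
(.leaf 0)))
(.node (.node (.leaf 1161)
(.leaf 5342))
(.node (.leaf 1179)
(.leaf 0)))))
(.node (.node (.node (.node (.leaf 11)
(.leaf 1177))
(.node (.leaf 1177)
(.leaf 0)))
(.node (.node (.leaf 1156)
(.leaf 5314))
(.node (.leaf 1177)
(.leaf 0))))
(.node (.node (.node (.leaf 13)
(.leaf 1179))
(.node (.leaf 1177)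
(.leaf 0)))
(.node (.node (.leaf 1179)
(.leaf 5314))
(.node (.leaf 1177)
(.leaf 0))))))
(.node (.node (.node (.node (.node (.leaf 43)
(.leaf 1167))
(.node (.leaf 1177)
(.leaf 0)))
(.node (.node (.leaf 1156)
(.leaf 1179))
(.node (.leaf 1177)
(.leaf 0))))
(.node (.node (.node (.leaf 13)
(.leaf 1177))
(.node (.leaf 1177)
(.leaf 0)))
(.node (.node (.leaf 1158)
(.leaf 5342))
(.node (.leaf 1179)
(.leaf 0)))))
(.node (.node (.node (.node (.leaf 13)
(.leaf 1161))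
(.node (.leaf 1177)
(.leaf 0)))
(.node (.node (.leaf 1158)
(.leaf 5342))
(.node (.leaf 1158)
(.leaf 0))))
(.node (.node (.node (.leaf 63)
(.leaf 1161))
(.node (.leaf 1177)
(.leaf 0)))
(.node (.node (.leaf 1156)
(.leaf 5342))
(.node (.leaf 1179)
(.leaf 0)))))))
(.node (.node (.node (.node (.node (.node (.leaf 13)
(.leaf 1177))
(.node (.leaf 1161)
(.leaf 5314)))
(.node (.node (.leaf 13)
(.leaf 1161))
(.node (.leaf 1179)
(.leaf 0))))
(.node (.node (.node (.leaf 13)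
(.leaf 1179))
(.node (.leaf 1179)
(.leaf 0)))
(.node (.node (.leaf 1179)
(.leaf 5342))
(.node (.leaf 1158)
(.leaf 0)))))
(.node (.node (.node (.node (.leaf 13)
(.leaf 1177))
(.node (.leaf 1177)
(.leaf 0)))
(.node (.node (.leaf 1179)
(.leaf 5316))
(.node (.leaf 1179)
(.leaf 0))))
(.node (.node (.node (.leaf 43)
(.leaf 1177))
(.node (.leaf 1156)
(.leaf 0)))
(.node (.node (.leaf 1161)
(.leaf 5362))
(.node (.leaf 1179)
(.leaf 0))))))
(.node (.node (.node (.node (.node (.leaf 11)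
(.leaf 1177))
(.node (.leaf 1177)
(.leaf 0)))
(.node (.node (.leaf 1156)
(.leaf 5313))
(.node (.leaf 1156)
(.leaf 0))))
(.node (.node (.node (.leaf 11)
(.leaf 1177))
(.node (.leaf 1179)
(.leaf 0)))
(.node (.node (.leaf 1177)
(.leaf 5314))
(.node (.leaf 1177)
(.leaf 0)))))
(.node (.node (.node (.node (.leaf 13)
(.leaf 1177))
(.node (.leaf 1177)
(.leaf 0)))
(.node (.node (.leaf 1177)
(.leaf 5314))
(.node (.leaf 1177)
(.leaf 0))))
(.node (.node (.node (.leaf 13)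
(.leaf 1177))
(.node (.leaf 1177)
(.leaf 0)))
(.node (.node (.leaf 1158)
(.leaf 5342))
(.node (.leaf 1177)
(.leaf 0))))))))))))
(.node (.node (.node (.node (.node (.node (.node (.node (.node (.node (.node (.leaf 0)
(.leaf 1160))
(.node (.leaf 1177)
(.leaf 5342)))
(.node (.node (.leaf 13)
(.leaf 1177))
(.node (.leaf 1177)
(.leaf 0))))
(.node (.node (.node (.leaf 13)
(.leaf 1177))
(.node (.leaf 1161)
(.leaf 0)))
(.node (.node (.leaf 1179)
(.leaf 5314))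
(.node (.leaf 1177)
(.leaf 0)))))
(.node (.node (.node (.node (.leaf 13)
(.leaf 1177))
(.node (.leaf 1179)
(.leaf 0)))
(.node (.node (.leaf 1160)
(.leaf 5316))
(.node (.leaf 1179)
(.leaf 0))))
(.node (.node (.node (.leaf 11)
(.leaf 1177))
(.node (.leaf 1156)
(.leaf 0)))
(.node (.node (.leaf 1177)
(.leaf 5342))
(.node (.leaf 1179)
(.leaf 0))))))
(.node (.node (.node (.node (.node (.leaf 11)
(.leaf 1179))
(.node (.leaf 1177)
(.leaf 5362)))
(.node (.node (.leaf 13)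
(.leaf 1177))
(.node (.leaf 1177)
(.leaf 0))))
(.node (.node (.node (.leaf 0)
(.leaf 1177))
(.node (.leaf 1177)
(.leaf 0)))
(.node (.node (.leaf 1177)
(.leaf 5314))
(.node (.leaf 1179)
(.leaf 0)))))
(.node (.node (.node (.node (.leaf 11)
(.leaf 1177))
(.node (.leaf 1177)
(.leaf 0)))
(.node (.node (.leaf 1156)
(.leaf 5323))
(.node (.leaf 1161)
(.leaf 0))))
(.node (.node (.node (.leaf 0)
(.leaf 1156))
(.node (.leaf 1156)
(.leaf 0)))
(.node (.node (.leaf 1177)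
(.leaf 5316))
(.node (.leaf 1158)
(.leaf 0)))))))
(.node (.node (.node (.node (.node (.node (.leaf 0)
(.leaf 1177))
(.node (.leaf 1177)
(.leaf 5342)))
(.node (.node (.leaf 13)
(.leaf 1177))
(.node (.leaf 1177)
(.leaf 0))))
(.node (.node (.node (.leaf 11)
(.leaf 1156))
(.node (.leaf 1177)
(.leaf 0)))
(.node (.node (.leaf 1179)
(.leaf 5342))
(.node (.leaf 1177)
(.leaf 0)))))
(.node (.node (.node (.node (.leaf 11)
(.leaf 1179))
(.node (.leaf 1177)
(.leaf 0)))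
(.node (.node (.leaf 1156)
(.leaf 5314))
(.node (.leaf 1179)
(.leaf 0))))
(.node (.node (.node (.leaf 13)
(.leaf 1179))
(.node (.leaf 1179)
(.leaf 0)))
(.node (.node (.leaf 1177)
(.leaf 5342))
(.node (.leaf 1179)
(.leaf 0))))))
(.node (.node (.node (.node (.node (.leaf 13)
(.leaf 1177))
(.node (.leaf 1177)
(.leaf 0)))
(.node (.node (.leaf 1156)
(.leaf 5314))
(.node (.leaf 1179)
(.leaf 0))))
(.node (.node (.node (.leaf 11)
(.leaf 1177))
(.node (.leaf 1177)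
(.leaf 0)))
(.node (.node (.leaf 1177)
(.leaf 5342))
(.node (.leaf 1177)
(.leaf 0)))))
(.node (.node (.node (.node (.leaf 43)
(.leaf 1177))
(.node (.leaf 1161)
(.leaf 0)))
(.node (.node (.leaf 1156)
(.leaf 5342))
(.node (.leaf 1156)
(.leaf 0))))
(.node (.node (.node (.leaf 4)
(.leaf 1177))
(.node (.leaf 1179)
(.leaf 0)))
(.node (.node (.leaf 1156)
(.leaf 5314))
(.node (.leaf 1158)
(.leaf 0))))))))
(.node (.node (.node (.node (.node (.node (.node (.leaf 0)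
(.leaf 1179))
(.node (.leaf 1177)
(.leaf 5314)))
(.node (.node (.leaf 13)
(.leaf 1177))
(.node (.leaf 1177)
(.leaf 0))))
(.node (.node (.node (.leaf 11)
(.leaf 1179))
(.node (.leaf 1160)
(.leaf 0)))
(.node (.node (.leaf 1161)
(.leaf 5342))
(.node (.leaf 1156)
(.leaf 0)))))
(.node (.node (.node (.node (.leaf 11)
(.leaf 1179))
(.node (.leaf 1177)
(.leaf 0)))
(.node (.node (.leaf 1179)
(.leaf 5342))
(.node (.leaf 1177)
(.leaf 0))))
(.node (.node (.node (.leaf 11)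
(.leaf 1177))
(.node (.leaf 1177)
(.leaf 0)))
(.node (.node (.leaf 1179)
(.leaf 5314))
(.node (.leaf 1167)
(.leaf 0))))))
(.node (.node (.node (.node (.node (.leaf 13)
(.leaf 1177))
(.node (.leaf 1158)
(.leaf 0)))
(.node (.node (.leaf 1161)
(.leaf 1177))
(.node (.leaf 1177)
(.leaf 0))))
(.node (.node (.node (.leaf 11)
(.leaf 1158))
(.node (.leaf 1177)
(.leaf 0)))
(.node (.node (.leaf 1179)
(.leaf 5342))
(.node (.leaf 1177)
(.leaf 0)))))
(.node (.node (.node (.node (.leaf 11)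
(.leaf 1177))
(.node (.leaf 1177)
(.leaf 0)))
(.node (.node (.leaf 1158)
(.leaf 5342))
(.node (.leaf 1177)
(.leaf 0))))
(.node (.node (.node (.leaf 11)
(.leaf 1179))
(.node (.leaf 1177)
(.leaf 0)))
(.node (.node (.leaf 1160)
(.leaf 5342))
(.node (.leaf 1158)
(.leaf 0)))))))
(.node (.node (.node (.node (.node (.node (.leaf 11)
(.leaf 1179))
(.node (.leaf 1177)
(.leaf 5362)))
(.node (.node (.leaf 63)
(.leaf 1179))
(.node (.leaf 1177)
(.leaf 0))))
(.node (.node (.node (.leaf 11)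
(.leaf 1177))
(.node (.leaf 1177)
(.leaf 0)))
(.node (.node (.leaf 1161)
(.leaf 5482))
(.node (.leaf 1158)
(.leaf 0)))))
(.node (.node (.node (.node (.leaf 13)
(.leaf 1177))
(.node (.leaf 1177)
(.leaf 0)))
(.node (.node (.leaf 1160)
(.leaf 5314))
(.node (.leaf 1177)
(.leaf 0))))
(.node (.node (.node (.leaf 43)
(.leaf 1158))
(.node (.leaf 1177)
(.leaf 0)))
(.node (.node (.leaf 1179)
(.leaf 5316))
(.node (.leaf 1156)
(.leaf 0))))))
(.node (.node (.node (.node (.node (.leaf 63)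
(.leaf 1177))
(.node (.leaf 1177)
(.leaf 0)))
(.node (.node (.leaf 1155)
(.leaf 5314))
(.node (.leaf 1167)
(.leaf 0))))
(.node (.node (.node (.leaf 11)
(.leaf 1177))
(.node (.leaf 1160)
(.leaf 0)))
(.node (.node (.leaf 1179)
(.leaf 5342))
(.node (.leaf 1177)
(.leaf 0)))))
(.node (.node (.node (.node (.leaf 13)
(.leaf 1156))
(.node (.leaf 1179)
(.leaf 0)))
(.node (.node (.leaf 1179)
(.leaf 5342))
(.node (.leaf 1177)
(.leaf 0))))
(.node (.node (.node (.leaf 63)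
(.leaf 1156))
(.node (.leaf 1179)
(.leaf 0)))
(.node (.node (.leaf 1177)
(.leaf 5362))
(.node (.leaf 1177)
(.leaf 0)))))))))
(.node (.node (.node (.node (.node (.node (.node (.node (.leaf 4)
(.leaf 1177))
(.node (.leaf 1177)
(.leaf 5342)))
(.node (.node (.leaf 13)
(.leaf 1177))
(.node (.leaf 1177)
(.leaf 0))))
(.node (.node (.node (.leaf 43)
(.leaf 1161))
(.node (.leaf 1179)
(.leaf 0)))
(.node (.node (.leaf 1179)
(.leaf 5314))
(.node (.leaf 1161)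
(.leaf 0)))))
(.node (.node (.node (.node (.leaf 43)
(.leaf 1161))
(.node (.leaf 1158)
(.leaf 0)))
(.node (.node (.leaf 1161)
(.leaf 5314))
(.node (.leaf 1179)
(.leaf 0))))
(.node (.node (.node (.leaf 13)
(.leaf 1177))
(.node (.leaf 1177)
(.leaf 0)))
(.node (.node (.leaf 1156)
(.leaf 5314))
(.node (.leaf 1177)
(.leaf 0))))))
(.node (.node (.node (.node (.node (.leaf 11)
(.leaf 1177))
(.node (.leaf 1177)
(.leaf 5362)))
(.node (.node (.leaf 1156)
(.leaf 1177))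
(.node (.leaf 1156)
(.leaf 0))))
(.node (.node (.node (.leaf 13)
(.leaf 1177))
(.node (.leaf 1179)
(.leaf 0)))
(.node (.node (.leaf 1156)
(.leaf 5342))
(.node (.leaf 1179)
(.leaf 0)))))
(.node (.node (.node (.node (.leaf 43)
(.leaf 1177))
(.node (.leaf 1177)
(.leaf 0)))
(.node (.node (.leaf 1156)
(.leaf 5316))
(.node (.leaf 1177)
(.leaf 0))))
(.node (.node (.node (.leaf 11)
(.leaf 1177))
(.node (.leaf 1177)
(.leaf 0)))
(.node (.node (.leaf 1177)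
(.leaf 5314))
(.node (.leaf 1179)
(.leaf 0)))))))
(.node (.node (.node (.node (.node (.node (.leaf 43)
(.leaf 1177))
(.node (.leaf 1179)
(.leaf 5342)))
(.node (.node (.leaf 13)
(.leaf 1177))
(.node (.leaf 1177)
(.leaf 0))))
(.node (.node (.node (.leaf 11)
(.leaf 1177))
(.node (.leaf 1179)
(.leaf 0)))
(.node (.node (.leaf 1160)
(.leaf 5316))
(.node (.leaf 1179)
(.leaf 0)))))
(.node (.node (.node (.node (.leaf 13)
(.leaf 1179))
(.node (.leaf 1177)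
(.leaf 0)))
(.node (.node (.leaf 1161)
(.leaf 5342))
(.node (.leaf 1177)
(.leaf 0))))
(.node (.node (.node (.leaf 0)
(.leaf 1179))
(.node (.leaf 1177)
(.leaf 0)))
(.node (.node (.leaf 1158)
(.leaf 5342))
(.node (.leaf 1179)
(.leaf 0))))))
(.node (.node (.node (.node (.node (.leaf 43)
(.leaf 1161))
(.node (.leaf 1177)
(.leaf 0)))
(.node (.node (.leaf 1156)
(.leaf 5316))
(.node (.leaf 1179)
(.leaf 0))))
(.node (.node (.node (.leaf 13)
(.leaf 1177))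
(.node (.leaf 1177)
(.leaf 0)))
(.node (.node (.leaf 1156)
(.leaf 5342))
(.node (.leaf 1179)
(.leaf 0)))))
(.node (.node (.node (.node (.leaf 13)
(.leaf 1179))
(.node (.leaf 1177)
(.leaf 0)))
(.node (.node (.leaf 1179)
(.leaf 5342))
(.node (.leaf 1158)
(.leaf 0))))
(.node (.node (.node (.leaf 11)
(.leaf 1177))
(.node (.leaf 1177)
(.leaf 0)))
(.node (.node (.leaf 1156)
(.leaf 5316))
(.node (.leaf 1177)
(.leaf 0))))))))
(.node (.node (.node (.node (.node (.node (.node (.leaf 13)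
(.leaf 1179))
(.node (.leaf 1179)
(.leaf 5342)))
(.node (.node (.leaf 0)
(.leaf 1177))
(.node (.leaf 1156)
(.leaf 0))))
(.node (.node (.node (.leaf 43)
(.leaf 1177))
(.node (.leaf 1177)
(.leaf 0)))
(.node (.node (.leaf 1161)
(.leaf 5362))
(.node (.leaf 1156)
(.leaf 0)))))
(.node (.node (.node (.node (.leaf 11)
(.leaf 1179))
(.node (.leaf 1177)
(.leaf 0)))
(.node (.node (.leaf 1156)
(.leaf 5342))
(.node (.leaf 1177)
(.leaf 0))))
(.node (.node (.node (.leaf 43)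
(.leaf 1177))
(.node (.leaf 1179)
(.leaf 0)))
(.node (.node (.leaf 1156)
(.leaf 5342))
(.node (.leaf 1177)
(.leaf 0))))))
(.node (.node (.node (.node (.node (.leaf 13)
(.leaf 1179))
(.node (.leaf 1179)
(.leaf 0)))
(.node (.node (.leaf 1161)
(.leaf 1161))
(.node (.leaf 1179)
(.leaf 0))))
(.node (.node (.node (.leaf 43)
(.leaf 1177))
(.node (.leaf 1177)
(.leaf 0)))
(.node (.node (.leaf 1177)
(.leaf 5342))
(.node (.leaf 1156)
(.leaf 0)))))
(.node (.node (.node (.node (.leaf 43)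
(.leaf 1177))
(.node (.leaf 1179)
(.leaf 0)))
(.node (.node (.leaf 1167)
(.leaf 5342))
(.node (.leaf 1156)
(.leaf 0))))
(.node (.node (.node (.leaf 43)
(.leaf 1179))
(.node (.leaf 1179)
(.leaf 0)))
(.node (.node (.leaf 1177)
(.leaf 5342))
(.node (.leaf 1179)
(.leaf 0)))))))
(.node (.node (.node (.node (.node (.node (.leaf 11)
(.leaf 1155))
(.node (.leaf 1161)
(.leaf 5362)))
(.node (.node (.leaf 43)
(.leaf 1179))
(.node (.leaf 1177)
(.leaf 0))))
(.node (.node (.node (.leaf 43)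
(.leaf 1161))
(.node (.leaf 1179)
(.leaf 0)))
(.node (.node (.leaf 1177)
(.leaf 5342))
(.node (.leaf 1179)
(.leaf 0)))))
(.node (.node (.node (.node (.leaf 11)
(.leaf 1177))
(.node (.leaf 1179)
(.leaf 0)))
(.node (.node (.leaf 1156)
(.leaf 5482))
(.node (.leaf 1179)
(.leaf 0))))
(.node (.node (.node (.leaf 13)
(.leaf 1177))
(.node (.leaf 1155)
(.leaf 0)))
(.node (.node (.leaf 1177)
(.leaf 5342))
(.node (.leaf 1177)
(.leaf 0))))))
(.node (.node (.node (.node (.node (.leaf 11)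
(.leaf 1158))
(.node (.leaf 1179)
(.leaf 0)))
(.node (.node (.leaf 1179)
(.leaf 5362))
(.node (.leaf 1179)
(.leaf 0))))
(.node (.node (.node (.leaf 13)
(.leaf 1179))
(.node (.leaf 1177)
(.leaf 0)))
(.node (.node (.leaf 1179)
(.leaf 5342))
(.node (.leaf 1158)
(.leaf 0)))))
(.node (.node (.node (.node (.leaf 43)
(.leaf 1179))
(.node (.leaf 1161)
(.leaf 0)))
(.node (.node (.leaf 1161)
(.leaf 5314))
(.node (.leaf 1177)
(.leaf 0))))
(.node (.node (.node (.leaf 63)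
(.leaf 1167))
(.node (.leaf 1177)
(.leaf 0)))
(.node (.node (.leaf 1156)
(.leaf 5482))
(.node (.leaf 1177)
(.leaf 0))))))))))
(.node (.node (.node (.node (.node (.node (.node (.node (.node (.leaf 0)
(.leaf 1177))
(.node (.leaf 1167)
(.leaf 5342)))
(.node (.node (.leaf 11)
(.leaf 1177))
(.node (.leaf 1177)
(.leaf 0))))
(.node (.node (.node (.leaf 13)
(.leaf 1179))
(.node (.leaf 1177)
(.leaf 0)))
(.node (.node (.leaf 1177)
(.leaf 5314))
(.node (.leaf 1177)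
(.leaf 0)))))
(.node (.node (.node (.node (.leaf 43)
(.leaf 1177))
(.node (.leaf 1177)
(.leaf 0)))
(.node (.node (.leaf 1156)
(.leaf 5342))
(.node (.leaf 1161)
(.leaf 0))))
(.node (.node (.node (.leaf 11)
(.leaf 1177))
(.node (.leaf 1177)
(.leaf 0)))
(.node (.node (.leaf 1156)
(.leaf 5342))
(.node (.leaf 1177)
(.leaf 0))))))
(.node (.node (.node (.node (.node (.leaf 11)
(.leaf 1177))
(.node (.leaf 1158)
(.leaf 5342)))
(.node (.node (.leaf 1160)
(.leaf 1177))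
(.node (.leaf 1156)
(.leaf 0))))
(.node (.node (.node (.leaf 11)
(.leaf 1177))
(.node (.leaf 1158)
(.leaf 0)))
(.node (.node (.leaf 1158)
(.leaf 5316))
(.node (.leaf 1158)
(.leaf 0)))))
(.node (.node (.node (.node (.leaf 13)
(.leaf 1177))
(.node (.leaf 1179)
(.leaf 0)))
(.node (.node (.leaf 1156)
(.leaf 5314))
(.node (.leaf 1177)
(.leaf 0))))
(.node (.node (.node (.leaf 63)
(.leaf 1177))
(.node (.leaf 1177)
(.leaf 0)))
(.node (.node (.leaf 1177)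
(.leaf 5342))
(.node (.leaf 1177)
(.leaf 0)))))))
(.node (.node (.node (.node (.node (.node (.leaf 11)
(.leaf 1177))
(.node (.leaf 1179)
(.leaf 5342)))
(.node (.node (.leaf 11)
(.leaf 1156))
(.node (.leaf 1177)
(.leaf 0))))
(.node (.node (.node (.leaf 11)
(.leaf 1179))
(.node (.leaf 1161)
(.leaf 0)))
(.node (.node (.leaf 1177)
(.leaf 5362))
(.node (.leaf 1156)
(.leaf 0)))))
(.node (.node (.node (.node (.leaf 11)
(.leaf 1177))
(.node (.leaf 1161)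
(.leaf 0)))
(.node (.node (.leaf 1156)
(.leaf 5314))
(.node (.leaf 1177)
(.leaf 0))))
(.node (.node (.node (.leaf 11)
(.leaf 1179))
(.node (.leaf 1177)
(.leaf 0)))
(.node (.node (.leaf 1179)
(.leaf 5342))
(.node (.leaf 1177)
(.leaf 0))))))
(.node (.node (.node (.node (.node (.leaf 11)
(.leaf 1177))
(.node (.leaf 1156)
(.leaf 0)))
(.node (.node (.leaf 1171)
(.leaf 5314))
(.node (.leaf 1177)
(.leaf 0))))
(.node (.node (.node (.leaf 13)
(.leaf 1179))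
(.node (.leaf 1179)
(.leaf 0)))
(.node (.node (.leaf 1179)
(.leaf 5314))
(.node (.leaf 1177)
(.leaf 0)))))
(.node (.node (.node (.node (.leaf 43)
(.leaf 1177))
(.node (.leaf 1177)
(.leaf 0)))
(.node (.node (.leaf 1179)
(.leaf 5342))
(.node (.leaf 1177)
(.leaf 0))))
(.node (.node (.node (.leaf 63)
(.leaf 1177))
(.node (.leaf 1177)
(.leaf 0)))
(.node (.node (.leaf 1156)
(.leaf 5314))
(.node (.leaf 1177)
(.leaf 0))))))))
(.node (.node (.node (.node (.node (.node (.node (.leaf 11)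
(.leaf 1177))
(.node (.leaf 1156)
(.leaf 5362)))
(.node (.node (.leaf 11)
(.leaf 1177))
(.node (.leaf 1179)
(.leaf 0))))
(.node (.node (.node (.leaf 11)
(.leaf 1177))
(.node (.leaf 1179)
(.leaf 0)))
(.node (.node (.leaf 1160)
(.leaf 5342))
(.node (.leaf 1179)
(.leaf 0)))))
(.node (.node (.node (.node (.leaf 13)
(.leaf 1177))
(.node (.leaf 1155)
(.leaf 0)))
(.node (.node (.leaf 1177)
(.leaf 5342))
(.node (.leaf 1179)
(.leaf 0))))
(.node (.node (.node (.leaf 11)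
(.leaf 1177))
(.node (.leaf 1177)
(.leaf 0)))
(.node (.node (.leaf 1179)
(.leaf 5342))
(.node (.leaf 1177)
(.leaf 0))))))
(.node (.node (.node (.node (.node (.leaf 43)
(.leaf 1177))
(.node (.leaf 1179)
(.leaf 0)))
(.node (.node (.leaf 1158)
(.leaf 1167))
(.node (.leaf 1177)
(.leaf 0))))
(.node (.node (.node (.leaf 43)
(.leaf 1177))
(.node (.leaf 1179)
(.leaf 0)))
(.node (.node (.leaf 1167)
(.leaf 5314))
(.node (.leaf 1179)
(.leaf 0)))))
(.node (.node (.node (.node (.leaf 43)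
(.leaf 1167))
(.node (.leaf 1179)
(.leaf 0)))
(.node (.node (.leaf 1156)
(.leaf 5342))
(.node (.leaf 1156)
(.leaf 0))))
(.node (.node (.node (.leaf 0)
(.leaf 1179))
(.node (.leaf 1177)
(.leaf 0)))
(.node (.node (.leaf 1177)
(.leaf 5342))
(.node (.leaf 1177)
(.leaf 0)))))))
(.node (.node (.node (.node (.node (.node (.leaf 11)
(.leaf 1177))
(.node (.leaf 1161)
(.leaf 5342)))
(.node (.node (.leaf 11)
(.leaf 1177))
(.node (.leaf 1158)
(.leaf 0))))
(.node (.node (.node (.leaf 0)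
(.leaf 1177))
(.node (.leaf 1179)
(.leaf 0)))
(.node (.node (.leaf 1156)
(.leaf 5316))
(.node (.leaf 1177)
(.leaf 0)))))
(.node (.node (.node (.node (.leaf 13)
(.leaf 1179))
(.node (.leaf 1179)
(.leaf 0)))
(.node (.node (.leaf 1160)
(.leaf 5482))
(.node (.leaf 1156)
(.leaf 0))))
(.node (.node (.node (.leaf 0)
(.leaf 1156))
(.node (.leaf 1179)
(.leaf 0)))
(.node (.node (.leaf 1156)
(.leaf 5342))
(.node (.leaf 1156)
(.leaf 0))))))
(.node (.node (.node (.node (.node (.leaf 13)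
(.leaf 1161))
(.node (.leaf 1179)
(.leaf 0)))
(.node (.node (.leaf 1179)
(.leaf 5314))
(.node (.leaf 1177)
(.leaf 0))))
(.node (.node (.node (.leaf 11)
(.leaf 1179))
(.node (.leaf 1177)
(.leaf 0)))
(.node (.node (.leaf 1155)
(.leaf 5316))
(.node (.leaf 1177)
(.leaf 0)))))
(.node (.node (.node (.node (.leaf 13)
(.leaf 1177))
(.node (.leaf 1177)
(.leaf 0)))
(.node (.node (.leaf 1158)
(.leaf 5342))
(.node (.leaf 1177)
(.leaf 0))))
(.node (.node (.node (.leaf 63)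
(.leaf 1179))
(.node (.leaf 1179)
(.leaf 0)))
(.node (.node (.leaf 1167)
(.leaf 5314))
(.node (.leaf 1177)
(.leaf 0)))))))))
(.node (.node (.node (.node (.node (.node (.node (.node (.leaf 4)
(.leaf 1177))
(.node (.leaf 1158)
(.leaf 5342)))
(.node (.node (.leaf 13)
(.leaf 1179))
(.node (.leaf 1156)
(.leaf 0))))
(.node (.node (.node (.leaf 43)
(.leaf 1177))
(.node (.leaf 1177)
(.leaf 0)))
(.node (.node (.leaf 1177)
(.leaf 5314))
(.node (.leaf 1177)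
(.leaf 0)))))
(.node (.node (.node (.node (.leaf 11)
(.leaf 1177))
(.node (.leaf 1156)
(.leaf 0)))
(.node (.node (.leaf 1156)
(.leaf 5342))
(.node (.leaf 1161)
(.leaf 0))))
(.node (.node (.node (.leaf 11)
(.leaf 1177))
(.node (.leaf 1179)
(.leaf 0)))
(.node (.node (.leaf 1177)
(.leaf 5314))
(.node (.leaf 1179)
(.leaf 0))))))
(.node (.node (.node (.node (.node (.leaf 43)
(.leaf 1179))
(.node (.leaf 1177)
(.leaf 5342)))
(.node (.node (.leaf 1177)
(.leaf 1177))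
(.node (.leaf 1177)
(.leaf 0))))
(.node (.node (.node (.leaf 11)
(.leaf 1156))
(.node (.leaf 1177)
(.leaf 0)))
(.node (.node (.leaf 1161)
(.leaf 5314))
(.node (.leaf 1177)
(.leaf 0)))))
(.node (.node (.node (.node (.leaf 11)
(.leaf 1161))
(.node (.leaf 1177)
(.leaf 0)))
(.node (.node (.leaf 1158)
(.leaf 5342))
(.node (.leaf 1177)
(.leaf 0))))
(.node (.node (.node (.leaf 11)
(.leaf 1177))
(.node (.leaf 1177)
(.leaf 0)))
(.node (.node (.leaf 1158)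
(.leaf 5342))
(.node (.leaf 1179)
(.leaf 0)))))))
(.node (.node (.node (.node (.node (.node (.leaf 0)
(.leaf 1179))
(.node (.leaf 1179)
(.leaf 5342)))
(.node (.node (.leaf 13)
(.leaf 1177))
(.node (.leaf 1177)
(.leaf 0))))
(.node (.node (.node (.leaf 13)
(.leaf 1161))
(.node (.leaf 1177)
(.leaf 0)))
(.node (.node (.leaf 1156)
(.leaf 5342))
(.node (.leaf 1177)
(.leaf 0)))))
(.node (.node (.node (.node (.leaf 13)
(.leaf 1177))
(.node (.leaf 1179)
(.leaf 0)))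
(.node (.node (.leaf 1156)
(.leaf 5362))
(.node (.leaf 1156)
(.leaf 0))))
(.node (.node (.node (.leaf 11)
(.leaf 1177))
(.node (.leaf 1177)
(.leaf 0)))
(.node (.node (.leaf 1156)
(.leaf 5342))
(.node (.leaf 1177)
(.leaf 0))))))
(.node (.node (.node (.node (.node (.leaf 11)
(.leaf 1177))
(.node (.leaf 1158)
(.leaf 0)))
(.node (.node (.leaf 1158)
(.leaf 5314))
(.node (.leaf 1179)
(.leaf 0))))
(.node (.node (.node (.leaf 11)
(.leaf 1161))
(.node (.leaf 1177)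
(.leaf 0)))
(.node (.node (.leaf 1177)
(.leaf 5342))
(.node (.leaf 1177)
(.leaf 0)))))
(.node (.node (.node (.node (.leaf 11)
(.leaf 1177))
(.node (.leaf 1160)
(.leaf 0)))
(.node (.node (.leaf 1177)
(.leaf 5342))
(.node (.leaf 1177)
(.leaf 0))))
(.node (.node (.node (.leaf 43)
(.leaf 1177))
(.node (.leaf 1179)
(.leaf 0)))
(.node (.node (.leaf 1177)
(.leaf 5342))
(.node (.leaf 1156)
(.leaf 0))))))))
(.node (.node (.node (.node (.node (.node (.node (.leaf 43)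
(.leaf 1179))
(.node (.leaf 1177)
(.leaf 5342)))
(.node (.node (.leaf 13)
(.leaf 1177))
(.node (.leaf 1177)
(.leaf 0))))
(.node (.node (.node (.leaf 11)
(.leaf 1177))
(.node (.leaf 1177)
(.leaf 0)))
(.node (.node (.leaf 1179)
(.leaf 5342))
(.node (.leaf 1179)
(.leaf 0)))))
(.node (.node (.node (.node (.leaf 0)
(.leaf 1179))
(.node (.leaf 1179)
(.leaf 0)))
(.node (.node (.leaf 1156)
(.leaf 5314))
(.node (.leaf 1177)
(.leaf 0))))
(.node (.node (.node (.leaf 11)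
(.leaf 1179))
(.node (.leaf 1161)
(.leaf 0)))
(.node (.node (.leaf 1179)
(.leaf 5342))
(.node (.leaf 1156)
(.leaf 0))))))
(.node (.node (.node (.node (.node (.leaf 11)
(.leaf 1177))
(.node (.leaf 1179)
(.leaf 0)))
(.node (.node (.leaf 1160)
(.leaf 1161))
(.node (.leaf 1177)
(.leaf 0))))
(.node (.node (.node (.leaf 11)
(.leaf 1177))
(.node (.leaf 1179)
(.leaf 0)))
(.node (.node (.leaf 1160)
(.leaf 5342))
(.node (.leaf 1177)
(.leaf 0)))))
(.node (.node (.node (.node (.leaf 43)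
(.leaf 1179))
(.node (.leaf 1177)
(.leaf 0)))
(.node (.node (.leaf 1156)
(.leaf 5342))
(.node (.leaf 1156)
(.leaf 0))))
(.node (.node (.node (.leaf 43)
(.leaf 1156))
(.node (.leaf 1179)
(.leaf 0)))
(.node (.node (.leaf 1161)
(.leaf 5342))
(.node (.leaf 1179)
(.leaf 0)))))))
(.node (.node (.node (.node (.node (.node (.leaf 11)
(.leaf 1177))
(.node (.leaf 1156)
(.leaf 5342)))
(.node (.node (.leaf 13)
(.leaf 1179))
(.node (.leaf 1177)
(.leaf 0))))
(.node (.node (.node (.leaf 13)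
(.leaf 1177))
(.node (.leaf 1177)
(.leaf 0)))
(.node (.node (.leaf 1179)
(.leaf 5482))
(.node (.leaf 1156)
(.leaf 0)))))
(.node (.node (.node (.node (.leaf 13)
(.leaf 1177))
(.node (.leaf 1179)
(.leaf 0)))
(.node (.node (.leaf 1167)
(.leaf 5314))
(.node (.leaf 1177)
(.leaf 0))))
(.node (.node (.node (.leaf 11)
(.leaf 1177))
(.node (.leaf 1179)
(.leaf 0)))
(.node (.node (.leaf 1177)
(.leaf 5314))
(.node (.leaf 1158)
(.leaf 0))))))
(.node (.node (.node (.node (.node (.leaf 13)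
(.leaf 1160))
(.node (.leaf 1158)
(.leaf 0)))
(.node (.node (.leaf 1158)
(.leaf 5314))
(.node (.leaf 1177)
(.leaf 0))))
(.node (.node (.node (.leaf 11)
(.leaf 1177))
(.node (.leaf 1177)
(.leaf 0)))
(.node (.node (.leaf 1158)
(.leaf 5316))
(.node (.leaf 1177)
(.leaf 0)))))
(.node (.node (.node (.node (.leaf 43)
(.leaf 1177))
(.node (.leaf 1177)
(.leaf 0)))
(.node (.node (.leaf 1177)
(.leaf 5342))
(.node (.leaf 1177)
(.leaf 0))))
(.node (.node (.node (.leaf 11)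
(.leaf 1179))
(.node (.leaf 1177)
(.leaf 0)))
(.node (.node (.leaf 1158)
(.leaf 5342))
(.node (.leaf 1179)
(.leaf 0)))))))))))
(.node (.node (.node (.node (.node (.node (.node (.node (.node (.node (.leaf 0)
(.leaf 1177))
(.node (.leaf 1156)
(.leaf 5342)))
(.node (.node (.leaf 11)
(.leaf 1156))
(.node (.leaf 1177)
(.leaf 0))))
(.node (.node (.node (.leaf 13)
(.leaf 1177))
(.node (.leaf 1179)
(.leaf 0)))
(.node (.node (.leaf 1179)
(.leaf 5342))
(.node (.leaf 1177)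
(.leaf 0)))))
(.node (.node (.node (.node (.leaf 11)
(.leaf 1177))
(.node (.leaf 1179)
(.leaf 0)))
(.node (.node (.leaf 1158)
(.leaf 5314))
(.node (.leaf 1158)
(.leaf 0))))
(.node (.node (.node (.leaf 13)
(.leaf 1158))
(.node (.leaf 1161)
(.leaf 0)))
(.node (.node (.leaf 1179)
(.leaf 5316))
(.node (.leaf 1156)
(.leaf 0))))))
(.node (.node (.node (.node (.node (.leaf 43)
(.leaf 1160))
(.node (.leaf 1167)
(.leaf 5342)))
(.node (.node (.leaf 1158)
(.leaf 1177))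
(.node (.leaf 1158)
(.leaf 0))))
(.node (.node (.node (.leaf 43)
(.leaf 1177))
(.node (.leaf 1156)
(.leaf 0)))
(.node (.node (.leaf 1156)
(.leaf 5342))
(.node (.leaf 1156)
(.leaf 0)))))
(.node (.node (.node (.node (.leaf 11)
(.leaf 1177))
(.node (.leaf 1177)
(.leaf 0)))
(.node (.node (.leaf 1156)
(.leaf 5314))
(.node (.leaf 1177)
(.leaf 0))))
(.node (.node (.node (.leaf 13)
(.leaf 1179))
(.node (.leaf 1177)
(.leaf 0)))
(.node (.node (.leaf 1179)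
(.leaf 5342))
(.node (.leaf 1177)
(.leaf 0)))))))
(.node (.node (.node (.node (.node (.node (.leaf 0)
(.leaf 1179))
(.node (.leaf 1158)
(.leaf 5342)))
(.node (.node (.leaf 13)
(.leaf 1179))
(.node (.leaf 1177)
(.leaf 0))))
(.node (.node (.node (.leaf 11)
(.leaf 1177))
(.node (.leaf 1177)
(.leaf 0)))
(.node (.node (.leaf 1177)
(.leaf 5342))
(.node (.leaf 1156)
(.leaf 0)))))
(.node (.node (.node (.node (.leaf 11)
(.leaf 1177))
(.node (.leaf 1177)
(.leaf 0)))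
(.node (.node (.leaf 1160)
(.leaf 5323))
(.node (.leaf 1177)
(.leaf 0))))
(.node (.node (.node (.leaf 13)
(.leaf 1177))
(.node (.leaf 1179)
(.leaf 0)))
(.node (.node (.leaf 1177)
(.leaf 5342))
(.node (.leaf 1158)
(.leaf 0))))))
(.node (.node (.node (.node (.node (.leaf 0)
(.leaf 1179))
(.node (.leaf 1177)
(.leaf 0)))
(.node (.node (.leaf 1177)
(.leaf 5314))
(.node (.leaf 1177)
(.leaf 0))))
(.node (.node (.node (.leaf 13)
(.leaf 1179))
(.node (.leaf 1177)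
(.leaf 0)))
(.node (.node (.leaf 1158)
(.leaf 5314))
(.node (.leaf 1177)
(.leaf 0)))))
(.node (.node (.node (.node (.leaf 11)
(.leaf 1155))
(.node (.leaf 1179)
(.leaf 0)))
(.node (.node (.leaf 1160)
(.leaf 5342))
(.node (.leaf 1177)
(.leaf 0))))
(.node (.node (.node (.leaf 11)
(.leaf 1179))
(.node (.leaf 1177)
(.leaf 0)))
(.node (.node (.leaf 1156)
(.leaf 5362))
(.node (.leaf 1177)
(.leaf 0))))))))
(.node (.node (.node (.node (.node (.node (.node (.leaf 11)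
(.leaf 1177))
(.node (.leaf 1179)
(.leaf 5314)))
(.node (.node (.leaf 13)
(.leaf 1177))
(.node (.leaf 1177)
(.leaf 0))))
(.node (.node (.node (.leaf 43)
(.leaf 1179))
(.node (.leaf 1177)
(.leaf 0)))
(.node (.node (.leaf 1179)
(.leaf 5323))
(.node (.leaf 1158)
(.leaf 0)))))
(.node (.node (.node (.node (.leaf 43)
(.leaf 1179))
(.node (.leaf 1179)
(.leaf 0)))
(.node (.node (.leaf 1160)
(.leaf 5342))
(.node (.leaf 1177)
(.leaf 0))))
(.node (.node (.node (.leaf 13)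
(.leaf 1156))
(.node (.leaf 1177)
(.leaf 0)))
(.node (.node (.leaf 1179)
(.leaf 5342))
(.node (.leaf 1177)
(.leaf 0))))))
(.node (.node (.node (.node (.node (.leaf 43)
(.leaf 1177))
(.node (.leaf 1156)
(.leaf 0)))
(.node (.node (.leaf 1158)
(.leaf 1161))
(.node (.leaf 1179)
(.leaf 0))))
(.node (.node (.node (.leaf 11)
(.leaf 1177))
(.node (.leaf 1177)
(.leaf 0)))
(.node (.node (.leaf 1177)
(.leaf 5314))
(.node (.leaf 1177)
(.leaf 0)))))
(.node (.node (.node (.node (.leaf 13)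
(.leaf 1177))
(.node (.leaf 1177)
(.leaf 0)))
(.node (.node (.leaf 1156)
(.leaf 5314))
(.node (.leaf 1177)
(.leaf 0))))
(.node (.node (.node (.leaf 13)
(.leaf 1179))
(.node (.leaf 1177)
(.leaf 0)))
(.node (.node (.leaf 1160)
(.leaf 5342))
(.node (.leaf 1177)
(.leaf 0)))))))
(.node (.node (.node (.node (.node (.node (.leaf 11)
(.leaf 1179))
(.node (.leaf 1158)
(.leaf 5314)))
(.node (.node (.leaf 43)
(.leaf 1177))
(.node (.leaf 1177)
(.leaf 0))))
(.node (.node (.node (.leaf 11)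
(.leaf 1179))
(.node (.leaf 1177)
(.leaf 0)))
(.node (.node (.leaf 1156)
(.leaf 5482))
(.node (.leaf 1177)
(.leaf 0)))))
(.node (.node (.node (.node (.leaf 13)
(.leaf 1177))
(.node (.leaf 1177)
(.leaf 0)))
(.node (.node (.leaf 1177)
(.leaf 5323))
(.node (.leaf 1155)
(.leaf 0))))
(.node (.node (.node (.leaf 13)
(.leaf 1177))
(.node (.leaf 1177)
(.leaf 0)))
(.node (.node (.leaf 1177)
(.leaf 5342))
(.node (.leaf 1156)
(.leaf 0))))))
(.node (.node (.node (.node (.node (.leaf 63)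
(.leaf 1160))
(.node (.leaf 1179)
(.leaf 0)))
(.node (.node (.leaf 1177)
(.leaf 5314))
(.node (.leaf 1177)
(.leaf 0))))
(.node (.node (.node (.leaf 13)
(.leaf 1179))
(.node (.leaf 1179)
(.leaf 0)))
(.node (.node (.leaf 1160)
(.leaf 5342))
(.node (.leaf 1177)
(.leaf 0)))))
(.node (.node (.node (.node (.leaf 11)
(.leaf 1167))
(.node (.leaf 1177)
(.leaf 0)))
(.node (.node (.leaf 1179)
(.leaf 5314))
(.node (.leaf 1177)
(.leaf 0))))
(.node (.node (.node (.leaf 43)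
(.leaf 1177))
(.node (.leaf 1156)
(.leaf 0)))
(.node (.node (.leaf 1177)
(.leaf 5314))
(.node (.leaf 1177)
(.leaf 0)))))))))
(.node (.node (.node (.node (.node (.node (.node (.node (.leaf 11)
(.leaf 1177))
(.node (.leaf 1158)
(.leaf 5342)))
(.node (.node (.leaf 13)
(.leaf 1179))
(.node (.leaf 1177)
(.leaf 0))))
(.node (.node (.node (.leaf 43)
(.leaf 1179))
(.node (.leaf 1177)
(.leaf 0)))
(.node (.node (.leaf 1179)
(.leaf 5342))
(.node (.leaf 1179)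
(.leaf 0)))))
(.node (.node (.node (.node (.leaf 43)
(.leaf 1161))
(.node (.leaf 1158)
(.leaf 0)))
(.node (.node (.leaf 1156)
(.leaf 5316))
(.node (.leaf 1177)
(.leaf 0))))
(.node (.node (.node (.leaf 11)
(.leaf 1177))
(.node (.leaf 1177)
(.leaf 0)))
(.node (.node (.leaf 1177)
(.leaf 5314))
(.node (.leaf 1179)
(.leaf 0))))))
(.node (.node (.node (.node (.node (.leaf 11)
(.leaf 1177))
(.node (.leaf 1167)
(.leaf 5482)))
(.node (.node (.leaf 1158)
(.leaf 1179))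
(.node (.leaf 1177)
(.leaf 0))))
(.node (.node (.node (.leaf 13)
(.leaf 1177))
(.node (.leaf 1156)
(.leaf 0)))
(.node (.node (.leaf 1156)
(.leaf 5482))
(.node (.leaf 1156)
(.leaf 0)))))
(.node (.node (.node (.node (.leaf 11)
(.leaf 1179))
(.node (.leaf 1177)
(.leaf 0)))
(.node (.node (.leaf 1177)
(.leaf 5316))
(.node (.leaf 1177)
(.leaf 0))))
(.node (.node (.node (.leaf 11)
(.leaf 1177))
(.node (.leaf 1156)
(.leaf 0)))
(.node (.node (.leaf 1167)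
(.leaf 5323))
(.node (.leaf 1158)
(.leaf 0)))))))
(.node (.node (.node (.node (.node (.node (.leaf 13)
(.leaf 1179))
(.node (.leaf 1177)
(.leaf 5342)))
(.node (.node (.leaf 43)
(.leaf 1167))
(.node (.leaf 1177)
(.leaf 0))))
(.node (.node (.node (.leaf 11)
(.leaf 1167))
(.node (.leaf 1161)
(.leaf 0)))
(.node (.node (.leaf 1179)
(.leaf 5316))
(.node (.leaf 1177)
(.leaf 0)))))
(.node (.node (.node (.node (.leaf 13)
(.leaf 1179))
(.node (.leaf 1177)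
(.leaf 0)))
(.node (.node (.leaf 1179)
(.leaf 5342))
(.node (.leaf 1177)
(.leaf 0))))
(.node (.node (.node (.leaf 43)
(.leaf 1179))
(.node (.leaf 1177)
(.leaf 0)))
(.node (.node (.leaf 1167)
(.leaf 5342))
(.node (.leaf 1179)
(.leaf 0))))))
(.node (.node (.node (.node (.node (.leaf 43)
(.leaf 1161))
(.node (.leaf 1177)
(.leaf 0)))
(.node (.node (.leaf 1158)
(.leaf 5316))
(.node (.leaf 1179)
(.leaf 0))))
(.node (.node (.node (.leaf 0)
(.leaf 1177))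
(.node (.leaf 1177)
(.leaf 0)))
(.node (.node (.leaf 1179)
(.leaf 5342))
(.node (.leaf 1177)
(.leaf 0)))))
(.node (.node (.node (.node (.leaf 13)
(.leaf 1156))
(.node (.leaf 1167)
(.leaf 0)))
(.node (.node (.leaf 1155)
(.leaf 5314))
(.node (.leaf 1177)
(.leaf 0))))
(.node (.node (.node (.leaf 43)
(.leaf 1177))
(.node (.leaf 1177)
(.leaf 0)))
(.node (.node (.leaf 1177)
(.leaf 5316))
(.node (.leaf 1179)
(.leaf 0))))))))
(.node (.node (.node (.node (.node (.node (.node (.leaf 13)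
(.leaf 1179))
(.node (.leaf 1177)
(.leaf 5342)))
(.node (.node (.leaf 13)
(.leaf 1177))
(.node (.leaf 1177)
(.leaf 0))))
(.node (.node (.node (.leaf 11)
(.leaf 1179))
(.node (.leaf 1179)
(.leaf 0)))
(.node (.node (.leaf 1160)
(.leaf 5342))
(.node (.leaf 1156)
(.leaf 0)))))
(.node (.node (.node (.node (.leaf 13)
(.leaf 1177))
(.node (.leaf 1179)
(.leaf 0)))
(.node (.node (.leaf 1179)
(.leaf 5314))
(.node (.leaf 1177)
(.leaf 0))))
(.node (.node (.node (.leaf 63)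
(.leaf 1177))
(.node (.leaf 1167)
(.leaf 0)))
(.node (.node (.leaf 1177)
(.leaf 5342))
(.node (.leaf 1177)
(.leaf 0))))))
(.node (.node (.node (.node (.node (.leaf 11)
(.leaf 1177))
(.node (.leaf 1158)
(.leaf 0)))
(.node (.node (.leaf 1161)
(.leaf 1177))
(.node (.leaf 1177)
(.leaf 0))))
(.node (.node (.node (.leaf 13)
(.leaf 1177))
(.node (.leaf 1179)
(.leaf 0)))
(.node (.node (.leaf 1158)
(.leaf 5316))
(.node (.leaf 1177)
(.leaf 0)))))
(.node (.node (.node (.node (.leaf 11)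
(.leaf 1177))
(.node (.leaf 1177)
(.leaf 0)))
(.node (.node (.leaf 1156)
(.leaf 5316))
(.node (.leaf 1177)
(.leaf 0))))
(.node (.node (.node (.leaf 11)
(.leaf 1177))
(.node (.leaf 1177)
(.leaf 0)))
(.node (.node (.leaf 1160)
(.leaf 5314))
(.node (.leaf 1179)
(.leaf 0)))))))
(.node (.node (.node (.node (.node (.node (.leaf 11)
(.leaf 1177))
(.node (.leaf 1177)
(.leaf 5362)))
(.node (.node (.leaf 63)
(.leaf 1177))
(.node (.leaf 1177)
(.leaf 0))))
(.node (.node (.node (.leaf 43)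
(.leaf 1179))
(.node (.leaf 1155)
(.leaf 0)))
(.node (.node (.leaf 1177)
(.leaf 5342))
(.node (.leaf 1179)
(.leaf 0)))))
(.node (.node (.node (.node (.leaf 11)
(.leaf 1177))
(.node (.leaf 1156)
(.leaf 0)))
(.node (.node (.leaf 1156)
(.leaf 5314))
(.node (.leaf 1179)
(.leaf 0))))
(.node (.node (.node (.leaf 13)
(.leaf 1177))
(.node (.leaf 1156)
(.leaf 0)))
(.node (.node (.leaf 1161)
(.leaf 5362))
(.node (.leaf 1158)
(.leaf 0))))))
(.node (.node (.node (.node (.node (.leaf 11)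
(.leaf 1158))
(.node (.leaf 1179)
(.leaf 0)))
(.node (.node (.leaf 1177)
(.leaf 5323))
(.node (.leaf 1177)
(.leaf 0))))
(.node (.node (.node (.leaf 13)
(.leaf 1177))
(.node (.leaf 1158)
(.leaf 0)))
(.node (.node (.leaf 1177)
(.leaf 5314))
(.node (.leaf 1156)
(.leaf 0)))))
(.node (.node (.node (.node (.leaf 43)
(.leaf 1177))
(.node (.leaf 1177)
(.leaf 0)))
(.node (.node (.leaf 1179)
(.leaf 5316))
(.node (.leaf 1177)
(.leaf 0))))
(.node (.node (.node (.leaf 13)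
(.leaf 1177))
(.node (.leaf 1156)
(.leaf 0)))
(.node (.node (.leaf 1156)
(.leaf 5482))
(.node (.leaf 1177)
(.leaf 0))))))))))
(.node (.node (.node (.node (.node (.node (.node (.node (.node (.leaf 0)
(.leaf 1177))
(.node (.leaf 1156)
(.leaf 5342)))
(.node (.node (.leaf 11)
(.leaf 1177))
(.node (.leaf 1177)
(.leaf 0))))
(.node (.node (.node (.leaf 63)
(.leaf 1179))
(.node (.leaf 1179)
(.leaf 0)))
(.node (.node (.leaf 1161)
(.leaf 5362))
(.node (.leaf 1177)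
(.leaf 0)))))
(.node (.node (.node (.node (.leaf 43)
(.leaf 1179))
(.node (.leaf 1179)
(.leaf 0)))
(.node (.node (.leaf 1161)
(.leaf 5314))
(.node (.leaf 1179)
(.leaf 0))))
(.node (.node (.node (.leaf 43)
(.leaf 1177))
(.node (.leaf 1177)
(.leaf 0)))
(.node (.node (.leaf 1156)
(.leaf 5342))
(.node (.leaf 1177)
(.leaf 0))))))
(.node (.node (.node (.node (.node (.leaf 11)
(.leaf 1155))
(.node (.leaf 1158)
(.leaf 5342)))
(.node (.node (.leaf 1160)
(.leaf 1177))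
(.node (.leaf 1177)
(.leaf 0))))
(.node (.node (.node (.leaf 11)
(.leaf 1167))
(.node (.leaf 1156)
(.leaf 0)))
(.node (.node (.leaf 1161)
(.leaf 5342))
(.node (.leaf 1177)
(.leaf 0)))))
(.node (.node (.node (.node (.leaf 11)
(.leaf 1177))
(.node (.leaf 1160)
(.leaf 0)))
(.node (.node (.leaf 1158)
(.leaf 5342))
(.node (.leaf 1179)
(.leaf 0))))
(.node (.node (.node (.leaf 13)
(.leaf 1177))
(.node (.leaf 1179)
(.leaf 0)))
(.node (.node (.leaf 1161)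
(.leaf 5342))
(.node (.leaf 1177)
(.leaf 0)))))))
(.node (.node (.node (.node (.node (.node (.leaf 43)
(.leaf 1177))
(.node (.leaf 1177)
(.leaf 5342)))
(.node (.node (.leaf 11)
(.leaf 1177))
(.node (.leaf 1177)
(.leaf 0))))
(.node (.node (.node (.leaf 11)
(.leaf 1177))
(.node (.leaf 1179)
(.leaf 0)))
(.node (.node (.leaf 1177)
(.leaf 5316))
(.node (.leaf 1177)
(.leaf 0)))))
(.node (.node (.node (.node (.leaf 11)
(.leaf 1155))
(.node (.leaf 1177)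
(.leaf 0)))
(.node (.node (.leaf 1158)
(.leaf 5314))
(.node (.leaf 1177)
(.leaf 0))))
(.node (.node (.node (.leaf 63)
(.leaf 1158))
(.node (.leaf 1177)
(.leaf 0)))
(.node (.node (.leaf 1179)
(.leaf 5482))
(.node (.leaf 1156)
(.leaf 0))))))
(.node (.node (.node (.node (.node (.leaf 11)
(.leaf 1179))
(.node (.leaf 1156)
(.leaf 0)))
(.node (.node (.leaf 1167)
(.leaf 5314))
(.node (.leaf 1177)
(.leaf 0))))
(.node (.node (.node (.leaf 11)
(.leaf 1160))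
(.node (.leaf 1177)
(.leaf 0)))
(.node (.node (.leaf 1177)
(.leaf 5314))
(.node (.leaf 1179)
(.leaf 0)))))
(.node (.node (.node (.node (.leaf 43)
(.leaf 1177))
(.node (.leaf 1179)
(.leaf 0)))
(.node (.node (.leaf 1158)
(.leaf 5342))
(.node (.leaf 1177)
(.leaf 0))))
(.node (.node (.node (.leaf 43)
(.leaf 1179))
(.node (.leaf 1177)
(.leaf 0)))
(.node (.node (.leaf 1156)
(.leaf 5316))
(.node (.leaf 1158)
(.leaf 0))))))))
(.node (.node (.node (.node (.node (.node (.node (.leaf 11)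
(.leaf 1177))
(.node (.leaf 1179)
(.leaf 5314)))
(.node (.node (.leaf 13)
(.leaf 1177))
(.node (.leaf 1158)
(.leaf 0))))
(.node (.node (.node (.leaf 11)
(.leaf 1177))
(.node (.leaf 1179)
(.leaf 0)))
(.node (.node (.leaf 1177)
(.leaf 5342))
(.node (.leaf 1177)
(.leaf 0)))))
(.node (.node (.node (.node (.leaf 11)
(.leaf 1177))
(.node (.leaf 1177)
(.leaf 0)))
(.node (.node (.leaf 1156)
(.leaf 5314))
(.node (.leaf 1179)
(.leaf 0))))
(.node (.node (.node (.leaf 43)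
(.leaf 1177))
(.node (.leaf 1177)
(.leaf 0)))
(.node (.node (.leaf 1158)
(.leaf 5342))
(.node (.leaf 1177)
(.leaf 0))))))
(.node (.node (.node (.node (.node (.leaf 13)
(.leaf 1161))
(.node (.leaf 1177)
(.leaf 0)))
(.node (.node (.leaf 1156)
(.leaf 1179))
(.node (.leaf 1156)
(.leaf 0))))
(.node (.node (.node (.leaf 13)
(.leaf 1177))
(.node (.leaf 1179)
(.leaf 0)))
(.node (.node (.leaf 1177)
(.leaf 5342))
(.node (.leaf 1177)
(.leaf 0)))))
(.node (.node (.node (.node (.leaf 11)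
(.leaf 1179))
(.node (.leaf 1177)
(.leaf 0)))
(.node (.node (.leaf 1161)
(.leaf 5316))
(.node (.leaf 1156)
(.leaf 0))))
(.node (.node (.node (.leaf 13)
(.leaf 1177))
(.node (.leaf 1179)
(.leaf 0)))
(.node (.node (.leaf 1160)
(.leaf 5342))
(.node (.leaf 1179)
(.leaf 0)))))))
(.node (.node (.node (.node (.node (.node (.leaf 13)
(.leaf 1177))
(.node (.leaf 1167)
(.leaf 5362)))
(.node (.node (.leaf 43)
(.leaf 1177))
(.node (.leaf 1177)
(.leaf 0))))
(.node (.node (.node (.leaf 11)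
(.leaf 1167))
(.node (.leaf 1179)
(.leaf 0)))
(.node (.node (.leaf 1177)
(.leaf 5342))
(.node (.leaf 1177)
(.leaf 0)))))
(.node (.node (.node (.node (.leaf 11)
(.leaf 1177))
(.node (.leaf 1177)
(.leaf 0)))
(.node (.node (.leaf 1160)
(.leaf 5316))
(.node (.leaf 1177)
(.leaf 0))))
(.node (.node (.node (.leaf 13)
(.leaf 1177))
(.node (.leaf 1158)
(.leaf 0)))
(.node (.node (.leaf 1160)
(.leaf 5342))
(.node (.leaf 1177)
(.leaf 0))))))
(.node (.node (.node (.node (.node (.leaf 11)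
(.leaf 1179))
(.node (.leaf 1179)
(.leaf 0)))
(.node (.node (.leaf 1177)
(.leaf 5314))
(.node (.leaf 1177)
(.leaf 0))))
(.node (.node (.node (.leaf 43)
(.leaf 1177))
(.node (.leaf 1179)
(.leaf 0)))
(.node (.node (.leaf 1179)
(.leaf 5342))
(.node (.leaf 1177)
(.leaf 0)))))
(.node (.node (.node (.node (.leaf 11)
(.leaf 1177))
(.node (.leaf 1160)
(.leaf 0)))
(.node (.node (.leaf 1160)
(.leaf 5316))
(.node (.leaf 1179)
(.leaf 0))))
(.node (.node (.node (.leaf 63)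
(.leaf 1160))
(.node (.leaf 1177)
(.leaf 0)))
(.node (.node (.leaf 1161)
(.leaf 5342))
(.node (.leaf 1177)
(.leaf 0)))))))))
(.node (.node (.node (.node (.node (.node (.node (.node (.leaf 0)
(.leaf 1158))
(.node (.leaf 1177)
(.leaf 5342)))
(.node (.node (.leaf 13)
(.leaf 1156))
(.node (.leaf 1179)
(.leaf 0))))
(.node (.node (.node (.leaf 11)
(.leaf 1177))
(.node (.leaf 1161)
(.leaf 0)))
(.node (.node (.leaf 1161)
(.leaf 5314))
(.node (.leaf 1179)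
(.leaf 0)))))
(.node (.node (.node (.node (.leaf 11)
(.leaf 1177))
(.node (.leaf 1179)
(.leaf 0)))
(.node (.node (.leaf 1158)
(.leaf 5316))
(.node (.leaf 1177)
(.leaf 0))))
(.node (.node (.node (.leaf 11)
(.leaf 1156))
(.node (.leaf 1161)
(.leaf 0)))
(.node (.node (.leaf 1177)
(.leaf 5342))
(.node (.leaf 1177)
(.leaf 0))))))
(.node (.node (.node (.node (.node (.leaf 43)
(.leaf 1177))
(.node (.leaf 1160)
(.leaf 5362)))
(.node (.node (.leaf 1156)
(.leaf 1177))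
(.node (.leaf 1177)
(.leaf 0))))
(.node (.node (.node (.leaf 43)
(.leaf 1177))
(.node (.leaf 1156)
(.leaf 0)))
(.node (.node (.leaf 1161)
(.leaf 5316))
(.node (.leaf 1177)
(.leaf 0)))))
(.node (.node (.node (.node (.leaf 11)
(.leaf 1179))
(.node (.leaf 1177)
(.leaf 0)))
(.node (.node (.leaf 1156)
(.leaf 5314))
(.node (.leaf 1179)
(.leaf 0))))
(.node (.node (.node (.leaf 63)
(.leaf 1177))
(.node (.leaf 1179)
(.leaf 0)))
(.node (.node (.leaf 1177)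
(.leaf 5316))
(.node (.leaf 1177)
(.leaf 0)))))))
(.node (.node (.node (.node (.node (.node (.leaf 13)
(.leaf 1179))
(.node (.leaf 1177)
(.leaf 5314)))
(.node (.node (.leaf 43)
(.leaf 1179))
(.node (.leaf 1179)
(.leaf 0))))
(.node (.node (.node (.leaf 11)
(.leaf 1161))
(.node (.leaf 1177)
(.leaf 0)))
(.node (.node (.leaf 1156)
(.leaf 5342))
(.node (.leaf 1179)
(.leaf 0)))))
(.node (.node (.node (.node (.leaf 11)
(.leaf 1177))
(.node (.leaf 1177)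
(.leaf 0)))
(.node (.node (.leaf 1167)
(.leaf 5362))
(.node (.leaf 1177)
(.leaf 0))))
(.node (.node (.node (.leaf 43)
(.leaf 1177))
(.node (.leaf 1179)
(.leaf 0)))
(.node (.node (.leaf 1156)
(.leaf 5342))
(.node (.leaf 1156)
(.leaf 0))))))
(.node (.node (.node (.node (.node (.leaf 11)
(.leaf 1167))
(.node (.leaf 1179)
(.leaf 0)))
(.node (.node (.leaf 1158)
(.leaf 5342))
(.node (.leaf 1156)
(.leaf 0))))
(.node (.node (.node (.leaf 13)
(.leaf 1179))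
(.node (.leaf 1179)
(.leaf 0)))
(.node (.node (.leaf 1179)
(.leaf 5362))
(.node (.leaf 1156)
(.leaf 0)))))
(.node (.node (.node (.node (.leaf 11)
(.leaf 1156))
(.node (.leaf 1177)
(.leaf 0)))
(.node (.node (.leaf 1179)
(.leaf 5342))
(.node (.leaf 1179)
(.leaf 0))))
(.node (.node (.node (.leaf 63)
(.leaf 1177))
(.node (.leaf 1177)
(.leaf 0)))
(.node (.node (.leaf 1179)
(.leaf 5362))
(.node (.leaf 1156)
(.leaf 0))))))))
(.node (.node (.node (.node (.node (.node (.node (.leaf 11)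
(.leaf 1177))
(.node (.leaf 1177)
(.leaf 5342)))
(.node (.node (.leaf 13)
(.leaf 1177))
(.node (.leaf 1179)
(.leaf 0))))
(.node (.node (.node (.leaf 63)
(.leaf 1177))
(.node (.leaf 1177)
(.leaf 0)))
(.node (.node (.leaf 1179)
(.leaf 5362))
(.node (.leaf 1177)
(.leaf 0)))))
(.node (.node (.node (.node (.leaf 11)
(.leaf 1167))
(.node (.leaf 1177)
(.leaf 0)))
(.node (.node (.leaf 1177)
(.leaf 5342))
(.node (.leaf 1177)
(.leaf 0))))
(.node (.node (.node (.leaf 63)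
(.leaf 1179))
(.node (.leaf 1179)
(.leaf 0)))
(.node (.node (.leaf 1177)
(.leaf 5342))
(.node (.leaf 1177)
(.leaf 0))))))
(.node (.node (.node (.node (.node (.leaf 11)
(.leaf 1179))
(.node (.leaf 1177)
(.leaf 0)))
(.node (.node (.leaf 1156)
(.leaf 1179))
(.node (.leaf 1177)
(.leaf 0))))
(.node (.node (.node (.leaf 11)
(.leaf 1177))
(.node (.leaf 1177)
(.leaf 0)))
(.node (.node (.leaf 1167)
(.leaf 5342))
(.node (.leaf 1177)
(.leaf 0)))))
(.node (.node (.node (.node (.leaf 43)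
(.leaf 1179))
(.node (.leaf 1179)
(.leaf 0)))
(.node (.node (.leaf 1156)
(.leaf 5342))
(.node (.leaf 1156)
(.leaf 0))))
(.node (.node (.node (.leaf 13)
(.leaf 1179))
(.node (.leaf 1177)
(.leaf 0)))
(.node (.node (.leaf 1161)
(.leaf 5316))
(.node (.leaf 1179)
(.leaf 0)))))))
(.node (.node (.node (.node (.node (.node (.leaf 11)
(.leaf 1161))
(.node (.leaf 1177)
(.leaf 5342)))
(.node (.node (.leaf 11)
(.leaf 1177))
(.node (.leaf 1179)
(.leaf 0))))
(.node (.node (.node (.leaf 11)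
(.leaf 1177))
(.node (.leaf 1177)
(.leaf 0)))
(.node (.node (.leaf 1177)
(.leaf 5482))
(.node (.leaf 1156)
(.leaf 0)))))
(.node (.node (.node (.node (.leaf 13)
(.leaf 1177))
(.node (.leaf 1179)
(.leaf 0)))
(.node (.node (.leaf 1167)
(.leaf 5316))
(.node (.leaf 1160)
(.leaf 0))))
(.node (.node (.node (.leaf 13)
(.leaf 1179))
(.node (.leaf 1179)
(.leaf 0)))
(.node (.node (.leaf 1179)
(.leaf 5342))
(.node (.leaf 1156)
(.leaf 0))))))
(.node (.node (.node (.node (.node (.leaf 13)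
(.leaf 1177))
(.node (.leaf 1177)
(.leaf 0)))
(.node (.node (.leaf 1156)
(.leaf 5316))
(.node (.leaf 1177)
(.leaf 0))))
(.node (.node (.node (.leaf 13)
(.leaf 1179))
(.node (.leaf 1156)
(.leaf 0)))
(.node (.node (.leaf 1158)
(.leaf 5342))
(.node (.leaf 1161)
(.leaf 0)))))
(.node (.node (.node (.node (.leaf 11)
(.leaf 1179))
(.node (.leaf 1177)
(.leaf 0)))
(.node (.node (.leaf 1177)
(.leaf 5342))
(.node (.leaf 1177)
(.leaf 0))))
(.node (.node (.node (.leaf 11)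
(.leaf 1179))
(.node (.leaf 1158)
(.leaf 0)))
(.node (.node (.leaf 1177)
(.leaf 5316))
(.node (.leaf 1177)
(.leaf 0)))))))))))))
(.node (.node (.node (.node (.node (.node (.node (.node (.node (.node (.node (.node (.leaf 0)
(.leaf 1179))
(.node (.leaf 1177)
(.leaf 5314)))
(.node (.node (.leaf 13)
(.leaf 1177))
(.node (.leaf 1177)
(.leaf 0))))
(.node (.node (.node (.leaf 11)
(.leaf 1177))
(.node (.leaf 1161)
(.leaf 0)))
(.node (.node (.leaf 1179)
(.leaf 5342))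
(.node (.leaf 1179)
(.leaf 0)))))
(.node (.node (.node (.node (.leaf 43)
(.leaf 1177))
(.node (.leaf 1179)
(.leaf 0)))
(.node (.node (.leaf 1179)
(.leaf 5316))
(.node (.leaf 1156)
(.leaf 0))))
(.node (.node (.node (.leaf 11)
(.leaf 1177))
(.node (.leaf 1177)
(.leaf 0)))
(.node (.node (.leaf 1177)
(.leaf 5342))
(.node (.leaf 1177)
(.leaf 0))))))
(.node (.node (.node (.node (.node (.leaf 11)
(.leaf 1177))
(.node (.leaf 1167)
(.leaf 5342)))
(.node (.node (.leaf 13)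
(.leaf 1179))
(.node (.leaf 1177)
(.leaf 0))))
(.node (.node (.node (.leaf 11)
(.leaf 1179))
(.node (.leaf 1177)
(.leaf 0)))
(.node (.node (.leaf 1160)
(.leaf 5314))
(.node (.leaf 1179)
(.leaf 0)))))
(.node (.node (.node (.node (.leaf 11)
(.leaf 1177))
(.node (.leaf 1177)
(.leaf 0)))
(.node (.node (.leaf 1156)
(.leaf 5314))
(.node (.leaf 1160)
(.leaf 0))))
(.node (.node (.node (.leaf 11)
(.leaf 1177))
(.node (.leaf 1177)
(.leaf 0)))
(.node (.node (.leaf 1177)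
(.leaf 5314))
(.node (.leaf 1156)
(.leaf 0)))))))
(.node (.node (.node (.node (.node (.node (.leaf 0)
(.leaf 1177))
(.node (.leaf 1177)
(.leaf 5314)))
(.node (.node (.leaf 13)
(.leaf 1177))
(.node (.leaf 1177)
(.leaf 0))))
(.node (.node (.node (.leaf 43)
(.leaf 1179))
(.node (.leaf 1177)
(.leaf 0)))
(.node (.node (.leaf 1177)
(.leaf 5342))
(.node (.leaf 1177)
(.leaf 0)))))
(.node (.node (.node (.node (.leaf 43)
(.leaf 1179))
(.node (.leaf 1179)
(.leaf 0)))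
(.node (.node (.leaf 1158)
(.leaf 5314))
(.node (.leaf 1177)
(.leaf 0))))
(.node (.node (.node (.leaf 11)
(.leaf 1177))
(.node (.leaf 1177)
(.leaf 0)))
(.node (.node (.leaf 1179)
(.leaf 5314))
(.node (.leaf 1177)
(.leaf 0))))))
(.node (.node (.node (.node (.node (.leaf 43)
(.leaf 1177))
(.node (.leaf 1179)
(.leaf 0)))
(.node (.node (.leaf 1167)
(.leaf 5313))
(.node (.leaf 1179)
(.leaf 0))))
(.node (.node (.node (.leaf 11)
(.leaf 1177))
(.node (.leaf 1179)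
(.leaf 0)))
(.node (.node (.leaf 1156)
(.leaf 5314))
(.node (.leaf 1177)
(.leaf 0)))))
(.node (.node (.node (.node (.leaf 11)
(.leaf 1177))
(.node (.leaf 1161)
(.leaf 0)))
(.node (.node (.leaf 1156)
(.leaf 5314))
(.node (.leaf 1177)
(.leaf 0))))
(.node (.node (.node (.leaf 11)
(.leaf 1156))
(.node (.leaf 1177)
(.leaf 0)))
(.node (.node (.leaf 1160)
(.leaf 5342))
(.node (.leaf 1158)
(.leaf 0))))))))
(.node (.node (.node (.node (.node (.node (.node (.leaf 13)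
(.leaf 1177))
(.node (.leaf 1177)
(.leaf 5342)))
(.node (.node (.leaf 13)
(.leaf 1177))
(.node (.leaf 1177)
(.leaf 0))))
(.node (.node (.node (.leaf 43)
(.leaf 1177))
(.node (.leaf 1179)
(.leaf 0)))
(.node (.node (.leaf 1179)
(.leaf 5314))
(.node (.leaf 1177)
(.leaf 0)))))
(.node (.node (.node (.node (.leaf 43)
(.leaf 1177))
(.node (.leaf 1155)
(.leaf 0)))
(.node (.node (.leaf 1156)
(.leaf 5342))
(.node (.leaf 1179)
(.leaf 0))))
(.node (.node (.node (.leaf 11)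
(.leaf 1177))
(.node (.leaf 1167)
(.leaf 0)))
(.node (.node (.leaf 1158)
(.leaf 5342))
(.node (.leaf 1167)
(.leaf 0))))))
(.node (.node (.node (.node (.node (.leaf 13)
(.leaf 1177))
(.node (.leaf 1156)
(.leaf 0)))
(.node (.node (.leaf 1161)
(.leaf 1179))
(.node (.leaf 1177)
(.leaf 0))))
(.node (.node (.node (.leaf 13)
(.leaf 1179))
(.node (.leaf 1156)
(.leaf 0)))
(.node (.node (.leaf 1179)
(.leaf 5314))
(.node (.leaf 1177)
(.leaf 0)))))
(.node (.node (.node (.node (.leaf 43)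
(.leaf 1177))
(.node (.leaf 1177)
(.leaf 0)))
(.node (.node (.leaf 1177)
(.leaf 5314))
(.node (.leaf 1155)
(.leaf 0))))
(.node (.node (.node (.leaf 4)
(.leaf 1177))
(.node (.leaf 1177)
(.leaf 0)))
(.node (.node (.leaf 1160)
(.leaf 5342))
(.node (.leaf 1177)
(.leaf 0)))))))
(.node (.node (.node (.node (.node (.node (.leaf 0)
(.leaf 1160))
(.node (.leaf 1177)
(.leaf 5362)))
(.node (.node (.leaf 11)
(.leaf 1177))
(.node (.leaf 1177)
(.leaf 0))))
(.node (.node (.node (.leaf 13)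
(.leaf 1179))
(.node (.leaf 1177)
(.leaf 0)))
(.node (.node (.leaf 1158)
(.leaf 5342))
(.node (.leaf 1158)
(.leaf 0)))))
(.node (.node (.node (.node (.leaf 11)
(.leaf 1156))
(.node (.leaf 1179)
(.leaf 0)))
(.node (.node (.leaf 1160)
(.leaf 5316))
(.node (.leaf 1161)
(.leaf 0))))
(.node (.node (.node (.leaf 11)
(.leaf 1177))
(.node (.leaf 1167)
(.leaf 0)))
(.node (.node (.leaf 1179)
(.leaf 5314))
(.node (.leaf 1156)
(.leaf 0))))))
(.node (.node (.node (.node (.node (.leaf 43)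
(.leaf 1161))
(.node (.leaf 1177)
(.leaf 0)))
(.node (.node (.leaf 1161)
(.leaf 5314))
(.node (.leaf 1167)
(.leaf 0))))
(.node (.node (.node (.leaf 11)
(.leaf 1177))
(.node (.leaf 1179)
(.leaf 0)))
(.node (.node (.leaf 1179)
(.leaf 5342))
(.node (.leaf 1177)
(.leaf 0)))))
(.node (.node (.node (.node (.leaf 11)
(.leaf 1177))
(.node (.leaf 1156)
(.leaf 0)))
(.node (.node (.leaf 1177)
(.leaf 5342))
(.node (.leaf 1177)
(.leaf 0))))
(.node (.node (.node (.leaf 13)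
(.leaf 1177))
(.node (.leaf 1179)
(.leaf 0)))
(.node (.node (.leaf 1177)
(.leaf 5362))
(.node (.leaf 1156)
(.leaf 0)))))))))
(.node (.node (.node (.node (.node (.node (.node (.node (.leaf 0)
(.leaf 1177))
(.node (.leaf 1177)
(.leaf 5342)))
(.node (.node (.leaf 43)
(.leaf 1177))
(.node (.leaf 1177)
(.leaf 0))))
(.node (.node (.node (.leaf 11)
(.leaf 1156))
(.node (.leaf 1177)
(.leaf 0)))
(.node (.node (.leaf 1177)
(.leaf 5314))
(.node (.leaf 1177)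
(.leaf 0)))))
(.node (.node (.node (.node (.leaf 43)
(.leaf 1161))
(.node (.leaf 1177)
(.leaf 0)))
(.node (.node (.leaf 1177)
(.leaf 5314))
(.node (.leaf 1177)
(.leaf 0))))
(.node (.node (.node (.leaf 13)
(.leaf 1177))
(.node (.leaf 1167)
(.leaf 0)))
(.node (.node (.leaf 1177)
(.leaf 5342))
(.node (.leaf 1167)
(.leaf 0))))))
(.node (.node (.node (.node (.node (.leaf 11)
(.leaf 1177))
(.node (.leaf 1177)
(.leaf 5342)))
(.node (.node (.leaf 1156)
(.leaf 1160))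
(.node (.leaf 1156)
(.leaf 0))))
(.node (.node (.node (.leaf 11)
(.leaf 1177))
(.node (.leaf 1156)
(.leaf 0)))
(.node (.node (.leaf 1156)
(.leaf 5342))
(.node (.leaf 1177)
(.leaf 0)))))
(.node (.node (.node (.node (.leaf 43)
(.leaf 1177))
(.node (.leaf 1177)
(.leaf 0)))
(.node (.node (.leaf 1156)
(.leaf 5342))
(.node (.leaf 1160)
(.leaf 0))))
(.node (.node (.node (.leaf 13)
(.leaf 1177))
(.node (.leaf 1177)
(.leaf 0)))
(.node (.node (.leaf 1177)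
(.leaf 5342))
(.node (.leaf 1177)
(.leaf 0)))))))
(.node (.node (.node (.node (.node (.node (.leaf 11)
(.leaf 1177))
(.node (.leaf 1179)
(.leaf 5342)))
(.node (.node (.leaf 43)
(.leaf 1158))
(.node (.leaf 1177)
(.leaf 0))))
(.node (.node (.node (.leaf 11)
(.leaf 1161))
(.node (.leaf 1167)
(.leaf 0)))
(.node (.node (.leaf 1161)
(.leaf 5314))
(.node (.leaf 1179)
(.leaf 0)))))
(.node (.node (.node (.node (.leaf 13)
(.leaf 1179))
(.node (.leaf 1179)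
(.leaf 0)))
(.node (.node (.leaf 1158)
(.leaf 5342))
(.node (.leaf 1177)
(.leaf 0))))
(.node (.node (.node (.leaf 43)
(.leaf 1177))
(.node (.leaf 1177)
(.leaf 0)))
(.node (.node (.leaf 1158)
(.leaf 5342))
(.node (.leaf 1177)
(.leaf 0))))))
(.node (.node (.node (.node (.node (.leaf 43)
(.leaf 1177))
(.node (.leaf 1177)
(.leaf 0)))
(.node (.node (.leaf 1156)
(.leaf 5316))
(.node (.leaf 1179)
(.leaf 0))))
(.node (.node (.node (.leaf 13)
(.leaf 1177))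
(.node (.leaf 1179)
(.leaf 0)))
(.node (.node (.leaf 1156)
(.leaf 5342))
(.node (.leaf 1158)
(.leaf 0)))))
(.node (.node (.node (.node (.leaf 0)
(.leaf 1177))
(.node (.leaf 1179)
(.leaf 0)))
(.node (.node (.leaf 1177)
(.leaf 5342))
(.node (.leaf 1177)
(.leaf 0))))
(.node (.node (.node (.leaf 11)
(.leaf 1177))
(.node (.leaf 1177)
(.leaf 0)))
(.node (.node (.leaf 1177)
(.leaf 5342))
(.node (.leaf 1177)
(.leaf 0))))))))
(.node (.node (.node (.node (.node (.node (.node (.leaf 13)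
(.leaf 1177))
(.node (.leaf 1179)
(.leaf 5342)))
(.node (.node (.leaf 43)
(.leaf 1177))
(.node (.leaf 1156)
(.leaf 0))))
(.node (.node (.node (.leaf 63)
(.leaf 1179))
(.node (.leaf 1177)
(.leaf 0)))
(.node (.node (.leaf 1161)
(.leaf 5342))
(.node (.leaf 1177)
(.leaf 0)))))
(.node (.node (.node (.node (.leaf 11)
(.leaf 1177))
(.node (.leaf 1167)
(.leaf 0)))
(.node (.node (.leaf 1156)
(.leaf 5316))
(.node (.leaf 1155)
(.leaf 0))))
(.node (.node (.node (.leaf 13)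
(.leaf 1179))
(.node (.leaf 1179)
(.leaf 0)))
(.node (.node (.leaf 1158)
(.leaf 5482))
(.node (.leaf 1177)
(.leaf 0))))))
(.node (.node (.node (.node (.node (.leaf 13)
(.leaf 1167))
(.node (.leaf 1179)
(.leaf 0)))
(.node (.node (.leaf 1156)
(.leaf 1177))
(.node (.leaf 1179)
(.leaf 0))))
(.node (.node (.node (.leaf 11)
(.leaf 1179))
(.node (.leaf 1177)
(.leaf 0)))
(.node (.node (.leaf 1161)
(.leaf 5342))
(.node (.leaf 1158)
(.leaf 0)))))
(.node (.node (.node (.node (.leaf 11)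
(.leaf 1177))
(.node (.leaf 1177)
(.leaf 0)))
(.node (.node (.leaf 1161)
(.leaf 5342))
(.node (.leaf 1177)
(.leaf 0))))
(.node (.node (.node (.leaf 43)
(.leaf 1177))
(.node (.leaf 1177)
(.leaf 0)))
(.node (.node (.leaf 1155)
(.leaf 5342))
(.node (.leaf 1177)
(.leaf 0)))))))
(.node (.node (.node (.node (.node (.node (.leaf 13)
(.leaf 1177))
(.node (.leaf 1156)
(.leaf 5482)))
(.node (.node (.leaf 43)
(.leaf 1179))
(.node (.leaf 1177)
(.leaf 0))))
(.node (.node (.node (.leaf 13)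
(.leaf 1177))
(.node (.leaf 1179)
(.leaf 0)))
(.node (.node (.leaf 1179)
(.leaf 5314))
(.node (.leaf 1177)
(.leaf 0)))))
(.node (.node (.node (.node (.leaf 0)
(.leaf 1179))
(.node (.leaf 1177)
(.leaf 0)))
(.node (.node (.leaf 1158)
(.leaf 5342))
(.node (.leaf 1179)
(.leaf 0))))
(.node (.node (.node (.leaf 43)
(.leaf 1179))
(.node (.leaf 1158)
(.leaf 0)))
(.node (.node (.leaf 1156)
(.leaf 5342))
(.node (.leaf 1177)
(.leaf 0))))))
(.node (.node (.node (.node (.node (.leaf 11)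
(.leaf 1177))
(.node (.leaf 1177)
(.leaf 0)))
(.node (.node (.leaf 1179)
(.leaf 5342))
(.node (.leaf 1177)
(.leaf 0))))
(.node (.node (.node (.leaf 11)
(.leaf 1177))
(.node (.leaf 1156)
(.leaf 0)))
(.node (.node (.leaf 1156)
(.leaf 5342))
(.node (.leaf 1161)
(.leaf 0)))))
(.node (.node (.node (.node (.leaf 43)
(.leaf 1179))
(.node (.leaf 1177)
(.leaf 0)))
(.node (.node (.leaf 1161)
(.leaf 5314))
(.node (.leaf 1177)
(.leaf 0))))
(.node (.node (.node (.leaf 13)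
(.leaf 1179))
(.node (.leaf 1177)
(.leaf 0)))
(.node (.node (.leaf 1156)
(.leaf 5482))
(.node (.leaf 1177)
(.leaf 0))))))))))
(.node (.node (.node (.node (.node (.node (.node (.node (.node (.leaf 0)
(.leaf 1177))
(.node (.leaf 1177)
(.leaf 5342)))
(.node (.node (.leaf 11)
(.leaf 1156))
(.node (.leaf 1177)
(.leaf 0))))
(.node (.node (.node (.leaf 13)
(.leaf 1177))
(.node (.leaf 1177)
(.leaf 0)))
(.node (.node (.leaf 1179)
(.leaf 5314))
(.node (.leaf 1177)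
(.leaf 0)))))
(.node (.node (.node (.node (.leaf 11)
(.leaf 1177))
(.node (.leaf 1158)
(.leaf 0)))
(.node (.node (.leaf 1161)
(.leaf 5314))
(.node (.leaf 1177)
(.leaf 0))))
(.node (.node (.node (.leaf 11)
(.leaf 1177))
(.node (.leaf 1179)
(.leaf 0)))
(.node (.node (.leaf 1177)
(.leaf 5342))
(.node (.leaf 1158)
(.leaf 0))))))
(.node (.node (.node (.node (.node (.leaf 11)
(.leaf 1155))
(.node (.leaf 1161)
(.leaf 5342)))
(.node (.node (.leaf 1161)
(.leaf 1167))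
(.node (.leaf 1179)
(.leaf 0))))
(.node (.node (.node (.leaf 11)
(.leaf 1177))
(.node (.leaf 1158)
(.leaf 0)))
(.node (.node (.leaf 1158)
(.leaf 5342))
(.node (.leaf 1179)
(.leaf 0)))))
(.node (.node (.node (.node (.leaf 43)
(.leaf 1177))
(.node (.leaf 1161)
(.leaf 0)))
(.node (.node (.leaf 1156)
(.leaf 5314))
(.node (.leaf 1177)
(.leaf 0))))
(.node (.node (.node (.leaf 63)
(.leaf 1156))
(.node (.leaf 1179)
(.leaf 0)))
(.node (.node (.leaf 1177)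
(.leaf 5314))
(.node (.leaf 1179)
(.leaf 0)))))))
(.node (.node (.node (.node (.node (.node (.leaf 11)
(.leaf 1179))
(.node (.leaf 1179)
(.leaf 5342)))
(.node (.node (.leaf 13)
(.leaf 1156))
(.node (.leaf 1177)
(.leaf 0))))
(.node (.node (.node (.leaf 11)
(.leaf 1177))
(.node (.leaf 1179)
(.leaf 0)))
(.node (.node (.leaf 1177)
(.leaf 5314))
(.node (.leaf 1177)
(.leaf 0)))))
(.node (.node (.node (.node (.leaf 11)
(.leaf 1179))
(.node (.leaf 1177)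
(.leaf 0)))
(.node (.node (.leaf 1160)
(.leaf 5314))
(.node (.leaf 1177)
(.leaf 0))))
(.node (.node (.node (.leaf 13)
(.leaf 1177))
(.node (.leaf 1177)
(.leaf 0)))
(.node (.node (.leaf 1179)
(.leaf 5342))
(.node (.leaf 1179)
(.leaf 0))))))
(.node (.node (.node (.node (.node (.leaf 11)
(.leaf 1177))
(.node (.leaf 1156)
(.leaf 0)))
(.node (.node (.leaf 1172)
(.leaf 5314))
(.node (.leaf 1156)
(.leaf 0))))
(.node (.node (.node (.leaf 11)
(.leaf 1177))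
(.node (.leaf 1177)
(.leaf 0)))
(.node (.node (.leaf 1156)
(.leaf 5314))
(.node (.leaf 1177)
(.leaf 0)))))
(.node (.node (.node (.node (.leaf 13)
(.leaf 1177))
(.node (.leaf 1177)
(.leaf 0)))
(.node (.node (.leaf 1177)
(.leaf 5342))
(.node (.leaf 1179)
(.leaf 0))))
(.node (.node (.node (.leaf 4)
(.leaf 1177))
(.node (.leaf 1179)
(.leaf 0)))
(.node (.node (.leaf 1156)
(.leaf 5342))
(.node (.leaf 1177)
(.leaf 0))))))))
(.node (.node (.node (.node (.node (.node (.node (.leaf 11)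
(.leaf 1177))
(.node (.leaf 1179)
(.leaf 5342)))
(.node (.node (.leaf 11)
(.leaf 1179))
(.node (.leaf 1156)
(.leaf 0))))
(.node (.node (.node (.leaf 43)
(.leaf 1179))
(.node (.leaf 1179)
(.leaf 0)))
(.node (.node (.leaf 1177)
(.leaf 5342))
(.node (.leaf 1177)
(.leaf 0)))))
(.node (.node (.node (.node (.leaf 13)
(.leaf 1179))
(.node (.leaf 1155)
(.leaf 0)))
(.node (.node (.leaf 1156)
(.leaf 5342))
(.node (.leaf 1177)
(.leaf 0))))
(.node (.node (.node (.leaf 11)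
(.leaf 1177))
(.node (.leaf 1177)
(.leaf 0)))
(.node (.node (.leaf 1177)
(.leaf 5342))
(.node (.leaf 1179)
(.leaf 0))))))
(.node (.node (.node (.node (.node (.leaf 11)
(.leaf 1177))
(.node (.leaf 1177)
(.leaf 0)))
(.node (.node (.leaf 1160)
(.leaf 1177))
(.node (.leaf 1179)
(.leaf 0))))
(.node (.node (.node (.leaf 13)
(.leaf 1177))
(.node (.leaf 1177)
(.leaf 0)))
(.node (.node (.leaf 1177)
(.leaf 5314))
(.node (.leaf 1158)
(.leaf 0)))))
(.node (.node (.node (.node (.leaf 43)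
(.leaf 1177))
(.node (.leaf 1179)
(.leaf 0)))
(.node (.node (.leaf 1156)
(.leaf 5314))
(.node (.leaf 1161)
(.leaf 0))))
(.node (.node (.node (.leaf 11)
(.leaf 1179))
(.node (.leaf 1179)
(.leaf 0)))
(.node (.node (.leaf 1177)
(.leaf 5362))
(.node (.leaf 1179)
(.leaf 0)))))))
(.node (.node (.node (.node (.node (.node (.leaf 13)
(.leaf 1179))
(.node (.leaf 1158)
(.leaf 5342)))
(.node (.node (.leaf 13)
(.leaf 1167))
(.node (.leaf 1177)
(.leaf 0))))
(.node (.node (.node (.leaf 0)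
(.leaf 1179))
(.node (.leaf 1179)
(.leaf 0)))
(.node (.node (.leaf 1156)
(.leaf 5316))
(.node (.leaf 1177)
(.leaf 0)))))
(.node (.node (.node (.node (.leaf 13)
(.leaf 1177))
(.node (.leaf 1179)
(.leaf 0)))
(.node (.node (.leaf 1160)
(.leaf 5342))
(.node (.leaf 1177)
(.leaf 0))))
(.node (.node (.node (.leaf 11)
(.leaf 1177))
(.node (.leaf 1156)
(.leaf 0)))
(.node (.node (.leaf 1156)
(.leaf 5314))
(.node (.leaf 1177)
(.leaf 0))))))
(.node (.node (.node (.node (.node (.leaf 11)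
(.leaf 1161))
(.node (.leaf 1179)
(.leaf 0)))
(.node (.node (.leaf 1177)
(.leaf 5314))
(.node (.leaf 1156)
(.leaf 0))))
(.node (.node (.node (.leaf 13)
(.leaf 1177))
(.node (.leaf 1177)
(.leaf 0)))
(.node (.node (.leaf 1179)
(.leaf 5342))
(.node (.leaf 1177)
(.leaf 0)))))
(.node (.node (.node (.node (.leaf 13)
(.leaf 1167))
(.node (.leaf 1179)
(.leaf 0)))
(.node (.node (.leaf 1158)
(.leaf 5316))
(.node (.leaf 1177)
(.leaf 0))))
(.node (.node (.node (.leaf 63)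
(.leaf 1179))
(.node (.leaf 1179)
(.leaf 0)))
(.node (.node (.leaf 1167)
(.leaf 5482))
(.node (.leaf 1177)
(.leaf 0)))))))))
(.node (.node (.node (.node (.node (.node (.node (.node (.leaf 0)
(.leaf 1179))
(.node (.leaf 1179)
(.leaf 5362)))
(.node (.node (.leaf 43)
(.leaf 1179))
(.node (.leaf 1156)
(.leaf 0))))
(.node (.node (.node (.leaf 43)
(.leaf 1161))
(.node (.leaf 1179)
(.leaf 0)))
(.node (.node (.leaf 1179)
(.leaf 5314))
(.node (.leaf 1177)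
(.leaf 0)))))
(.node (.node (.node (.node (.leaf 13)
(.leaf 1177))
(.node (.leaf 1156)
(.leaf 0)))
(.node (.node (.leaf 1161)
(.leaf 5314))
(.node (.leaf 1177)
(.leaf 0))))
(.node (.node (.node (.leaf 11)
(.leaf 1158))
(.node (.leaf 1155)
(.leaf 0)))
(.node (.node (.leaf 1177)
(.leaf 5314))
(.node (.leaf 1156)
(.leaf 0))))))
(.node (.node (.node (.node (.node (.leaf 11)
(.leaf 1179))
(.node (.leaf 1156)
(.leaf 5482)))
(.node (.node (.leaf 1177)
(.leaf 1155))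
(.node (.leaf 1177)
(.leaf 0))))
(.node (.node (.node (.leaf 0)
(.leaf 1179))
(.node (.leaf 1156)
(.leaf 0)))
(.node (.node (.leaf 1171)
(.leaf 5482))
(.node (.leaf 1177)
(.leaf 0)))))
(.node (.node (.node (.node (.leaf 63)
(.leaf 1161))
(.node (.leaf 1179)
(.leaf 0)))
(.node (.node (.leaf 1177)
(.leaf 5314))
(.node (.leaf 1177)
(.leaf 0))))
(.node (.node (.node (.leaf 11)
(.leaf 1179))
(.node (.leaf 1177)
(.leaf 0)))
(.node (.node (.leaf 1167)
(.leaf 5316))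
(.node (.leaf 1179)
(.leaf 0)))))))
(.node (.node (.node (.node (.node (.node (.leaf 13)
(.leaf 1177))
(.node (.leaf 1179)
(.leaf 5342)))
(.node (.node (.leaf 43)
(.leaf 1177))
(.node (.leaf 1177)
(.leaf 0))))
(.node (.node (.node (.leaf 13)
(.leaf 1161))
(.node (.leaf 1161)
(.leaf 0)))
(.node (.node (.leaf 1156)
(.leaf 5342))
(.node (.leaf 1177)
(.leaf 0)))))
(.node (.node (.node (.node (.leaf 13)
(.leaf 1177))
(.node (.leaf 1179)
(.leaf 0)))
(.node (.node (.leaf 1161)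
(.leaf 5342))
(.node (.leaf 1177)
(.leaf 0))))
(.node (.node (.node (.leaf 13)
(.leaf 1177))
(.node (.leaf 1158)
(.leaf 0)))
(.node (.node (.leaf 1156)
(.leaf 5342))
(.node (.leaf 1177)
(.leaf 0))))))
(.node (.node (.node (.node (.node (.leaf 11)
(.leaf 1179))
(.node (.leaf 1158)
(.leaf 0)))
(.node (.node (.leaf 1158)
(.leaf 5314))
(.node (.leaf 1179)
(.leaf 0))))
(.node (.node (.node (.leaf 13)
(.leaf 1177))
(.node (.leaf 1177)
(.leaf 0)))
(.node (.node (.leaf 1177)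
(.leaf 5314))
(.node (.leaf 1177)
(.leaf 0)))))
(.node (.node (.node (.node (.leaf 13)
(.leaf 1156))
(.node (.leaf 1177)
(.leaf 0)))
(.node (.node (.leaf 1158)
(.leaf 5342))
(.node (.leaf 1179)
(.leaf 0))))
(.node (.node (.node (.leaf 4)
(.leaf 1177))
(.node (.leaf 1155)
(.leaf 0)))
(.node (.node (.leaf 1179)
(.leaf 5342))
(.node (.leaf 1156)
(.leaf 0))))))))
(.node (.node (.node (.node (.node (.node (.node (.leaf 11)
(.leaf 1177))
(.node (.leaf 1158)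
(.leaf 5362)))
(.node (.node (.leaf 11)
(.leaf 1161))
(.node (.leaf 1156)
(.leaf 0))))
(.node (.node (.node (.leaf 43)
(.leaf 1177))
(.node (.leaf 1177)
(.leaf 0)))
(.node (.node (.leaf 1177)
(.leaf 5342))
(.node (.leaf 1177)
(.leaf 0)))))
(.node (.node (.node (.node (.leaf 13)
(.leaf 1177))
(.node (.leaf 1177)
(.leaf 0)))
(.node (.node (.leaf 1158)
(.leaf 5316))
(.node (.leaf 1177)
(.leaf 0))))
(.node (.node (.node (.leaf 11)
(.leaf 1179))
(.node (.leaf 1161)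
(.leaf 0)))
(.node (.node (.leaf 1179)
(.leaf 5342))
(.node (.leaf 1177)
(.leaf 0))))))
(.node (.node (.node (.node (.node (.leaf 11)
(.leaf 1179))
(.node (.leaf 1177)
(.leaf 0)))
(.node (.node (.leaf 1160)
(.leaf 1179))
(.node (.leaf 1177)
(.leaf 0))))
(.node (.node (.node (.leaf 11)
(.leaf 1177))
(.node (.leaf 1179)
(.leaf 0)))
(.node (.node (.leaf 1161)
(.leaf 5314))
(.node (.leaf 1179)
(.leaf 0)))))
(.node (.node (.node (.node (.leaf 13)
(.leaf 1177))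
(.node (.leaf 1179)
(.leaf 0)))
(.node (.node (.leaf 1158)
(.leaf 5342))
(.node (.leaf 1156)
(.leaf 0))))
(.node (.node (.node (.leaf 43)
(.leaf 1177))
(.node (.leaf 1179)
(.leaf 0)))
(.node (.node (.leaf 1155)
(.leaf 5362))
(.node (.leaf 1177)
(.leaf 0)))))))
(.node (.node (.node (.node (.node (.node (.leaf 11)
(.leaf 1177))
(.node (.leaf 1156)
(.leaf 5362)))
(.node (.node (.leaf 13)
(.leaf 1177))
(.node (.leaf 1156)
(.leaf 0))))
(.node (.node (.node (.leaf 11)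
(.leaf 1179))
(.node (.leaf 1156)
(.leaf 0)))
(.node (.node (.leaf 1179)
(.leaf 5482))
(.node (.leaf 1179)
(.leaf 0)))))
(.node (.node (.node (.node (.leaf 13)
(.leaf 1177))
(.node (.leaf 1177)
(.leaf 0)))
(.node (.node (.leaf 1156)
(.leaf 5316))
(.node (.leaf 1177)
(.leaf 0))))
(.node (.node (.node (.leaf 11)
(.leaf 1177))
(.node (.leaf 1179)
(.leaf 0)))
(.node (.node (.leaf 1179)
(.leaf 5342))
(.node (.leaf 1177)
(.leaf 0))))))
(.node (.node (.node (.node (.node (.leaf 11)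
(.leaf 1160))
(.node (.leaf 1177)
(.leaf 0)))
(.node (.node (.leaf 1167)
(.leaf 5323))
(.node (.leaf 1161)
(.leaf 0))))
(.node (.node (.node (.leaf 11)
(.leaf 1177))
(.node (.leaf 1156)
(.leaf 0)))
(.node (.node (.leaf 1158)
(.leaf 5342))
(.node (.leaf 1179)
(.leaf 0)))))
(.node (.node (.node (.node (.leaf 11)
(.leaf 1177))
(.node (.leaf 1179)
(.leaf 0)))
(.node (.node (.leaf 1177)
(.leaf 5342))
(.node (.leaf 1177)
(.leaf 0))))
(.node (.node (.node (.leaf 13)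
(.leaf 1177))
(.node (.leaf 1177)
(.leaf 0)))
(.node (.node (.leaf 1179)
(.leaf 5482))
(.node (.leaf 1177)
(.leaf 0)))))))))))
(.node (.node (.node (.node (.node (.node (.node (.node (.node (.node (.leaf 4)
(.leaf 1161))
(.node (.leaf 1156)
(.leaf 5314)))
(.node (.node (.leaf 11)
(.leaf 1158))
(.node (.leaf 1177)
(.leaf 0))))
(.node (.node (.node (.leaf 13)
(.leaf 1177))
(.node (.leaf 1179)
(.leaf 0)))
(.node (.node (.leaf 1177)
(.leaf 5314))
(.node (.leaf 1177)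
(.leaf 0)))))
(.node (.node (.node (.node (.leaf 11)
(.leaf 1177))
(.node (.leaf 1179)
(.leaf 0)))
(.node (.node (.leaf 1156)
(.leaf 5316))
(.node (.leaf 1177)
(.leaf 0))))
(.node (.node (.node (.leaf 13)
(.leaf 1177))
(.node (.leaf 1156)
(.leaf 0)))
(.node (.node (.leaf 1156)
(.leaf 5342))
(.node (.leaf 1177)
(.leaf 0))))))
(.node (.node (.node (.node (.node (.leaf 11)
(.leaf 1177))
(.node (.leaf 1167)
(.leaf 5362)))
(.node (.node (.leaf 1156)
(.leaf 1161))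
(.node (.leaf 1177)
(.leaf 0))))
(.node (.node (.node (.leaf 13)
(.leaf 1177))
(.node (.leaf 1156)
(.leaf 0)))
(.node (.node (.leaf 1161)
(.leaf 5342))
(.node (.leaf 1177)
(.leaf 0)))))
(.node (.node (.node (.node (.leaf 13)
(.leaf 1179))
(.node (.leaf 1179)
(.leaf 0)))
(.node (.node (.leaf 1156)
(.leaf 5314))
(.node (.leaf 1177)
(.leaf 0))))
(.node (.node (.node (.leaf 13)
(.leaf 1177))
(.node (.leaf 1177)
(.leaf 0)))
(.node (.node (.leaf 1179)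
(.leaf 5342))
(.node (.leaf 1177)
(.leaf 0)))))))
(.node (.node (.node (.node (.node (.node (.leaf 13)
(.leaf 1179))
(.node (.leaf 1177)
(.leaf 5342)))
(.node (.node (.leaf 11)
(.leaf 1179))
(.node (.leaf 1177)
(.leaf 0))))
(.node (.node (.node (.leaf 11)
(.leaf 1156))
(.node (.leaf 1177)
(.leaf 0)))
(.node (.node (.leaf 1179)
(.leaf 5342))
(.node (.leaf 1177)
(.leaf 0)))))
(.node (.node (.node (.node (.leaf 11)
(.leaf 1160))
(.node (.leaf 1177)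
(.leaf 0)))
(.node (.node (.leaf 1156)
(.leaf 5314))
(.node (.leaf 1177)
(.leaf 0))))
(.node (.node (.node (.leaf 11)
(.leaf 1177))
(.node (.leaf 1177)
(.leaf 0)))
(.node (.node (.leaf 1177)
(.leaf 5316))
(.node (.leaf 1179)
(.leaf 0))))))
(.node (.node (.node (.node (.node (.leaf 13)
(.leaf 1179))
(.node (.leaf 1179)
(.leaf 0)))
(.node (.node (.leaf 1156)
(.leaf 5316))
(.node (.leaf 1177)
(.leaf 0))))
(.node (.node (.node (.leaf 13)
(.leaf 1179))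
(.node (.leaf 1179)
(.leaf 0)))
(.node (.node (.leaf 1161)
(.leaf 5342))
(.node (.leaf 1177)
(.leaf 0)))))
(.node (.node (.node (.node (.leaf 11)
(.leaf 1155))
(.node (.leaf 1177)
(.leaf 0)))
(.node (.node (.leaf 1156)
(.leaf 5342))
(.node (.leaf 1177)
(.leaf 0))))
(.node (.node (.node (.leaf 13)
(.leaf 1177))
(.node (.leaf 1179)
(.leaf 0)))
(.node (.node (.leaf 1156)
(.leaf 5342))
(.node (.leaf 1177)
(.leaf 0))))))))
(.node (.node (.node (.node (.node (.node (.node (.leaf 11)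
(.leaf 1177))
(.node (.leaf 1179)
(.leaf 5482)))
(.node (.node (.leaf 13)
(.leaf 1156))
(.node (.leaf 1177)
(.leaf 0))))
(.node (.node (.node (.leaf 43)
(.leaf 1177))
(.node (.leaf 1177)
(.leaf 0)))
(.node (.node (.leaf 1177)
(.leaf 5313))
(.node (.leaf 1156)
(.leaf 0)))))
(.node (.node (.node (.node (.leaf 43)
(.leaf 1179))
(.node (.leaf 1156)
(.leaf 0)))
(.node (.node (.leaf 1160)
(.leaf 5342))
(.node (.leaf 1179)
(.leaf 0))))
(.node (.node (.node (.leaf 13)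
(.leaf 1177))
(.node (.leaf 1179)
(.leaf 0)))
(.node (.node (.leaf 1177)
(.leaf 5342))
(.node (.leaf 1177)
(.leaf 0))))))
(.node (.node (.node (.node (.node (.leaf 13)
(.leaf 1179))
(.node (.leaf 1179)
(.leaf 0)))
(.node (.node (.leaf 1156)
(.leaf 1161))
(.node (.leaf 1158)
(.leaf 0))))
(.node (.node (.node (.leaf 43)
(.leaf 1156))
(.node (.leaf 1155)
(.leaf 0)))
(.node (.node (.leaf 1177)
(.leaf 5342))
(.node (.leaf 1177)
(.leaf 0)))))
(.node (.node (.node (.node (.leaf 13)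
(.leaf 1155))
(.node (.leaf 1177)
(.leaf 0)))
(.node (.node (.leaf 1161)
(.leaf 5316))
(.node (.leaf 1179)
(.leaf 0))))
(.node (.node (.node (.leaf 13)
(.leaf 1161))
(.node (.leaf 1177)
(.leaf 0)))
(.node (.node (.leaf 1160)
(.leaf 5342))
(.node (.leaf 1179)
(.leaf 0)))))))
(.node (.node (.node (.node (.node (.node (.leaf 0)
(.leaf 1177))
(.node (.leaf 1161)
(.leaf 5316)))
(.node (.node (.leaf 43)
(.leaf 1179))
(.node (.leaf 1177)
(.leaf 0))))
(.node (.node (.node (.leaf 11)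
(.leaf 1177))
(.node (.leaf 1177)
(.leaf 0)))
(.node (.node (.leaf 1156)
(.leaf 5342))
(.node (.leaf 1177)
(.leaf 0)))))
(.node (.node (.node (.node (.leaf 11)
(.leaf 1161))
(.node (.leaf 1177)
(.leaf 0)))
(.node (.node (.leaf 1160)
(.leaf 5323))
(.node (.leaf 1167)
(.leaf 0))))
(.node (.node (.node (.leaf 43)
(.leaf 1177))
(.node (.leaf 1156)
(.leaf 0)))
(.node (.node (.leaf 1156)
(.leaf 5314))
(.node (.leaf 1156)
(.leaf 0))))))
(.node (.node (.node (.node (.node (.leaf 11)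
(.leaf 1155))
(.node (.leaf 1179)
(.leaf 0)))
(.node (.node (.leaf 1179)
(.leaf 5314))
(.node (.leaf 1177)
(.leaf 0))))
(.node (.node (.node (.leaf 13)
(.leaf 1179))
(.node (.leaf 1177)
(.leaf 0)))
(.node (.node (.leaf 1160)
(.leaf 5342))
(.node (.leaf 1177)
(.leaf 0)))))
(.node (.node (.node (.node (.leaf 11)
(.leaf 1161))
(.node (.leaf 1177)
(.leaf 0)))
(.node (.node (.leaf 1177)
(.leaf 5314))
(.node (.leaf 1179)
(.leaf 0))))
(.node (.node (.node (.leaf 13)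
(.leaf 1177))
(.node (.leaf 1156)
(.leaf 0)))
(.node (.node (.leaf 1177)
(.leaf 5362))
(.node (.leaf 1177)
(.leaf 0)))))))))
(.node (.node (.node (.node (.node (.node (.node (.node (.leaf 0)
(.leaf 1167))
(.node (.leaf 1158)
(.leaf 5314)))
(.node (.node (.leaf 13)
(.leaf 1156))
(.node (.leaf 1177)
(.leaf 0))))
(.node (.node (.node (.leaf 43)
(.leaf 1177))
(.node (.leaf 1177)
(.leaf 0)))
(.node (.node (.leaf 1177)
(.leaf 5342))
(.node (.leaf 1177)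
(.leaf 0)))))
(.node (.node (.node (.node (.leaf 43)
(.leaf 1177))
(.node (.leaf 1156)
(.leaf 0)))
(.node (.node (.leaf 1158)
(.leaf 5316))
(.node (.leaf 1177)
(.leaf 0))))
(.node (.node (.node (.leaf 13)
(.leaf 1177))
(.node (.leaf 1177)
(.leaf 0)))
(.node (.node (.leaf 1177)
(.leaf 5342))
(.node (.leaf 1177)
(.leaf 0))))))
(.node (.node (.node (.node (.node (.leaf 11)
(.leaf 1179))
(.node (.leaf 1156)
(.leaf 5362)))
(.node (.node (.leaf 1158)
(.leaf 1177))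
(.node (.leaf 1177)
(.leaf 0))))
(.node (.node (.node (.leaf 13)
(.leaf 1177))
(.node (.leaf 1156)
(.leaf 0)))
(.node (.node (.leaf 1156)
(.leaf 5342))
(.node (.leaf 1179)
(.leaf 0)))))
(.node (.node (.node (.node (.leaf 11)
(.leaf 1179))
(.node (.leaf 1177)
(.leaf 0)))
(.node (.node (.leaf 1177)
(.leaf 5316))
(.node (.leaf 1177)
(.leaf 0))))
(.node (.node (.node (.leaf 0)
(.leaf 1177))
(.node (.leaf 1177)
(.leaf 0)))
(.node (.node (.leaf 1156)
(.leaf 5342))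
(.node (.leaf 1177)
(.leaf 0)))))))
(.node (.node (.node (.node (.node (.node (.leaf 13)
(.leaf 1167))
(.node (.leaf 1177)
(.leaf 5314)))
(.node (.node (.leaf 63)
(.leaf 1177))
(.node (.leaf 1177)
(.leaf 0))))
(.node (.node (.node (.leaf 11)
(.leaf 1179))
(.node (.leaf 1177)
(.leaf 0)))
(.node (.node (.leaf 1179)
(.leaf 5316))
(.node (.leaf 1177)
(.leaf 0)))))
(.node (.node (.node (.node (.leaf 11)
(.leaf 1177))
(.node (.leaf 1177)
(.leaf 0)))
(.node (.node (.leaf 1177)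
(.leaf 5342))
(.node (.leaf 1177)
(.leaf 0))))
(.node (.node (.node (.leaf 11)
(.leaf 1177))
(.node (.leaf 1177)
(.leaf 0)))
(.node (.node (.leaf 1156)
(.leaf 5314))
(.node (.leaf 1179)
(.leaf 0))))))
(.node (.node (.node (.node (.node (.leaf 11)
(.leaf 1177))
(.node (.leaf 1177)
(.leaf 0)))
(.node (.node (.leaf 1158)
(.leaf 5314))
(.node (.leaf 1158)
(.leaf 0))))
(.node (.node (.node (.leaf 11)
(.leaf 1179))
(.node (.leaf 1177)
(.leaf 0)))
(.node (.node (.leaf 1179)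
(.leaf 5314))
(.node (.leaf 1177)
(.leaf 0)))))
(.node (.node (.node (.node (.leaf 13)
(.leaf 1177))
(.node (.leaf 1161)
(.leaf 0)))
(.node (.node (.leaf 1160)
(.leaf 5314))
(.node (.leaf 1177)
(.leaf 0))))
(.node (.node (.node (.leaf 43)
(.leaf 1161))
(.node (.leaf 1179)
(.leaf 0)))
(.node (.node (.leaf 1179)
(.leaf 5314))
(.node (.leaf 1179)
(.leaf 0))))))))
(.node (.node (.node (.node (.node (.node (.node (.leaf 11)
(.leaf 1179))
(.node (.leaf 1177)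
(.leaf 5342)))
(.node (.node (.leaf 11)
(.leaf 1177))
(.node (.leaf 1177)
(.leaf 0))))
(.node (.node (.node (.leaf 11)
(.leaf 1179))
(.node (.leaf 1158)
(.leaf 0)))
(.node (.node (.leaf 1179)
(.leaf 5342))
(.node (.leaf 1156)
(.leaf 0)))))
(.node (.node (.node (.node (.leaf 13)
(.leaf 1161))
(.node (.leaf 1177)
(.leaf 0)))
(.node (.node (.leaf 1179)
(.leaf 5314))
(.node (.leaf 1179)
(.leaf 0))))
(.node (.node (.node (.leaf 11)
(.leaf 1179))
(.node (.leaf 1167)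
(.leaf 0)))
(.node (.node (.leaf 1156)
(.leaf 5342))
(.node (.leaf 1177)
(.leaf 0))))))
(.node (.node (.node (.node (.node (.leaf 11)
(.leaf 1177))
(.node (.leaf 1179)
(.leaf 0)))
(.node (.node (.leaf 1161)
(.leaf 1177))
(.node (.leaf 1177)
(.leaf 0))))
(.node (.node (.node (.leaf 43)
(.leaf 1161))
(.node (.leaf 1177)
(.leaf 0)))
(.node (.node (.leaf 1156)
(.leaf 5342))
(.node (.leaf 1156)
(.leaf 0)))))
(.node (.node (.node (.node (.leaf 43)
(.leaf 1177))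
(.node (.leaf 1177)
(.leaf 0)))
(.node (.node (.leaf 1156)
(.leaf 5314))
(.node (.leaf 1177)
(.leaf 0))))
(.node (.node (.node (.leaf 13)
(.leaf 1177))
(.node (.leaf 1177)
(.leaf 0)))
(.node (.node (.leaf 1160)
(.leaf 5314))
(.node (.leaf 1179)
(.leaf 0)))))))
(.node (.node (.node (.node (.node (.node (.leaf 0)
(.leaf 1179))
(.node (.leaf 1179)
(.leaf 5342)))
(.node (.node (.leaf 13)
(.leaf 1177))
(.node (.leaf 1179)
(.leaf 0))))
(.node (.node (.node (.leaf 13)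
(.leaf 1177))
(.node (.leaf 1155)
(.leaf 0)))
(.node (.node (.leaf 1177)
(.leaf 5342))
(.node (.leaf 1177)
(.leaf 0)))))
(.node (.node (.node (.node (.leaf 13)
(.leaf 1177))
(.node (.leaf 1177)
(.leaf 0)))
(.node (.node (.leaf 1156)
(.leaf 5314))
(.node (.leaf 1160)
(.leaf 0))))
(.node (.node (.node (.leaf 43)
(.leaf 1177))
(.node (.leaf 1158)
(.leaf 0)))
(.node (.node (.leaf 1156)
(.leaf 5362))
(.node (.leaf 1177)
(.leaf 0))))))
(.node (.node (.node (.node (.node (.leaf 11)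
(.leaf 1179))
(.node (.leaf 1179)
(.leaf 0)))
(.node (.node (.leaf 1177)
(.leaf 5313))
(.node (.leaf 1167)
(.leaf 0))))
(.node (.node (.node (.leaf 13)
(.leaf 1177))
(.node (.leaf 1158)
(.leaf 0)))
(.node (.node (.leaf 1177)
(.leaf 5342))
(.node (.leaf 1161)
(.leaf 0)))))
(.node (.node (.node (.node (.leaf 43)
(.leaf 1177))
(.node (.leaf 1177)
(.leaf 0)))
(.node (.node (.leaf 1177)
(.leaf 5314))
(.node (.leaf 1177)
(.leaf 0))))
(.node (.node (.node (.leaf 13)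
(.leaf 1177))
(.node (.leaf 1158)
(.leaf 0)))
(.node (.node (.leaf 1156)
(.leaf 5342))
(.node (.leaf 1167)
(.leaf 0))))))))))
(.node (.node (.node (.node (.node (.node (.node (.node (.node (.leaf 13)
(.leaf 1179))
(.node (.leaf 1156)
(.leaf 5482)))
(.node (.node (.leaf 43)
(.leaf 1158))
(.node (.leaf 1158)
(.leaf 0))))
(.node (.node (.node (.leaf 11)
(.leaf 1177))
(.node (.leaf 1179)
(.leaf 0)))
(.node (.node (.leaf 1177)
(.leaf 5342))
(.node (.leaf 1179)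
(.leaf 0)))))
(.node (.node (.node (.node (.leaf 13)
(.leaf 1177))
(.node (.leaf 1156)
(.leaf 0)))
(.node (.node (.leaf 1161)
(.leaf 5314))
(.node (.leaf 1177)
(.leaf 0))))
(.node (.node (.node (.leaf 13)
(.leaf 1177))
(.node (.leaf 1179)
(.leaf 0)))
(.node (.node (.leaf 1156)
(.leaf 5342))
(.node (.leaf 1177)
(.leaf 0))))))
(.node (.node (.node (.node (.node (.leaf 13)
(.leaf 1179))
(.node (.leaf 1167)
(.leaf 5342)))
(.node (.node (.leaf 1161)
(.leaf 1167))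
(.node (.leaf 1177)
(.leaf 0))))
(.node (.node (.node (.leaf 11)
(.leaf 1177))
(.node (.leaf 1167)
(.leaf 0)))
(.node (.node (.leaf 1177)
(.leaf 5342))
(.node (.leaf 1179)
(.leaf 0)))))
(.node (.node (.node (.node (.leaf 43)
(.leaf 1177))
(.node (.leaf 1160)
(.leaf 0)))
(.node (.node (.leaf 1158)
(.leaf 5342))
(.node (.leaf 1179)
(.leaf 0))))
(.node (.node (.node (.leaf 13)
(.leaf 1177))
(.node (.leaf 1158)
(.leaf 0)))
(.node (.node (.leaf 1177)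
(.leaf 5342))
(.node (.leaf 1179)
(.leaf 0)))))))
(.node (.node (.node (.node (.node (.node (.leaf 11)
(.leaf 1177))
(.node (.leaf 1177)
(.leaf 5362)))
(.node (.node (.leaf 43)
(.leaf 1177))
(.node (.leaf 1177)
(.leaf 0))))
(.node (.node (.node (.leaf 13)
(.leaf 1179))
(.node (.leaf 1177)
(.leaf 0)))
(.node (.node (.leaf 1161)
(.leaf 5314))
(.node (.leaf 1179)
(.leaf 0)))))
(.node (.node (.node (.node (.leaf 13)
(.leaf 1155))
(.node (.leaf 1177)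
(.leaf 0)))
(.node (.node (.leaf 1161)
(.leaf 5323))
(.node (.leaf 1177)
(.leaf 0))))
(.node (.node (.node (.leaf 13)
(.leaf 1177))
(.node (.leaf 1177)
(.leaf 0)))
(.node (.node (.leaf 1179)
(.leaf 5342))
(.node (.leaf 1177)
(.leaf 0))))))
(.node (.node (.node (.node (.node (.leaf 43)
(.leaf 1177))
(.node (.leaf 1155)
(.leaf 0)))
(.node (.node (.leaf 1156)
(.leaf 5314))
(.node (.leaf 1177)
(.leaf 0))))
(.node (.node (.node (.leaf 11)
(.leaf 1177))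
(.node (.leaf 1179)
(.leaf 0)))
(.node (.node (.leaf 1156)
(.leaf 5342))
(.node (.leaf 1179)
(.leaf 0)))))
(.node (.node (.node (.node (.leaf 43)
(.leaf 1177))
(.node (.leaf 1179)
(.leaf 0)))
(.node (.node (.leaf 1158)
(.leaf 5342))
(.node (.leaf 1177)
(.leaf 0))))
(.node (.node (.node (.leaf 11)
(.leaf 1179))
(.node (.leaf 1179)
(.leaf 0)))
(.node (.node (.leaf 1158)
(.leaf 5316))
(.node (.leaf 1177)
(.leaf 0))))))))
(.node (.node (.node (.node (.node (.node (.node (.leaf 11)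
(.leaf 1179))
(.node (.leaf 1179)
(.leaf 5362)))
(.node (.node (.leaf 11)
(.leaf 1177))
(.node (.leaf 1156)
(.leaf 0))))
(.node (.node (.node (.leaf 11)
(.leaf 1177))
(.node (.leaf 1179)
(.leaf 0)))
(.node (.node (.leaf 1177)
(.leaf 5342))
(.node (.leaf 1177)
(.leaf 0)))))
(.node (.node (.node (.node (.leaf 4)
(.leaf 1177))
(.node (.leaf 1177)
(.leaf 0)))
(.node (.node (.leaf 1158)
(.leaf 5342))
(.node (.leaf 1177)
(.leaf 0))))
(.node (.node (.node (.leaf 11)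
(.leaf 1177))
(.node (.leaf 1177)
(.leaf 0)))
(.node (.node (.leaf 1156)
(.leaf 5342))
(.node (.leaf 1158)
(.leaf 0))))))
(.node (.node (.node (.node (.node (.leaf 13)
(.leaf 1177))
(.node (.leaf 1179)
(.leaf 0)))
(.node (.node (.leaf 1156)
(.leaf 1179))
(.node (.leaf 1158)
(.leaf 0))))
(.node (.node (.node (.leaf 13)
(.leaf 1179))
(.node (.leaf 1179)
(.leaf 0)))
(.node (.node (.leaf 1179)
(.leaf 5342))
(.node (.leaf 1177)
(.leaf 0)))))
(.node (.node (.node (.node (.leaf 11)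
(.leaf 1179))
(.node (.leaf 1179)
(.leaf 0)))
(.node (.node (.leaf 1158)
(.leaf 5316))
(.node (.leaf 1156)
(.leaf 0))))
(.node (.node (.node (.leaf 43)
(.leaf 1177))
(.node (.leaf 1179)
(.leaf 0)))
(.node (.node (.leaf 1179)
(.leaf 5342))
(.node (.leaf 1179)
(.leaf 0)))))))
(.node (.node (.node (.node (.node (.node (.leaf 13)
(.leaf 1179))
(.node (.leaf 1156)
(.leaf 5362)))
(.node (.node (.leaf 13)
(.leaf 1161))
(.node (.leaf 1179)
(.leaf 0))))
(.node (.node (.node (.leaf 13)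
(.leaf 1177))
(.node (.leaf 1179)
(.leaf 0)))
(.node (.node (.leaf 1156)
(.leaf 5342))
(.node (.leaf 1158)
(.leaf 0)))))
(.node (.node (.node (.node (.leaf 43)
(.leaf 1177))
(.node (.leaf 1179)
(.leaf 0)))
(.node (.node (.leaf 1161)
(.leaf 5313))
(.node (.leaf 1177)
(.leaf 0))))
(.node (.node (.node (.leaf 11)
(.leaf 1177))
(.node (.leaf 1177)
(.leaf 0)))
(.node (.node (.leaf 1158)
(.leaf 5342))
(.node (.leaf 1177)
(.leaf 0))))))
(.node (.node (.node (.node (.node (.leaf 13)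
(.leaf 1177))
(.node (.leaf 1179)
(.leaf 0)))
(.node (.node (.leaf 1177)
(.leaf 5323))
(.node (.leaf 1177)
(.leaf 0))))
(.node (.node (.node (.leaf 13)
(.leaf 1179))
(.node (.leaf 1179)
(.leaf 0)))
(.node (.node (.leaf 1156)
(.leaf 5342))
(.node (.leaf 1177)
(.leaf 0)))))
(.node (.node (.node (.node (.leaf 0)
(.leaf 1177))
(.node (.leaf 1179)
(.leaf 0)))
(.node (.node (.leaf 1160)
(.leaf 5313))
(.node (.leaf 1177)
(.leaf 0))))
(.node (.node (.node (.leaf 63)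
(.leaf 1161))
(.node (.leaf 1177)
(.leaf 0)))
(.node (.node (.leaf 1161)
(.leaf 5342))
(.node (.leaf 1155)
(.leaf 0)))))))))
(.node (.node (.node (.node (.node (.node (.node (.node (.leaf 0)
(.leaf 1160))
(.node (.leaf 1177)
(.leaf 5342)))
(.node (.node (.leaf 13)
(.leaf 1156))
(.node (.leaf 1177)
(.leaf 0))))
(.node (.node (.node (.leaf 11)
(.leaf 1177))
(.node (.leaf 1161)
(.leaf 0)))
(.node (.node (.leaf 1161)
(.leaf 5314))
(.node (.leaf 1177)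
(.leaf 0)))))
(.node (.node (.node (.node (.leaf 11)
(.leaf 1161))
(.node (.leaf 1179)
(.leaf 0)))
(.node (.node (.leaf 1158)
(.leaf 5316))
(.node (.leaf 1161)
(.leaf 0))))
(.node (.node (.node (.leaf 11)
(.leaf 1156))
(.node (.leaf 1179)
(.leaf 0)))
(.node (.node (.leaf 1177)
(.leaf 5342))
(.node (.leaf 1177)
(.leaf 0))))))
(.node (.node (.node (.node (.node (.leaf 11)
(.leaf 1177))
(.node (.leaf 1156)
(.leaf 5342)))
(.node (.node (.leaf 1167)
(.leaf 1177))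
(.node (.leaf 1177)
(.leaf 0))))
(.node (.node (.node (.leaf 43)
(.leaf 1156))
(.node (.leaf 1179)
(.leaf 0)))
(.node (.node (.leaf 1161)
(.leaf 5362))
(.node (.leaf 1158)
(.leaf 0)))))
(.node (.node (.node (.node (.leaf 11)
(.leaf 1179))
(.node (.leaf 1177)
(.leaf 0)))
(.node (.node (.leaf 1156)
(.leaf 5314))
(.node (.leaf 1179)
(.leaf 0))))
(.node (.node (.node (.leaf 11)
(.leaf 1177))
(.node (.leaf 1177)
(.leaf 0)))
(.node (.node (.leaf 1156)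
(.leaf 5342))
(.node (.leaf 1156)
(.leaf 0)))))))
(.node (.node (.node (.node (.node (.node (.leaf 11)
(.leaf 1177))
(.node (.leaf 1177)
(.leaf 5314)))
(.node (.node (.leaf 43)
(.leaf 1160))
(.node (.leaf 1179)
(.leaf 0))))
(.node (.node (.node (.leaf 0)
(.leaf 1177))
(.node (.leaf 1167)
(.leaf 0)))
(.node (.node (.leaf 1161)
(.leaf 5342))
(.node (.leaf 1179)
(.leaf 0)))))
(.node (.node (.node (.node (.leaf 11)
(.leaf 1177))
(.node (.leaf 1167)
(.leaf 0)))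
(.node (.node (.leaf 1167)
(.leaf 5342))
(.node (.leaf 1156)
(.leaf 0))))
(.node (.node (.node (.leaf 43)
(.leaf 1177))
(.node (.leaf 1156)
(.leaf 0)))
(.node (.node (.leaf 1160)
(.leaf 5342))
(.node (.leaf 1179)
(.leaf 0))))))
(.node (.node (.node (.node (.node (.leaf 43)
(.leaf 1167))
(.node (.leaf 1179)
(.leaf 0)))
(.node (.node (.leaf 1179)
(.leaf 5316))
(.node (.leaf 1158)
(.leaf 0))))
(.node (.node (.node (.leaf 13)
(.leaf 1179))
(.node (.leaf 1179)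
(.leaf 0)))
(.node (.node (.leaf 1177)
(.leaf 5342))
(.node (.leaf 1156)
(.leaf 0)))))
(.node (.node (.node (.node (.leaf 11)
(.leaf 1156))
(.node (.leaf 1177)
(.leaf 0)))
(.node (.node (.leaf 1179)
(.leaf 5342))
(.node (.leaf 1177)
(.leaf 0))))
(.node (.node (.node (.leaf 11)
(.leaf 1177))
(.node (.leaf 1177)
(.leaf 0)))
(.node (.node (.leaf 1177)
(.leaf 5342))
(.node (.leaf 1156)
(.leaf 0))))))))
(.node (.node (.node (.node (.node (.node (.node (.leaf 11)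
(.leaf 1177))
(.node (.leaf 1177)
(.leaf 5482)))
(.node (.node (.leaf 43)
(.leaf 1177))
(.node (.leaf 1177)
(.leaf 0))))
(.node (.node (.node (.leaf 63)
(.leaf 1177))
(.node (.leaf 1177)
(.leaf 0)))
(.node (.node (.leaf 1160)
(.leaf 5314))
(.node (.leaf 1177)
(.leaf 0)))))
(.node (.node (.node (.node (.leaf 13)
(.leaf 1161))
(.node (.leaf 1161)
(.leaf 0)))
(.node (.node (.leaf 1156)
(.leaf 5314))
(.node (.leaf 1177)
(.leaf 0))))
(.node (.node (.node (.leaf 63)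
(.leaf 1156))
(.node (.leaf 1179)
(.leaf 0)))
(.node (.node (.leaf 1177)
(.leaf 5342))
(.node (.leaf 1179)
(.leaf 0))))))
(.node (.node (.node (.node (.node (.leaf 11)
(.leaf 1177))
(.node (.leaf 1156)
(.leaf 0)))
(.node (.node (.leaf 1158)
(.leaf 1179))
(.node (.leaf 1156)
(.leaf 0))))
(.node (.node (.node (.leaf 13)
(.leaf 1179))
(.node (.leaf 1177)
(.leaf 0)))
(.node (.node (.leaf 1167)
(.leaf 5342))
(.node (.leaf 1179)
(.leaf 0)))))
(.node (.node (.node (.node (.leaf 43)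
(.leaf 1179))
(.node (.leaf 1177)
(.leaf 0)))
(.node (.node (.leaf 1158)
(.leaf 5342))
(.node (.leaf 1158)
(.leaf 0))))
(.node (.node (.node (.leaf 63)
(.leaf 1177))
(.node (.leaf 1177)
(.leaf 0)))
(.node (.node (.leaf 1161)
(.leaf 5342))
(.node (.leaf 1177)
(.leaf 0)))))))
(.node (.node (.node (.node (.node (.node (.leaf 13)
(.leaf 1177))
(.node (.leaf 1179)
(.leaf 5342)))
(.node (.node (.leaf 13)
(.leaf 1160))
(.node (.leaf 1177)
(.leaf 0))))
(.node (.node (.node (.leaf 43)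
(.leaf 1179))
(.node (.leaf 1177)
(.leaf 0)))
(.node (.node (.leaf 1179)
(.leaf 5342))
(.node (.leaf 1158)
(.leaf 0)))))
(.node (.node (.node (.node (.leaf 13)
(.leaf 1177))
(.node (.leaf 1156)
(.leaf 0)))
(.node (.node (.leaf 1177)
(.leaf 5316))
(.node (.leaf 1155)
(.leaf 0))))
(.node (.node (.node (.leaf 43)
(.leaf 1177))
(.node (.leaf 1156)
(.leaf 0)))
(.node (.node (.leaf 1177)
(.leaf 5342))
(.node (.leaf 1177)
(.leaf 0))))))
(.node (.node (.node (.node (.node (.leaf 11)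
(.leaf 1177))
(.node (.leaf 1179)
(.leaf 0)))
(.node (.node (.leaf 1156)
(.leaf 5316))
(.node (.leaf 1161)
(.leaf 0))))
(.node (.node (.node (.leaf 13)
(.leaf 1177))
(.node (.leaf 1177)
(.leaf 0)))
(.node (.node (.leaf 1158)
(.leaf 5342))
(.node (.leaf 1177)
(.leaf 0)))))
(.node (.node (.node (.node (.leaf 43)
(.leaf 1177))
(.node (.leaf 1161)
(.leaf 0)))
(.node (.node (.leaf 1177)
(.leaf 5314))
(.node (.leaf 1179)
(.leaf 0))))
(.node (.node (.node (.leaf 11)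
(.leaf 1177))
(.node (.leaf 1158)
(.leaf 0)))
(.node (.node (.leaf 1179)
(.leaf 5362))
(.node (.leaf 1177)
(.leaf 0))))))))))))
(.node (.node (.node (.node (.node (.node (.node (.node (.node (.node (.node (.leaf 0)
(.leaf 1161))
(.node (.leaf 1156)
(.leaf 5342)))
(.node (.node (.leaf 13)
(.leaf 1177))
(.node (.leaf 1177)
(.leaf 0))))
(.node (.node (.node (.leaf 43)
(.leaf 1161))
(.node (.leaf 1161)
(.leaf 0)))
(.node (.node (.leaf 1179)
(.leaf 5314))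
(.node (.leaf 1177)
(.leaf 0)))))
(.node (.node (.node (.node (.leaf 11)
(.leaf 1161))
(.node (.leaf 1179)
(.leaf 0)))
(.node (.node (.leaf 1160)
(.leaf 5316))
(.node (.leaf 1177)
(.leaf 0))))
(.node (.node (.node (.leaf 11)
(.leaf 1179))
(.node (.leaf 1156)
(.leaf 0)))
(.node (.node (.leaf 1156)
(.leaf 5342))
(.node (.leaf 1177)
(.leaf 0))))))
(.node (.node (.node (.node (.node (.leaf 11)
(.leaf 1177))
(.node (.leaf 1177)
(.leaf 5362)))
(.node (.node (.leaf 1155)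
(.leaf 1177))
(.node (.leaf 1177)
(.leaf 0))))
(.node (.node (.node (.leaf 13)
(.leaf 1177))
(.node (.leaf 1167)
(.leaf 0)))
(.node (.node (.leaf 1179)
(.leaf 5314))
(.node (.leaf 1177)
(.leaf 0)))))
(.node (.node (.node (.node (.leaf 11)
(.leaf 1177))
(.node (.leaf 1177)
(.leaf 0)))
(.node (.node (.leaf 1158)
(.leaf 5316))
(.node (.leaf 1177)
(.leaf 0))))
(.node (.node (.node (.leaf 43)
(.leaf 1167))
(.node (.leaf 1177)
(.leaf 0)))
(.node (.node (.leaf 1177)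
(.leaf 5342))
(.node (.leaf 1177)
(.leaf 0)))))))
(.node (.node (.node (.node (.node (.node (.leaf 11)
(.leaf 1179))
(.node (.leaf 1177)
(.leaf 5314)))
(.node (.node (.leaf 11)
(.leaf 1177))
(.node (.leaf 1177)
(.leaf 0))))
(.node (.node (.node (.leaf 13)
(.leaf 1156))
(.node (.leaf 1179)
(.leaf 0)))
(.node (.node (.leaf 1179)
(.leaf 5342))
(.node (.leaf 1167)
(.leaf 0)))))
(.node (.node (.node (.node (.leaf 11)
(.leaf 1177))
(.node (.leaf 1177)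
(.leaf 0)))
(.node (.node (.leaf 1161)
(.leaf 5314))
(.node (.leaf 1179)
(.leaf 0))))
(.node (.node (.node (.leaf 11)
(.leaf 1179))
(.node (.leaf 1177)
(.leaf 0)))
(.node (.node (.leaf 1177)
(.leaf 5342))
(.node (.leaf 1179)
(.leaf 0))))))
(.node (.node (.node (.node (.node (.leaf 13)
(.leaf 1179))
(.node (.leaf 1179)
(.leaf 0)))
(.node (.node (.leaf 1156)
(.leaf 5314))
(.node (.leaf 1158)
(.leaf 0))))
(.node (.node (.node (.leaf 11)
(.leaf 1179))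
(.node (.leaf 1179)
(.leaf 0)))
(.node (.node (.leaf 1156)
(.leaf 5342))
(.node (.leaf 1177)
(.leaf 0)))))
(.node (.node (.node (.node (.leaf 11)
(.leaf 1179))
(.node (.leaf 1177)
(.leaf 0)))
(.node (.node (.leaf 1156)
(.leaf 5342))
(.node (.leaf 1158)
(.leaf 0))))
(.node (.node (.node (.leaf 11)
(.leaf 1179))
(.node (.leaf 1179)
(.leaf 0)))
(.node (.node (.leaf 1156)
(.leaf 5314))
(.node (.leaf 1158)
(.leaf 0))))))))
(.node (.node (.node (.node (.node (.node (.node (.leaf 11)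
(.leaf 1177))
(.node (.leaf 1179)
(.leaf 5342)))
(.node (.node (.leaf 13)
(.leaf 1177))
(.node (.leaf 1177)
(.leaf 0))))
(.node (.node (.node (.leaf 11)
(.leaf 1177))
(.node (.leaf 1160)
(.leaf 0)))
(.node (.node (.leaf 1177)
(.leaf 5342))
(.node (.leaf 1179)
(.leaf 0)))))
(.node (.node (.node (.node (.leaf 11)
(.leaf 1177))
(.node (.leaf 1161)
(.leaf 0)))
(.node (.node (.leaf 1177)
(.leaf 5342))
(.node (.leaf 1177)
(.leaf 0))))
(.node (.node (.node (.leaf 43)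
(.leaf 1177))
(.node (.leaf 1179)
(.leaf 0)))
(.node (.node (.leaf 1179)
(.leaf 5342))
(.node (.leaf 1177)
(.leaf 0))))))
(.node (.node (.node (.node (.node (.leaf 43)
(.leaf 1179))
(.node (.leaf 1160)
(.leaf 0)))
(.node (.node (.leaf 1161)
(.leaf 1161))
(.node (.leaf 1177)
(.leaf 0))))
(.node (.node (.node (.leaf 43)
(.leaf 1156))
(.node (.leaf 1177)
(.leaf 0)))
(.node (.node (.leaf 1177)
(.leaf 5342))
(.node (.leaf 1177)
(.leaf 0)))))
(.node (.node (.node (.node (.leaf 13)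
(.leaf 1160))
(.node (.leaf 1177)
(.leaf 0)))
(.node (.node (.leaf 1155)
(.leaf 5342))
(.node (.leaf 1160)
(.leaf 0))))
(.node (.node (.node (.leaf 11)
(.leaf 1179))
(.node (.leaf 1177)
(.leaf 0)))
(.node (.node (.leaf 1177)
(.leaf 5342))
(.node (.leaf 1158)
(.leaf 0)))))))
(.node (.node (.node (.node (.node (.node (.leaf 11)
(.leaf 1177))
(.node (.leaf 1177)
(.leaf 5342)))
(.node (.node (.leaf 63)
(.leaf 1179))
(.node (.leaf 1177)
(.leaf 0))))
(.node (.node (.node (.leaf 43)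
(.leaf 1167))
(.node (.leaf 1161)
(.leaf 0)))
(.node (.node (.leaf 1160)
(.leaf 5314))
(.node (.leaf 1179)
(.leaf 0)))))
(.node (.node (.node (.node (.leaf 11)
(.leaf 1158))
(.node (.leaf 1177)
(.leaf 0)))
(.node (.node (.leaf 1160)
(.leaf 5314))
(.node (.leaf 1177)
(.leaf 0))))
(.node (.node (.node (.leaf 13)
(.leaf 1156))
(.node (.leaf 1179)
(.leaf 0)))
(.node (.node (.leaf 1156)
(.leaf 5342))
(.node (.leaf 1156)
(.leaf 0))))))
(.node (.node (.node (.node (.node (.leaf 63)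
(.leaf 1177))
(.node (.leaf 1177)
(.leaf 0)))
(.node (.node (.leaf 1179)
(.leaf 5323))
(.node (.leaf 1177)
(.leaf 0))))
(.node (.node (.node (.leaf 13)
(.leaf 1177))
(.node (.leaf 1160)
(.leaf 0)))
(.node (.node (.leaf 1177)
(.leaf 5342))
(.node (.leaf 1177)
(.leaf 0)))))
(.node (.node (.node (.node (.leaf 11)
(.leaf 1179))
(.node (.leaf 1179)
(.leaf 0)))
(.node (.node (.leaf 1179)
(.leaf 5342))
(.node (.leaf 1161)
(.leaf 0))))
(.node (.node (.node (.leaf 43)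
(.leaf 1156))
(.node (.leaf 1179)
(.leaf 0)))
(.node (.node (.leaf 1177)
(.leaf 5342))
(.node (.leaf 1177)
(.leaf 0)))))))))
(.node (.node (.node (.node (.node (.node (.node (.node (.leaf 0)
(.leaf 1161))
(.node (.leaf 1177)
(.leaf 5342)))
(.node (.node (.leaf 43)
(.leaf 1156))
(.node (.leaf 1177)
(.leaf 0))))
(.node (.node (.node (.leaf 11)
(.leaf 1177))
(.node (.leaf 1160)
(.leaf 0)))
(.node (.node (.leaf 1177)
(.leaf 5314))
(.node (.leaf 1158)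
(.leaf 0)))))
(.node (.node (.node (.node (.leaf 11)
(.leaf 1177))
(.node (.leaf 1158)
(.leaf 0)))
(.node (.node (.leaf 1161)
(.leaf 5314))
(.node (.leaf 1179)
(.leaf 0))))
(.node (.node (.node (.leaf 11)
(.leaf 1177))
(.node (.leaf 1167)
(.leaf 0)))
(.node (.node (.leaf 1177)
(.leaf 5316))
(.node (.leaf 1161)
(.leaf 0))))))
(.node (.node (.node (.node (.node (.leaf 11)
(.leaf 1177))
(.node (.leaf 1177)
(.leaf 5362)))
(.node (.node (.leaf 1171)
(.leaf 1177))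
(.node (.leaf 1177)
(.leaf 0))))
(.node (.node (.node (.leaf 11)
(.leaf 1177))
(.node (.leaf 1156)
(.leaf 0)))
(.node (.node (.leaf 1156)
(.leaf 5342))
(.node (.leaf 1179)
(.leaf 0)))))
(.node (.node (.node (.node (.leaf 13)
(.leaf 1177))
(.node (.leaf 1177)
(.leaf 0)))
(.node (.node (.leaf 1156)
(.leaf 5314))
(.node (.leaf 1179)
(.leaf 0))))
(.node (.node (.node (.leaf 43)
(.leaf 1177))
(.node (.leaf 1177)
(.leaf 0)))
(.node (.node (.leaf 1156)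
(.leaf 5342))
(.node (.leaf 1156)
(.leaf 0)))))))
(.node (.node (.node (.node (.node (.node (.leaf 43)
(.leaf 1156))
(.node (.leaf 1156)
(.leaf 5342)))
(.node (.node (.leaf 13)
(.leaf 1179))
(.node (.leaf 1177)
(.leaf 0))))
(.node (.node (.node (.leaf 11)
(.leaf 1179))
(.node (.leaf 1179)
(.leaf 0)))
(.node (.node (.leaf 1179)
(.leaf 5314))
(.node (.leaf 1177)
(.leaf 0)))))
(.node (.node (.node (.node (.leaf 13)
(.leaf 1161))
(.node (.leaf 1177)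
(.leaf 0)))
(.node (.node (.leaf 1161)
(.leaf 5342))
(.node (.leaf 1179)
(.leaf 0))))
(.node (.node (.node (.leaf 11)
(.leaf 1156))
(.node (.leaf 1177)
(.leaf 0)))
(.node (.node (.leaf 1158)
(.leaf 5316))
(.node (.leaf 1177)
(.leaf 0))))))
(.node (.node (.node (.node (.node (.leaf 43)
(.leaf 1177))
(.node (.leaf 1177)
(.leaf 0)))
(.node (.node (.leaf 1156)
(.leaf 5316))
(.node (.leaf 1179)
(.leaf 0))))
(.node (.node (.node (.leaf 43)
(.leaf 1177))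
(.node (.leaf 1179)
(.leaf 0)))
(.node (.node (.leaf 1177)
(.leaf 5342))
(.node (.leaf 1177)
(.leaf 0)))))
(.node (.node (.node (.node (.leaf 13)
(.leaf 1156))
(.node (.leaf 1161)
(.leaf 0)))
(.node (.node (.leaf 1158)
(.leaf 5342))
(.node (.leaf 1177)
(.leaf 0))))
(.node (.node (.node (.leaf 11)
(.leaf 1177))
(.node (.leaf 1177)
(.leaf 0)))
(.node (.node (.leaf 1161)
(.leaf 5314))
(.node (.leaf 1179)
(.leaf 0))))))))
(.node (.node (.node (.node (.node (.node (.node (.leaf 13)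
(.leaf 1179))
(.node (.leaf 1179)
(.leaf 5314)))
(.node (.node (.leaf 13)
(.leaf 1177))
(.node (.leaf 1177)
(.leaf 0))))
(.node (.node (.node (.leaf 63)
(.leaf 1179))
(.node (.leaf 1177)
(.leaf 0)))
(.node (.node (.leaf 1177)
(.leaf 5316))
(.node (.leaf 1177)
(.leaf 0)))))
(.node (.node (.node (.node (.leaf 13)
(.leaf 1177))
(.node (.leaf 1179)
(.leaf 0)))
(.node (.node (.leaf 1177)
(.leaf 5313))
(.node (.leaf 1177)
(.leaf 0))))
(.node (.node (.node (.leaf 43)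
(.leaf 1179))
(.node (.leaf 1177)
(.leaf 0)))
(.node (.node (.leaf 1177)
(.leaf 5342))
(.node (.leaf 1177)
(.leaf 0))))))
(.node (.node (.node (.node (.node (.leaf 13)
(.leaf 1179))
(.node (.leaf 1158)
(.leaf 0)))
(.node (.node (.leaf 1158)
(.leaf 1177))
(.node (.leaf 1177)
(.leaf 0))))
(.node (.node (.node (.leaf 11)
(.leaf 1177))
(.node (.leaf 1177)
(.leaf 0)))
(.node (.node (.leaf 1177)
(.leaf 5342))
(.node (.leaf 1158)
(.leaf 0)))))
(.node (.node (.node (.node (.leaf 43)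
(.leaf 1177))
(.node (.leaf 1177)
(.leaf 0)))
(.node (.node (.leaf 1167)
(.leaf 5342))
(.node (.leaf 1156)
(.leaf 0))))
(.node (.node (.node (.leaf 63)
(.leaf 1177))
(.node (.leaf 1179)
(.leaf 0)))
(.node (.node (.leaf 1179)
(.leaf 5342))
(.node (.leaf 1179)
(.leaf 0)))))))
(.node (.node (.node (.node (.node (.node (.leaf 11)
(.leaf 1177))
(.node (.leaf 1156)
(.leaf 5342)))
(.node (.node (.leaf 13)
(.leaf 1177))
(.node (.leaf 1156)
(.leaf 0))))
(.node (.node (.node (.leaf 11)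
(.leaf 1177))
(.node (.leaf 1179)
(.leaf 0)))
(.node (.node (.leaf 1177)
(.leaf 5342))
(.node (.leaf 1179)
(.leaf 0)))))
(.node (.node (.node (.node (.leaf 11)
(.leaf 1160))
(.node (.leaf 1179)
(.leaf 0)))
(.node (.node (.leaf 1158)
(.leaf 5316))
(.node (.leaf 1177)
(.leaf 0))))
(.node (.node (.node (.leaf 13)
(.leaf 1177))
(.node (.leaf 1179)
(.leaf 0)))
(.node (.node (.leaf 1158)
(.leaf 5362))
(.node (.leaf 1179)
(.leaf 0))))))
(.node (.node (.node (.node (.node (.leaf 13)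
(.leaf 1177))
(.node (.leaf 1177)
(.leaf 0)))
(.node (.node (.leaf 1179)
(.leaf 5314))
(.node (.leaf 1177)
(.leaf 0))))
(.node (.node (.node (.leaf 11)
(.leaf 1177))
(.node (.leaf 1179)
(.leaf 0)))
(.node (.node (.leaf 1177)
(.leaf 5342))
(.node (.leaf 1161)
(.leaf 0)))))
(.node (.node (.node (.node (.leaf 43)
(.leaf 1177))
(.node (.leaf 1177)
(.leaf 0)))
(.node (.node (.leaf 1155)
(.leaf 5316))
(.node (.leaf 1177)
(.leaf 0))))
(.node (.node (.node (.leaf 43)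
(.leaf 1177))
(.node (.leaf 1177)
(.leaf 0)))
(.node (.node (.leaf 1156)
(.leaf 5482))
(.node (.leaf 1177)
(.leaf 0))))))))))
(.node (.node (.node (.node (.node (.node (.node (.node (.node (.leaf 11)
(.leaf 1155))
(.node (.leaf 1156)
(.leaf 5342)))
(.node (.node (.leaf 11)
(.leaf 1177))
(.node (.leaf 1177)
(.leaf 0))))
(.node (.node (.node (.leaf 0)
(.leaf 1177))
(.node (.leaf 1177)
(.leaf 0)))
(.node (.node (.leaf 1156)
(.leaf 5314))
(.node (.leaf 1177)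
(.leaf 0)))))
(.node (.node (.node (.node (.leaf 11)
(.leaf 1177))
(.node (.leaf 1158)
(.leaf 0)))
(.node (.node (.leaf 1156)
(.leaf 5316))
(.node (.leaf 1161)
(.leaf 0))))
(.node (.node (.node (.leaf 43)
(.leaf 1177))
(.node (.leaf 1177)
(.leaf 0)))
(.node (.node (.leaf 1156)
(.leaf 5342))
(.node (.leaf 1177)
(.leaf 0))))))
(.node (.node (.node (.node (.node (.leaf 43)
(.leaf 1179))
(.node (.leaf 1158)
(.leaf 5342)))
(.node (.node (.leaf 1156)
(.leaf 1167))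
(.node (.leaf 1179)
(.leaf 0))))
(.node (.node (.node (.leaf 0)
(.leaf 1177))
(.node (.leaf 1161)
(.leaf 0)))
(.node (.node (.leaf 1156)
(.leaf 5316))
(.node (.leaf 1177)
(.leaf 0)))))
(.node (.node (.node (.node (.leaf 13)
(.leaf 1161))
(.node (.leaf 1177)
(.leaf 0)))
(.node (.node (.leaf 1177)
(.leaf 5314))
(.node (.leaf 1177)
(.leaf 0))))
(.node (.node (.node (.leaf 13)
(.leaf 1177))
(.node (.leaf 1179)
(.leaf 0)))
(.node (.node (.leaf 1177)
(.leaf 5342))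
(.node (.leaf 1179)
(.leaf 0)))))))
(.node (.node (.node (.node (.node (.node (.leaf 11)
(.leaf 1177))
(.node (.leaf 1177)
(.leaf 5342)))
(.node (.node (.leaf 63)
(.leaf 1156))
(.node (.leaf 1177)
(.leaf 0))))
(.node (.node (.node (.leaf 11)
(.leaf 1179))
(.node (.leaf 1160)
(.leaf 0)))
(.node (.node (.leaf 1177)
(.leaf 5362))
(.node (.leaf 1177)
(.leaf 0)))))
(.node (.node (.node (.node (.leaf 11)
(.leaf 1177))
(.node (.leaf 1161)
(.leaf 0)))
(.node (.node (.leaf 1156)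
(.leaf 5314))
(.node (.leaf 1177)
(.leaf 0))))
(.node (.node (.node (.leaf 11)
(.leaf 1177))
(.node (.leaf 1161)
(.leaf 0)))
(.node (.node (.leaf 1179)
(.leaf 5342))
(.node (.leaf 1177)
(.leaf 0))))))
(.node (.node (.node (.node (.node (.leaf 11)
(.leaf 1177))
(.node (.leaf 1179)
(.leaf 0)))
(.node (.node (.leaf 1156)
(.leaf 5323))
(.node (.leaf 1177)
(.leaf 0))))
(.node (.node (.node (.leaf 43)
(.leaf 1179))
(.node (.leaf 1179)
(.leaf 0)))
(.node (.node (.leaf 1158)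
(.leaf 5342))
(.node (.leaf 1177)
(.leaf 0)))))
(.node (.node (.node (.node (.leaf 11)
(.leaf 1179))
(.node (.leaf 1167)
(.leaf 0)))
(.node (.node (.leaf 1179)
(.leaf 5342))
(.node (.leaf 1156)
(.leaf 0))))
(.node (.node (.node (.leaf 43)
(.leaf 1177))
(.node (.leaf 1179)
(.leaf 0)))
(.node (.node (.leaf 1158)
(.leaf 5342))
(.node (.leaf 1156)
(.leaf 0))))))))
(.node (.node (.node (.node (.node (.node (.node (.leaf 43)
(.leaf 1177))
(.node (.leaf 1156)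
(.leaf 5362)))
(.node (.node (.leaf 0)
(.leaf 1179))
(.node (.leaf 1156)
(.leaf 0))))
(.node (.node (.node (.leaf 11)
(.leaf 1177))
(.node (.leaf 1177)
(.leaf 0)))
(.node (.node (.leaf 1161)
(.leaf 5342))
(.node (.leaf 1179)
(.leaf 0)))))
(.node (.node (.node (.node (.leaf 11)
(.leaf 1177))
(.node (.leaf 1161)
(.leaf 0)))
(.node (.node (.leaf 1158)
(.leaf 5342))
(.node (.leaf 1177)
(.leaf 0))))
(.node (.node (.node (.leaf 11)
(.leaf 1177))
(.node (.leaf 1177)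
(.leaf 0)))
(.node (.node (.leaf 1179)
(.leaf 5342))
(.node (.leaf 1177)
(.leaf 0))))))
(.node (.node (.node (.node (.node (.leaf 11)
(.leaf 1167))
(.node (.leaf 1179)
(.leaf 0)))
(.node (.node (.leaf 1156)
(.leaf 1177))
(.node (.leaf 1179)
(.leaf 0))))
(.node (.node (.node (.leaf 13)
(.leaf 1177))
(.node (.leaf 1177)
(.leaf 0)))
(.node (.node (.leaf 1161)
(.leaf 5342))
(.node (.leaf 1177)
(.leaf 0)))))
(.node (.node (.node (.node (.leaf 0)
(.leaf 1161))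
(.node (.leaf 1179)
(.leaf 0)))
(.node (.node (.leaf 1156)
(.leaf 5342))
(.node (.leaf 1156)
(.leaf 0))))
(.node (.node (.node (.leaf 11)
(.leaf 1177))
(.node (.leaf 1177)
(.leaf 0)))
(.node (.node (.leaf 1179)
(.leaf 5342))
(.node (.leaf 1177)
(.leaf 0)))))))
(.node (.node (.node (.node (.node (.node (.leaf 11)
(.leaf 1177))
(.node (.leaf 1161)
(.leaf 5342)))
(.node (.node (.leaf 13)
(.leaf 1177))
(.node (.leaf 1156)
(.leaf 0))))
(.node (.node (.node (.leaf 11)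
(.leaf 1179))
(.node (.leaf 1160)
(.leaf 0)))
(.node (.node (.leaf 1156)
(.leaf 5316))
(.node (.leaf 1156)
(.leaf 0)))))
(.node (.node (.node (.node (.leaf 11)
(.leaf 1177))
(.node (.leaf 1179)
(.leaf 0)))
(.node (.node (.leaf 1156)
(.leaf 5316))
(.node (.leaf 1158)
(.leaf 0))))
(.node (.node (.node (.leaf 11)
(.leaf 1156))
(.node (.leaf 1177)
(.leaf 0)))
(.node (.node (.leaf 1161)
(.leaf 5342))
(.node (.leaf 1156)
(.leaf 0))))))
(.node (.node (.node (.node (.node (.leaf 11)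
(.leaf 1161))
(.node (.leaf 1179)
(.leaf 0)))
(.node (.node (.leaf 1161)
(.leaf 5314))
(.node (.leaf 1160)
(.leaf 0))))
(.node (.node (.node (.leaf 11)
(.leaf 1179))
(.node (.leaf 1179)
(.leaf 0)))
(.node (.node (.leaf 1177)
(.leaf 5314))
(.node (.leaf 1177)
(.leaf 0)))))
(.node (.node (.node (.node (.leaf 11)
(.leaf 1177))
(.node (.leaf 1179)
(.leaf 0)))
(.node (.node (.leaf 1156)
(.leaf 5342))
(.node (.leaf 1177)
(.leaf 0))))
(.node (.node (.node (.leaf 13)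
(.leaf 1179))
(.node (.leaf 1179)
(.leaf 0)))
(.node (.node (.leaf 1177)
(.leaf 5342))
(.node (.leaf 1179)
(.leaf 0)))))))))
(.node (.node (.node (.node (.node (.node (.node (.node (.leaf 0)
(.leaf 1161))
(.node (.leaf 1158)
(.leaf 5342)))
(.node (.node (.leaf 13)
(.leaf 1177))
(.node (.leaf 1179)
(.leaf 0))))
(.node (.node (.node (.leaf 11)
(.leaf 1177))
(.node (.leaf 1177)
(.leaf 0)))
(.node (.node (.leaf 1179)
(.leaf 5342))
(.node (.leaf 1177)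
(.leaf 0)))))
(.node (.node (.node (.node (.leaf 11)
(.leaf 1177))
(.node (.leaf 1179)
(.leaf 0)))
(.node (.node (.leaf 1156)
(.leaf 5342))
(.node (.leaf 1177)
(.leaf 0))))
(.node (.node (.node (.leaf 11)
(.leaf 1177))
(.node (.leaf 1161)
(.leaf 0)))
(.node (.node (.leaf 1179)
(.leaf 5314))
(.node (.leaf 1179)
(.leaf 0))))))
(.node (.node (.node (.node (.node (.leaf 43)
(.leaf 1177))
(.node (.leaf 1177)
(.leaf 5482)))
(.node (.node (.leaf 1179)
(.leaf 1160))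
(.node (.leaf 1177)
(.leaf 0))))
(.node (.node (.node (.leaf 13)
(.leaf 1156))
(.node (.leaf 1177)
(.leaf 0)))
(.node (.node (.leaf 1177)
(.leaf 5342))
(.node (.leaf 1177)
(.leaf 0)))))
(.node (.node (.node (.node (.leaf 11)
(.leaf 1156))
(.node (.leaf 1179)
(.leaf 0)))
(.node (.node (.leaf 1156)
(.leaf 5342))
(.node (.leaf 1177)
(.leaf 0))))
(.node (.node (.node (.leaf 13)
(.leaf 1177))
(.node (.leaf 1177)
(.leaf 0)))
(.node (.node (.leaf 1156)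
(.leaf 5342))
(.node (.leaf 1179)
(.leaf 0)))))))
(.node (.node (.node (.node (.node (.node (.leaf 4)
(.leaf 1177))
(.node (.leaf 1179)
(.leaf 5362)))
(.node (.node (.leaf 43)
(.leaf 1179))
(.node (.leaf 1179)
(.leaf 0))))
(.node (.node (.node (.leaf 43)
(.leaf 1177))
(.node (.leaf 1177)
(.leaf 0)))
(.node (.node (.leaf 1177)
(.leaf 5362))
(.node (.leaf 1179)
(.leaf 0)))))
(.node (.node (.node (.node (.leaf 11)
(.leaf 1179))
(.node (.leaf 1177)
(.leaf 0)))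
(.node (.node (.leaf 1156)
(.leaf 5362))
(.node (.leaf 1179)
(.leaf 0))))
(.node (.node (.node (.leaf 11)
(.leaf 1177))
(.node (.leaf 1158)
(.leaf 0)))
(.node (.node (.leaf 1160)
(.leaf 5342))
(.node (.leaf 1179)
(.leaf 0))))))
(.node (.node (.node (.node (.node (.leaf 11)
(.leaf 1177))
(.node (.leaf 1177)
(.leaf 0)))
(.node (.node (.leaf 1177)
(.leaf 5316))
(.node (.leaf 1179)
(.leaf 0))))
(.node (.node (.node (.leaf 11)
(.leaf 1177))
(.node (.leaf 1179)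
(.leaf 0)))
(.node (.node (.leaf 1177)
(.leaf 5342))
(.node (.leaf 1177)
(.leaf 0)))))
(.node (.node (.node (.node (.leaf 11)
(.leaf 1179))
(.node (.leaf 1161)
(.leaf 0)))
(.node (.node (.leaf 1179)
(.leaf 5342))
(.node (.leaf 1177)
(.leaf 0))))
(.node (.node (.node (.leaf 13)
(.leaf 1177))
(.node (.leaf 1177)
(.leaf 0)))
(.node (.node (.leaf 1177)
(.leaf 5342))
(.node (.leaf 1177)
(.leaf 0))))))))
(.node (.node (.node (.node (.node (.node (.node (.leaf 4)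
(.leaf 1179))
(.node (.leaf 1177)
(.leaf 5314)))
(.node (.node (.leaf 13)
(.leaf 1177))
(.node (.leaf 1177)
(.leaf 0))))
(.node (.node (.node (.leaf 11)
(.leaf 1177))
(.node (.leaf 1177)
(.leaf 0)))
(.node (.node (.leaf 1179)
(.leaf 5342))
(.node (.leaf 1179)
(.leaf 0)))))
(.node (.node (.node (.node (.leaf 11)
(.leaf 1177))
(.node (.leaf 1177)
(.leaf 0)))
(.node (.node (.leaf 1179)
(.leaf 5316))
(.node (.leaf 1179)
(.leaf 0))))
(.node (.node (.node (.leaf 43)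
(.leaf 1156))
(.node (.leaf 1177)
(.leaf 0)))
(.node (.node (.leaf 1179)
(.leaf 5342))
(.node (.leaf 1156)
(.leaf 0))))))
(.node (.node (.node (.node (.node (.leaf 11)
(.leaf 1177))
(.node (.leaf 1158)
(.leaf 0)))
(.node (.node (.leaf 1160)
(.leaf 1167))
(.node (.leaf 1177)
(.leaf 0))))
(.node (.node (.node (.leaf 13)
(.leaf 1177))
(.node (.leaf 1161)
(.leaf 0)))
(.node (.node (.leaf 1156)
(.leaf 5342))
(.node (.leaf 1179)
(.leaf 0)))))
(.node (.node (.node (.node (.leaf 43)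
(.leaf 1155))
(.node (.leaf 1177)
(.leaf 0)))
(.node (.node (.leaf 1167)
(.leaf 5342))
(.node (.leaf 1156)
(.leaf 0))))
(.node (.node (.node (.leaf 43)
(.leaf 1161))
(.node (.leaf 1177)
(.leaf 0)))
(.node (.node (.leaf 1161)
(.leaf 5314))
(.node (.leaf 1179)
(.leaf 0)))))))
(.node (.node (.node (.node (.node (.node (.leaf 11)
(.leaf 1179))
(.node (.leaf 1158)
(.leaf 5342)))
(.node (.node (.leaf 13)
(.leaf 1177))
(.node (.leaf 1179)
(.leaf 0))))
(.node (.node (.node (.leaf 13)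
(.leaf 1177))
(.node (.leaf 1156)
(.leaf 0)))
(.node (.node (.leaf 1179)
(.leaf 5482))
(.node (.leaf 1156)
(.leaf 0)))))
(.node (.node (.node (.node (.leaf 13)
(.leaf 1177))
(.node (.leaf 1177)
(.leaf 0)))
(.node (.node (.leaf 1177)
(.leaf 5316))
(.node (.leaf 1177)
(.leaf 0))))
(.node (.node (.node (.leaf 43)
(.leaf 1158))
(.node (.leaf 1179)
(.leaf 0)))
(.node (.node (.leaf 1161)
(.leaf 5342))
(.node (.leaf 1158)
(.leaf 0))))))
(.node (.node (.node (.node (.node (.leaf 13)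
(.leaf 1179))
(.node (.leaf 1177)
(.leaf 0)))
(.node (.node (.leaf 1156)
(.leaf 5316))
(.node (.leaf 1156)
(.leaf 0))))
(.node (.node (.node (.leaf 11)
(.leaf 1177))
(.node (.leaf 1177)
(.leaf 0)))
(.node (.node (.leaf 1177)
(.leaf 5314))
(.node (.leaf 1177)
(.leaf 0)))))
(.node (.node (.node (.node (.leaf 11)
(.leaf 1177))
(.node (.leaf 1177)
(.leaf 0)))
(.node (.node (.leaf 1177)
(.leaf 5314))
(.node (.leaf 1179)
(.leaf 0))))
(.node (.node (.node (.leaf 13)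
(.leaf 1167))
(.node (.leaf 1177)
(.leaf 0)))
(.node (.node (.leaf 1158)
(.leaf 5342))
(.node (.leaf 1177)
(.leaf 0)))))))))))
(.node (.node (.node (.node (.node (.node (.node (.node (.node (.node (.leaf 0)
(.leaf 1161))
(.node (.leaf 1179)
(.leaf 5342)))
(.node (.node (.leaf 43)
(.leaf 1156))
(.node (.leaf 1177)
(.leaf 0))))
(.node (.node (.node (.leaf 63)
(.leaf 1177))
(.node (.leaf 1177)
(.leaf 0)))
(.node (.node (.leaf 1177)
(.leaf 5342))
(.node (.leaf 1177)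
(.leaf 0)))))
(.node (.node (.node (.node (.leaf 43)
(.leaf 1177))
(.node (.leaf 1179)
(.leaf 0)))
(.node (.node (.leaf 1156)
(.leaf 5314))
(.node (.leaf 1177)
(.leaf 0))))
(.node (.node (.node (.leaf 11)
(.leaf 1179))
(.node (.leaf 1161)
(.leaf 0)))
(.node (.node (.leaf 1177)
(.leaf 5314))
(.node (.leaf 1177)
(.leaf 0))))))
(.node (.node (.node (.node (.node (.leaf 43)
(.leaf 1177))
(.node (.leaf 1156)
(.leaf 5342)))
(.node (.node (.leaf 1155)
(.leaf 1161))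
(.node (.leaf 1158)
(.leaf 0))))
(.node (.node (.node (.leaf 13)
(.leaf 1177))
(.node (.leaf 1156)
(.leaf 0)))
(.node (.node (.leaf 1156)
(.leaf 5342))
(.node (.leaf 1156)
(.leaf 0)))))
(.node (.node (.node (.node (.leaf 11)
(.leaf 1179))
(.node (.leaf 1177)
(.leaf 0)))
(.node (.node (.leaf 1172)
(.leaf 5314))
(.node (.leaf 1177)
(.leaf 0))))
(.node (.node (.node (.leaf 13)
(.leaf 1177))
(.node (.leaf 1179)
(.leaf 0)))
(.node (.node (.leaf 1177)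
(.leaf 5362))
(.node (.leaf 1158)
(.leaf 0)))))))
(.node (.node (.node (.node (.node (.node (.leaf 11)
(.leaf 1179))
(.node (.leaf 1158)
(.leaf 5342)))
(.node (.node (.leaf 43)
(.leaf 1177))
(.node (.leaf 1156)
(.leaf 0))))
(.node (.node (.node (.leaf 13)
(.leaf 1177))
(.node (.leaf 1179)
(.leaf 0)))
(.node (.node (.leaf 1179)
(.leaf 5342))
(.node (.leaf 1177)
(.leaf 0)))))
(.node (.node (.node (.node (.leaf 11)
(.leaf 1179))
(.node (.leaf 1177)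
(.leaf 0)))
(.node (.node (.leaf 1172)
(.leaf 5314))
(.node (.leaf 1177)
(.leaf 0))))
(.node (.node (.node (.leaf 11)
(.leaf 1179))
(.node (.leaf 1177)
(.leaf 0)))
(.node (.node (.leaf 1179)
(.leaf 5342))
(.node (.leaf 1156)
(.leaf 0))))))
(.node (.node (.node (.node (.node (.leaf 11)
(.leaf 1177))
(.node (.leaf 1179)
(.leaf 0)))
(.node (.node (.leaf 1156)
(.leaf 5316))
(.node (.leaf 1177)
(.leaf 0))))
(.node (.node (.node (.leaf 11)
(.leaf 1177))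
(.node (.leaf 1179)
(.leaf 0)))
(.node (.node (.leaf 1155)
(.leaf 5314))
(.node (.leaf 1177)
(.leaf 0)))))
(.node (.node (.node (.node (.leaf 13)
(.leaf 1177))
(.node (.leaf 1179)
(.leaf 0)))
(.node (.node (.leaf 1156)
(.leaf 5342))
(.node (.leaf 1177)
(.leaf 0))))
(.node (.node (.node (.leaf 43)
(.leaf 1161))
(.node (.leaf 1179)
(.leaf 0)))
(.node (.node (.leaf 1156)
(.leaf 5342))
(.node (.leaf 1177)
(.leaf 0))))))))
(.node (.node (.node (.node (.node (.node (.node (.leaf 11)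
(.leaf 1179))
(.node (.leaf 1158)
(.leaf 5482)))
(.node (.node (.leaf 43)
(.leaf 1179))
(.node (.leaf 1158)
(.leaf 0))))
(.node (.node (.node (.leaf 43)
(.leaf 1179))
(.node (.leaf 1155)
(.leaf 0)))
(.node (.node (.leaf 1177)
(.leaf 5323))
(.node (.leaf 1158)
(.leaf 0)))))
(.node (.node (.node (.node (.leaf 13)
(.leaf 1177))
(.node (.leaf 1177)
(.leaf 0)))
(.node (.node (.leaf 1155)
(.leaf 5342))
(.node (.leaf 1177)
(.leaf 0))))
(.node (.node (.node (.leaf 13)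
(.leaf 1177))
(.node (.leaf 1179)
(.leaf 0)))
(.node (.node (.leaf 1179)
(.leaf 5342))
(.node (.leaf 1156)
(.leaf 0))))))
(.node (.node (.node (.node (.node (.leaf 43)
(.leaf 1177))
(.node (.leaf 1158)
(.leaf 0)))
(.node (.node (.leaf 1156)
(.leaf 1179))
(.node (.leaf 1177)
(.leaf 0))))
(.node (.node (.node (.leaf 43)
(.leaf 1179))
(.node (.leaf 1177)
(.leaf 0)))
(.node (.node (.leaf 1177)
(.leaf 5314))
(.node (.leaf 1177)
(.leaf 0)))))
(.node (.node (.node (.node (.leaf 11)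
(.leaf 1161))
(.node (.leaf 1160)
(.leaf 0)))
(.node (.node (.leaf 1167)
(.leaf 5314))
(.node (.leaf 1179)
(.leaf 0))))
(.node (.node (.node (.leaf 13)
(.leaf 1177))
(.node (.leaf 1177)
(.leaf 0)))
(.node (.node (.leaf 1177)
(.leaf 5316))
(.node (.leaf 1179)
(.leaf 0)))))))
(.node (.node (.node (.node (.node (.node (.leaf 11)
(.leaf 1177))
(.node (.leaf 1161)
(.leaf 5314)))
(.node (.node (.leaf 43)
(.leaf 1179))
(.node (.leaf 1177)
(.leaf 0))))
(.node (.node (.node (.leaf 11)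
(.leaf 1177))
(.node (.leaf 1177)
(.leaf 0)))
(.node (.node (.leaf 1156)
(.leaf 5313))
(.node (.leaf 1179)
(.leaf 0)))))
(.node (.node (.node (.node (.leaf 13)
(.leaf 1167))
(.node (.leaf 1179)
(.leaf 0)))
(.node (.node (.leaf 1179)
(.leaf 5314))
(.node (.leaf 1158)
(.leaf 0))))
(.node (.node (.node (.leaf 43)
(.leaf 1158))
(.node (.leaf 1156)
(.leaf 0)))
(.node (.node (.leaf 1161)
(.leaf 5342))
(.node (.leaf 1156)
(.leaf 0))))))
(.node (.node (.node (.node (.node (.leaf 11)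
(.leaf 1160))
(.node (.leaf 1179)
(.leaf 0)))
(.node (.node (.leaf 1177)
(.leaf 5316))
(.node (.leaf 1177)
(.leaf 0))))
(.node (.node (.node (.leaf 13)
(.leaf 1177))
(.node (.leaf 1177)
(.leaf 0)))
(.node (.node (.leaf 1179)
(.leaf 5342))
(.node (.leaf 1177)
(.leaf 0)))))
(.node (.node (.node (.node (.leaf 43)
(.leaf 1167))
(.node (.leaf 1177)
(.leaf 0)))
(.node (.node (.leaf 1179)
(.leaf 5316))
(.node (.leaf 1177)
(.leaf 0))))
(.node (.node (.node (.leaf 11)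
(.leaf 1179))
(.node (.leaf 1177)
(.leaf 0)))
(.node (.node (.leaf 1179)
(.leaf 5342))
(.node (.leaf 1179)
(.leaf 0)))))))))
(.node (.node (.node (.node (.node (.node (.node (.node (.leaf 11)
(.leaf 1177))
(.node (.leaf 1177)
(.leaf 5342)))
(.node (.node (.leaf 43)
(.leaf 1179))
(.node (.leaf 1177)
(.leaf 0))))
(.node (.node (.node (.leaf 43)
(.leaf 1179))
(.node (.leaf 1177)
(.leaf 0)))
(.node (.node (.leaf 1179)
(.leaf 5342))
(.node (.leaf 1156)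
(.leaf 0)))))
(.node (.node (.node (.node (.leaf 13)
(.leaf 1161))
(.node (.leaf 1177)
(.leaf 0)))
(.node (.node (.leaf 1171)
(.leaf 5316))
(.node (.leaf 1177)
(.leaf 0))))
(.node (.node (.node (.leaf 11)
(.leaf 1177))
(.node (.leaf 1179)
(.leaf 0)))
(.node (.node (.leaf 1177)
(.leaf 5314))
(.node (.leaf 1177)
(.leaf 0))))))
(.node (.node (.node (.node (.node (.leaf 13)
(.leaf 1177))
(.node (.leaf 1167)
(.leaf 5362)))
(.node (.node (.leaf 1158)
(.leaf 1161))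
(.node (.leaf 1177)
(.leaf 0))))
(.node (.node (.node (.leaf 11)
(.leaf 1177))
(.node (.leaf 1177)
(.leaf 0)))
(.node (.node (.leaf 1156)
(.leaf 5314))
(.node (.leaf 1177)
(.leaf 0)))))
(.node (.node (.node (.node (.leaf 11)
(.leaf 1177))
(.node (.leaf 1179)
(.leaf 0)))
(.node (.node (.leaf 1177)
(.leaf 5316))
(.node (.leaf 1177)
(.leaf 0))))
(.node (.node (.node (.leaf 11)
(.leaf 1179))
(.node (.leaf 1179)
(.leaf 0)))
(.node (.node (.leaf 1161)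
(.leaf 5323))
(.node (.leaf 1179)
(.leaf 0)))))))
(.node (.node (.node (.node (.node (.node (.leaf 11)
(.leaf 1179))
(.node (.leaf 1179)
(.leaf 5342)))
(.node (.node (.leaf 43)
(.leaf 1177))
(.node (.leaf 1177)
(.leaf 0))))
(.node (.node (.node (.leaf 11)
(.leaf 1167))
(.node (.leaf 1161)
(.leaf 0)))
(.node (.node (.leaf 1158)
(.leaf 5362))
(.node (.leaf 1177)
(.leaf 0)))))
(.node (.node (.node (.node (.leaf 13)
(.leaf 1179))
(.node (.leaf 1177)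
(.leaf 0)))
(.node (.node (.leaf 1177)
(.leaf 5342))
(.node (.leaf 1179)
(.leaf 0))))
(.node (.node (.node (.leaf 13)
(.leaf 1158))
(.node (.leaf 1156)
(.leaf 0)))
(.node (.node (.leaf 1167)
(.leaf 5342))
(.node (.leaf 1177)
(.leaf 0))))))
(.node (.node (.node (.node (.node (.leaf 0)
(.leaf 1167))
(.node (.leaf 1177)
(.leaf 0)))
(.node (.node (.leaf 1172)
(.leaf 5314))
(.node (.leaf 1179)
(.leaf 0))))
(.node (.node (.node (.leaf 11)
(.leaf 1177))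
(.node (.leaf 1177)
(.leaf 0)))
(.node (.node (.leaf 1179)
(.leaf 5362))
(.node (.leaf 1177)
(.leaf 0)))))
(.node (.node (.node (.node (.leaf 43)
(.leaf 1160))
(.node (.leaf 1167)
(.leaf 0)))
(.node (.node (.leaf 1177)
(.leaf 5342))
(.node (.leaf 1177)
(.leaf 0))))
(.node (.node (.node (.leaf 43)
(.leaf 1177))
(.node (.leaf 1177)
(.leaf 0)))
(.node (.node (.leaf 1167)
(.leaf 5362))
(.node (.leaf 1179)
(.leaf 0))))))))
(.node (.node (.node (.node (.node (.node (.node (.leaf 0)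
(.leaf 1177))
(.node (.leaf 1177)
(.leaf 5482)))
(.node (.node (.leaf 13)
(.leaf 1177))
(.node (.leaf 1179)
(.leaf 0))))
(.node (.node (.node (.leaf 11)
(.leaf 1177))
(.node (.leaf 1179)
(.leaf 0)))
(.node (.node (.leaf 1160)
(.leaf 5342))
(.node (.leaf 1179)
(.leaf 0)))))
(.node (.node (.node (.node (.leaf 11)
(.leaf 1161))
(.node (.leaf 1179)
(.leaf 0)))
(.node (.node (.leaf 1179)
(.leaf 5314))
(.node (.leaf 1177)
(.leaf 0))))
(.node (.node (.node (.leaf 43)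
(.leaf 1177))
(.node (.leaf 1179)
(.leaf 0)))
(.node (.node (.leaf 1177)
(.leaf 5342))
(.node (.leaf 1177)
(.leaf 0))))))
(.node (.node (.node (.node (.node (.leaf 11)
(.leaf 1177))
(.node (.leaf 1158)
(.leaf 0)))
(.node (.node (.leaf 1167)
(.leaf 1161))
(.node (.leaf 1177)
(.leaf 0))))
(.node (.node (.node (.leaf 13)
(.leaf 1177))
(.node (.leaf 1177)
(.leaf 0)))
(.node (.node (.leaf 1158)
(.leaf 5314))
(.node (.leaf 1177)
(.leaf 0)))))
(.node (.node (.node (.node (.leaf 13)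
(.leaf 1160))
(.node (.leaf 1179)
(.leaf 0)))
(.node (.node (.leaf 1171)
(.leaf 5342))
(.node (.leaf 1179)
(.leaf 0))))
(.node (.node (.node (.leaf 13)
(.leaf 1177))
(.node (.leaf 1177)
(.leaf 0)))
(.node (.node (.leaf 1177)
(.leaf 5482))
(.node (.leaf 1156)
(.leaf 0)))))))
(.node (.node (.node (.node (.node (.node (.leaf 11)
(.leaf 1179))
(.node (.leaf 1177)
(.leaf 5342)))
(.node (.node (.leaf 13)
(.leaf 1179))
(.node (.leaf 1179)
(.leaf 0))))
(.node (.node (.node (.leaf 43)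
(.leaf 1179))
(.node (.leaf 1158)
(.leaf 0)))
(.node (.node (.leaf 1177)
(.leaf 5342))
(.node (.leaf 1179)
(.leaf 0)))))
(.node (.node (.node (.node (.leaf 11)
(.leaf 1179))
(.node (.leaf 1177)
(.leaf 0)))
(.node (.node (.leaf 1156)
(.leaf 5342))
(.node (.leaf 1179)
(.leaf 0))))
(.node (.node (.node (.leaf 11)
(.leaf 1177))
(.node (.leaf 1177)
(.leaf 0)))
(.node (.node (.leaf 1161)
(.leaf 5362))
(.node (.leaf 1158)
(.leaf 0))))))
(.node (.node (.node (.node (.node (.leaf 11)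
(.leaf 1179))
(.node (.leaf 1177)
(.leaf 0)))
(.node (.node (.leaf 1179)
(.leaf 5314))
(.node (.leaf 1177)
(.leaf 0))))
(.node (.node (.node (.leaf 11)
(.leaf 1177))
(.node (.leaf 1156)
(.leaf 0)))
(.node (.node (.leaf 1156)
(.leaf 5342))
(.node (.leaf 1167)
(.leaf 0)))))
(.node (.node (.node (.node (.leaf 63)
(.leaf 1177))
(.node (.leaf 1177)
(.leaf 0)))
(.node (.node (.leaf 1179)
(.leaf 5316))
(.node (.leaf 1177)
(.leaf 0))))
(.node (.node (.node (.leaf 11)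
(.leaf 1161))
(.node (.leaf 1158)
(.leaf 0)))
(.node (.node (.leaf 1156)
(.leaf 5342))
(.node (.leaf 1179)
(.leaf 0))))))))))
(.node (.node (.node (.node (.node (.node (.node (.node (.node (.leaf 0)
(.leaf 1177))
(.node (.leaf 1177)
(.leaf 5482)))
(.node (.node (.leaf 13)
(.leaf 1177))
(.node (.leaf 1177)
(.leaf 0))))
(.node (.node (.node (.leaf 43)
(.leaf 1179))
(.node (.leaf 1179)
(.leaf 0)))
(.node (.node (.leaf 1160)
(.leaf 5316))
(.node (.leaf 1177)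
(.leaf 0)))))
(.node (.node (.node (.node (.leaf 13)
(.leaf 1177))
(.node (.leaf 1156)
(.leaf 0)))
(.node (.node (.leaf 1161)
(.leaf 5314))
(.node (.leaf 1177)
(.leaf 0))))
(.node (.node (.node (.leaf 43)
(.leaf 1177))
(.node (.leaf 1167)
(.leaf 0)))
(.node (.node (.leaf 1179)
(.leaf 5342))
(.node (.leaf 1177)
(.leaf 0))))))
(.node (.node (.node (.node (.node (.leaf 13)
(.leaf 1177))
(.node (.leaf 1161)
(.leaf 5342)))
(.node (.node (.leaf 1167)
(.leaf 1161))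
(.node (.leaf 1158)
(.leaf 0))))
(.node (.node (.node (.leaf 11)
(.leaf 1179))
(.node (.leaf 1156)
(.leaf 0)))
(.node (.node (.leaf 1161)
(.leaf 5482))
(.node (.leaf 1177)
(.leaf 0)))))
(.node (.node (.node (.node (.leaf 11)
(.leaf 1179))
(.node (.leaf 1177)
(.leaf 0)))
(.node (.node (.leaf 1158)
(.leaf 5342))
(.node (.leaf 1179)
(.leaf 0))))
(.node (.node (.node (.leaf 43)
(.leaf 1177))
(.node (.leaf 1179)
(.leaf 0)))
(.node (.node (.leaf 1161)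
(.leaf 5342))
(.node (.leaf 1177)
(.leaf 0)))))))
(.node (.node (.node (.node (.node (.node (.leaf 11)
(.leaf 1179))
(.node (.leaf 1177)
(.leaf 5342)))
(.node (.node (.leaf 43)
(.leaf 1177))
(.node (.leaf 1177)
(.leaf 0))))
(.node (.node (.node (.leaf 11)
(.leaf 1179))
(.node (.leaf 1177)
(.leaf 0)))
(.node (.node (.leaf 1177)
(.leaf 5342))
(.node (.leaf 1177)
(.leaf 0)))))
(.node (.node (.node (.node (.leaf 13)
(.leaf 1155))
(.node (.leaf 1177)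
(.leaf 0)))
(.node (.node (.leaf 1156)
(.leaf 5342))
(.node (.leaf 1177)
(.leaf 0))))
(.node (.node (.node (.leaf 43)
(.leaf 1158))
(.node (.leaf 1167)
(.leaf 0)))
(.node (.node (.leaf 1179)
(.leaf 5316))
(.node (.leaf 1156)
(.leaf 0))))))
(.node (.node (.node (.node (.node (.leaf 43)
(.leaf 1177))
(.node (.leaf 1177)
(.leaf 0)))
(.node (.node (.leaf 1171)
(.leaf 5323))
(.node (.leaf 1177)
(.leaf 0))))
(.node (.node (.node (.leaf 11)
(.leaf 1177))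
(.node (.leaf 1177)
(.leaf 0)))
(.node (.node (.leaf 1179)
(.leaf 5316))
(.node (.leaf 1179)
(.leaf 0)))))
(.node (.node (.node (.node (.leaf 43)
(.leaf 1177))
(.node (.leaf 1179)
(.leaf 0)))
(.node (.node (.leaf 1156)
(.leaf 5342))
(.node (.leaf 1177)
(.leaf 0))))
(.node (.node (.node (.leaf 43)
(.leaf 1161))
(.node (.leaf 1179)
(.leaf 0)))
(.node (.node (.leaf 1156)
(.leaf 5342))
(.node (.leaf 1156)
(.leaf 0))))))))
(.node (.node (.node (.node (.node (.node (.node (.leaf 43)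
(.leaf 1167))
(.node (.leaf 1177)
(.leaf 5342)))
(.node (.node (.leaf 11)
(.leaf 1177))
(.node (.leaf 1156)
(.leaf 0))))
(.node (.node (.node (.leaf 11)
(.leaf 1177))
(.node (.leaf 1177)
(.leaf 0)))
(.node (.node (.leaf 1161)
(.leaf 5342))
(.node (.leaf 1158)
(.leaf 0)))))
(.node (.node (.node (.node (.leaf 11)
(.leaf 1177))
(.node (.leaf 1177)
(.leaf 0)))
(.node (.node (.leaf 1177)
(.leaf 5314))
(.node (.leaf 1179)
(.leaf 0))))
(.node (.node (.node (.leaf 11)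
(.leaf 1177))
(.node (.leaf 1179)
(.leaf 0)))
(.node (.node (.leaf 1156)
(.leaf 5342))
(.node (.leaf 1177)
(.leaf 0))))))
(.node (.node (.node (.node (.node (.leaf 43)
(.leaf 1177))
(.node (.leaf 1179)
(.leaf 0)))
(.node (.node (.leaf 1171)
(.leaf 1177))
(.node (.leaf 1177)
(.leaf 0))))
(.node (.node (.node (.leaf 13)
(.leaf 1179))
(.node (.leaf 1177)
(.leaf 0)))
(.node (.node (.leaf 1161)
(.leaf 5342))
(.node (.leaf 1177)
(.leaf 0)))))
(.node (.node (.node (.node (.leaf 11)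
(.leaf 1177))
(.node (.leaf 1160)
(.leaf 0)))
(.node (.node (.leaf 1156)
(.leaf 5316))
(.node (.leaf 1177)
(.leaf 0))))
(.node (.node (.node (.leaf 43)
(.leaf 1177))
(.node (.leaf 1179)
(.leaf 0)))
(.node (.node (.leaf 1155)
(.leaf 5342))
(.node (.leaf 1177)
(.leaf 0)))))))
(.node (.node (.node (.node (.node (.node (.leaf 13)
(.leaf 1179))
(.node (.leaf 1179)
(.leaf 5342)))
(.node (.node (.leaf 13)
(.leaf 1179))
(.node (.leaf 1177)
(.leaf 0))))
(.node (.node (.node (.leaf 43)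
(.leaf 1179))
(.node (.leaf 1161)
(.leaf 0)))
(.node (.node (.leaf 1177)
(.leaf 5342))
(.node (.leaf 1177)
(.leaf 0)))))
(.node (.node (.node (.node (.leaf 13)
(.leaf 1161))
(.node (.leaf 1177)
(.leaf 0)))
(.node (.node (.leaf 1156)
(.leaf 5316))
(.node (.leaf 1177)
(.leaf 0))))
(.node (.node (.node (.leaf 11)
(.leaf 1177))
(.node (.leaf 1177)
(.leaf 0)))
(.node (.node (.leaf 1156)
(.leaf 5342))
(.node (.leaf 1177)
(.leaf 0))))))
(.node (.node (.node (.node (.node (.leaf 13)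
(.leaf 1179))
(.node (.leaf 1156)
(.leaf 0)))
(.node (.node (.leaf 1161)
(.leaf 5314))
(.node (.leaf 1179)
(.leaf 0))))
(.node (.node (.node (.leaf 13)
(.leaf 1177))
(.node (.leaf 1167)
(.leaf 0)))
(.node (.node (.leaf 1156)
(.leaf 5342))
(.node (.leaf 1177)
(.leaf 0)))))
(.node (.node (.node (.node (.leaf 11)
(.leaf 1179))
(.node (.leaf 1160)
(.leaf 0)))
(.node (.node (.leaf 1155)
(.leaf 5314))
(.node (.leaf 1179)
(.leaf 0))))
(.node (.node (.node (.leaf 11)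
(.leaf 1167))
(.node (.leaf 1177)
(.leaf 0)))
(.node (.node (.leaf 1158)
(.leaf 5362))
(.node (.leaf 1177)
(.leaf 0)))))))))
(.node (.node (.node (.node (.node (.node (.node (.node (.leaf 11)
(.leaf 1179))
(.node (.leaf 1177)
(.leaf 5342)))
(.node (.node (.leaf 43)
(.leaf 1156))
(.node (.leaf 1179)
(.leaf 0))))
(.node (.node (.node (.leaf 11)
(.leaf 1179))
(.node (.leaf 1177)
(.leaf 0)))
(.node (.node (.leaf 1161)
(.leaf 5314))
(.node (.leaf 1156)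
(.leaf 0)))))
(.node (.node (.node (.node (.leaf 11)
(.leaf 1179))
(.node (.leaf 1177)
(.leaf 0)))
(.node (.node (.leaf 1156)
(.leaf 5314))
(.node (.leaf 1179)
(.leaf 0))))
(.node (.node (.node (.leaf 11)
(.leaf 1177))
(.node (.leaf 1177)
(.leaf 0)))
(.node (.node (.leaf 1177)
(.leaf 5314))
(.node (.leaf 1177)
(.leaf 0))))))
(.node (.node (.node (.node (.node (.leaf 11)
(.leaf 1177))
(.node (.leaf 1177)
(.leaf 0)))
(.node (.node (.leaf 1160)
(.leaf 1179))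
(.node (.leaf 1177)
(.leaf 0))))
(.node (.node (.node (.leaf 11)
(.leaf 1177))
(.node (.leaf 1156)
(.leaf 0)))
(.node (.node (.leaf 1167)
(.leaf 5316))
(.node (.leaf 1156)
(.leaf 0)))))
(.node (.node (.node (.node (.leaf 11)
(.leaf 1179))
(.node (.leaf 1161)
(.leaf 0)))
(.node (.node (.leaf 1179)
(.leaf 5314))
(.node (.leaf 1177)
(.leaf 0))))
(.node (.node (.node (.leaf 63)
(.leaf 1177))
(.node (.leaf 1179)
(.leaf 0)))
(.node (.node (.leaf 1179)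
(.leaf 5314))
(.node (.leaf 1177)
(.leaf 0)))))))
(.node (.node (.node (.node (.node (.node (.leaf 0)
(.leaf 1177))
(.node (.leaf 1177)
(.leaf 5314)))
(.node (.node (.leaf 13)
(.leaf 1179))
(.node (.leaf 1177)
(.leaf 0))))
(.node (.node (.node (.leaf 11)
(.leaf 1160))
(.node (.leaf 1177)
(.leaf 0)))
(.node (.node (.leaf 1158)
(.leaf 5342))
(.node (.leaf 1177)
(.leaf 0)))))
(.node (.node (.node (.node (.leaf 11)
(.leaf 1179))
(.node (.leaf 1179)
(.leaf 0)))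
(.node (.node (.leaf 1156)
(.leaf 5314))
(.node (.leaf 1161)
(.leaf 0))))
(.node (.node (.node (.leaf 43)
(.leaf 1177))
(.node (.leaf 1177)
(.leaf 0)))
(.node (.node (.leaf 1160)
(.leaf 5342))
(.node (.leaf 1156)
(.leaf 0))))))
(.node (.node (.node (.node (.node (.leaf 11)
(.leaf 1179))
(.node (.leaf 1179)
(.leaf 0)))
(.node (.node (.leaf 1158)
(.leaf 5342))
(.node (.leaf 1177)
(.leaf 0))))
(.node (.node (.node (.leaf 0)
(.leaf 1177))
(.node (.leaf 1179)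
(.leaf 0)))
(.node (.node (.leaf 1179)
(.leaf 5316))
(.node (.leaf 1179)
(.leaf 0)))))
(.node (.node (.node (.node (.leaf 11)
(.leaf 1177))
(.node (.leaf 1177)
(.leaf 0)))
(.node (.node (.leaf 1179)
(.leaf 5342))
(.node (.leaf 1177)
(.leaf 0))))
(.node (.node (.node (.leaf 43)
(.leaf 1177))
(.node (.leaf 1179)
(.leaf 0)))
(.node (.node (.leaf 1179)
(.leaf 5342))
(.node (.leaf 1156)
(.leaf 0))))))))
(.node (.node (.node (.node (.node (.node (.node (.leaf 63)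
(.leaf 1179))
(.node (.leaf 1177)
(.leaf 5342)))
(.node (.node (.leaf 13)
(.leaf 1177))
(.node (.leaf 1179)
(.leaf 0))))
(.node (.node (.node (.leaf 11)
(.leaf 1177))
(.node (.leaf 1177)
(.leaf 0)))
(.node (.node (.leaf 1179)
(.leaf 5362))
(.node (.leaf 1179)
(.leaf 0)))))
(.node (.node (.node (.node (.leaf 13)
(.leaf 1179))
(.node (.leaf 1177)
(.leaf 0)))
(.node (.node (.leaf 1179)
(.leaf 5314))
(.node (.leaf 1179)
(.leaf 0))))
(.node (.node (.node (.leaf 11)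
(.leaf 1177))
(.node (.leaf 1179)
(.leaf 0)))
(.node (.node (.leaf 1156)
(.leaf 5314))
(.node (.leaf 1177)
(.leaf 0))))))
(.node (.node (.node (.node (.node (.leaf 11)
(.leaf 1155))
(.node (.leaf 1177)
(.leaf 0)))
(.node (.node (.leaf 1167)
(.leaf 1161))
(.node (.leaf 1177)
(.leaf 0))))
(.node (.node (.node (.leaf 11)
(.leaf 1179))
(.node (.leaf 1177)
(.leaf 0)))
(.node (.node (.leaf 1161)
(.leaf 5316))
(.node (.leaf 1177)
(.leaf 0)))))
(.node (.node (.node (.node (.leaf 11)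
(.leaf 1179))
(.node (.leaf 1177)
(.leaf 0)))
(.node (.node (.leaf 1156)
(.leaf 5316))
(.node (.leaf 1177)
(.leaf 0))))
(.node (.node (.node (.leaf 13)
(.leaf 1177))
(.node (.leaf 1177)
(.leaf 0)))
(.node (.node (.leaf 1167)
(.leaf 5314))
(.node (.leaf 1179)
(.leaf 0)))))))
(.node (.node (.node (.node (.node (.node (.leaf 11)
(.leaf 1179))
(.node (.leaf 1156)
(.leaf 5362)))
(.node (.node (.leaf 43)
(.leaf 1179))
(.node (.leaf 1179)
(.leaf 0))))
(.node (.node (.node (.leaf 43)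
(.leaf 1177))
(.node (.leaf 1177)
(.leaf 0)))
(.node (.node (.leaf 1179)
(.leaf 5316))
(.node (.leaf 1177)
(.leaf 0)))))
(.node (.node (.node (.node (.leaf 11)
(.leaf 1177))
(.node (.leaf 1177)
(.leaf 0)))
(.node (.node (.leaf 1167)
(.leaf 5342))
(.node (.leaf 1177)
(.leaf 0))))
(.node (.node (.node (.leaf 43)
(.leaf 1156))
(.node (.leaf 1158)
(.leaf 0)))
(.node (.node (.leaf 1177)
(.leaf 5314))
(.node (.leaf 1179)
(.leaf 0))))))
(.node (.node (.node (.node (.node (.leaf 11)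
(.leaf 1177))
(.node (.leaf 1179)
(.leaf 0)))
(.node (.node (.leaf 1179)
(.leaf 5316))
(.node (.leaf 1158)
(.leaf 0))))
(.node (.node (.node (.leaf 13)
(.leaf 1177))
(.node (.leaf 1158)
(.leaf 0)))
(.node (.node (.leaf 1179)
(.leaf 5342))
(.node (.leaf 1156)
(.leaf 0)))))
(.node (.node (.node (.node (.leaf 43)
(.leaf 1179))
(.node (.leaf 1177)
(.leaf 0)))
(.node (.node (.leaf 1179)
(.leaf 5314))
(.node (.leaf 1177)
(.leaf 0))))
(.node (.node (.node (.leaf 11)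
(.leaf 1177))
(.node (.leaf 1177)
(.leaf 0)))
(.node (.node (.leaf 1177)
(.leaf 5314))
(.node (.leaf 1177)
(.leaf 0))))))))))))))

/-- The generators: a code and an involution. -/
def orbGens0 : List (ℕ × ℕ) :=
  [(0, 0),
   (0, 1),
   (0, 2),
   (0, 3),
   (0, 63),
   (0, 1155)]

/-- Root (6303 for the identity), orbit length, order, word of a transporter, count. -/
def orbRows0 : List (ℕ × ℕ × ℕ × List ℕ × ℕ) :=
  [(6303, 1, 1, [], 1408),
   (0, 60, 2, [], 128),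
   (4, 15, 2, [0, 0], 0),
   (11, 480, 2, [0, 4], 0),
   (13, 320, 2, [2, 4], 0),
   (43, 240, 2, [2, 1, 4], 0),
   (63, 40, 2, [2, 4, 1, 0], 64),
   (1155, 60, 2, [], 0),
   (1156, 480, 2, [0], 0),
   (1158, 240, 2, [2], 0),
   (1160, 120, 2, [0, 0], 0),
   (1161, 240, 2, [1, 0], 0),
   (1167, 120, 2, [2, 1], 0),
   (1171, 12, 2, [0, 2], 0),
   (1172, 6, 2, [1, 2], 0),
   (1177, 1920, 2, [0, 4], 128),
   (1179, 960, 2, [2, 4], 0),
   (5313, 10, 2, [], 0),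
   (5314, 240, 2, [0], 0),
   (5316, 120, 2, [2], 0),
   (5323, 20, 2, [2, 1], 0),
   (5342, 480, 2, [0, 4, 0], 0),
   (5362, 80, 2, [2, 4, 1], 0),
   (5482, 40, 2, [2, 4, 2, 2], 0)]

end CfsgLib.J4Type.Order
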