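import Cfsg.Agent.Lib.J4Type.Order.Code

/-!
The orbits of the stabiliser of representative 1 on the 6303 involutions.
-/

set_option autoImplicit false
set_option maxRecDepth 100000

namespace CfsgLib.J4Type.Order

open CfsgLib.Fusion.TableSylow (Tree Dict)

/-- Entries `i + 8192 * (0 or 1 + 16 * parent position + generator)`. -/
def orbTree1 : Tree :=
(.node (.node (.node (.node (.node (.node (.node (.node (.node (.node (.node (.node (.node (.leaf 0)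
(.leaf 0x1ecccc07))
(.node (.leaf 0xf770db8)
(.leaf 0x2fe097dd)))
(.node (.node (.leaf 0x76ac209)
(.leaf 0x276511f7))
(.node (.leaf 0x16a2688d)
(.leaf 0))))
(.node (.node (.node (.leaf 0x2e10306)
(.leaf 0x23dcaa06))
(.node (.leaf 0x134cebb7)
(.leaf 0)))
(.node (.node (.leaf 0xbf2a4a4)
(.leaf 0x2bbad6b0))
(.node (.leaf 0x1b8aeba3)
(.leaf 0)))))
(.node (.node (.node (.node (.leaf 0x1b2e3a5)
(.leaf 0x212c67f4))
(.node (.leaf 0x111d052d)
(.leaf 0)))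
(.node (.node (.leaf 0x9d2e5ef)
(.leaf 0x29fa753b))
(.node (.leaf 0x17cea7dd)
(.leaf 0))))
(.node (.node (.node (.leaf 0x5c8c3c2)
(.leaf 0x24d6713f))
(.node (.leaf 0x1570cb54)
(.leaf 0)))
(.node (.node (.leaf 0xd02d2a7)
(.leaf 0x2cd2b5ab))
(.node (.leaf 0x1ddacc4b)
(.leaf 0))))))
(.node (.node (.node (.node (.node (.leaf 0x68a0ae)
(.leaf 0x20dd0c8f))
(.node (.leaf 0xffa45ab)
(.leaf 0x30f8f64b)))
(.node (.node (.leaf 0x8d4e478)
(.leaf 0x28d293d8))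
(.node (.leaf 0x172ef2e0)
(.leaf 0))))
(.node (.node (.node (.leaf 0x4b88381)
(.leaf 0x242d0a48))
(.node (.leaf 0x13f2c94c)
(.leaf 0)))
(.node (.node (.leaf 0xc7a866d)
(.leaf 0x2c10b578))
(.node (.leaf 0x1c86cdb2)
(.leaf 0)))))
(.node (.node (.node (.node (.leaf 0x21f011d)
(.leaf 0x21cef37e))
(.node (.leaf 0x12d0edf6)
(.leaf 0)))
(.node (.node (.leaf 0xa94a7e4)
(.leaf 0x2a6ab85f))
(.node (.leaf 0x18c10bc0)
(.leaf 0))))
(.node (.node (.node (.leaf 0x6f8647e)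
(.leaf 0x26e0a9ff))
(.node (.leaf 0x1642d2e8)
(.leaf 0)))
(.node (.node (.leaf 0xdfcd1de)
(.leaf 0x2ecb17a2))
(.node (.leaf 0x1e26c7cd)
(.leaf 0)))))))
(.node (.node (.node (.node (.node (.node (.leaf 0x34c195)
(.leaf 0x1f46ab76))
(.node (.leaf 0xf9ec91b)
(.leaf 0x304b183d)))
(.node (.node (.leaf 0x7f0a3bb)
(.leaf 0x285e4bc9))
(.node (.leaf 0x16e4f2f1)
(.leaf 0))))
(.node (.node (.node (.leaf 0x3cac05d)
(.leaf 0x24029107))
(.node (.leaf 0x137ab399)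
(.leaf 0)))
(.node (.node (.leaf 0xc56efc8)
(.leaf 0x2be25553))
(.node (.leaf 0x1c5cd162)
(.leaf 0)))))
(.node (.node (.node (.node (.leaf 0x1dee18b)
(.leaf 0x2172abdd))
(.node (.leaf 0x12590bc7)
(.leaf 0)))
(.node (.node (.leaf 0xa70495c)
(.leaf 0x2a3ad846))
(.node (.leaf 0x183eaecb)
(.leaf 0))))
(.node (.node (.node (.leaf 0x67f00cb)
(.leaf 0x2562f165))
(.node (.leaf 0x1622f234)
(.leaf 0)))
(.node (.node (.leaf 0xd584c1e)
(.leaf 0x2d9ad6f8))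
(.node (.leaf 0x1dfb0bdf)
(.leaf 0))))))
(.node (.node (.node (.node (.node (.leaf 0xf4c071)
(.leaf 0x21006b5c))
(.node (.leaf 0x1072c584)
(.leaf 0)))
(.node (.node (.leaf 0x95d05bf)
(.leaf 0x295c6b50))
(.node (.leaf 0x177cb19f)
(.leaf 0))))
(.node (.node (.node (.leaf 0x566432c)
(.leaf 0x247ea68f))
(.node (.leaf 0x1456516f)
(.leaf 0)))
(.node (.node (.leaf 0xca8f37d)
(.leaf 0x2c70f595))
(.node (.leaf 0x1cfaa6eb)
(.leaf 0)))))
(.node (.node (.node (.node (.leaf 0x2770170)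
(.leaf 0x2268cca1))
(.node (.leaf 0x1322cff0)
(.leaf 0)))
(.node (.node (.leaf 0xae10d99)
(.leaf 0x2adb1532))
(.node (.leaf 0x197ce9c4)
(.leaf 0))))
(.node (.node (.node (.leaf 0x7368326)
(.leaf 0x270cd28a))
(.node (.leaf 0x166c883f)
(.leaf 0)))
(.node (.node (.leaf 0xf570a9c)
(.leaf 0x2f74768a))
(.node (.leaf 0x1e62ee7b)
(.leaf 0))))))))
(.node (.node (.node (.node (.node (.node (.node (.leaf 0x24a068)
(.leaf 0x1f04ae62))
(.node (.leaf 0xf8a6910)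
(.leaf 0x300117da)))
(.node (.node (.leaf 0x78283f1)
(.leaf 0x27a8e6e9))
(.node (.leaf 0x16c30920)
(.leaf 0))))
(.node (.node (.node (.leaf 0x3384268)
(.leaf 0x23eeed87))
(.node (.leaf 0x135eb275)
(.leaf 0)))
(.node (.node (.leaf 0xc20c5ae)
(.leaf 0x2bca5539))
(.node (.leaf 0x1c310552)
(.leaf 0)))))
(.node (.node (.node (.node (.leaf 0x1c8c1af)
(.leaf 0x214e4c61))
(.node (.leaf 0x11b306fd)
(.leaf 0)))
(.node (.node (.leaf 0xa20c4b0)
(.leaf 0x2a2cb577))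
(.node (.leaf 0x17fcd2c4)
(.leaf 0))))
(.node (.node (.node (.leaf 0x624828e)
(.leaf 0x250ef458))
(.node (.leaf 0x1614f182)
(.leaf 0)))
(.node (.node (.leaf 0xd2cef26)
(.leaf 0x2d1ed859))
(.node (.leaf 0x1deac893)
(.leaf 0))))))
(.node (.node (.node (.node (.node (.leaf 0xa6c16a)
(.leaf 0x20ed0f67))
(.node (.leaf 0x10390850)
(.leaf 0)))
(.node (.node (.leaf 0x930e867)
(.leaf 0x28f309b5))
(.node (.leaf 0x1758a9b2)
(.leaf 0))))
(.node (.node (.node (.leaf 0x4f042aa)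
(.leaf 0x2452b4a5))
(.node (.leaf 0x1428e95b)
(.leaf 0)))
(.node (.node (.leaf 0xc90abda)
(.leaf 0x2c3cf599))
(.node (.leaf 0x1ca66764)
(.leaf 0)))))
(.node (.node (.node (.node (.leaf 0x242e1f1)
(.leaf 0x221eeb31))
(.node (.leaf 0x131645f3)
(.leaf 0)))
(.node (.node (.leaf 0xab06ff1)
(.leaf 0x2a86b6c9))
(.node (.leaf 0x191b0beb)
(.leaf 0))))
(.node (.node (.node (.leaf 0x72b01d9)
(.leaf 0x26f31468))
(.node (.leaf 0x16586b3e)
(.leaf 0)))
(.node (.node (.leaf 0xea6cc81)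
(.leaf 0x2ef2f64d))
(.node (.leaf 0x1e3a6fd0)
(.leaf 0)))))))
(.node (.node (.node (.node (.node (.node (.leaf 0x4aa25b)
(.leaf 0x1ffcadd1))
(.node (.leaf 0xfbce85c)
(.leaf 0x30a31738)))
(.node (.node (.leaf 0x8ab039c)
(.leaf 0x28bcc75d))
(.node (.leaf 0x1704ebbe)
(.leaf 0))))
(.node (.node (.node (.leaf 0x4a5004c)
(.leaf 0x241889a3))
(.node (.leaf 0x13aee5f5)
(.leaf 0)))
(.node (.node (.leaf 0xc66acfc)
(.leaf 0x2bf6d558))
(.node (.leaf 0x1c6ece96)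
(.leaf 0)))))
(.node (.node (.node (.node (.leaf 0x1f66155)
(.leaf 0x21a0a5e6))
(.node (.leaf 0x1274b02a)
(.leaf 0)))
(.node (.node (.leaf 0xa7e4d93)
(.leaf 0x2a50d7a8))
(.node (.leaf 0x18808d0c)
(.leaf 0))))
(.node (.node (.node (.leaf 0x6a70229)
(.leaf 0x25f67327))
(.node (.leaf 0x1632d3ee)
(.leaf 0)))
(.node (.node (.leaf 0xd830743)
(.leaf 0x2eb29640))
(.node (.leaf 0x1e0ea5c9)
(.leaf 0))))))
(.node (.node (.node (.node (.node (.leaf 0x1a5002e)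
(.leaf 0x21170e91))
(.node (.leaf 0x10a1090e)
(.leaf 0)))
(.node (.node (.leaf 0x982c4c1)
(.leaf 0x29a514e7))
(.node (.leaf 0x17a107eb)
(.leaf 0))))
(.node (.node (.node (.leaf 0x586a0e3)
(.leaf 0x24accef4))
(.node (.leaf 0x14cb06a0)
(.leaf 0)))
(.node (.node (.leaf 0xccf0627)
(.leaf 0x2c9ef7d2))
(.node (.leaf 0x1d6908de)
(.leaf 0)))))
(.node (.node (.node (.node (.leaf 0x29ce06a)
(.leaf 0x22dcafb5))
(.node (.leaf 0x1336ab98)
(.leaf 0)))
(.node (.node (.leaf 0xb250614)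
(.leaf 0x2bac95a9))
(.node (.leaf 0x19dceed0)
(.leaf 0))))
(.node (.node (.node (.leaf 0x74b01d3)
(.leaf 0x272cccf0))
(.node (.leaf 0x1684ca5c)
(.leaf 0)))
(.node (.node (.leaf 0xf6484d5)
(.leaf 0x2f8ed6e5))
(.node (.leaf 0x1e8eec89)
(.leaf 0)))))))))
(.node (.node (.node (.node (.node (.node (.node (.node (.leaf 0x1e8007)
(.leaf 0x1ef0b2d5))
(.node (.leaf 0xf80cc3c)
(.leaf 0x2fed17eb)))
(.node (.node (.leaf 0x776845d)
(.leaf 0x277ecd40))
(.node (.leaf 0x16b0d2eb)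
(.leaf 0))))
(.node (.node (.node (.leaf 0x2fea303)
(.leaf 0x23e5128e))
(.node (.leaf 0x13570556)
(.leaf 0)))
(.node (.node (.leaf 0xc030684)
(.leaf 0x2bc2b71d))
(.node (.leaf 0x1c14e696)
(.leaf 0)))))
(.node (.node (.node (.node (.leaf 0x1bce173)
(.leaf 0x2140c641))
(.node (.leaf 0x1159101e)
(.leaf 0)))
(.node (.node (.leaf 0xa10e793)
(.leaf 0x2a1114d0))
(.node (.leaf 0x17e8e9d9)
(.leaf 0))))
(.node (.node (.node (.leaf 0x61e2043)
(.leaf 0x24eee99a))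
(.node (.leaf 0x161104f4)
(.leaf 0)))
(.node (.node (.leaf 0xd18ef24)
(.leaf 0x2cecd83c))
(.node (.leaf 0x1de30e82)
(.leaf 0))))))
(.node (.node (.node (.node (.node (.leaf 0x8ee17e)
(.leaf 0x20e4ac47))
(.node (.leaf 0x101aef4a)
(.leaf 0x3112f7e3)))
(.node (.node (.leaf 0x91f048c)
(.leaf 0x28e2d3dd))
(.node (.leaf 0x1744ea0b)
(.leaf 0))))
(.node (.node (.node (.leaf 0x4d0e024)
(.leaf 0x2440d113))
(.node (.leaf 0x140e7042)
(.leaf 0)))
(.node (.node (.leaf 0xc84d299)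
(.leaf 0x2c24d78d))
(.node (.leaf 0x1c94e8f6)
(.leaf 0)))))
(.node (.node (.node (.node (.leaf 0x232a149)
(.leaf 0x21e6b24f))
(.node (.leaf 0x131104ee)
(.leaf 0)))
(.node (.node (.leaf 0xaa4c946)
(.leaf 0x2a78d7cf))
(.node (.leaf 0x18eccda6)
(.leaf 0))))
(.node (.node (.node (.leaf 0x712e21c)
(.leaf 0x26e90a41))
(.node (.leaf 0x164cd002)
(.leaf 0)))
(.node (.node (.leaf 0xe38ec9c)
(.leaf 0x2ee27528))
(.node (.leaf 0x1e2eb312)
(.leaf 0)))))))
(.node (.node (.node (.node (.node (.node (.leaf 0x3e4106)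
(.leaf 0x1f7eb033))
(.node (.leaf 0xfaecf1a)
(.leaf 0x3096f80e)))
(.node (.node (.leaf 0x852a3e3)
(.leaf 0x286cd05e))
(.node (.leaf 0x16f4739e)
(.leaf 0))))
(.node (.node (.node (.leaf 0x49e2026)
(.leaf 0x240ee9fc))
(.node (.leaf 0x1394b07b)
(.leaf 0)))
(.node (.node (.leaf 0xc5ecdb7)
(.leaf 0x2beaf7c9))
(.node (.leaf 0x1c64e85d)
(.leaf 0)))))
(.node (.node (.node (.node (.leaf 0x1eb02f0)
(.leaf 0x218aee3c))
(.node (.leaf 0x126267b8)
(.leaf 0)))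
(.node (.node (.leaf 0xa768dfd)
(.leaf 0x2a46f66d))
(.node (.leaf 0x1866d401)
(.leaf 0))))
(.node (.node (.node (.leaf 0x696e44b)
(.leaf 0x25c7106b))
(.node (.leaf 0x162a471e)
(.leaf 0)))
(.node (.node (.leaf 0xd670db6)
(.leaf 0x2e16d670))
(.node (.leaf 0x1e04884d)
(.leaf 0))))))
(.node (.node (.node (.node (.node (.leaf 0x19e801b)
(.leaf 0x210a734f))
(.node (.leaf 0x108a6fd4)
(.leaf 0)))
(.node (.node (.leaf 0x96cc76b)
(.leaf 0x299ab533))
(.node (.leaf 0x178e44e9)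
(.leaf 0))))
(.node (.node (.node (.leaf 0x574c1f8)
(.leaf 0x2494f365))
(.node (.leaf 0x14aad2be)
(.leaf 0)))
(.node (.node (.leaf 0xcbacc3f)
(.leaf 0x2c84d64c))
(.node (.leaf 0x1d2ca8c5)
(.leaf 0)))))
(.node (.node (.node (.node (.leaf 0x28aa253)
(.leaf 0x228ce7d2))
(.node (.leaf 0x132aab19)
(.leaf 0)))
(.node (.node (.leaf 0xb02a7d6)
(.leaf 0x2b39163d))
(.node (.leaf 0x199f11a0)
(.leaf 0))))
(.node (.node (.node (.leaf 0x742823e)
(.leaf 0x271ca785))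
(.node (.leaf 0x1674d197)
(.leaf 0)))
(.node (.node (.leaf 0xf5cacb3)
(.leaf 0x2f7a780c))
(.node (.leaf 0x1e7286f7)
(.leaf 0))))))))
(.node (.node (.node (.node (.node (.node (.node (.leaf 0x2aa264)
(.leaf 0x1f18e80e))
(.node (.leaf 0xf948ba7)
(.leaf 0x3015189b)))
(.node (.node (.leaf 0x79c43ad)
(.leaf 0x28568b3d))
(.node (.leaf 0x16d6c57c)
(.leaf 0))))
(.node (.node (.node (.leaf 0x392a148)
(.leaf 0x23f8e9f8))
(.node (.leaf 0x136ad152)
(.leaf 0)))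
(.node (.node (.leaf 0xc5046bb)
(.leaf 0x2bd49722))
(.node (.leaf 0x1c568a86)
(.leaf 0)))))
(.node (.node (.node (.node (.leaf 0x1d0c280)
(.leaf 0x215f0e7f))
(.node (.leaf 0x12506afa)
(.leaf 0)))
(.node (.node (.leaf 0xa34e5c3)
(.leaf 0x2a32977e))
(.node (.leaf 0x1818b010)
(.leaf 0))))
(.node (.node (.node (.leaf 0x63260ef)
(.leaf 0x252e46ad))
(.node (.leaf 0x161ccd91)
(.leaf 0)))
(.node (.node (.leaf 0xd40d31f)
(.leaf 0x2d471778))
(.node (.leaf 0x1df3081f)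
(.leaf 0))))))
(.node (.node (.node (.node (.node (.leaf 0xcce0ad)
(.leaf 0x20f48ea9))
(.node (.leaf 0x1052c8e6)
(.leaf 0)))
(.node (.node (.leaf 0x950c663)
(.leaf 0x29126790))
(.node (.leaf 0x1768d2de)
(.leaf 0))))
(.node (.node (.node (.leaf 0x55e203b)
(.leaf 0x246d06e1))
(.node (.leaf 0x1444d1fd)
(.leaf 0)))
(.node (.node (.leaf 0xc9aeee9)
(.leaf 0x2c58b5d9))
(.node (.leaf 0x1cc507ca)
(.leaf 0)))))
(.node (.node (.node (.node (.leaf 0x25ce378)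
(.leaf 0x224aa8df))
(.node (.leaf 0x131d0a73)
(.leaf 0)))
(.node (.node (.leaf 0xac11158)
(.leaf 0x2aa91689))
(.node (.leaf 0x19530991)
(.leaf 0))))
(.node (.node (.node (.leaf 0x72e6474)
(.leaf 0x2702a62e))
(.node (.leaf 0x1660f12d)
(.leaf 0)))
(.node (.node (.leaf 0xf5104df)
(.leaf 0x2f247852))
(.node (.leaf 0x1e4caefd)
(.leaf 0)))))))
(.node (.node (.node (.node (.node (.node (.leaf 0x54a19a)
(.leaf 0x20d70816))
(.node (.leaf 0xfdb1416)
(.leaf 0x30b8f82b)))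
(.node (.node (.leaf 0x8b483f6)
(.leaf 0x28c84d3c))
(.node (.leaf 0x171af02d)
(.leaf 0))))
(.node (.node (.node (.leaf 0x4aea050)
(.leaf 0x241f148d))
(.node (.leaf 0x13ca692f)
(.leaf 0)))
(.node (.node (.leaf 0xc70cc20)
(.leaf 0x2c03152c))
(.node (.leaf 0x1c7c474a)
(.leaf 0)))))
(.node (.node (.node (.node (.leaf 0x20e6359)
(.leaf 0x21b86dbd))
(.node (.leaf 0x128ccceb)
(.leaf 0)))
(.node (.node (.leaf 0xa866d98)
(.leaf 0x2a5ab835))
(.node (.leaf 0x1896aa02)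
(.leaf 0))))
(.node (.node (.node (.leaf 0x6b6e0b8)
(.leaf 0x26d6ea1d))
(.node (.leaf 0x163ca935)
(.leaf 0)))
(.node (.node (.leaf 0xda8ab63)
(.leaf 0x2eba578e))
(.node (.leaf 0x1e1b130a)
(.leaf 0))))))
(.node (.node (.node (.node (.node (.leaf 0x1aa828b)
(.leaf 0x2122a8b1))
(.node (.leaf 0x10e4ea7e)
(.leaf 0)))
(.node (.node (.leaf 0x99ca662)
(.leaf 0x29bed567))
(.node (.leaf 0x17bcacf8)
(.leaf 0))))
(.node (.node (.node (.leaf 0x5a6c084)
(.leaf 0x24c2665b))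
(.node (.leaf 0x1528f140)
(.leaf 0)))
(.node (.node (.leaf 0xce8aed9)
(.leaf 0x2cbab6dc))
(.node (.leaf 0x1dd6c9dd)
(.leaf 0)))))
(.node (.node (.node (.node (.leaf 0x2b8e193)
(.leaf 0x23d689c6))
(.node (.leaf 0x1340892a)
(.leaf 0)))
(.node (.node (.leaf 0xb62b0e7)
(.leaf 0x2bb4d623))
(.node (.leaf 0x1a370f10)
(.leaf 0))))
(.node (.node (.node (.leaf 0x75643bf)
(.leaf 0x2748ca6a))
(.node (.leaf 0x16930b93)
(.leaf 0)))
(.node (.node (.leaf 0xf6b0fcc)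
(.leaf 0x2fd6d76f))
(.node (.leaf 0x1eab08f3)
(.leaf 0))))))))))
(.node (.node (.node (.node (.node (.node (.node (.node (.node (.leaf 565268)
(.leaf 0x1ee2a60a))
(.node (.leaf 0xf7aeed3)
(.leaf 0x2fe4f857)))
(.node (.node (.leaf 0x771037d)
(.leaf 0x2772ea49))
(.node (.leaf 0x16a8d1ce)
(.leaf 0))))
(.node (.node (.node (.leaf 0x2f2c192)
(.leaf 0x23e0b289))
(.node (.leaf 0x1350d00c)
(.leaf 0)))
(.node (.node (.leaf 0xbf8c4d8)
(.leaf 0x2bbf16e4))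
(.node (.leaf 0x1c0f0509)
(.leaf 0)))))
(.node (.node (.node (.node (.leaf 0x1b8a190)
(.leaf 0x2138ae15))
(.node (.leaf 0x11345319)
(.leaf 0)))
(.node (.node (.leaf 0xa0e2496)
(.leaf 0x2a02f4db))
(.node (.leaf 0x17d8d288)
(.leaf 0))))
(.node (.node (.node (.leaf 0x5f2e3d6)
(.leaf 0x24e2ab0c))
(.node (.leaf 0x160e24f2)
(.leaf 0)))
(.node (.node (.leaf 0xd0ec919)
(.leaf 0x2ce0f768))
(.node (.leaf 0x1dde8c2a)
(.leaf 0))))))
(.node (.node (.node (.node (.node (.leaf 0x7502dd)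
(.leaf 0x20e0ae5e))
(.node (.leaf 0x100ed321)
(.leaf 0x30ff189c)))
(.node (.node (.leaf 0x90cc504)
(.leaf 0x28dce994))
(.node (.leaf 0x1738f36c)
(.leaf 0))))
(.node (.node (.node (.leaf 0x4c4616f)
(.leaf 0x24370d4d))
(.node (.leaf 0x13fcb219)
(.leaf 0)))
(.node (.node (.leaf 0xc7f0f7e)
(.leaf 0x2c1c74f0))
(.node (.leaf 0x1c8cacfe)
(.leaf 0)))))
(.node (.node (.node (.node (.leaf 0x226a0af)
(.leaf 0x21dca933))
(.node (.leaf 0x130e24ec)
(.leaf 0)))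
(.node (.node (.leaf 0xa9c52f9)
(.leaf 0x2a72f569))
(.node (.leaf 0x18dad35f)
(.leaf 0))))
(.node (.node (.node (.leaf 0x6fea232)
(.leaf 0x26e270ad))
(.node (.leaf 0x1648ce0c)
(.leaf 0)))
(.node (.node (.leaf 0xe1a6bf6)
(.leaf 0x2ed4f5e0))
(.node (.leaf 0x1e2af290)
(.leaf 0)))))))
(.node (.node (.node (.node (.node (.node (.leaf 0x38e2a1)
(.leaf 0x1f61113b))
(.node (.leaf 0xfa8ec12)
(.leaf 0x3062b7de)))
(.node (.node (.leaf 0x838e27f)
(.leaf 0x28650b88))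
(.node (.leaf 0x16eed0b4)
(.leaf 0))))
(.node (.node (.node (.leaf 0x3dac165)
(.leaf 0x24090aef))
(.node (.leaf 0x1388f2ea)
(.leaf 0)))
(.node (.node (.leaf 0xc5a6c9e)
(.leaf 0x2be6d6cb))
(.node (.leaf 0x1c60cf47)
(.leaf 0)))))
(.node (.node (.node (.node (.leaf 0x1e6604d)
(.leaf 0x217ec8f7))
(.node (.leaf 0x125c6d9b)
(.leaf 0)))
(.node (.node (.leaf 0xa72714d)
(.leaf 0x2a4115cf))
(.node (.leaf 0x18511063)
(.leaf 0))))
(.node (.node (.node (.leaf 0x68460d0)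
(.leaf 0x25a0b4b6))
(.node (.leaf 0x16268bd8)
(.leaf 0)))
(.node (.node (.leaf 0xd60a974)
(.leaf 0x2dc0b594))
(.node (.leaf 0x1dfe48be)
(.leaf 0))))))
(.node (.node (.node (.node (.node (.leaf 0x12100fa)
(.leaf 0x21070ce8))
(.node (.leaf 0x107d0afb)
(.leaf 0)))
(.node (.node (.leaf 0x964c698)
(.leaf 0x2984b5ee))
(.node (.leaf 0x1786d1b2)
(.leaf 0))))
(.node (.node (.node (.leaf 0x56ce1f9)
(.leaf 0x2489142b))
(.node (.leaf 0x1484ca68)
(.leaf 0)))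
(.node (.node (.leaf 0xcb2af68)
(.leaf 0x2c7cb55e))
(.node (.leaf 0x1d10e4f3)
(.leaf 0)))))
(.node (.node (.node (.node (.leaf 0x280c19f)
(.leaf 0x2274f053))
(.node (.leaf 0x132653b3)
(.leaf 0)))
(.node (.node (.leaf 0xaecf3e8)
(.leaf 0x2b0af649))
(.node (.leaf 0x1986a766)
(.leaf 0))))
(.node (.node (.node (.leaf 0x73a4346)
(.leaf 0x2712cfe6))
(.node (.leaf 0x16706a83)
(.leaf 0)))
(.node (.node (.leaf 0xf587451)
(.leaf 0x2f76f711))
(.node (.leaf 0x1e6b0cdc)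
(.leaf 0))))))))
(.node (.node (.node (.node (.node (.node (.node (.leaf 0x26c31a)
(.leaf 0x1f0ef404))
(.node (.leaf 0xf8e8c74)
(.leaf 0x3009176c)))
(.node (.node (.leaf 0x786c43b)
(.leaf 0x27c851d2))
(.node (.leaf 0x16cee610)
(.leaf 0))))
(.node (.node (.node (.leaf 0x36ae151)
(.leaf 0x23f2abac))
(.node (.leaf 0x1362d1f3)
(.leaf 0)))
(.node (.node (.leaf 0xc4e24ad)
(.leaf 0x2bd055a3))
(.node (.leaf 0x1c4305b5)
(.leaf 0)))))
(.node (.node (.node (.node (.leaf 0x1cac30c)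
(.leaf 0x2154a83b))
(.node (.leaf 0x124e24e6)
(.leaf 0)))
(.node (.node (.leaf 0xa28a50f)
(.leaf 0x2a3114e9))
(.node (.leaf 0x1808b2f6)
(.leaf 0))))
(.node (.node (.node (.leaf 0x62b034a)
(.leaf 0x251ed3cf))
(.node (.leaf 0x1618d1d7)
(.leaf 0)))
(.node (.node (.leaf 0xd384628)
(.leaf 0x2d32d855))
(.node (.leaf 0x1dece8c6)
(.leaf 0))))))
(.node (.node (.node (.node (.node (.leaf 0xb6e283)
(.leaf 0x20f06f36))
(.node (.leaf 0x10490745)
(.leaf 0)))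
(.node (.node (.leaf 0x94e2490)
(.leaf 0x28fe703d))
(.node (.leaf 0x176113ec)
(.leaf 0))))
(.node (.node (.node (.leaf 0x51b02f9)
(.leaf 0x2460cfaa))
(.node (.leaf 0x1436c9d5)
(.leaf 0)))
(.node (.node (.leaf 0xc946c6e)
(.leaf 0x2c4f1704))
(.node (.leaf 0x1caef30d)
(.leaf 0)))))
(.node (.node (.node (.node (.leaf 0x252e274)
(.leaf 0x2238f20c))
(.node (.leaf 0x1318f345)
(.leaf 0)))
(.node (.node (.leaf 0xab71143)
(.leaf 0x2a98b699))
(.node (.leaf 0x193cf480)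
(.leaf 0))))
(.node (.node (.node (.leaf 0x72cc34f)
(.leaf 0x26fccff2))
(.node (.leaf 0x165d0bb5)
(.leaf 0)))
(.node (.node (.leaf 0xf4e24de)
(.leaf 0x2f0ad703))
(.node (.leaf 0x1e42cc54)
(.leaf 0)))))))
(.node (.node (.node (.node (.node (.node (.leaf 0x4f031f)
(.leaf 0x2038ac82))
(.node (.leaf 0xfcf0b6a)
(.leaf 0x30aaf84d)))
(.node (.node (.leaf 0x8ae443e)
(.leaf 0x28c46942))
(.node (.leaf 0x17110a58)
(.leaf 0))))
(.node (.node (.node (.leaf 0x4a8a1cd)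
(.leaf 0x241a8f17))
(.node (.leaf 0x13baa884)
(.leaf 0)))
(.node (.node (.leaf 0xc6c8b1f)
(.leaf 0x2bfab6a8))
(.node (.leaf 0x1c7651e2)
(.leaf 0)))))
(.node (.node (.node (.node (.leaf 0x206a18a)
(.leaf 0x21aace99))
(.node (.leaf 0x127e51b8)
(.leaf 0)))
(.node (.node (.leaf 0xa82cd28)
(.leaf 0x2a5717ad))
(.node (.leaf 0x188aef42)
(.leaf 0))))
(.node (.node (.node (.leaf 0x6aea239)
(.leaf 0x2656ad0d))
(.node (.leaf 0x163694be)
(.leaf 0)))
(.node (.node (.leaf 0xd94ce59)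
(.leaf 0x2eb895ca))
(.node (.leaf 0x1e15143d)
(.leaf 0))))))
(.node (.node (.node (.node (.node (.leaf 0x1a6e289)
(.leaf 0x211a91e1))
(.node (.leaf 0x10d0d2aa)
(.leaf 0)))
(.node (.node (.leaf 0x98aa55c)
(.leaf 0x29b2d4d4))
(.node (.leaf 0x17aecd58)
(.leaf 0))))
(.node (.node (.node (.leaf 0x58cc233)
(.leaf 0x24b6b4a7))
(.node (.leaf 0x1504e7b4)
(.leaf 0)))
(.node (.node (.leaf 0xcdc8808)
(.leaf 0x2ca9179b))
(.node (.leaf 0x1da2e857)
(.leaf 0)))))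
(.node (.node (.node (.node (.leaf 0x2a84032)
(.leaf 0x237ce73c))
(.node (.leaf 0x133ab3e9)
(.leaf 0)))
(.node (.node (.leaf 0xb36f22d)
(.leaf 0x2baed6e6))
(.node (.leaf 0x1a1cab2f)
(.leaf 0))))
(.node (.node (.node (.leaf 0x74f01be)
(.leaf 0x273b1023))
(.node (.leaf 0x168af12c)
(.leaf 0)))
(.node (.node (.leaf 0xf68659d)
(.leaf 0x2fa856e7))
(.node (.leaf 0x1e9a8afe)
(.leaf 0)))))))))
(.node (.node (.node (.node (.node (.node (.node (.node (.leaf 0x20c265)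
(.leaf 0x1efc687f))
(.node (.leaf 0xf851141)
(.leaf 0x2ff25898)))
(.node (.node (.leaf 0x77ec228)
(.leaf 0x278ecad5))
(.node (.leaf 0x16b8ede1)
(.leaf 0))))
(.node (.node (.node (.leaf 0x320c1a1)
(.leaf 0x23e89195))
(.node (.leaf 0x135a8fa4)
(.leaf 0)))
(.node (.node (.leaf 0xc0ca4a6)
(.leaf 0x2bc6f730))
(.node (.leaf 0x1c28e777)
(.leaf 0)))))
(.node (.node (.node (.node (.leaf 0x1c0a330)
(.leaf 0x2146eccc))
(.node (.leaf 0x1184d431)
(.leaf 0)))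
(.node (.node (.leaf 0xa18c547)
(.leaf 0x2a2a5603))
(.node (.leaf 0x17f2ef0c)
(.leaf 0))))
(.node (.node (.node (.leaf 0x62040f1)
(.leaf 0x24fece95))
(.node (.leaf 0x16130a6e)
(.leaf 0)))
(.node (.node (.leaf 0xd24a862)
(.leaf 0x2d0474d2))
(.node (.leaf 0x1de6aed7)
(.leaf 0))))))
(.node (.node (.node (.node (.node (.leaf 0x99040a)
(.leaf 0x20e6d338))
(.node (.leaf 0x10270531)
(.leaf 0x3129186c)))
(.node (.node (.leaf 0x922aa76)
(.leaf 0x28e90ec7))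
(.node (.leaf 0x174eca0c)
(.leaf 0))))
(.node (.node (.node (.leaf 0x4dca1b6)
(.leaf 0x24490b32))
(.node (.leaf 0x141eeb16)
(.leaf 0)))
(.node (.node (.leaf 0xc8a4705)
(.leaf 0x2c30d823))
(.node (.leaf 0x1ca08c98)
(.leaf 0)))))
(.node (.node (.node (.node (.leaf 0x23b01a3)
(.leaf 0x21f8e8c3))
(.node (.leaf 0x13130a2f)
(.leaf 0)))
(.node (.node (.leaf 0xaa86566)
(.leaf 0x2a8116e3))
(.node (.leaf 0x190070e0)
(.leaf 0))))
(.node (.node (.node (.leaf 0x726a38a)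
(.leaf 0x26ed1138))
(.node (.leaf 0x16524937)
(.leaf 0)))
(.node (.node (.leaf 0xe88cd55)
(.leaf 0x2ee8d63a))
(.node (.leaf 0x1e34b309)
(.leaf 0)))))))
(.node (.node (.node (.node (.node (.node (.leaf 0x42c246)
(.leaf 0x1f8ee80c))
(.node (.leaf 0xfb268f8)
(.leaf 0x309d183e)))
(.node (.node (.leaf 0x8a643f5)
(.leaf 0x287af1b4))
(.node (.leaf 0x16fcd3b9)
(.leaf 0))))
(.node (.node (.node (.leaf 0x4a040b7)
(.leaf 0x2412cb26))
(.node (.leaf 0x13a4b18b)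
(.leaf 0)))
(.node (.node (.leaf 0xc62ab3f)
(.leaf 0x2bf0b6a1))
(.node (.leaf 0x1c68ef8a)
(.leaf 0)))))
(.node (.node (.node (.node (.leaf 0x1eea2ee)
(.leaf 0x21931239))
(.node (.leaf 0x126aca61)
(.leaf 0)))
(.node (.node (.leaf 0xa791016)
(.leaf 0x2a4c5706))
(.node (.leaf 0x1872eb07)
(.leaf 0))))
(.node (.node (.node (.leaf 0x69d017f)
(.leaf 0x25dcb191))
(.node (.leaf 0x162f0d7e)
(.leaf 0)))
(.node (.node (.leaf 0xd6f10ef)
(.leaf 0x2eaf1544))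
(.node (.leaf 0x1e08ecc3)
(.leaf 0))))))
(.node (.node (.node (.node (.node (.leaf 0x1a0e1eb)
(.leaf 0x21110a34))
(.node (.leaf 0x1096a4c2)
(.leaf 0)))
(.node (.node (.leaf 0x976c49d)
(.leaf 0x299ed566))
(.node (.leaf 0x1792d11e)
(.leaf 0))))
(.node (.node (.node (.leaf 0x57aa3a2)
(.leaf 0x249ea883))
(.node (.leaf 0x14b70d29)
(.leaf 0)))
(.node (.node (.leaf 0xcc4eb86)
(.leaf 0x2c90f77d))
(.node (.leaf 0x1d3e4e4c)
(.leaf 0)))))
(.node (.node (.node (.node (.leaf 0x294c029)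
(.leaf 0x22a2e8dd))
(.node (.leaf 0x1330ecbe)
(.leaf 0)))
(.node (.node (.leaf 0xb16ed7a)
(.leaf 0x2bab1560))
(.node (.leaf 0x19acd342)
(.leaf 0))))
(.node (.node (.node (.leaf 0x7444418)
(.leaf 0x2722d3f6))
(.node (.leaf 0x1678d2c8)
(.leaf 0)))
(.node (.node (.leaf 0xf5f137b)
(.leaf 0x2f8097d6))
(.node (.leaf 0x1e7aa4c6)
(.leaf 0))))))))
(.node (.node (.node (.node (.node (.node (.node (.leaf 0x2ec1ad)
(.leaf 0x1f34e5a0))
(.node (.leaf 0xf9a8ecc)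
(.leaf 0x3030f7f3)))
(.node (.node (.leaf 0x7baa417)
(.leaf 0x285a673a))
(.node (.leaf 0x16deb17f)
(.leaf 0))))
(.node (.node (.node (.leaf 0x3a8a107)
(.leaf 0x23fc90de))
(.node (.leaf 0x137111af)
(.leaf 0)))
(.node (.node (.leaf 0xc52f37f)
(.leaf 0x2bdcd71a))
(.node (.leaf 0x1c58cfcb)
(.leaf 0)))))
(.node (.node (.node (.node (.leaf 0x1d4831c)
(.leaf 0x2168b15e))
(.node (.leaf 0x1254ca24)
(.leaf 0)))
(.node (.node (.leaf 0xa6e249c)
(.leaf 0x2a3917b6))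
(.node (.leaf 0x182eea20)
(.leaf 0))))
(.node (.node (.node (.leaf 0x63ce26d)
(.leaf 0x2552d112))
(.node (.leaf 0x161ef0d7)
(.leaf 0)))
(.node (.node (.leaf 0xd4d052e)
(.leaf 0x2d7a766b))
(.node (.leaf 0x1df4b42d)
(.leaf 0))))))
(.node (.node (.node (.node (.node (.leaf 0xdd02e3)
(.leaf 0x20fb0b82))
(.node (.leaf 0x105eee41)
(.leaf 0)))
(.node (.node (.leaf 0x956e695)
(.leaf 0x292eeddd))
(.node (.leaf 0x177687de)
(.leaf 0))))
(.node (.node (.node (.leaf 0x56063c9)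
(.leaf 0x2474c9ad))
(.node (.leaf 0x144cb3c7)
(.leaf 0)))
(.node (.node (.leaf 0xc9ea9e8)
(.leaf 0x2c66f652))
(.node (.leaf 0x1cd6e749)
(.leaf 0)))))
(.node (.node (.node (.node (.leaf 0x2670067)
(.leaf 0x2258a825))
(.node (.leaf 0x131e74a8)
(.leaf 0)))
(.node (.node (.leaf 0xad10a65)
(.leaf 0x2ac0f668))
(.node (.leaf 0x196af380)
(.leaf 0))))
(.node (.node (.node (.leaf 0x732e448)
(.leaf 0x2708cea2))
(.node (.leaf 0x16647483)
(.leaf 0)))
(.node (.node (.leaf 0xf526e61)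
(.leaf 0x2f4915f8))
(.node (.leaf 0x1e5aa81c)
(.leaf 0)))))))
(.node (.node (.node (.node (.node (.node (.leaf 0x60e0a1)
(.leaf 0x20dae71a))
(.node (.leaf 0xfe4cf23)
(.leaf 0x30c6f7ec)))
(.node (.node (.leaf 0x8cac311)
(.leaf 0x28cd0958))
(.node (.leaf 0x1724f2ee)
(.leaf 0))))
(.node (.node (.node (.leaf 0x4b4a0b0)
(.leaf 0x2424eb4e))
(.node (.leaf 0x13e4ea2d)
(.leaf 0)))
(.node (.node (.leaf 0xc7507c6)
(.leaf 0x2c0716da))
(.node (.leaf 0x1c828873)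
(.leaf 0)))))
(.node (.node (.node (.node (.leaf 0x216a31e)
(.leaf 0x21c2e70f))
(.node (.leaf 0x12a0a4f0)
(.leaf 0)))
(.node (.node (.leaf 0xa8cae03)
(.leaf 0x2a62f661))
(.node (.leaf 0x18a3109a)
(.leaf 0))))
(.node (.node (.node (.leaf 0x6cca213)
(.leaf 0x26db0f0d))
(.node (.leaf 0x1640c997)
(.leaf 0)))
(.node (.node (.leaf 0xdb6caf8)
(.leaf 0x2ec0d6a6))
(.node (.leaf 0x1e230772)
(.leaf 0))))))
(.node (.node (.node (.node (.node (.leaf 0x1aec200)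
(.leaf 0x212652d3))
(.node (.leaf 0x10f50d06)
(.leaf 0)))
(.node (.node (.leaf 0x9b0e872)
(.leaf 0x29dcf59d))
(.node (.leaf 0x17c84baa)
(.leaf 0))))
(.node (.node (.node (.leaf 0x5b8c0cf)
(.leaf 0x24cced3a))
(.node (.leaf 0x1544d1a5)
(.leaf 0)))
(.node (.node (.leaf 0xcf4ecb4)
(.leaf 0x2cc2b59b))
(.node (.leaf 0x1dd8cc69)
(.leaf 0)))))
(.node (.node (.node (.node (.leaf 0x2cec0a3)
(.leaf 0x23d8d256))
(.node (.leaf 0x1348a69e)
(.leaf 0)))
(.node (.node (.leaf 0xbef04a0)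
(.leaf 0x2bb6578f))
(.node (.leaf 0x1a7ed190)
(.leaf 0))))
(.node (.node (.node (.leaf 0x76282b6)
(.leaf 0x2758d2bd))
(.node (.leaf 0x169ae7e1)
(.leaf 0)))
(.node (.node (.leaf 0xf70ef3e)
(.leaf 0x2fdaf899))
(.node (.leaf 0x1ec0ee52)
(.leaf 0)))))))))))
(.node (.node (.node (.node (.node (.node (.node (.node (.node (.node (.leaf 188444)
(.leaf 0x1ed30dd5))
(.node (.leaf 0xf78d2a3)
(.leaf 0x2fe2d87b)))
(.node (.node (.leaf 0x76c4442)
(.leaf 0x276af1ef))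
(.node (.leaf 0x16a50837)
(.leaf 0))))
(.node (.node (.node (.leaf 0x2e8e159)
(.leaf 0x23ded1d8))
(.node (.leaf 0x134e508e)
(.leaf 0)))
(.node (.node (.leaf 0xbf4c692)
(.leaf 0x2bbc7547))
(.node (.leaf 0x1bb4cad7)
(.leaf 0)))))
(.node (.node (.node (.node (.leaf 0x1b6812b)
(.leaf 0x212ed382))
(.node (.leaf 0x11286f74)
(.leaf 0)))
(.node (.node (.leaf 0x9d8e925)
(.leaf 0x29fed586))
(.node (.leaf 0x17d0d196)
(.leaf 0))))
(.node (.node (.node (.leaf 0x5cec0e2)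
(.leaf 0x24db0bb4))
(.node (.leaf 0x158aab27)
(.leaf 0)))
(.node (.node (.leaf 0xd0511df)
(.leaf 0x2cda577c))
(.node (.leaf 0x1ddcd357)
(.leaf 0))))))
(.node (.node (.node (.node (.node (.leaf 0x6ce2c6)
(.leaf 0x20deefb4))
(.node (.leaf 0x1002d163)
(.leaf 0x30fd175b)))
(.node (.node (.leaf 0x906c4a5)
(.leaf 0x28d66d4f))
(.node (.leaf 0x1734ca23)
(.leaf 0))))
(.node (.node (.node (.leaf 0x4bca203)
(.leaf 0x2434e8d3))
(.node (.leaf 0x13f8d12e)
(.leaf 0)))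
(.node (.node (.leaf 0xc7c6c2d)
(.leaf 0x2c16b524))
(.node (.leaf 0x1c886c6b)
(.leaf 0)))))
(.node (.node (.node (.node (.leaf 0x2224110)
(.leaf 0x21d2eb87))
(.node (.leaf 0x12dd0d92)
(.leaf 0)))
(.node (.node (.leaf 0xa96e94f)
(.leaf 0x2a6ed723))
(.node (.leaf 0x18d2d261)
(.leaf 0))))
(.node (.node (.node (.leaf 0x6fce3de)
(.leaf 0x26e052da))
(.node (.leaf 0x1646499e)
(.leaf 0)))
(.node (.node (.leaf 0xe0cea85)
(.leaf 0x2ed11724))
(.node (.leaf 0x1e28ced5)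
(.leaf 0)))))))
(.node (.node (.node (.node (.node (.node (.leaf 0x36e297)
(.leaf 0x1f58adbc))
(.node (.leaf 0xfa2c91e)
(.leaf 0x3050b870)))
(.node (.node (.leaf 0x804a35f)
(.leaf 0x28626926))
(.node (.leaf 0x16ecca4e)
(.leaf 0))))
(.node (.node (.node (.leaf 0x3d0e3f8)
(.leaf 0x2404b074))
(.node (.leaf 0x1383111c)
(.leaf 0)))
(.node (.node (.leaf 0xc58f1da)
(.leaf 0x2be515f3))
(.node (.leaf 0x1c5f0c31)
(.leaf 0)))))
(.node (.node (.node (.node (.leaf 0x1e242bf)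
(.leaf 0x21790e8e))
(.node (.leaf 0x125ae7a4)
(.leaf 0)))
(.node (.node (.leaf 0xa70d395)
(.leaf 0x2a3e751f))
(.node (.leaf 0x1848cb53)
(.leaf 0))))
(.node (.node (.node (.leaf 0x6806344)
(.leaf 0x259509a9))
(.node (.leaf 0x1624ea4c)
(.leaf 0)))
(.node (.node (.leaf 0xd5aae2b)
(.leaf 0x2dacb6d6))
(.node (.leaf 0x1dfcac90)
(.leaf 0))))))
(.node (.node (.node (.node (.node (.leaf 0x10700b1)
(.leaf 0x21024c01))
(.node (.leaf 0x1078ecbb)
(.leaf 0)))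
(.node (.node (.leaf 0x95ee868)
(.leaf 0x2982f545))
(.node (.leaf 0x1782c5f7)
(.leaf 0))))
(.node (.node (.node (.leaf 0x568c20d)
(.leaf 0x24829116))
(.node (.leaf 0x1466d142)
(.leaf 0)))
(.node (.node (.leaf 0xcaf0871)
(.leaf 0x2c76b728))
(.node (.leaf 0x1d06c709)
(.leaf 0)))))
(.node (.node (.node (.node (.leaf 0x27ce06f)
(.leaf 0x226ab423))
(.node (.leaf 0x1324d2d6)
(.leaf 0)))
(.node (.node (.leaf 0xae6b086)
(.leaf 0x2afcd6fa))
(.node (.leaf 0x19825096)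
(.leaf 0))))
(.node (.node (.node (.leaf 0x736c46b)
(.leaf 0x2710e99f))
(.node (.leaf 0x166eeb11)
(.leaf 0)))
(.node (.node (.leaf 0xf58eb65)
(.leaf 0x2f74d756))
(.node (.leaf 0x1e651415)
(.leaf 0))))))))
(.node (.node (.node (.node (.node (.node (.node (.leaf 0x246382)
(.leaf 0x1f06b050))
(.node (.leaf 0xf8ce746)
(.leaf 0x3004b88b)))
(.node (.node (.leaf 0x7850447)
(.leaf 0x27b8f0d4))
(.node (.leaf 0x16c6b099)
(.leaf 0))))
(.node (.node (.node (.leaf 0x35cc1c4)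
(.leaf 0x23f0eb30))
(.node (.leaf 0x1362a77b)
(.leaf 0)))
(.node (.node (.leaf 0xc2ac7d3)
(.leaf 0x2bcc7843))
(.node (.leaf 0x1c38e5b9)
(.leaf 0)))))
(.node (.node (.node (.node (.leaf 0x1c84334)
(.leaf 0x21510e9e))
(.node (.leaf 0x11bee964)
(.leaf 0)))
(.node (.node (.leaf 0xa24c50d)
(.leaf 0x2a2c97d5))
(.node (.leaf 0x1800b23f)
(.leaf 0))))
(.node (.node (.node (.leaf 0x628606e)
(.leaf 0x2516afe7))
(.node (.leaf 0x1616724b)
(.leaf 0)))
(.node (.node (.leaf 0xd326eff)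
(.leaf 0x2d2915c6))
(.node (.leaf 0x1deaae53)
(.leaf 0))))))
(.node (.node (.node (.node (.node (.leaf 0xad02a0)
(.leaf 0x20f0c5d9))
(.node (.leaf 0x103f0ebd)
(.leaf 0)))
(.node (.node (.leaf 0x934c4d7)
(.leaf 0x28f6f43f))
(.node (.leaf 0x175eada2)
(.leaf 0))))
(.node (.node (.node (.leaf 0x508e0b5)
(.leaf 0x245b1114))
(.node (.leaf 0x1430cb92)
(.leaf 0)))
(.node (.node (.leaf 0xc92cc32)
(.leaf 0x2c46d841))
(.node (.leaf 0x1ca8453f)
(.leaf 0)))))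
(.node (.node (.node (.node (.leaf 0x24901ea)
(.leaf 0x2228a741))
(.node (.leaf 0x1316f229)
(.leaf 0)))
(.node (.node (.leaf 0xab2d478)
(.leaf 0x2a9076b5))
(.node (.leaf 0x1934f069)
(.leaf 0))))
(.node (.node (.node (.leaf 0x72a42f5)
(.leaf 0x26f8ad4a))
(.node (.leaf 0x165b0d3d)
(.leaf 0)))
(.node (.node (.leaf 0xed0f32b)
(.leaf 0x2efef790))
(.node (.leaf 0x1e3e858d)
(.leaf 0)))))))
(.node (.node (.node (.node (.node (.node (.leaf 0x4d0317)
(.leaf 0x2022a979))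
(.node (.leaf 0xfc2d41c)
(.leaf 0x30a5188f)))
(.node (.node (.leaf 0x8ac8325)
(.leaf 0x28c2277f))
(.node (.leaf 0x170a91b1)
(.leaf 0))))
(.node (.node (.node (.leaf 0x4a6c1cf)
(.leaf 0x2418710b))
(.node (.leaf 0x13b51006)
(.leaf 0)))
(.node (.node (.leaf 0xc688fdd)
(.leaf 0x2bf915f6))
(.node (.leaf 0x1c710f06)
(.leaf 0)))))
(.node (.node (.node (.node (.leaf 0x20101a6)
(.leaf 0x21a46f27))
(.node (.leaf 0x127d0557)
(.leaf 0)))
(.node (.node (.leaf 0xa806a27)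
(.leaf 0x2a551650))
(.node (.leaf 0x1886abc2)
(.leaf 0))))
(.node (.node (.node (.leaf 0x6aac3d7)
(.leaf 0x2613145a))
(.node (.leaf 0x163512f3)
(.leaf 0)))
(.node (.node (.leaf 0xd90eedb)
(.leaf 0x2eb4d653))
(.node (.leaf 0x1e12e529)
(.leaf 0))))))
(.node (.node (.node (.node (.node (.leaf 0x1a4e42e)
(.leaf 0x21186f86))
(.node (.leaf 0x10bf0982)
(.leaf 0)))
(.node (.node (.leaf 0x986e7ef)
(.leaf 0x29ab14e8))
(.node (.leaf 0x17a50558)
(.leaf 0))))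
(.node (.node (.node (.leaf 0x588e22b)
(.leaf 0x24b31430))
(.node (.leaf 0x14dcc927)
(.leaf 0)))
(.node (.node (.leaf 0xcd6f29b)
(.leaf 0x2ca2b6aa))
(.node (.leaf 0x1d80eac4)
(.leaf 0)))))
(.node (.node (.node (.node (.leaf 0x2a30164)
(.leaf 0x2318cf56))
(.node (.leaf 0x1338486b)
(.leaf 0)))
(.node (.node (.leaf 0xb2d13f9)
(.leaf 0x2bac771f))
(.node (.leaf 0x1a06f0d6)
(.leaf 0))))
(.node (.node (.node (.leaf 0x74c8386)
(.leaf 0x2730ef16))
(.node (.leaf 0x1688abc1)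
(.leaf 0)))
(.node (.node (.leaf 0xf646f96)
(.leaf 0x2f9695b7))
(.node (.leaf 0x1e94ae0f)
(.leaf 0)))))))))
(.node (.node (.node (.node (.node (.node (.node (.node (.leaf 0x1ec161)
(.leaf 0x1ef5070d))
(.node (.leaf 0xf826daa)
(.leaf 0x2ff0b73d)))
(.node (.node (.leaf 0x77aa0c4)
(.leaf 0x278307ed))
(.node (.leaf 0x16b4f10c)
(.leaf 0))))
(.node (.node (.node (.leaf 0x306e0a0)
(.leaf 0x23e6f0aa))
(.node (.leaf 0x1358cef5)
(.leaf 0)))
(.node (.node (.leaf 0xc06a8b7)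
(.leaf 0x2bc496a4))
(.node (.leaf 0x1c268505)
(.leaf 0)))))
(.node (.node (.node (.node (.leaf 0x1bec301)
(.leaf 0x2142f409))
(.node (.leaf 0x1168ec84)
(.leaf 0)))
(.node (.node (.leaf 0xa14e79b)
(.leaf 0x2a1cf609))
(.node (.leaf 0x17eb10c8)
(.leaf 0))))
(.node (.node (.node (.leaf 0x61ee158)
(.leaf 0x24f6aa4a))
(.node (.leaf 0x1610ed9a)
(.leaf 0)))
(.node (.node (.leaf 0xd1f0cbc)
(.leaf 0x2cf4d509))
(.node (.leaf 0x1de50b78)
(.leaf 0))))))
(.node (.node (.node (.node (.node (.leaf 0x930079)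
(.leaf 0x20e64c7d))
(.node (.leaf 0x1020f34d)
(.leaf 0x3126974c)))
(.node (.node (.leaf 0x91eaa84)
(.leaf 0x28e6f0a2))
(.node (.leaf 0x1748f22b)
(.leaf 0))))
(.node (.node (.node (.leaf 0x4d2a1ff)
(.leaf 0x2444e968))
(.node (.leaf 0x1414c66f)
(.leaf 0)))
(.node (.node (.leaf 0xc88c976)
(.leaf 0x2c267702))
(.node (.leaf 0x1c98ef3d)
(.leaf 0)))))
(.node (.node (.node (.node (.leaf 0x236c086)
(.leaf 0x21ece67b))
(.node (.leaf 0x1310506e)
(.leaf 0)))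
(.node (.node (.leaf 0xaa68aac)
(.leaf 0x2a7c7752))
(.node (.leaf 0x18f2d2c1)
(.leaf 0))))
(.node (.node (.node (.leaf 0x72681d5)
(.leaf 0x26eccde2))
(.node (.leaf 0x165108cc)
(.leaf 0)))
(.node (.node (.leaf 0xe5ab300)
(.leaf 0x2ee517ca))
(.node (.leaf 0x1e32a8fb)
(.leaf 0)))))))
(.node (.node (.node (.node (.node (.node (.leaf 0x408245)
(.leaf 0x1f8a65af))
(.node (.leaf 0xfb068b3)
(.leaf 0x309a75ed)))
(.node (.node (.leaf 0x8a6e1ca)
(.leaf 0x2870f15f))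
(.node (.leaf 0x16f88d0e)
(.leaf 0))))
(.node (.node (.node (.leaf 0x49ee1bc)
(.leaf 0x24104b52))
(.node (.leaf 0x139eb3a6)
(.leaf 0)))
(.node (.node (.leaf 0xc60ad5d)
(.leaf 0x2bec975f))
(.node (.leaf 0x1c66ae3a)
(.leaf 0)))))
(.node (.node (.node (.node (.leaf 0x1ecc0c3)
(.leaf 0x2190a82e))
(.node (.leaf 0x1268f075)
(.leaf 0)))
(.node (.node (.leaf 0xa78477a)
(.leaf 0x2a48b750))
(.node (.leaf 0x186d13ef)
(.leaf 0))))
(.node (.node (.node (.leaf 0x698e3ed)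
(.leaf 0x25d2d093))
(.node (.leaf 0x162d09f0)
(.leaf 0)))
(.node (.node (.leaf 0xd68cdc1)
(.leaf 0x2e58f757))
(.node (.leaf 0x1e06e8b4)
(.leaf 0))))))
(.node (.node (.node (.node (.node (.leaf 0x19f005f)
(.leaf 0x210eabad))
(.node (.leaf 0x1090ce4e)
(.leaf 0)))
(.node (.node (.leaf 0x971051b)
(.leaf 0x299cb4e4))
(.node (.leaf 0x1790ae65)
(.leaf 0))))
(.node (.node (.node (.leaf 0x578e0d8)
(.leaf 0x2498a9fe))
(.node (.leaf 0x14b2cc7f)
(.leaf 0)))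
(.node (.node (.leaf 0xcc0f21b)
(.leaf 0x2c88b701))
(.node (.leaf 0x1d34f047)
(.leaf 0)))))
(.node (.node (.node (.node (.leaf 0x28ee056)
(.leaf 0x229b0ed1))
(.node (.leaf 0x132cf252)
(.leaf 0)))
(.node (.node (.leaf 0xb08aa07)
(.leaf 0x2b7d168d))
(.node (.leaf 0x19a2d3eb)
(.leaf 0))))
(.node (.node (.node (.leaf 0x7424455)
(.leaf 0x271f14c0))
(.node (.leaf 0x16770f18)
(.leaf 0)))
(.node (.node (.leaf 0xf5eacdf)
(.leaf 0x2f7ed80a))
(.node (.leaf 0x1e74d04e)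
(.leaf 0))))))))
(.node (.node (.node (.node (.node (.node (.node (.leaf 0x2c4260)
(.leaf 0x1f26ed02))
(.node (.leaf 0xf96e6db)
(.leaf 0x3020b89e)))
(.node (.node (.leaf 0x7ad037f)
(.leaf 0x28584ad3))
(.node (.leaf 0x16daa523)
(.leaf 0))))
(.node (.node (.node (.leaf 0x398c0ba)
(.leaf 0x23fb0bb8))
(.node (.leaf 0x136f0d4c)
(.leaf 0)))
(.node (.node (.leaf 0xc50b1d3)
(.leaf 0x2bd916ea))
(.node (.leaf 0x1c586659)
(.leaf 0)))))
(.node (.node (.node (.node (.leaf 0x1d3023a)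
(.leaf 0x21670759))
(.node (.leaf 0x1252ac58)
(.leaf 0)))
(.node (.node (.leaf 0xa3f04b7)
(.leaf 0x2a36f70b))
(.node (.leaf 0x1822ca63)
(.leaf 0))))
(.node (.node (.node (.leaf 0x63902f8)
(.leaf 0x2536cff9))
(.node (.leaf 0x161f09a5)
(.leaf 0)))
(.node (.node (.leaf 0xd46cc9a)
(.leaf 0x2d711680))
(.node (.leaf 0x1df28ec9)
(.leaf 0))))))
(.node (.node (.node (.node (.node (.leaf 0xd26114)
(.leaf 0x20f6efab))
(.node (.leaf 0x105d060d)
(.leaf 0)))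
(.node (.node (.leaf 0x954e661)
(.leaf 0x29210d4b))
(.node (.leaf 0x176ecd48)
(.leaf 0))))
(.node (.node (.node (.leaf 0x55e63a1)
(.leaf 0x247110dc))
(.node (.leaf 0x144aeece)
(.leaf 0)))
(.node (.node (.leaf 0xc9caf30)
(.leaf 0x2c60d700))
(.node (.leaf 0x1cc8aecf)
(.leaf 0)))))
(.node (.node (.node (.node (.leaf 0x2604278)
(.leaf 0x22526e18))
(.node (.leaf 0x131eca53)
(.leaf 0)))
(.node (.node (.leaf 0xacb09ed)
(.leaf 0x2ab6f57a))
(.node (.leaf 0x1956d283)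
(.leaf 0))))
(.node (.node (.node (.leaf 0x73043ea)
(.leaf 0x270451c2))
(.node (.leaf 0x166310c1)
(.leaf 0)))
(.node (.node (.leaf 0xf50ecb0)
(.leaf 0x2f3af821))
(.node (.leaf 0x1e550944)
(.leaf 0)))))))
(.node (.node (.node (.node (.node (.node (.leaf 0x5b01ee)
(.leaf 0x20d90744))
(.node (.leaf 0xfe2af14)
(.leaf 0x30c0d777)))
(.node (.node (.leaf 0x8c44453)
(.leaf 0x28caaec6))
(.node (.leaf 0x171ed121)
(.leaf 0))))
(.node (.node (.node (.leaf 0x4b0e1c9)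
(.leaf 0x2422ac34))
(.node (.leaf 0x13dccb1e)
(.leaf 0)))
(.node (.node (.leaf 0xc72eeb4)
(.leaf 0x2c051714))
(.node (.leaf 0x1c7e4c2c)
(.leaf 0)))))
(.node (.node (.node (.node (.leaf 0x21502f7)
(.leaf 0x21bf0838))
(.node (.leaf 0x1298c957)
(.leaf 0)))
(.node (.node (.leaf 0xa8a8da0)
(.leaf 0x2a5eb7be))
(.node (.leaf 0x189a67d9)
(.leaf 0))))
(.node (.node (.node (.leaf 0x6c903d5)
(.leaf 0x26d88a40))
(.node (.leaf 0x163f07a5)
(.leaf 0)))
(.node (.node (.leaf 0xdb10ea3)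
(.leaf 0x2ebd17d3))
(.node (.leaf 0x1e20c5d0)
(.leaf 0))))))
(.node (.node (.node (.node (.node (.leaf 0x1ad0399)
(.leaf 0x2124a84b))
(.node (.leaf 0x10eed341)
(.leaf 0)))
(.node (.node (.leaf 0x9a7050a)
(.leaf 0x29c2f507))
(.node (.leaf 0x17c0edf2)
(.leaf 0))))
(.node (.node (.node (.leaf 0x5aee187)
(.leaf 0x24c8c6a9))
(.node (.leaf 0x1532f3c4)
(.leaf 0)))
(.node (.node (.leaf 0xcf309e7)
(.leaf 0x2cbcb83b))
(.node (.leaf 0x1dd90538)
(.leaf 0)))))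
(.node (.node (.node (.node (.leaf 0x2bce36e)
(.leaf 0x23d84645))
(.node (.leaf 0x1344caa3)
(.leaf 0)))
(.node (.node (.leaf 0xb7305fe)
(.leaf 0x2bb4785d))
(.node (.leaf 0x1a3ef484)
(.leaf 0))))
(.node (.node (.node (.leaf 0x75e6365)
(.leaf 0x27530cc1))
(.node (.leaf 0x1696af99)
(.leaf 0)))
(.node (.node (.leaf 0xf6cef6a)
(.leaf 0x2fd87797))
(.node (.leaf 0x1eb70f31)
(.leaf 0))))))))))
(.node (.node (.node (.node (.node (.node (.node (.node (.node (.leaf 0x16c013)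
(.leaf 0x1ee67412))
(.node (.leaf 0xf7ee712)
(.leaf 0x2fe91796)))
(.node (.node (.leaf 0x774a3e8)
(.leaf 0x27784fb0))
(.node (.leaf 0x16ad12cf)
(.leaf 0))))
(.node (.node (.node (.leaf 0x2f8a1e9)
(.leaf 0x23e2ee10))
(.node (.leaf 0x1354e96f)
(.leaf 0)))
(.node (.node (.leaf 0xc010489)
(.leaf 0x2bc0d813))
(.node (.leaf 0x1c10e55b)
(.leaf 0)))))
(.node (.node (.node (.node (.leaf 0x1ba8146)
(.leaf 0x213aae3b))
(.node (.leaf 0x1142f12a)
(.leaf 0)))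
(.node (.node (.leaf 0xa0ee7ce)
(.leaf 0x2a0af56f))
(.node (.leaf 0x17e0d26b)
(.leaf 0))))
(.node (.node (.node (.leaf 0x602a20e)
(.leaf 0x24e8effe))
(.node (.leaf 0x160eed89)
(.leaf 0)))
(.node (.node (.leaf 0xd14459e)
(.leaf 0x2ce6f6b9))
(.node (.leaf 0x1de050ed)
(.leaf 0))))))
(.node (.node (.node (.node (.node (.leaf 0x8500fc)
(.leaf 0x20e24bf0))
(.node (.leaf 0x1014d04c)
(.leaf 0x310ad838)))
(.node (.node (.leaf 0x90ec577)
(.leaf 0x28df0ee2))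
(.node (.leaf 0x173ea677)
(.leaf 0))))
(.node (.node (.node (.leaf 0x4cca0aa)
(.leaf 0x243d0ce2))
(.node (.leaf 0x140aa4ef)
(.leaf 0)))
(.node (.node (.leaf 0xc810fc6)
(.leaf 0x2c20d7d4))
(.node (.leaf 0x1c9047c3)
(.leaf 0)))))
(.node (.node (.node (.node (.leaf 0x22cc1ba)
(.leaf 0x21deb350))
(.node (.leaf 0x130e8d15)
(.leaf 0)))
(.node (.node (.leaf 0xaa0eb28)
(.leaf 0x2a751840))
(.node (.leaf 0x18e0a924)
(.leaf 0))))
(.node (.node (.node (.leaf 0x708c255)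
(.leaf 0x26e4cbbb))
(.node (.leaf 0x164b0f59)
(.leaf 0)))
(.node (.node (.leaf 0xe22f1d4)
(.leaf 0x2ed91848))
(.node (.leaf 0x1e2d1330)
(.leaf 0)))))))
(.node (.node (.node (.node (.node (.node (.leaf 0x3ca143)
(.leaf 0x1f6f0748))
(.node (.leaf 0xfaa4e5c)
(.leaf 0x30967625)))
(.node (.node (.leaf 0x84cc43f)
(.leaf 0x28689177))
(.node (.leaf 0x16f246dd)
(.leaf 0))))
(.node (.node (.node (.leaf 0x426e3e5)
(.leaf 0x240b13b4))
(.node (.leaf 0x138f139d)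
(.leaf 0)))
(.node (.node (.leaf 0xc5c5389)
(.leaf 0x2be8d6ae))
(.node (.leaf 0x1c62ae29)
(.leaf 0)))))
(.node (.node (.node (.node (.leaf 0x1e682cd)
(.leaf 0x21870bfe))
(.node (.leaf 0x125ef3c6)
(.leaf 0)))
(.node (.node (.leaf 0xa7510c0)
(.leaf 0x2a44565f))
(.node (.leaf 0x185d0897)
(.leaf 0))))
(.node (.node (.node (.leaf 0x69620d2)
(.leaf 0x25c2d1a7))
(.node (.leaf 0x16285225)
(.leaf 0)))
(.node (.node (.leaf 0xd631064)
(.leaf 0x2deb15ba))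
(.node (.leaf 0x1e024573)
(.leaf 0))))))
(.node (.node (.node (.node (.node (.leaf 0x12f007c)
(.leaf 0x2108cef2))
(.node (.leaf 0x1084d2e2)
(.leaf 0)))
(.node (.node (.leaf 0x968a4cf)
(.leaf 0x2990d4f7))
(.node (.leaf 0x17890a51)
(.leaf 0))))
(.node (.node (.node (.leaf 0x570a22d)
(.leaf 0x2490a8dc))
(.node (.leaf 0x1494efee)
(.leaf 0)))
(.node (.node (.leaf 0xcb4d418)
(.leaf 0x2c7f1635))
(.node (.leaf 0x1d1ca998)
(.leaf 0)))))
(.node (.node (.node (.node (.leaf 0x286a182)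
(.leaf 0x2280ccb2))
(.node (.leaf 0x13288d97)
(.leaf 0)))
(.node (.node (.leaf 0xaf511a4)
(.leaf 0x2b22f5eb))
(.node (.leaf 0x198ef472)
(.leaf 0))))
(.node (.node (.node (.leaf 0x73e634d)
(.leaf 0x27169255))
(.node (.leaf 0x1670918c)
(.leaf 0)))
(.node (.node (.leaf 0xf5b0d6f)
(.leaf 0x2f78f71e))
(.node (.leaf 0x1e6e6e57)
(.leaf 0))))))))
(.node (.node (.node (.node (.node (.node (.node (.leaf 0x2902e2)
(.leaf 0x1f16a5d4))
(.node (.leaf 0xf909362)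
(.leaf 0x3010b74e)))
(.node (.node (.leaf 0x792a44f)
(.leaf 0x28562670))
(.node (.leaf 0x16d30885)
(.leaf 0))))
(.node (.node (.node (.leaf 0x378e04b)
(.leaf 0x23f6cb61))
(.node (.leaf 0x13690621)
(.leaf 0)))
(.node (.node (.leaf 0xc4e6c19)
(.leaf 0x2bd2f708))
(.node (.leaf 0x1c562530)
(.leaf 0)))))
(.node (.node (.node (.node (.leaf 0x1ccc40c)
(.leaf 0x21590e36))
(.node (.leaf 0x124ef0a3)
(.leaf 0)))
(.node (.node (.leaf 0xa2ec4b3)
(.leaf 0x2a30f74a))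
(.node (.leaf 0x18131018)
(.leaf 0))))
(.node (.node (.node (.leaf 0x62ee29b)
(.leaf 0x25290bd3))
(.node (.leaf 0x161b10fb)
(.leaf 0)))
(.node (.node (.leaf 0xd3c4629)
(.leaf 0x2d3cd55b))
(.node (.leaf 0x1def0e51)
(.leaf 0))))))
(.node (.node (.node (.node (.node (.leaf 0xc7017c)
(.leaf 0x20f24e34))
(.node (.leaf 0x104cc660)
(.leaf 0)))
(.node (.node (.leaf 0x94ee6b5)
(.leaf 0x290cd287))
(.node (.leaf 0x176706b4)
(.leaf 0))))
(.node (.node (.node (.leaf 0x52d0251)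
(.leaf 0x2464eb14))
(.node (.leaf 0x143f0f6f)
(.leaf 0)))
(.node (.node (.leaf 0xc96d151)
(.leaf 0x2c52b815))
(.node (.leaf 0x1cbcf279)
(.leaf 0)))))
(.node (.node (.node (.node (.leaf 0x256c1fe)
(.leaf 0x2244c747))
(.node (.leaf 0x131b10a6)
(.leaf 0)))
(.node (.node (.leaf 0xaba6a1f)
(.leaf 0x2a9eb696))
(.node (.leaf 0x194cca1c)
(.leaf 0))))
(.node (.node (.node (.leaf 0x72f0368)
(.leaf 0x27008a62))
(.node (.leaf 0x165ef084)
(.leaf 0)))
(.node (.node (.leaf 0xf4e4c0d)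
(.leaf 0x2f16f5be))
(.node (.leaf 0x1e48e6ef)
(.leaf 0)))))))
(.node (.node (.node (.node (.node (.node (.leaf 0x5242fe)
(.leaf 0x20d6a582))
(.node (.leaf 0xfd509e1)
(.leaf 0x30b477f0)))
(.node (.node (.leaf 0x8b0845f)
(.leaf 0x28c69194))
(.node (.leaf 0x1716c64f)
(.leaf 0))))
(.node (.node (.node (.leaf 0x4aac15c)
(.leaf 0x241c8e93))
(.node (.leaf 0x13c0c9c1)
(.leaf 0)))
(.node (.node (.leaf 0xc6eef4f)
(.leaf 0x2bfe962f))
(.node (.leaf 0x1c78732f)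
(.leaf 0)))))
(.node (.node (.node (.node (.leaf 0x20b02ec)
(.leaf 0x21b065df))
(.node (.leaf 0x1284d486)
(.leaf 0)))
(.node (.node (.leaf 0xa84acd3)
(.leaf 0x2a591695))
(.node (.leaf 0x188ef132)
(.leaf 0))))
(.node (.node (.node (.leaf 0x6b2c0cc)
(.leaf 0x26d625fb))
(.node (.leaf 0x16389474)
(.leaf 0)))
(.node (.node (.leaf 0xd9c49ea)
(.leaf 0x2eb8b831))
(.node (.leaf 0x1e1908d5)
(.leaf 0))))))
(.node (.node (.node (.node (.node (.leaf 0x1a8c2db)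
(.leaf 0x211e48b6))
(.node (.leaf 0x10daee98)
(.leaf 0)))
(.node (.node (.leaf 0x98ca5b7)
(.leaf 0x29b8f4cb))
(.node (.leaf 0x17b70da3)
(.leaf 0))))
(.node (.node (.node (.leaf 0x594c1f6)
(.leaf 0x24bd1081))
(.node (.leaf 0x150ef089)
(.leaf 0)))
(.node (.node (.leaf 0xce2a97b)
(.leaf 0x2cb0f574))
(.node (.leaf 0x1dd62536)
(.leaf 0)))))
(.node (.node (.node (.node (.leaf 0x2b2a243)
(.leaf 0x23d625f6))
(.node (.leaf 0x133ec77c)
(.leaf 0)))
(.node (.node (.leaf 0xb4b13d9)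
(.leaf 0x2bb29762))
(.node (.leaf 0x1a270959)
(.leaf 0))))
(.node (.node (.node (.leaf 0x75303b5)
(.leaf 0x2740e98c))
(.node (.leaf 0x168ee9a6)
(.leaf 0)))
(.node (.node (.leaf 0xf6910f0)
(.leaf 0x2fd63565))
(.node (.leaf 0x1ea0ecb8)
(.leaf 0)))))))))
(.node (.node (.node (.node (.node (.node (.node (.node (.leaf 0x22a063)
(.leaf 0x1f00f38c))
(.node (.leaf 0xf86aee0)
(.leaf 0x2ff89888)))
(.node (.node (.leaf 0x780c202)
(.leaf 0x2794b45c))
(.node (.leaf 0x16bf08f0)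
(.leaf 0))))
(.node (.node (.node (.leaf 0x32ca02b)
(.leaf 0x23ed0ca9))
(.node (.leaf 0x135c4949)
(.leaf 0)))
(.node (.node (.leaf 0xc1ae691)
(.leaf 0x2bc8b5e7))
(.node (.leaf 0x1c2ca5a7)
(.leaf 0)))))
(.node (.node (.node (.node (.leaf 0x1c4c174)
(.leaf 0x214aafc0))
(.node (.leaf 0x119ecce4)
(.leaf 0)))
(.node (.node (.leaf 0xa1ae75a)
(.leaf 0x2a2a9755))
(.node (.leaf 0x17fb10dd)
(.leaf 0))))
(.node (.node (.node (.leaf 0x624a137)
(.leaf 0x2506afeb))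
(.node (.leaf 0x1612b400)
(.leaf 0)))
(.node (.node (.leaf 0xd271301)
(.leaf 0x2d0d1767))
(.node (.leaf 0x1de8a702)
(.leaf 0))))))
(.node (.node (.node (.node (.node (.leaf 0xa24135)
(.leaf 0x20eaecaf))
(.node (.leaf 0x102eca89)
(.leaf 0x312e9793)))
(.node (.node (.leaf 0x9270865)
(.leaf 0x28ecf040))
(.node (.leaf 0x1750b46e)
(.leaf 0))))
(.node (.node (.node (.leaf 0x4e8c39d)
(.leaf 0x244cae07))
(.node (.leaf 0x1424a61d)
(.leaf 0)))
(.node (.node (.leaf 0xc8ccc8e)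
(.leaf 0x2c38d765))
(.node (.leaf 0x1ca0d3e4)
(.leaf 0)))))
(.node (.node (.node (.node (.leaf 0x23ec06c)
(.leaf 0x2204ef5b))
(.node (.leaf 0x1314c69d)
(.leaf 0)))
(.node (.node (.leaf 0xaacb329)
(.leaf 0x2a825658))
(.node (.leaf 0x1914f09e)
(.leaf 0))))
(.node (.node (.node (.leaf 0x728a207)
(.leaf 0x26f07479))
(.node (.leaf 0x16551488)
(.leaf 0)))
(.node (.node (.leaf 0xe9cd1fc)
(.leaf 0x2eee770a))
(.node (.leaf 0x1e384716)
(.leaf 0)))))))
(.node (.node (.node (.node (.node (.node (.leaf 0x4680b4)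
(.leaf 0x1fb2a9e2))
(.node (.leaf 0xfb708a4)
(.leaf 0x309ed886)))
(.node (.node (.leaf 0x8a8426f)
(.leaf 0x28b70544))
(.node (.leaf 0x170052c2)
(.leaf 0))))
(.node (.node (.node (.leaf 0x4a2611c)
(.leaf 0x241466b2))
(.node (.leaf 0x13a871cf)
(.leaf 0)))
(.node (.node (.leaf 0xc64a56f)
(.leaf 0x2bf3161f))
(.node (.leaf 0x1c6b0eb5)
(.leaf 0)))))
(.node (.node (.node (.node (.leaf 0x1f4a0c0)
(.leaf 0x219ac5d2))
(.node (.leaf 0x126c914b)
(.leaf 0)))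
(.node (.node (.leaf 0xa7c8e0b)
(.leaf 0x2a4f15d5))
(.node (.leaf 0x187b1130)
(.leaf 0))))
(.node (.node (.node (.leaf 0x6a0c1e4)
(.leaf 0x25eccda9))
(.node (.leaf 0x16307467)
(.leaf 0)))
(.node (.node (.leaf 0xd790cc8)
(.leaf 0x2eb2552b))
(.node (.leaf 0x1e0cc7fb)
(.leaf 0))))))
(.node (.node (.node (.node (.node (.leaf 0x1a24015)
(.leaf 0x211508da))
(.node (.leaf 0x10990e67)
(.leaf 0)))
(.node (.node (.leaf 0x97ae4fd)
(.leaf 0x29a314ca))
(.node (.leaf 0x1798aa4f)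
(.leaf 0))))
(.node (.node (.node (.leaf 0x580a03f)
(.leaf 0x24a4ea4d))
(.node (.leaf 0x14c4d394)
(.leaf 0)))
(.node (.node (.leaf 0xcc6b444)
(.leaf 0x2c98f529))
(.node (.leaf 0x1d50aa90)
(.leaf 0)))))
(.node (.node (.node (.node (.leaf 0x298a0f5)
(.leaf 0x22b4eb97))
(.node (.leaf 0x1333133c)
(.leaf 0)))
(.node (.node (.leaf 0xb1e7304)
(.leaf 0x2baa76f6))
(.node (.leaf 0x19baf1ff)
(.leaf 0))))
(.node (.node (.node (.leaf 0x748a389)
(.leaf 0x272b0af0))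
(.node (.leaf 0x16810de7)
(.leaf 0)))
(.node (.node (.leaf 0xf63099d)
(.leaf 0x2f8655fa))
(.node (.leaf 0x1e89137c)
(.leaf 0))))))))
(.node (.node (.node (.node (.node (.node (.node (.leaf 0x3102a2)
(.leaf 0x1f3e4d68))
(.node (.leaf 0xf9d0853)
(.leaf 0x3044b794)))
(.node (.node (.leaf 0x7cb02cb)
(.leaf 0x285d06d7))
(.node (.leaf 0x16e10f35)
(.leaf 0))))
(.node (.node (.node (.leaf 0x3bae281)
(.leaf 0x240093aa))
(.node (.leaf 0x1376ade5)
(.leaf 0)))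
(.node (.node (.leaf 0xc56859b)
(.leaf 0x2bde773f))
(.node (.leaf 0x1c5aeeaf)
(.leaf 0)))))
(.node (.node (.node (.node (.leaf 0x1dca140)
(.leaf 0x216ef315))
(.node (.leaf 0x1256f0cc)
(.leaf 0)))
(.node (.node (.leaf 0xa6eed19)
(.leaf 0x2a3a9677))
(.node (.leaf 0x1838a623)
(.leaf 0))))
(.node (.node (.node (.leaf 0x642642d)
(.leaf 0x2556f2d2))
(.node (.leaf 0x1620f2d0)
(.leaf 0)))
(.node (.node (.leaf 0xd50cfdf)
(.leaf 0x2d80b51b))
(.node (.leaf 0x1df6cfce)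
(.leaf 0))))))
(.node (.node (.node (.node (.node (.leaf 0xef0025)
(.leaf 0x20fcee8f))
(.node (.leaf 0x10690af2)
(.leaf 0)))
(.node (.node (.leaf 0x95ae507)
(.leaf 0x2940d17b))
(.node (.leaf 0x1778b388)
(.leaf 0))))
(.node (.node (.node (.leaf 0x56480c7)
(.leaf 0x247a4a28))
(.node (.leaf 0x14504a18)
(.leaf 0)))
(.node (.node (.leaf 0xca28c24)
(.leaf 0x2c6ab622))
(.node (.leaf 0x1ce1074b)
(.leaf 0)))))
(.node (.node (.node (.node (.leaf 0x26b0309)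
(.leaf 0x225f130c))
(.node (.leaf 0x1320b347)
(.leaf 0)))
(.node (.node (.leaf 0xadb1410)
(.leaf 0x2ad0b5fe))
(.node (.leaf 0x197aaac7)
(.leaf 0))))
(.node (.node (.node (.leaf 0x734438b)
(.leaf 0x270aec7c))
(.node (.leaf 0x166872d9)
(.leaf 0)))
(.node (.node (.leaf 0xf550dc4)
(.leaf 0x2f725592))
(.node (.leaf 0x1e60c854)
(.leaf 0)))))))
(.node (.node (.node (.node (.node (.node (.leaf 0x64405e)
(.leaf 0x20da92ac))
(.node (.leaf 0xfe873e0)
(.leaf 0x30f65659)))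
(.node (.node (.leaf 0x8cd0415)
(.leaf 0x28cf13bd))
(.node (.leaf 0x172a6963)
(.leaf 0))))
(.node (.node (.node (.leaf 0x4b6e2dc)
(.leaf 0x24286c4e))
(.node (.leaf 0x13eef156)
(.leaf 0)))
(.node (.node (.leaf 0xc76ae23)
(.leaf 0x2c0ad6c7))
(.node (.leaf 0x1c848cf4)
(.leaf 0)))))
(.node (.node (.node (.node (.leaf 0x21d01db)
(.leaf 0x21c8cb80))
(.node (.leaf 0x12b2f337)
(.leaf 0)))
(.node (.node (.leaf 0xa90e7a8)
(.leaf 0x2a68b731))
(.node (.leaf 0x18af12f2)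
(.leaf 0))))
(.node (.node (.node (.leaf 0x6f700db)
(.leaf 0x26dcf498))
(.node (.leaf 0x1642b1cb)
(.leaf 0)))
(.node (.node (.leaf 0xdeacc9b)
(.leaf 0x2ec896a9))
(.node (.leaf 0x1e24490b)
(.leaf 0))))))
(.node (.node (.node (.node (.node (.leaf 0x1b0a16d)
(.leaf 0x2129137a))
(.node (.leaf 0x1106ecdd)
(.leaf 0)))
(.node (.node (.leaf 0x9c8c7b0)
(.leaf 0x29e4f54c))
(.node (.leaf 0x17caeef3)
(.leaf 0))))
(.node (.node (.node (.leaf 0x5c502da)
(.leaf 0x24d0efbd))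
(.node (.leaf 0x1566cd1f)
(.leaf 0)))
(.node (.node (.leaf 0xcfcacb7)
(.leaf 0x2cc8b812))
(.node (.leaf 0x1dda8824)
(.leaf 0)))))
(.node (.node (.node (.node (.leaf 0x2dac150)
(.leaf 0x23dab17d))
(.node (.leaf 0x134ae986)
(.leaf 0)))
(.node (.node (.leaf 0xbf0e5b6)
(.leaf 0x2bb8b745))
(.node (.leaf 0x1b7aeab3)
(.leaf 0))))
(.node (.node (.node (.leaf 0x7644426)
(.leaf 0x275e701f))
(.node (.leaf 0x169c4ffa)
(.leaf 0)))
(.node (.node (.leaf 0xf748c63)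
(.leaf 0x2fdcd847))
(.node (.leaf 0x1ec90592)
(.leaf 0))))))))))))
(.node (.node (.node (.node (.node (.node (.node (.node (.node (.node (.node (.leaf 180228)
(.leaf 0x1ed0c9e0))
(.node (.leaf 0xf78e71f)
(.leaf 0x2fe31626)))
(.node (.node (.leaf 0x76d0288)
(.leaf 0x2768aaee))
(.node (.leaf 0x16a311aa)
(.leaf 0))))
(.node (.node (.node (.leaf 0x2e4c379)
(.leaf 0x23df0906))
(.node (.leaf 0x134cb095)
(.leaf 0)))
(.node (.node (.leaf 0xbf505b1)
(.leaf 0x2bba77a5))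
(.node (.leaf 0x1ba0f1ed)
(.leaf 0)))))
(.node (.node (.node (.node (.leaf 0x1b502e1)
(.leaf 0x212f0b77))
(.node (.leaf 0x1124f34c)
(.leaf 0)))
(.node (.node (.leaf 0x9d705c8)
(.leaf 0x29fcf53a))
(.node (.leaf 0x17d0ab2e)
(.leaf 0))))
(.node (.node (.node (.leaf 0x5cd0212)
(.leaf 0x24d90a52))
(.node (.leaf 0x157cf432)
(.leaf 0)))
(.node (.node (.leaf 0xd04c888)
(.leaf 0x2cd6d7d8))
(.node (.leaf 0x1ddcac18)
(.leaf 0))))))
(.node (.node (.node (.node (.node (.leaf 0x6b026b)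
(.leaf 0x20de86b7))
(.node (.leaf 0x1000d323)
(.leaf 0x30f917dc)))
(.node (.node (.leaf 0x8e10458)
(.leaf 0x28d4ed45))
(.node (.leaf 0x1730f2d7)
(.leaf 0))))
(.node (.node (.node (.leaf 0x4bc413f)
(.leaf 0x24330cf5))
(.node (.leaf 0x13f6c812)
(.leaf 0)))
(.node (.node (.leaf 0xc7aeebe)
(.leaf 0x2c12f656))
(.node (.leaf 0x1c88c813)
(.leaf 0)))))
(.node (.node (.node (.node (.leaf 0x220c1c3)
(.leaf 0x21d0ce5b))
(.node (.leaf 0x12d91286)
(.leaf 0)))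
(.node (.node (.leaf 0xa95109d)
(.leaf 0x2a6f165d))
(.node (.leaf 0x18cad0b3)
(.leaf 0))))
(.node (.node (.node (.leaf 0x6fae39e)
(.leaf 0x26e0cd22))
(.node (.leaf 0x16448b4b)
(.leaf 0)))
(.node (.node (.leaf 0xe06cb56)
(.leaf 0x2ecd17bd))
(.node (.leaf 0x1e26edbb)
(.leaf 0)))))))
(.node (.node (.node (.node (.node (.node (.leaf 0x36a14b)
(.leaf 0x1f4ea8c9))
(.node (.leaf 0xfa08c05)
(.leaf 0x304ed7e0)))
(.node (.node (.leaf 0x7fca3b2)
(.leaf 0x2860cadb))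
(.node (.leaf 0x16e8cd57)
(.leaf 0))))
(.node (.node (.node (.leaf 0x3cca121)
(.leaf 0x2404e6b3))
(.node (.leaf 0x1380f0ff)
(.leaf 0)))
(.node (.node (.leaf 0xc590e1f)
(.leaf 0x2be2b7a4))
(.node (.leaf 0x1c5ec66b)
(.leaf 0)))))
(.node (.node (.node (.node (.leaf 0x1e30176)
(.leaf 0x21728e1a))
(.node (.leaf 0x12586d90)
(.leaf 0)))
(.node (.node (.leaf 0xa708b20)
(.leaf 0x2a3cd644))
(.node (.leaf 0x1844f464)
(.leaf 0))))
(.node (.node (.node (.leaf 0x67ee217)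
(.leaf 0x256ec9db))
(.node (.leaf 0x162504ba)
(.leaf 0)))
(.node (.node (.leaf 0xd5b0a97)
(.leaf 0x2da2b624))
(.node (.leaf 0x1dfacf20)
(.leaf 0))))))
(.node (.node (.node (.node (.node (.leaf 0xfc633b)
(.leaf 0x2100aecd))
(.node (.leaf 0x1074ec48)
(.leaf 0)))
(.node (.node (.leaf 0x95f05f4)
(.leaf 0x298274fc))
(.node (.leaf 0x177ee4f9)
(.leaf 0))))
(.node (.node (.node (.leaf 0x56703c3)
(.leaf 0x2480d45e))
(.node (.leaf 0x14610941)
(.leaf 0)))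
(.node (.node (.leaf 0xcad090a)
(.leaf 0x2c72b766))
(.node (.leaf 0x1cfcacd2)
(.leaf 0)))))
(.node (.node (.node (.node (.leaf 0x278e398)
(.leaf 0x226ac5c2))
(.node (.leaf 0x13244929)
(.leaf 0)))
(.node (.node (.leaf 0xae46ad8)
(.leaf 0x2afab56a))
(.node (.leaf 0x197f0f21)
(.leaf 0))))
(.node (.node (.node (.leaf 0x736e450)
(.leaf 0x270f142f))
(.node (.leaf 0x166ccc97)
(.leaf 0)))
(.node (.node (.leaf 0xf564e81)
(.leaf 0x2f7496df))
(.node (.leaf 0x1e64cd67)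
(.leaf 0))))))))
(.node (.node (.node (.node (.node (.node (.node (.leaf 0x24e1b1)
(.leaf 0x1f06c85f))
(.node (.leaf 0xf8d05d8)
(.leaf 0x3004f817)))
(.node (.node (.leaf 0x784430f)
(.leaf 0x27b6e901))
(.node (.leaf 0x16c4d123)
(.leaf 0))))
(.node (.node (.node (.leaf 0x33cc298)
(.leaf 0x23eed26d))
(.node (.leaf 0x1360725c)
(.leaf 0)))
(.node (.node (.leaf 0xc2b054b)
(.leaf 0x2bccb4df))
(.node (.leaf 0x1c30a80a)
(.leaf 0)))))
(.node (.node (.node (.node (.leaf 0x1c88292)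
(.leaf 0x2150a595))
(.node (.leaf 0x11b6c827)
(.leaf 0)))
(.node (.node (.leaf 0xa21076a)
(.leaf 0x2a2cf705))
(.node (.leaf 0x18010d60)
(.leaf 0))))
(.node (.node (.node (.leaf 0x626e2bc)
(.leaf 0x2512b13a))
(.node (.leaf 0x1616ade3)
(.leaf 0)))
(.node (.node (.leaf 0xd310703)
(.leaf 0x2d267709))
(.node (.leaf 0x1dea8b00)
(.leaf 0))))))
(.node (.node (.node (.node (.node (.leaf 0xaae117)
(.leaf 0x20eea819))
(.node (.leaf 0x103aef8e)
(.leaf 0)))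
(.node (.node (.leaf 0x932ad66)
(.leaf 0x28f64d51))
(.node (.leaf 0x175aed34)
(.leaf 0))))
(.node (.node (.node (.leaf 0x4f2c429)
(.leaf 0x2458ebc3))
(.node (.leaf 0x142ee4ea)
(.leaf 0)))
(.node (.node (.leaf 0xc90cf62)
(.leaf 0x2c3ed78a))
(.node (.leaf 0x1ca65320)
(.leaf 0)))))
(.node (.node (.node (.node (.leaf 0x244c0a8)
(.leaf 0x22270f8f))
(.node (.leaf 0x13168da1)
(.leaf 0)))
(.node (.node (.leaf 0xab30d74)
(.leaf 0x2a8ed590))
(.node (.leaf 0x192cf1fa)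
(.leaf 0))))
(.node (.node (.node (.leaf 0x72ae276)
(.leaf 0x26f4cb43))
(.node (.leaf 0x1658d039)
(.leaf 0)))
(.node (.node (.leaf 0xeaceccb)
(.leaf 0x2efc7542))
(.node (.leaf 0x1e3cac30)
(.leaf 0)))))))
(.node (.node (.node (.node (.node (.node (.leaf 0x4cc093)
(.leaf 0x200867d1))
(.node (.leaf 0xfbf078a)
(.leaf 0x30a2f85b)))
(.node (.node (.leaf 0x8aac481)
(.leaf 0x28c305f9))
(.node (.leaf 0x1708ef1e)
(.leaf 0))))
(.node (.node (.node (.leaf 0x4a4e357)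
(.leaf 0x2418cb38))
(.node (.leaf 0x13b4a622)
(.leaf 0)))
(.node (.node (.leaf 0xc684dae)
(.leaf 0x2bf6b6d3))
(.node (.leaf 0x1c708d6c)
(.leaf 0)))))
(.node (.node (.node (.node (.leaf 0x1f8c128)
(.leaf 0x21a2e7f0))
(.node (.leaf 0x12786d71)
(.leaf 0)))
(.node (.node (.leaf 0xa7ef494)
(.leaf 0x2a52f5dd))
(.node (.leaf 0x18830676)
(.leaf 0))))
(.node (.node (.node (.leaf 0x6a6a3e7)
(.leaf 0x25fcf0e9))
(.node (.leaf 0x1634adef)
(.leaf 0)))
(.node (.node (.leaf 0xd870694)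
(.leaf 0x2eb4f522))
(.node (.leaf 0x1e0f0c10)
(.leaf 0))))))
(.node (.node (.node (.node (.node (.leaf 0x1a44314)
(.leaf 0x2118c72e))
(.node (.leaf 0x10a6e8c2)
(.leaf 0)))
(.node (.node (.leaf 0x984c56c)
(.leaf 0x29a6b5ad))
(.node (.leaf 0x17a2edff)
(.leaf 0))))
(.node (.node (.node (.leaf 0x586c21b)
(.leaf 0x24aeeec5))
(.node (.leaf 0x14d4d499)
(.leaf 0)))
(.node (.node (.leaf 0xcd31325)
(.leaf 0x2ca0b77f))
(.node (.leaf 0x1d730c7b)
(.leaf 0)))))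
(.node (.node (.node (.node (.leaf 0x2a0c431)
(.leaf 0x22eea8ed))
(.node (.leaf 0x1337134b)
(.leaf 0)))
(.node (.node (.leaf 0xb290966)
(.leaf 0x2bacd5e3))
(.node (.leaf 0x19feca6f)
(.leaf 0))))
(.node (.node (.node (.leaf 0x74ac3be)
(.leaf 0x272f13d4))
(.node (.leaf 0x168707a1)
(.leaf 0)))
(.node (.node (.leaf 0xf64a8d4)
(.leaf 0x2f94d5bc))
(.node (.leaf 0x1e92ec09)
(.leaf 0)))))))))
(.node (.node (.node (.node (.node (.node (.node (.node (.leaf 0x1e405a)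
(.leaf 0x1ef4c51e))
(.node (.leaf 0xf82c773)
(.leaf 0x2fee77a1)))
(.node (.node (.leaf 0x778e467)
(.leaf 0x27804d2b))
(.node (.leaf 0x16b2c9be)
(.leaf 0))))
(.node (.node (.node (.leaf 0x300c101)
(.leaf 0x23e664e5))
(.node (.leaf 0x1356ed09)
(.leaf 0)))
(.node (.node (.leaf 0xc0704f8)
(.leaf 0x2bc515db))
(.node (.leaf 0x1c170575)
(.leaf 0)))))
(.node (.node (.node (.node (.leaf 0x1be41a2)
(.leaf 0x2142a8ba))
(.node (.leaf 0x11611027)
(.leaf 0)))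
(.node (.node (.leaf 0xa12e560)
(.leaf 0x2a16d5f2))
(.node (.leaf 0x17e90f9a)
(.leaf 0))))
(.node (.node (.node (.leaf 0x61e4072)
(.leaf 0x24f0c8ac))
(.node (.leaf 0x1610c7b6)
(.leaf 0)))
(.node (.node (.leaf 0xd1ca87e)
(.leaf 0x2cf0f6de))
(.node (.leaf 0x1de4c839)
(.leaf 0))))))
(.node (.node (.node (.node (.node (.leaf 0x906331)
(.leaf 0x20e4ef39))
(.node (.leaf 0x101ecc67)
(.leaf 0x311d1863)))
(.node (.node (.leaf 0x91e8686)
(.leaf 0x28e4c9bd))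
(.node (.leaf 0x1746b217)
(.leaf 0))))
(.node (.node (.node (.leaf 0x4d083b9)
(.leaf 0x24430b4a))
(.node (.leaf 0x1412ca1e)
(.leaf 0)))
(.node (.node (.leaf 0xc870dcb)
(.leaf 0x2c26b568))
(.node (.leaf 0x1c988811)
(.leaf 0)))))
(.node (.node (.node (.node (.leaf 0x232c1bf)
(.leaf 0x21e8f2ad))
(.node (.leaf 0x1310a8cd)
(.leaf 0)))
(.node (.node (.leaf 0xaa4ef2e)
(.leaf 0x2a7af5b2))
(.node (.leaf 0x18f0a96d)
(.leaf 0))))
(.node (.node (.node (.leaf 0x71ae3ec)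
(.leaf 0x26ea90bb))
(.node (.leaf 0x164e72f7)
(.leaf 0)))
(.node (.node (.leaf 0xe42f317)
(.leaf 0x2ee317b0))
(.node (.leaf 0x1e304841)
(.leaf 0)))))))
(.node (.node (.node (.node (.node (.node (.leaf 0x3e6369)
(.leaf 0x1f886a93))
(.node (.leaf 0xfaf1407)
(.leaf 0x3098f832)))
(.node (.node (.leaf 0x8570413)
(.leaf 0x286ed235))
(.node (.leaf 0x16f7146a)
(.leaf 0))))
(.node (.node (.node (.leaf 0x49e604a)
(.leaf 0x240ed233))
(.node (.leaf 0x13970d54)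
(.leaf 0)))
(.node (.node (.leaf 0xc608693)
(.leaf 0x2becb621))
(.node (.leaf 0x1c650f58)
(.leaf 0)))))
(.node (.node (.node (.node (.leaf 0x1eaa396)
(.leaf 0x218cecda))
(.node (.leaf 0x1265123e)
(.leaf 0)))
(.node (.node (.leaf 0xa7653cd)
(.leaf 0x2a47185e))
(.node (.leaf 0x186af3df)
(.leaf 0))))
(.node (.node (.node (.leaf 0x69900d3)
(.leaf 0x25c6d377))
(.node (.leaf 0x162a8f9f)
(.leaf 0)))
(.node (.node (.leaf 0xd66b046)
(.leaf 0x2e31157e))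
(.node (.leaf 0x1e044c52)
(.leaf 0))))))
(.node (.node (.node (.node (.node (.leaf 0x19ea02c)
(.leaf 0x210cea95))
(.node (.leaf 0x108e4802)
(.leaf 0)))
(.node (.node (.leaf 0x96ea5b2)
(.leaf 0x299ad583))
(.node (.leaf 0x178ecf45)
(.leaf 0))))
(.node (.node (.node (.leaf 0x57483c4)
(.leaf 0x2496b45b))
(.node (.leaf 0x14acb005)
(.leaf 0)))
(.node (.node (.leaf 0xcbcafca)
(.leaf 0x2c871849))
(.node (.leaf 0x1d30ac96)
(.leaf 0)))))
(.node (.node (.node (.node (.leaf 0x28ac432)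
(.leaf 0x22986fa3))
(.node (.leaf 0x132d0a2e)
(.leaf 0)))
(.node (.node (.leaf 0xb06edf7)
(.leaf 0x2b76f4ee))
(.node (.leaf 0x199ed454)
(.leaf 0))))
(.node (.node (.node (.leaf 0x742c38c)
(.leaf 0x271ec952))
(.node (.leaf 0x16764559)
(.leaf 0)))
(.node (.node (.leaf 0xf5cd339)
(.leaf 0x2f7c57fa))
(.node (.leaf 0x1e72a7fa)
(.leaf 0))))))))
(.node (.node (.node (.node (.node (.node (.node (.leaf 0x2ca139)
(.leaf 0x1f226810))
(.node (.leaf 0xf94cf05)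
(.leaf 0x3018b7e4)))
(.node (.node (.leaf 0x79ea45e)
(.leaf 0x28586522))
(.node (.leaf 0x16d8c682)
(.leaf 0))))
(.node (.node (.node (.leaf 0x394e073)
(.leaf 0x23f8900a))
(.node (.leaf 0x136c6b49)
(.leaf 0)))
(.node (.node (.leaf 0xc508c1a)
(.leaf 0x2bd6b686))
(.node (.leaf 0x1c56cfd8)
(.leaf 0)))))
(.node (.node (.node (.node (.leaf 0x1d1033f)
(.leaf 0x2164a5de))
(.node (.leaf 0x125093db)
(.leaf 0)))
(.node (.node (.leaf 0xa3b0896)
(.leaf 0x2a3517ae))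
(.node (.leaf 0x181f0ab5)
(.leaf 0))))
(.node (.node (.node (.leaf 0x635035a)
(.leaf 0x2532cdd7))
(.node (.leaf 0x161cf20b)
(.leaf 0)))
(.node (.node (.leaf 0xd450e7e)
(.leaf 0x2d5cf56b))
(.node (.leaf 0x1df2ecae)
(.leaf 0))))))
(.node (.node (.node (.node (.node (.leaf 0xd0c136)
(.leaf 0x20f70cff))
(.node (.leaf 0x10571303)
(.leaf 0)))
(.node (.node (.leaf 0x952e666)
(.leaf 0x2916f193))
(.node (.leaf 0x176ce9ae)
(.leaf 0))))
(.node (.node (.node (.leaf 0x55ec238)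
(.leaf 0x246ecde9))
(.node (.leaf 0x1448cd21)
(.leaf 0)))
(.node (.node (.leaf 0xc9c6d33)
(.leaf 0x2c5c55a8))
(.node (.leaf 0x1cc70e68)
(.leaf 0)))))
(.node (.node (.node (.node (.leaf 0x25ea240)
(.leaf 0x2250cb8b))
(.node (.leaf 0x131c8ef9)
(.leaf 0)))
(.node (.node (.leaf 0xac472bb)
(.leaf 0x2ab0f5a0))
(.node (.leaf 0x1956aadc)
(.leaf 0))))
(.node (.node (.node (.leaf 0x730c1d6)
(.leaf 0x2702d361))
(.node (.leaf 0x1662c9b6)
(.leaf 0)))
(.node (.node (.leaf 0xf504869)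
(.leaf 0x2f2ed850))
(.node (.leaf 0x1e52e844)
(.leaf 0)))))))
(.node (.node (.node (.node (.node (.node (.leaf 0x5861cb)
(.leaf 0x20d68c2e))
(.node (.leaf 0xfdeceba)
(.leaf 0x30bcf7e2)))
(.node (.node (.leaf 0x8b4e427)
(.leaf 0x28ca684e))
(.node (.leaf 0x171ced6d)
(.leaf 0))))
(.node (.node (.node (.leaf 0x4ae6405)
(.leaf 0x2420cab7))
(.node (.leaf 0x13ccf27b)
(.leaf 0)))
(.node (.node (.leaf 0xc70931d)
(.leaf 0x2c02d84b))
(.node (.leaf 0x1c7e6734)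
(.leaf 0)))))
(.node (.node (.node (.node (.leaf 0x210e354)
(.leaf 0x21baac40))
(.node (.leaf 0x1290c7c1)
(.leaf 0)))
(.node (.node (.leaf 0xa8911b6)
(.leaf 0x2a5e7673))
(.node (.leaf 0x1898c514)
(.leaf 0))))
(.node (.node (.node (.leaf 0x6bae1e5)
(.leaf 0x26d905fd))
(.node (.leaf 0x163cd19e)
(.leaf 0)))
(.node (.node (.leaf 0xdaacf1d)
(.leaf 0x2ebc9613))
(.node (.leaf 0x1e1ea5e5)
(.leaf 0))))))
(.node (.node (.node (.node (.node (.leaf 0x1ac8066)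
(.leaf 0x2122d314))
(.node (.leaf 0x10e8d291)
(.leaf 0)))
(.node (.node (.leaf 0x9a2e5a3)
(.leaf 0x29c0d4e5))
(.node (.leaf 0x17beb16d)
(.leaf 0))))
(.node (.node (.node (.leaf 0x5a8c3b4)
(.leaf 0x24c6921f))
(.node (.leaf 0x1530ca17)
(.leaf 0)))
(.node (.node (.leaf 0xcf0a710)
(.leaf 0x2cbd16ff))
(.node (.leaf 0x1dd6ae55)
(.leaf 0)))))
(.node (.node (.node (.node (.leaf 0x2bcc0ea)
(.leaf 0x23d6d4aa))
(.node (.leaf 0x1340d1f6)
(.leaf 0)))
(.node (.node (.leaf 0xb666a42)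
(.leaf 0x2bb4b694))
(.node (.leaf 0x1a38657e)
(.leaf 0))))
(.node (.node (.node (.leaf 0x75a440f)
(.leaf 0x274aeb0d))
(.node (.leaf 0x16950d81)
(.leaf 0)))
(.node (.node (.leaf 0xf6d066c)
(.leaf 0x2fd91582))
(.node (.leaf 0x1ead0a77)
(.leaf 0))))))))))
(.node (.node (.node (.node (.node (.node (.node (.node (.node (.leaf 0x130008)
(.leaf 0x1ee4ebe3))
(.node (.leaf 0xf7cb249)
(.leaf 0x2fe6f80d)))
(.node (.node (.leaf 0x772c327)
(.leaf 0x2774e683))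
(.node (.leaf 0x16ab062a)
(.leaf 0))))
(.node (.node (.node (.leaf 0x2f6e020)
(.leaf 0x23e309fb))
(.node (.leaf 0x1352afed)
(.leaf 0)))
(.node (.node (.leaf 0xbfce795)
(.leaf 0x2bc0b4d6))
(.node (.leaf 0x1c0e4580)
(.leaf 0)))))
(.node (.node (.node (.node (.leaf 0x1b8e1f4)
(.leaf 0x2138cfde))
(.node (.leaf 0x113aebfb)
(.leaf 0)))
(.node (.node (.leaf 0xa0ec587)
(.leaf 0x2a08f4dc))
(.node (.leaf 0x17df09cb)
(.leaf 0))))
(.node (.node (.node (.leaf 0x5fce224)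
(.leaf 0x24e493e5))
(.node (.leaf 0x160ec56a)
(.leaf 0)))
(.node (.node (.leaf 0xd12eb84)
(.leaf 0x2ce515c9))
(.node (.leaf 0x1de08ce7)
(.leaf 0))))))
(.node (.node (.node (.node (.node (.leaf 0x7f0257)
(.leaf 0x20e2c8d8))
(.node (.leaf 0x1010d2ae)
(.leaf 0x3100d878)))
(.node (.node (.leaf 0x90ca5c4)
(.leaf 0x28dc9198))
(.node (.leaf 0x173ad20e)
(.leaf 0))))
(.node (.node (.node (.leaf 0x4cac111)
(.leaf 0x243b0b4d))
(.node (.leaf 0x1400c93d)
(.leaf 0)))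
(.node (.node (.leaf 0xc80cb03)
(.leaf 0x2c1f184f))
(.node (.leaf 0x1c8e67d4)
(.leaf 0)))))
(.node (.node (.node (.node (.leaf 0x22901dd)
(.leaf 0x21df0e33))
(.node (.leaf 0x130f0624)
(.leaf 0)))
(.node (.node (.leaf 0xa9eacec)
(.leaf 0x2a73172d))
(.node (.leaf 0x18deb47a)
(.leaf 0))))
(.node (.node (.node (.leaf 0x704c3d4)
(.leaf 0x26e2928d))
(.node (.leaf 0x1648b4b0)
(.leaf 0)))
(.node (.node (.leaf 0xe1eef2b)
(.leaf 0x2ed71786))
(.node (.leaf 0x1e2c472f)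
(.leaf 0)))))))
(.node (.node (.node (.node (.node (.node (.leaf 0x3b0267)
(.leaf 0x1f66b049))
(.node (.leaf 0xfa90e31)
(.leaf 0x30891770)))
(.node (.node (.leaf 0x83ce35e)
(.leaf 0x2864f241))
(.node (.leaf 0x16f10999)
(.leaf 0))))
(.node (.node (.node (.leaf 0x3e4e271)
(.leaf 0x240acf12))
(.node (.leaf 0x138cca57)
(.leaf 0)))
(.node (.node (.leaf 0xc5a4f72)
(.leaf 0x2be89554))
(.node (.leaf 0x1c630b5a)
(.leaf 0)))))
(.node (.node (.node (.node (.leaf 0x1e6a172)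
(.leaf 0x2182e90d))
(.node (.leaf 0x125f064a)
(.leaf 0)))
(.node (.node (.leaf 0xa74e61c)
(.leaf 0x2a40f67d))
(.node (.leaf 0x1856ce11)
(.leaf 0))))
(.node (.node (.node (.leaf 0x686e3df)
(.leaf 0x25aaed0b))
(.node (.leaf 0x1628ca8c)
(.leaf 0)))
(.node (.node (.leaf 0xd62cc91)
(.leaf 0x2dded717))
(.node (.leaf 0x1e010f71)
(.leaf 0))))))
(.node (.node (.node (.node (.node (.leaf 0x1250358)
(.leaf 0x21090ca0))
(.node (.leaf 0x1081096a)
(.leaf 0)))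
(.node (.node (.leaf 0x96706b6)
(.leaf 0x2986f56c))
(.node (.leaf 0x1788a64b)
(.leaf 0))))
(.node (.node (.node (.leaf 0x56ea23d)
(.leaf 0x248ee67f))
(.node (.leaf 0x1490a932)
(.leaf 0)))
(.node (.node (.leaf 0xcb4ac94)
(.leaf 0x2c7ed53c))
(.node (.leaf 0x1d1aa6f3)
(.leaf 0)))))
(.node (.node (.node (.node (.leaf 0x284c1b3)
(.leaf 0x2278d368))
(.node (.leaf 0x13290a74)
(.leaf 0)))
(.node (.node (.leaf 0xaf0ed00)
(.leaf 0x2b1b1601))
(.node (.leaf 0x198cad8d)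
(.leaf 0))))
(.node (.node (.node (.leaf 0x73ca373)
(.leaf 0x2715103e))
(.node (.leaf 0x167110ab)
(.leaf 0)))
(.node (.node (.leaf 0xf5ae9f5)
(.leaf 0x2f787669))
(.node (.leaf 0x1e6caea6)
(.leaf 0))))))))
(.node (.node (.node (.node (.node (.node (.node (.leaf 0x288023)
(.leaf 0x1f130b04))
(.node (.leaf 0xf910909)
(.leaf 0x300b1880)))
(.node (.node (.leaf 0x78883fc)
(.leaf 0x2824b128))
(.node (.leaf 0x16d2a613)
(.leaf 0))))
(.node (.node (.node (.leaf 0x372e044)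
(.leaf 0x23f44603))
(.node (.leaf 0x13664aa8)
(.leaf 0)))
(.node (.node (.leaf 0xc4e876f)
(.leaf 0x2bd1170c))
(.node (.leaf 0x1c44caff)
(.leaf 0)))))
(.node (.node (.node (.node (.leaf 0x1cd0089)
(.leaf 0x2154ce7a))
(.node (.leaf 0x124f0608)
(.leaf 0)))
(.node (.node (.leaf 0xa2d04ce)
(.leaf 0x2a309651))
(.node (.leaf 0x180eb4a9)
(.leaf 0))))
(.node (.node (.node (.leaf 0x62c63a3)
(.leaf 0x2526d068))
(.node (.leaf 0x161854b4)
(.leaf 0)))
(.node (.node (.leaf 0xd3ac4ed)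
(.leaf 0x2d36d84a))
(.node (.leaf 0x1deecc8d)
(.leaf 0))))))
(.node (.node (.node (.node (.node (.leaf 0xbd007e)
(.leaf 0x20f2e856))
(.node (.leaf 0x104a8822)
(.leaf 0)))
(.node (.node (.leaf 0x94ea4e2)
(.leaf 0x2906d0d3))
(.node (.leaf 0x17630bc8)
(.leaf 0))))
(.node (.node (.node (.leaf 0x524e11b)
(.leaf 0x2462e953))
(.node (.leaf 0x143b0a0e)
(.leaf 0)))
(.node (.node (.leaf 0xc9665c5)
(.leaf 0x2c52d5b4))
(.node (.leaf 0x1cb8a905)
(.leaf 0)))))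
(.node (.node (.node (.node (.leaf 0x254c2d4)
(.leaf 0x223c508c))
(.node (.leaf 0x131a6bd7)
(.leaf 0)))
(.node (.node (.leaf 0xab8ad86)
(.leaf 0x2a9c5679))
(.node (.leaf 0x19490deb)
(.leaf 0))))
(.node (.node (.node (.leaf 0x72ce477)
(.leaf 0x26fe8511))
(.node (.leaf 0x165cd05c)
(.leaf 0)))
(.node (.node (.leaf 0xf4e888a)
(.leaf 0x2f111720))
(.node (.leaf 0x1e470700)
(.leaf 0)))))))
(.node (.node (.node (.node (.node (.node (.leaf 0x504322)
(.leaf 0x20a8a714))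
(.node (.leaf 0xfd0ce94)
(.leaf 0x30aeb7e1)))
(.node (.node (.leaf 0x8b062ae)
(.leaf 0x28c64d18))
(.node (.leaf 0x1714e91f)
(.leaf 0))))
(.node (.node (.node (.leaf 0x4a902ca)
(.leaf 0x241c667a))
(.node (.leaf 0x13bce635)
(.leaf 0)))
(.node (.node (.leaf 0xc6d12df)
(.leaf 0x2bfc7551))
(.node (.leaf 0x1c78a814)
(.leaf 0)))))
(.node (.node (.node (.node (.leaf 0x209040e)
(.leaf 0x21aceec8))
(.node (.leaf 0x1282d33f)
(.leaf 0)))
(.node (.node (.leaf 0xa831072)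
(.leaf 0x2a5855ea))
(.node (.leaf 0x188cf1ac)
(.leaf 0))))
(.node (.node (.node (.leaf 0x6b0a1e6)
(.leaf 0x26587475))
(.node (.leaf 0x1638d098)
(.leaf 0)))
(.node (.node (.leaf 0xd990a8f)
(.leaf 0x2eb8d781))
(.node (.leaf 0x1e16d32a)
(.leaf 0))))))
(.node (.node (.node (.node (.node (.leaf 0x1a66395)
(.leaf 0x211ccf09))
(.node (.leaf 0x10d51343)
(.leaf 0)))
(.node (.node (.leaf 0x98d050b)
(.leaf 0x29b4d535))
(.node (.leaf 0x17b2cb5f)
(.leaf 0))))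
(.node (.node (.node (.leaf 0x590c012)
(.leaf 0x24baa62d))
(.node (.leaf 0x1509112f)
(.leaf 0)))
(.node (.node (.leaf 0xcdeac1c)
(.leaf 0x2cac95cc))
(.node (.leaf 0x1daeefa7)
(.leaf 0)))))
(.node (.node (.node (.node (.leaf 0x2ace0fe)
(.leaf 0x2388cd72))
(.node (.leaf 0x133d0c77)
(.leaf 0)))
(.node (.node (.leaf 0xb44aa13)
(.leaf 0x2bb0f71b))
(.node (.leaf 0x1a1d11e6)
(.leaf 0))))
(.node (.node (.node (.leaf 0x74e8390)
(.leaf 0x273ec74f))
(.node (.leaf 0x168d1232)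
(.leaf 0)))
(.node (.node (.leaf 0xf684db3)
(.leaf 0x2fd255ec))
(.node (.leaf 0x1e9ca97d)
(.leaf 0)))))))))
(.node (.node (.node (.node (.node (.node (.node (.node (.leaf 0x228019)
(.leaf 0x1efcb328))
(.node (.leaf 0xf8705cd)
(.leaf 0x2ff6b7f6)))
(.node (.node (.leaf 0x77ea30e)
(.leaf 0x279314bc))
(.node (.leaf 0x16bccd1e)
(.leaf 0))))
(.node (.node (.node (.leaf 0x326a04e)
(.leaf 0x23eb0fbe))
(.node (.leaf 0x135d0791)
(.leaf 0)))
(.node (.node (.leaf 0xc16c495)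
(.leaf 0x2bc89549))
(.node (.leaf 0x1c2aa88b)
(.leaf 0)))))
(.node (.node (.node (.node (.leaf 0x1c2c1c0)
(.leaf 0x21490f77))
(.node (.leaf 0x118ccf08)
(.leaf 0)))
(.node (.node (.leaf 0xa1907c7)
(.leaf 0x2a2ad6d2))
(.node (.leaf 0x17f8efe5)
(.leaf 0))))
(.node (.node (.node (.leaf 0x6208313)
(.leaf 0x2504ad5e))
(.node (.leaf 0x1612ebce)
(.leaf 0)))
(.node (.node (.leaf 0xd26ae37)
(.leaf 0x2d051655))
(.node (.leaf 0x1de650f1)
(.leaf 0))))))
(.node (.node (.node (.node (.node (.leaf 0x9b0103)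
(.leaf 0x20e8aaf3))
(.node (.leaf 0x102aee58)
(.leaf 0x312c7825)))
(.node (.node (.leaf 0x92507c9)
(.leaf 0x28eb0a3e))
(.node (.leaf 0x174f113e)
(.leaf 0))))
(.node (.node (.node (.leaf 0x4e4c053)
(.leaf 0x244cc675))
(.node (.leaf 0x1420a9d4)
(.leaf 0)))
(.node (.node (.leaf 0xc8c8b7e)
(.leaf 0x2c37162b))
(.node (.leaf 0x1ca0b31a)
(.leaf 0)))))
(.node (.node (.node (.node (.leaf 0x23ca33c)
(.leaf 0x21fec8a0))
(.node (.leaf 0x1312b1c5)
(.leaf 0)))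
(.node (.node (.leaf 0xaaaaae0)
(.leaf 0x2a831543))
(.node (.leaf 0x190ceeef)
(.leaf 0))))
(.node (.node (.node (.leaf 0x726c424)
(.leaf 0x26f0ad2e))
(.node (.leaf 0x16546d20)
(.leaf 0)))
(.node (.node (.leaf 0xe96d35c)
(.leaf 0x2eeaf693))
(.node (.leaf 0x1e3668c0)
(.leaf 0)))))))
(.node (.node (.node (.node (.node (.node (.leaf 0x44a168)
(.leaf 0x1f9cea94))
(.node (.leaf 0xfb487f2)
(.leaf 0x309f1877)))
(.node (.node (.leaf 0x8a6647d)
(.leaf 0x288446de))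
(.node (.leaf 0x16fecabf)
(.leaf 0))))
(.node (.node (.node (.leaf 0x4a0e275)
(.leaf 0x24131108))
(.node (.leaf 0x13a907a9)
(.leaf 0)))
(.node (.node (.leaf 0xc626e6e)
(.leaf 0x2bf11791))
(.node (.leaf 0x1c6aec3d)
(.leaf 0)))))
(.node (.node (.node (.node (.leaf 0x1f10339)
(.leaf 0x2196ac51))
(.node (.leaf 0x126ceae1)
(.leaf 0)))
(.node (.node (.leaf 0xa7af0a8)
(.leaf 0x2a4c97cd))
(.node (.leaf 0x187712e1)
(.leaf 0))))
(.node (.node (.node (.leaf 0x69ea0dd)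
(.leaf 0x25e4c508))
(.node (.leaf 0x1630c615)
(.leaf 0)))
(.node (.node (.leaf 0xd7109e6)
(.leaf 0x2eb23520))
(.node (.leaf 0x1e0b0ce3)
(.leaf 0))))))
(.node (.node (.node (.node (.node (.leaf 0x1a0c348)
(.leaf 0x21126821))
(.node (.leaf 0x10970b69)
(.leaf 0)))
(.node (.node (.leaf 0x978c50c)
(.leaf 0x29a0f538))
(.node (.leaf 0x1794f045)
(.leaf 0))))
(.node (.node (.node (.leaf 0x57ee112)
(.leaf 0x24a0ad0a))
(.node (.leaf 0x14b8ce4f)
(.leaf 0)))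
(.node (.node (.leaf 0xcc6d29d)
(.leaf 0x2c931800))
(.node (.leaf 0x1d3e8f8d)
(.leaf 0)))))
(.node (.node (.node (.node (.leaf 0x294e1b4)
(.leaf 0x22aec85b))
(.node (.leaf 0x1332e9f6)
(.leaf 0)))
(.node (.node (.leaf 0xb1acd70)
(.leaf 0x2baa5602))
(.node (.leaf 0x19b2f03a)
(.leaf 0))))
(.node (.node (.node (.leaf 0x7470473)
(.leaf 0x27290de0))
(.node (.leaf 0x167ab4ba)
(.leaf 0)))
(.node (.node (.leaf 0xf60d242)
(.leaf 0x2f8296e0))
(.node (.leaf 0x1e8312b6)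
(.leaf 0))))))))
(.node (.node (.node (.node (.node (.node (.node (.leaf 0x2ee437)
(.leaf 0x1f390904))
(.node (.leaf 0xf9ad24e)
(.leaf 0x3036b666)))
(.node (.node (.leaf 0x7c0a457)
(.leaf 0x285a92ca))
(.node (.leaf 0x16e0467e)
(.leaf 0))))
(.node (.node (.node (.leaf 0x3b2c163)
(.leaf 0x23fef115))
(.node (.leaf 0x1372f073)
(.leaf 0)))
(.node (.node (.leaf 0xc54a7c5)
(.leaf 0x2bdeb55c))
(.node (.leaf 0x1c5a8b5d)
(.leaf 0)))))
(.node (.node (.node (.node (.leaf 0x1d8e0bb)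
(.leaf 0x216ad332))
(.node (.leaf 0x125473d7)
(.leaf 0)))
(.node (.node (.leaf 0xa6e69a8)
(.leaf 0x2a38d830))
(.node (.leaf 0x1834f49c)
(.leaf 0))))
(.node (.node (.node (.leaf 0x63e630a)
(.leaf 0x2554adea))
(.node (.leaf 0x16206afc)
(.leaf 0)))
(.node (.node (.leaf 0xd4ef079)
(.leaf 0x2d7f1804))
(.node (.leaf 0x1df70730)
(.leaf 0))))))
(.node (.node (.node (.node (.node (.leaf 0xe8e054)
(.leaf 0x20fd0af6))
(.node (.leaf 0x10610ba8)
(.leaf 0)))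
(.node (.node (.leaf 0x9590697)
(.leaf 0x2936d0ac))
(.node (.leaf 0x1778e7a2)
(.leaf 0))))
(.node (.node (.node (.leaf 0x562e3b1)
(.leaf 0x2476ed63))
(.node (.leaf 0x144ed392)
(.leaf 0)))
(.node (.node (.leaf 0xca08e2c)
(.leaf 0x2c68b7f7))
(.node (.leaf 0x1cdcacf2)
(.leaf 0)))))
(.node (.node (.node (.node (.leaf 0x26ac061)
(.leaf 0x225b1369))
(.node (.leaf 0x1320f16b)
(.leaf 0)))
(.node (.node (.leaf 0xad31231)
(.leaf 0x2ac8b54b))
(.node (.leaf 0x196ee948)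
(.leaf 0))))
(.node (.node (.node (.leaf 0x7330482)
(.leaf 0x27091487))
(.node (.leaf 0x1668b009)
(.leaf 0)))
(.node (.node (.leaf 0xf52f313)
(.leaf 0x2f723579))
(.node (.leaf 0x1e5cb34e)
(.leaf 0)))))))
(.node (.node (.node (.node (.node (.node (.leaf 0x61029a)
(.leaf 0x20da4846))
(.node (.leaf 0xfe8c550)
(.leaf 0x30dd186d)))
(.node (.node (.leaf 0x8cc8312)
(.leaf 0x28cc907c))
(.node (.leaf 0x1726ae02)
(.leaf 0))))
(.node (.node (.node (.leaf 0x4b4442c)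
(.leaf 0x2428c4f1))
(.node (.leaf 0x13eccd31)
(.leaf 0)))
(.node (.node (.leaf 0xc770911)
(.leaf 0x2c08f822))
(.node (.leaf 0x1c82edc6)
(.leaf 0)))))
(.node (.node (.node (.node (.leaf 0x21a624e)
(.leaf 0x21c6c852))
(.node (.leaf 0x12a4d2ce)
(.leaf 0)))
(.node (.node (.leaf 0xa8eaa14)
(.leaf 0x2a6675f0))
(.node (.leaf 0x18a6c9fd)
(.leaf 0))))
(.node (.node (.node (.leaf 0x6d10466)
(.leaf 0x26dd096c))
(.node (.leaf 0x16411169)
(.leaf 0)))
(.node (.node (.leaf 0xdb70d69)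
(.leaf 0x2ec4d6d4))
(.node (.leaf 0x1e22ec8a)
(.leaf 0))))))
(.node (.node (.node (.node (.node (.leaf 0x1ae62eb)
(.leaf 0x2128ae47))
(.node (.leaf 0x10f8c820)
(.leaf 0)))
(.node (.node (.leaf 0x9c9051d)
(.leaf 0x29e1150f))
(.node (.leaf 0x17c8d25e)
(.leaf 0))))
(.node (.node (.node (.leaf 0x5c0e400)
(.leaf 0x24ceaab8))
(.node (.leaf 0x155ce7b1)
(.leaf 0)))
(.node (.node (.leaf 0xcf8e7da)
(.leaf 0x2cc6f4f2))
(.node (.leaf 0x1dd8f373)
(.leaf 0)))))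
(.node (.node (.node (.node (.leaf 0x2d70098)
(.leaf 0x23dae96b))
(.node (.leaf 0x1348d1b3)
(.leaf 0)))
(.node (.node (.leaf 0xbeea6b9)
(.leaf 0x2bb8d6ab))
(.node (.leaf 0x1b4cebf1)
(.leaf 0))))
(.node (.node (.node (.leaf 0x764e2ed)
(.leaf 0x275cd147))
(.node (.leaf 0x169ce93e)
(.leaf 0)))
(.node (.node (.leaf 0xf7468db)
(.leaf 0x2fdcb795))
(.node (.leaf 0x1ec6c4d9)
(.leaf 0)))))))))))
(.node (.node (.node (.node (.node (.node (.node (.node (.node (.node (.leaf 442397)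
(.leaf 0x1edaea91))
(.node (.leaf 0xf7a4c45)
(.leaf 0x2fe4b69c)))
(.node (.node (.leaf 0x770a1c7)
(.leaf 0x276ef178))
(.node (.leaf 0x16a6cdde)
(.leaf 0))))
(.node (.node (.node (.leaf 0x2eee092)
(.leaf 0x23e0ce43))
(.node (.leaf 0x1350a6d3)
(.leaf 0)))
(.node (.node (.leaf 0xbf6e562)
(.leaf 0x2bbe9600))
(.node (.leaf 0x1bd4e6d9)
(.leaf 0)))))
(.node (.node (.node (.node (.leaf 0x1b6c392)
(.leaf 0x2132c8f1))
(.node (.leaf 0x112a652c)
(.leaf 0)))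
(.node (.node (.leaf 0x9f4e9c2)
(.leaf 0x2a0115f7))
(.node (.leaf 0x17d6cd6e)
(.leaf 0))))
(.node (.node (.node (.leaf 0x5d8e1c2)
(.leaf 0x24e0c7dc))
(.node (.leaf 0x158cefe9)
(.leaf 0)))
(.node (.node (.leaf 0xd08c609)
(.leaf 0x2cdf1629))
(.node (.leaf 0x1ddf0833)
(.leaf 0))))))
(.node (.node (.node (.node (.node (.leaf 0x6ea189)
(.leaf 0x20e0c596))
(.node (.leaf 0x1008e978)
(.leaf 0x30fe7774)))
(.node (.node (.leaf 0x9066527)
(.leaf 0x28d913ae))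
(.node (.leaf 0x1736cddb)
(.leaf 0))))
(.node (.node (.node (.leaf 0x4c06454)
(.leaf 0x2434d448))
(.node (.leaf 0x13faf10f)
(.leaf 0)))
(.node (.node (.leaf 0xc7e84c5)
(.leaf 0x2c18f73b))
(.node (.leaf 0x1c8a504d)
(.leaf 0)))))
(.node (.node (.node (.node (.leaf 0x224a0a7)
(.leaf 0x21d50af4))
(.node (.leaf 0x12e0e78d)
(.leaf 0)))
(.node (.node (.leaf 0xa98ca09)
(.leaf 0x2a707619))
(.node (.leaf 0x18d6cb2c)
(.leaf 0))))
(.node (.node (.node (.leaf 0x6fec091)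
(.leaf 0x26e2e767))
(.node (.leaf 0x1646942e)
(.leaf 0)))
(.node (.node (.leaf 0xe190491)
(.leaf 0x2ed2763b))
(.node (.leaf 0x1e2b0bf9)
(.leaf 0)))))))
(.node (.node (.node (.node (.node (.node (.leaf 0x390211)
(.leaf 0x1f5aa9e9))
(.node (.leaf 0xfa44c5b)
(.leaf 0x3052f862)))
(.node (.node (.leaf 0x816a1b2)
(.leaf 0x286253a2))
(.node (.leaf 0x16ed1374)
(.leaf 0))))
(.node (.node (.node (.leaf 0x3d6e2e7)
(.leaf 0x24070606))
(.node (.leaf 0x1386ca67)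
(.leaf 0)))
(.node (.node (.leaf 0xc5aa706)
(.leaf 0x2be4d805))
(.node (.leaf 0x1c60ee3e)
(.leaf 0)))))
(.node (.node (.node (.node (.leaf 0x1e5021d)
(.leaf 0x217cc9df))
(.node (.leaf 0x125b1237)
(.leaf 0)))
(.node (.node (.leaf 0xa72e9d2)
(.leaf 0x2a3e96c6))
(.node (.leaf 0x184d1145)
(.leaf 0))))
(.node (.node (.node (.leaf 0x682e226)
(.leaf 0x25a110af))
(.node (.leaf 0x1626eac2)
(.leaf 0)))
(.node (.node (.leaf 0xd5ccf1b)
(.leaf 0x2db2f60f))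
(.node (.leaf 0x1dfc731c)
(.leaf 0))))))
(.node (.node (.node (.node (.node (.leaf 0x11b02d0)
(.leaf 0x2102aec2))
(.node (.leaf 0x107b0c70)
(.leaf 0)))
(.node (.node (.leaf 0x960e542)
(.leaf 0x2984d4c9))
(.node (.leaf 0x1784e65c)
(.leaf 0))))
(.node (.node (.node (.leaf 0x56b02c8)
(.leaf 0x2484d062))
(.node (.leaf 0x146ecb39)
(.leaf 0)))
(.node (.node (.leaf 0xcb0cdc0)
(.leaf 0x2c7b163c))
(.node (.leaf 0x1d0ae907)
(.leaf 0)))))
(.node (.node (.node (.node (.leaf 0x27ea25a)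
(.leaf 0x2270c8c4))
(.node (.leaf 0x1326aaa2)
(.leaf 0)))
(.node (.node (.leaf 0xaeb0ab2)
(.leaf 0x2b06f760))
(.node (.leaf 0x1984c8fc)
(.leaf 0))))
(.node (.node (.node (.leaf 0x738c2ad)
(.leaf 0x27111424))
(.node (.leaf 0x166ecf69)
(.leaf 0)))
(.node (.node (.leaf 0xf58ae40)
(.leaf 0x2f76967f))
(.node (.leaf 0x1e6906f8)
(.leaf 0))))))))
(.node (.node (.node (.node (.node (.node (.node (.leaf 0x268160)
(.leaf 0x1f0ccc00))
(.node (.leaf 0xf8ee6c4)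
(.leaf 0x3006d87e)))
(.node (.node (.leaf 0x7868208)
(.leaf 0x27c4eaec))
(.node (.leaf 0x16ccd01d)
(.leaf 0))))
(.node (.node (.node (.leaf 0x364c055)
(.leaf 0x23f1148b))
(.node (.leaf 0x13626e0e)
(.leaf 0)))
(.node (.node (.leaf 0xc39051f)
(.leaf 0x2bceb6c5))
(.node (.leaf 0x1c3b04cc)
(.leaf 0)))))
(.node (.node (.node (.node (.leaf 0x1caa04f)
(.leaf 0x2152a7df))
(.node (.leaf 0x11e4f034)
(.leaf 0)))
(.node (.node (.leaf 0xa2705c0)
(.leaf 0x2a2ed633))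
(.node (.leaf 0x18046798)
(.leaf 0))))
(.node (.node (.node (.leaf 0x62843ac)
(.leaf 0x2518cdfe))
(.node (.leaf 0x16188ec4)
(.leaf 0)))
(.node (.node (.leaf 0xd34ef15)
(.leaf 0x2d2ed6ce))
(.node (.leaf 0x1ded073b)
(.leaf 0))))))
(.node (.node (.node (.node (.node (.leaf 0xb2a0f0)
(.leaf 0x20f10718))
(.node (.leaf 0x1040e8cf)
(.leaf 0)))
(.node (.node (.leaf 0x94705a9)
(.leaf 0x28fac7db))
(.node (.leaf 0x1760b110)
(.leaf 0))))
(.node (.node (.node (.leaf 0x5170444)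
(.leaf 0x246109f7))
(.node (.leaf 0x1432d2ba)
(.leaf 0)))
(.node (.node (.leaf 0xc94c887)
(.leaf 0x2c4af788))
(.node (.leaf 0x1ca9091d)
(.leaf 0)))))
(.node (.node (.node (.node (.leaf 0x24d0051)
(.leaf 0x222f08f2))
(.node (.leaf 0x13190d95)
(.leaf 0)))
(.node (.node (.leaf 0xab4addf)
(.leaf 0x2a947571))
(.node (.leaf 0x193b0aa4)
(.leaf 0))))
(.node (.node (.node (.leaf 0x72a6480)
(.leaf 0x26fa4aad))
(.node (.leaf 0x165ad46c)
(.leaf 0)))
(.node (.node (.leaf 0xee8f1c7)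
(.leaf 0x2f02f7c7))
(.node (.leaf 0x1e410e66)
(.leaf 0)))))))
(.node (.node (.node (.node (.node (.node (.leaf 0x4ec178)
(.leaf 0x2030ac4d))
(.node (.leaf 0xfc6f27f)
(.leaf 0x30a8b74d)))
(.node (.node (.leaf 0x8ac441b)
(.leaf 0x28c26d84))
(.node (.leaf 0x170eb06f)
(.leaf 0))))
(.node (.node (.node (.leaf 0x4a860a5)
(.leaf 0x241a4d24))
(.node (.leaf 0x13b8ad61)
(.leaf 0)))
(.node (.node (.leaf 0xc6aef9d)
(.leaf 0x2bf8f782))
(.node (.leaf 0x1c750899)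
(.leaf 0)))))
(.node (.node (.node (.node (.leaf 0x204c356)
(.leaf 0x21a908aa))
(.node (.leaf 0x127eed8a)
(.leaf 0)))
(.node (.node (.leaf 0xa80f0cf)
(.leaf 0x2a54d783))
(.node (.leaf 0x1886d324)
(.leaf 0))))
(.node (.node (.node (.leaf 0x6ad0329)
(.leaf 0x26411076))
(.node (.leaf 0x1636ed39)
(.leaf 0)))
(.node (.node (.leaf 0xd94e598)
(.leaf 0x2eb497bc))
(.node (.leaf 0x1e130a88)
(.leaf 0))))))
(.node (.node (.node (.node (.node (.leaf 0x1a6a08a)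
(.leaf 0x211aedf0))
(.node (.leaf 0x10c4ef48)
(.leaf 0)))
(.node (.node (.leaf 0x988c4d3)
(.leaf 0x29acf511))
(.node (.leaf 0x17aa493a)
(.leaf 0))))
(.node (.node (.node (.leaf 0x58ae20f)
(.leaf 0x24b6c995))
(.node (.leaf 0x14f2d0e5)
(.leaf 0)))
(.node (.node (.leaf 0xcd893ba)
(.leaf 0x2ca45519))
(.node (.leaf 0x1d94ee9c)
(.leaf 0)))))
(.node (.node (.node (.node (.leaf 0x2a4e363)
(.leaf 0x236cc6cf))
(.node (.leaf 0x133acb06)
(.leaf 0)))
(.node (.node (.leaf 0xb34ea70)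
(.leaf 0x2baf1513))
(.node (.leaf 0x1a14f019)
(.leaf 0))))
(.node (.node (.node (.leaf 0x74d0433)
(.leaf 0x2738cb9b))
(.node (.leaf 0x16887044)
(.leaf 0)))
(.node (.node (.leaf 0xf66a97c)
(.leaf 0x2f9af676))
(.node (.leaf 0x1e96b1dc)
(.leaf 0)))))))))
(.node (.node (.node (.node (.node (.node (.node (.node (.leaf 0x1ee406)
(.leaf 0x1efaee17))
(.node (.leaf 0xf848726)
(.leaf 0x2ff09890)))
(.node (.node (.leaf 0x77b046f)
(.leaf 0x27890e12))
(.node (.leaf 0x16b6d295)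
(.leaf 0))))
(.node (.node (.node (.leaf 0x310c205)
(.leaf 0x23e8ad59))
(.node (.leaf 0x1358f2b4)
(.leaf 0)))
(.node (.node (.leaf 0xc0aa668)
(.leaf 0x2bc6b69e))
(.node (.leaf 0x1c26e54d)
(.leaf 0)))))
(.node (.node (.node (.node (.leaf 0x1c0628a)
(.leaf 0x21450d5b))
(.node (.leaf 0x1170d436)
(.leaf 0)))
(.node (.node (.leaf 0xa16e55e)
(.leaf 0x2a2a34e1))
(.node (.leaf 0x17eeedda)
(.leaf 0))))
(.node (.node (.node (.leaf 0x621002d)
(.leaf 0x24f8cbc4))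
(.node (.leaf 0x161093ac)
(.leaf 0)))
(.node (.node (.leaf 0xd22a5a1)
(.leaf 0x2cf6d744))
(.node (.leaf 0x1de4ee6b)
(.leaf 0))))))
(.node (.node (.node (.node (.node (.leaf 0x970186)
(.leaf 0x20e70edc))
(.node (.leaf 0x10244b59)
(.leaf 0x3126f7f1)))
(.node (.node (.leaf 0x920a589)
(.leaf 0x28e889ba))
(.node (.leaf 0x174aca11)
(.leaf 0))))
(.node (.node (.node (.leaf 0x4dac273)
(.leaf 0x24486501))
(.node (.leaf 0x14190970)
(.leaf 0)))
(.node (.node (.leaf 0xc8910a1)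
(.leaf 0x2c2d157d))
(.node (.leaf 0x1c9f0dc2)
(.leaf 0)))))
(.node (.node (.node (.node (.leaf 0x238e156)
(.leaf 0x21f2c851))
(.node (.leaf 0x1310d1c3)
(.leaf 0)))
(.node (.node (.leaf 0xaa653f8)
(.leaf 0x2a7e7725))
(.node (.leaf 0x18fcf19c)
(.leaf 0))))
(.node (.node (.node (.leaf 0x72702e4)
(.leaf 0x26ecb10d))
(.node (.leaf 0x165287e0)
(.leaf 0)))
(.node (.node (.leaf 0xe62aab4)
(.leaf 0x2ee6f735))
(.node (.leaf 0x1e350d07)
(.leaf 0)))))))
(.node (.node (.node (.node (.node (.node (.leaf 0x40e3db)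
(.leaf 0x1f8b119b))
(.node (.leaf 0xfb2a6f2)
(.leaf 0x309ad7d9)))
(.node (.node (.leaf 0x8a622af)
(.leaf 0x2874c98a))
(.node (.leaf 0x16facbab)
(.leaf 0))))
(.node (.node (.node (.leaf 0x4a06016)
(.leaf 0x2410f3af))
(.node (.leaf 0x13a2f058)
(.leaf 0)))
(.node (.node (.leaf 0xc60f385)
(.leaf 0x2beed65e))
(.node (.leaf 0x1c688770)
(.leaf 0)))))
(.node (.node (.node (.node (.leaf 0x1ec8144)
(.leaf 0x2192c89c))
(.node (.leaf 0x1269123d)
(.leaf 0)))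
(.node (.node (.leaf 0xa7889bf)
(.leaf 0x2a4b15e5))
(.node (.leaf 0x1870c62f)
(.leaf 0))))
(.node (.node (.node (.leaf 0x69aa29f)
(.leaf 0x25dcd025))
(.node (.leaf 0x162cb26c)
(.leaf 0)))
(.node (.node (.leaf 0xd6a6daf)
(.leaf 0x2eab14eb))
(.node (.leaf 0x1e06cb75)
(.leaf 0))))))
(.node (.node (.node (.node (.node (.leaf 0x19ec2cf)
(.leaf 0x210ed2b3))
(.node (.leaf 0x1094ab8a)
(.leaf 0)))
(.node (.node (.leaf 0x97304b9)
(.leaf 0x299cd505))
(.node (.leaf 0x1792aae8)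
(.leaf 0))))
(.node (.node (.node (.leaf 0x57ac040)
(.leaf 0x249b111f))
(.node (.leaf 0x14b4f082)
(.leaf 0)))
(.node (.node (.leaf 0xcc30e48)
(.leaf 0x2c8cf5a5))
(.node (.leaf 0x1d3ca52f)
(.leaf 0)))))
(.node (.node (.node (.node (.leaf 0x290a32d)
(.leaf 0x229ee6d6))
(.node (.leaf 0x13306644)
(.leaf 0)))
(.node (.node (.leaf 0xb0ab3cc)
(.leaf 0x2baa34f3))
(.node (.leaf 0x19a8d4ad)
(.leaf 0))))
(.node (.node (.node (.leaf 0x7446380)
(.leaf 0x2720ab09))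
(.node (.leaf 0x1678518e)
(.leaf 0)))
(.node (.node (.leaf 0xf5e8eb1)
(.leaf 0x2f80f5d0))
(.node (.leaf 0x1e76cee4)
(.leaf 0))))))))
(.node (.node (.node (.node (.node (.node (.node (.leaf 0x2d036c)
(.leaf 0x1f30efd7))
(.node (.leaf 0xf9868f9)
(.leaf 0x302d1828)))
(.node (.node (.leaf 0x7b102d3)
(.leaf 0x28589276))
(.node (.leaf 0x16dcf489)
(.leaf 0))))
(.node (.node (.node (.leaf 0x3a0c138)
(.leaf 0x23fce6e0))
(.node (.leaf 0x1370ca2c)
(.leaf 0)))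
(.node (.node (.leaf 0xc52a860)
(.leaf 0x2bda5671))
(.node (.leaf 0x1c58eacc)
(.leaf 0)))))
(.node (.node (.node (.node (.leaf 0x1d4c154)
(.leaf 0x2168c866))
(.node (.leaf 0x125272fc)
(.leaf 0)))
(.node (.node (.leaf 0xa54e6ba)
(.leaf 0x2a36982e))
(.node (.leaf 0x18251185)
(.leaf 0))))
(.node (.node (.node (.leaf 0x63a4097)
(.leaf 0x2546f3d0))
(.node (.leaf 0x161e4c65)
(.leaf 0)))
(.node (.node (.leaf 0xd490732)
(.leaf 0x2d771503))
(.node (.leaf 0x1df449e5)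
(.leaf 0))))))
(.node (.node (.node (.node (.node (.leaf 0xd90300)
(.leaf 0x20f8af5f))
(.node (.leaf 0x105caf01)
(.leaf 0)))
(.node (.node (.leaf 0x95506c7)
(.leaf 0x2924e7e6))
(.node (.leaf 0x1772f08a)
(.leaf 0))))
(.node (.node (.node (.leaf 0x560c22e)
(.leaf 0x2472e9c5))
(.node (.leaf 0x144d0b3c)
(.leaf 0)))
(.node (.node (.leaf 0xc9cd326)
(.leaf 0x2c62b688))
(.node (.leaf 0x1ccf0c8c)
(.leaf 0)))))
(.node (.node (.node (.node (.leaf 0x262e259)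
(.leaf 0x2256a7fe))
(.node (.leaf 0x131f1285)
(.leaf 0)))
(.node (.node (.leaf 0xacea57d)
(.leaf 0x2abd1500))
(.node (.leaf 0x195ccde8)
(.leaf 0))))
(.node (.node (.node (.leaf 0x732c287)
(.leaf 0x2706d024))
(.node (.leaf 0x16650b33)
(.leaf 0)))
(.node (.node (.leaf 0xf50ceb8)
(.leaf 0x2f3f181d))
(.node (.leaf 0x1e58c8bb)
(.leaf 0)))))))
(.node (.node (.node (.node (.node (.node (.leaf 0x5d0083)
(.leaf 0x20d88f65))
(.node (.leaf 0xfe2cfd6)
(.leaf 0x30c2f885)))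
(.node (.node (.leaf 0x8c66470)
(.leaf 0x28cad2d1))
(.node (.leaf 0x17211090)
(.leaf 0))))
(.node (.node (.node (.leaf 0x4b30340)
(.leaf 0x24231456))
(.node (.leaf 0x13e2ab3a)
(.leaf 0)))
(.node (.node (.leaf 0xc72d307)
(.leaf 0x2c067526))
(.node (.leaf 0x1c7ed420)
(.leaf 0)))))
(.node (.node (.node (.node (.leaf 0x2166104)
(.leaf 0x21beefa9))
(.node (.leaf 0x129ee7ac)
(.leaf 0)))
(.node (.node (.leaf 0xa8ad0d0)
(.leaf 0x2a6117fc))
(.node (.leaf 0x189e44a3)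
(.leaf 0))))
(.node (.node (.node (.leaf 0x6cac220)
(.leaf 0x26d8f137))
(.node (.leaf 0x163eee19)
(.leaf 0)))
(.node (.node (.leaf 0xdb2ee54)
(.leaf 0x2ebe96f7))
(.node (.leaf 0x1e206ebc)
(.leaf 0))))))
(.node (.node (.node (.node (.node (.leaf 0x1aea115)
(.leaf 0x212510c4))
(.node (.leaf 0x10f0edcd)
(.leaf 0)))
(.node (.node (.leaf 0x9aac5ad)
(.leaf 0x29cd1510))
(.node (.leaf 0x17c4c655)
(.leaf 0))))
(.node (.node (.node (.leaf 0x5b2e0ce)
(.leaf 0x24c8b45f))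
(.node (.leaf 0x153b1466)
(.leaf 0)))
(.node (.node (.leaf 0xcf2d353)
(.leaf 0x2cbf162e))
(.node (.leaf 0x1dd84739)
(.leaf 0)))))
(.node (.node (.node (.node (.leaf 0x2c30183)
(.leaf 0x23d890b2))
(.node (.leaf 0x1346ef29)
(.leaf 0)))
(.node (.node (.leaf 0xb7ee8a3)
(.leaf 0x2bb6f59a))
(.node (.leaf 0x1a48d3fa)
(.leaf 0))))
(.node (.node (.node (.leaf 0x75ea47c)
(.leaf 0x2756f447))
(.node (.leaf 0x1698b3f1)
(.leaf 0)))
(.node (.node (.leaf 0xf6e86d2)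
(.leaf 0x2fd8d87d))
(.node (.leaf 0x1ebd09e4)
(.leaf 0))))))))))
(.node (.node (.node (.node (.node (.node (.node (.node (.node (.leaf 0x1ae009)
(.leaf 0x1eeeaf5e))
(.node (.leaf 0xf7f0bf8)
(.leaf 0x2feab82c)))
(.node (.node (.leaf 0x7770219)
(.leaf 0x277ad428))
(.node (.leaf 0x16aeaae9)
(.leaf 0))))
(.node (.node (.node (.leaf 0x2fb008f)
(.leaf 0x23e4e6a8))
(.node (.leaf 0x1355125d)
(.leaf 0)))
(.node (.node (.leaf 0xc00e7f1)
(.leaf 0x2bc316dd))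
(.node (.leaf 0x1c1304bc)
(.leaf 0)))))
(.node (.node (.node (.node (.leaf 0x1bca035)
(.leaf 0x213eae38))
(.node (.leaf 0x1154ef4d)
(.leaf 0)))
(.node (.node (.leaf 0xa10c4c9)
(.leaf 0x2a0ed506))
(.node (.leaf 0x17e2f055)
(.leaf 0))))
(.node (.node (.node (.leaf 0x604e336)
(.leaf 0x24eaa967))
(.node (.leaf 0x160e7088)
(.leaf 0)))
(.node (.node (.leaf 0xd16c4c8)
(.leaf 0x2cead5e4))
(.node (.leaf 0x1de2cb81)
(.leaf 0))))))
(.node (.node (.node (.node (.node (.leaf 0x8b0302)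
(.leaf 0x20e2938b))
(.node (.leaf 0x1018c52b)
(.leaf 0x310cd88e)))
(.node (.node (.leaf 0x914e5cf)
(.leaf 0x28e0909c))
(.node (.leaf 0x173f0b91)
(.leaf 0))))
(.node (.node (.node (.leaf 0x4cf0082)
(.leaf 0x244107ec))
(.node (.leaf 0x140cd007)
(.leaf 0)))
(.node (.node (.leaf 0xc846805)
(.leaf 0x2c22b7db))
(.node (.leaf 0x1c910f4e)
(.leaf 0)))))
(.node (.node (.node (.node (.leaf 0x22e41bb)
(.leaf 0x21e4edad))
(.node (.leaf 0x130ed15b)
(.leaf 0)))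
(.node (.node (.leaf 0xaa24d17)
(.leaf 0x2a76b824))
(.node (.leaf 0x18e4ca03)
(.leaf 0))))
(.node (.node (.node (.leaf 0x70ec464)
(.leaf 0x26e70965))
(.node (.leaf 0x164d0ac0)
(.leaf 0)))
(.node (.node (.leaf 0xe26ea9e)
(.leaf 0x2edd17d0))
(.node (.leaf 0x1e2cd3c0)
(.leaf 0)))))))
(.node (.node (.node (.node (.node (.node (.leaf 0x3c826a)
(.leaf 0x1f74e794))
(.node (.leaf 0xfad0d6b)
(.leaf 0x3096d76a)))
(.node (.node (.leaf 0x84e834c)
(.leaf 0x286a6bae))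
(.node (.leaf 0x16f2cb1b)
(.leaf 0))))
(.node (.node (.node (.leaf 0x42ce2e8)
(.leaf 0x240c5268))
(.node (.leaf 0x1392ea56)
(.leaf 0)))
(.node (.node (.leaf 0xc5cf443)
(.leaf 0x2beb1641))
(.node (.leaf 0x1c625437)
(.leaf 0)))))
(.node (.node (.node (.node (.leaf 0x1e8c40d)
(.leaf 0x2188ccad))
(.node (.leaf 0x1262c62c)
(.leaf 0)))
(.node (.node (.leaf 0xa74d175)
(.leaf 0x2a44b7f2))
(.node (.leaf 0x185cd49d)
(.leaf 0))))
(.node (.node (.node (.leaf 0x696a1a0)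
(.leaf 0x25c51070))
(.node (.leaf 0x1628b4b9)
(.leaf 0)))
(.node (.node (.leaf 0xd64b2af)
(.leaf 0x2dfb166a))
(.node (.leaf 0x1e028f46)
(.leaf 0))))))
(.node (.node (.node (.node (.node (.leaf 0x13ce10e)
(.leaf 0x210aa4dc))
(.node (.leaf 0x1086f2a9)
(.leaf 0)))
(.node (.node (.leaf 0x96ae657)
(.leaf 0x299a34cc))
(.node (.leaf 0x178aad79)
(.leaf 0))))
(.node (.node (.node (.leaf 0x57263cc)
(.leaf 0x249309cd))
(.node (.leaf 0x149c5199)
(.leaf 0)))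
(.node (.node (.leaf 0xcb6f008)
(.leaf 0x2c80d72c))
(.node (.leaf 0x1d26e6ff)
(.leaf 0)))))
(.node (.node (.node (.node (.leaf 0x288e094)
(.leaf 0x22870b58))
(.node (.leaf 0x1328b1c6)
(.leaf 0)))
(.node (.node (.leaf 0xafd0633)
(.leaf 0x2b2af5f9))
(.node (.leaf 0x1994cab6)
(.leaf 0))))
(.node (.node (.node (.leaf 0x740a310)
(.leaf 0x271ac92e))
(.node (.leaf 0x167291ca)
(.leaf 0)))
(.node (.node (.leaf 0xf5c65c7)
(.leaf 0x2f7a575e))
(.node (.leaf 0x1e704ea5)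
(.leaf 0))))))))
(.node (.node (.node (.node (.node (.node (.node (.leaf 0x2ac0f6)
(.leaf 0x1f170f3a))
(.node (.leaf 0xf92e60c)
(.leaf 0x3012d82d)))
(.node (.node (.leaf 0x79d0338)
(.leaf 0x285666d5))
(.node (.leaf 0x16d4f0b1)
(.leaf 0))))
(.node (.node (.node (.leaf 0x382e2ff)
(.leaf 0x23f71496))
(.node (.leaf 0x136aab90)
(.leaf 0)))
(.node (.node (.leaf 0xc4eb36a)
(.leaf 0x2bd4d59e))
(.node (.leaf 0x1c57070e)
(.leaf 0)))))
(.node (.node (.node (.node (.leaf 0x1cec355)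
(.leaf 0x215ca8e7))
(.node (.leaf 0x125104e8)
(.leaf 0)))
(.node (.node (.leaf 0xa32e4a2)
(.leaf 0x2a3256b4))
(.node (.leaf 0x1816aabd)
(.leaf 0))))
(.node (.node (.node (.leaf 0x630e167)
(.leaf 0x252ca5ff))
(.node (.leaf 0x161ab3d1)
(.leaf 0)))
(.node (.node (.leaf 0xd40e842)
(.leaf 0x2d40d6b8))
(.node (.leaf 0x1df0f2ab)
(.leaf 0))))))
(.node (.node (.node (.node (.node (.leaf 0xc8a1b5)
(.leaf 0x20f50731))
(.node (.leaf 0x104ec715)
(.leaf 0)))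
(.node (.node (.leaf 0x950e516)
(.leaf 0x291106a6))
(.node (.leaf 0x1766aee6)
(.leaf 0))))
(.node (.node (.node (.leaf 0x5310142)
(.leaf 0x246aeadd))
(.node (.leaf 0x14428cb9)
(.leaf 0)))
(.node (.node (.leaf 0xc990ede)
(.leaf 0x2c54d858))
(.node (.leaf 0x1cc0ec06)
(.leaf 0)))))
(.node (.node (.node (.node (.leaf 0x258e2b7)
(.leaf 0x224706c6))
(.node (.leaf 0x131af3b8)
(.leaf 0)))
(.node (.node (.leaf 0xabe6d9c)
(.leaf 0x2aa6d6c0))
(.node (.leaf 0x194f12b0)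
(.leaf 0))))
(.node (.node (.node (.leaf 0x72e841c)
(.leaf 0x27005067))
(.node (.leaf 0x165eb3f7)
(.leaf 0)))
(.node (.node (.leaf 0xf4eeedd)
(.leaf 0x2f2115b1))
(.node (.leaf 0x1e48cc27)
(.leaf 0)))))))
(.node (.node (.node (.node (.node (.node (.leaf 0x526376)
(.leaf 0x20d6459a))
(.node (.leaf 0xfd8e707)
(.leaf 0x30b69861)))
(.node (.node (.leaf 0x8b2c35d)
(.leaf 0x28c8cd0f))
(.node (.leaf 0x17170b9f)
(.leaf 0))))
(.node (.node (.node (.leaf 0x4ab032b)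
(.leaf 0x241eafb9))
(.node (.leaf 0x13c6f264)
(.leaf 0)))
(.node (.node (.leaf 0xc70a708)
(.leaf 0x2c01155d))
(.node (.leaf 0x1c7aedb4)
(.leaf 0)))))
(.node (.node (.node (.node (.leaf 0x20ec1e0)
(.leaf 0x21b4ef5d))
(.node (.leaf 0x1288d166)
(.leaf 0)))
(.node (.node (.leaf 0xa864d16)
(.leaf 0x2a5ad7f9))
(.node (.leaf 0x1892f1bc)
(.leaf 0))))
(.node (.node (.node (.leaf 0x6b2612d)
(.leaf 0x26d68646))
(.node (.leaf 0x163ab05f)
(.leaf 0)))
(.node (.node (.leaf 0xda30be7)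
(.leaf 0x2ebad5a6))
(.node (.leaf 0x1e189105)
(.leaf 0))))))
(.node (.node (.node (.node (.node (.leaf 0x1aae078)
(.leaf 0x21210cbd))
(.node (.leaf 0x10e0d308)
(.leaf 0)))
(.node (.node (.leaf 0x99ae5aa)
(.leaf 0x29bcd504))
(.node (.leaf 0x17bb05b3)
(.leaf 0))))
(.node (.node (.node (.leaf 0x5a2e3ee)
(.leaf 0x24bee939))
(.node (.leaf 0x151cf3da)
(.leaf 0)))
(.node (.node (.leaf 0xce710ec)
(.leaf 0x2cb7166e))
(.node (.leaf 0x1dd70728)
(.leaf 0)))))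
(.node (.node (.node (.node (.leaf 0x2b8c12c)
(.leaf 0x23d70934))
(.node (.leaf 0x133e4b41)
(.leaf 0)))
(.node (.node (.leaf 0xb5f09a1)
(.leaf 0x2bb257cc))
(.node (.leaf 0x1a32747e)
(.leaf 0))))
(.node (.node (.node (.leaf 0x752c43d)
(.leaf 0x2744f03c))
(.node (.leaf 0x168ed3c9)
(.leaf 0)))
(.node (.node (.leaf 0xf6a8cd5)
(.leaf 0x2fd7165c))
(.node (.leaf 0x1ea50c53)
(.leaf 0)))))))))
(.node (.node (.node (.node (.node (.node (.node (.node (.leaf 0x2261ac)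
(.leaf 0x1f02b352))
(.node (.leaf 0xf884dbe)
(.leaf 0x2ffeb7e5)))
(.node (.node (.leaf 0x782c3b7)
(.leaf 0x279f1378))
(.node (.leaf 0x16c0f12b)
(.leaf 0))))
(.node (.node (.node (.leaf 0x330e09e)
(.leaf 0x23ecd3f2))
(.node (.leaf 0x135e8fa5)
(.leaf 0)))
(.node (.node (.leaf 0xc1ea4d6)
(.leaf 0x2bc9177a))
(.node (.leaf 0x1c2ec757)
(.leaf 0)))))
(.node (.node (.node (.node (.leaf 0x1c501ef)
(.leaf 0x214cee44))
(.node (.leaf 0x11a4ce7d)
(.leaf 0)))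
(.node (.node (.leaf 0xa1ec572)
(.leaf 0x2a2d14e2))
(.node (.leaf 0x17fad32d)
(.leaf 0))))
(.node (.node (.node (.leaf 0x624620c)
(.leaf 0x2508aabb))
(.node (.leaf 0x16150569)
(.leaf 0)))
(.node (.node (.leaf 0xd2ae864)
(.leaf 0x2d10f787))
(.node (.leaf 0x1de86eb9)
(.leaf 0))))))
(.node (.node (.node (.node (.node (.leaf 0xa4a1d4)
(.leaf 0x20ea8e25))
(.node (.leaf 0x1032ec44)
(.leaf 0x312f1854)))
(.node (.node (.leaf 0x929088f)
(.leaf 0x28ef1461))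
(.node (.leaf 0x1756d393)
(.leaf 0))))
(.node (.node (.node (.leaf 0x4ef0062)
(.leaf 0x245111ad))
(.node (.leaf 0x1425144d)
(.leaf 0)))
(.node (.node (.leaf 0xc8eec13)
(.leaf 0x2c3ab751))
(.node (.leaf 0x1ca2eefa)
(.leaf 0)))))
(.node (.node (.node (.node (.leaf 0x23e62bb)
(.leaf 0x2212e72b))
(.node (.leaf 0x1314ac78)
(.leaf 0)))
(.node (.node (.leaf 0xaae47b7)
(.leaf 0x2a849799))
(.node (.leaf 0x1918c631)
(.leaf 0))))
(.node (.node (.node (.leaf 0x728e27d)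
(.leaf 0x26f26989))
(.node (.leaf 0x165650e8)
(.leaf 0)))
(.node (.node (.leaf 0xea0e975)
(.leaf 0x2ef11587))
(.node (.leaf 0x1e3a45e8)
(.leaf 0)))))))
(.node (.node (.node (.node (.node (.node (.leaf 0x48c080)
(.leaf 0x1fc91052))
(.node (.leaf 0xfb8cf57)
(.leaf 0x30a117b2)))
(.node (.node (.leaf 0x8a8a44c)
(.leaf 0x28b645ce))
(.node (.leaf 0x1702e6da)
(.leaf 0))))
(.node (.node (.node (.leaf 0x4a2e27c)
(.leaf 0x2416f080))
(.node (.leaf 0x13acca64)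
(.leaf 0)))
(.node (.node (.leaf 0xc6707f6)
(.leaf 0x2bf4f6a2))
(.node (.leaf 0x1c6cb282)
(.leaf 0)))))
(.node (.node (.node (.node (.leaf 0x1f6a02f)
(.leaf 0x219d087d))
(.node (.leaf 0x12728719)
(.leaf 0)))
(.node (.node (.leaf 0xa7c522f)
(.leaf 0x2a50b683))
(.node (.leaf 0x187d1181)
(.leaf 0))))
(.node (.node (.node (.leaf 0x6a30328)
(.leaf 0x25f30992))
(.node (.leaf 0x16330b1a)
(.leaf 0)))
(.node (.node (.leaf 0xd80cdb0)
(.leaf 0x2eb2d610))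
(.node (.leaf 0x1e0cab01)
(.leaf 0))))))
(.node (.node (.node (.node (.node (.leaf 0x1a262df)
(.leaf 0x2116c758))
(.node (.leaf 0x109ce5d7)
(.leaf 0)))
(.node (.node (.leaf 0x97f048e)
(.leaf 0x29a2b50d))
(.node (.leaf 0x179eaf7c)
(.leaf 0))))
(.node (.node (.node (.leaf 0x583032a)
(.leaf 0x24aaad49))
(.node (.leaf 0x14c8f4a1)
(.leaf 0)))
(.node (.node (.leaf 0xccb104f)
(.leaf 0x2c9cb5ac))
(.node (.leaf 0x1d64ee8d)
(.leaf 0)))))
(.node (.node (.node (.node (.leaf 0x298c2d6)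
(.leaf 0x22c2e8ef))
(.node (.leaf 0x1334caa9)
(.leaf 0)))
(.node (.node (.leaf 0xb22c863)
(.leaf 0x2bad14f4))
(.node (.leaf 0x19c50fe3)
(.leaf 0))))
(.node (.node (.node (.leaf 0x748e460)
(.leaf 0x272c4b3b))
(.node (.leaf 0x16831457)
(.leaf 0)))
(.node (.node (.leaf 0xf624e3d)
(.leaf 0x2f8897e7))
(.node (.leaf 0x1e8cc5d3)
(.leaf 0))))))))
(.node (.node (.node (.node (.node (.node (.node (.leaf 0x33025e)
(.leaf 0x1f44ec25))
(.node (.leaf 0xf9cb311)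
(.leaf 0x304ad747)))
(.node (.node (.leaf 0x7cec430)
(.leaf 0x285c8cab))
(.node (.leaf 0x16e2b0e3)
(.leaf 0))))
(.node (.node (.node (.leaf 0x3c4e0ee)
(.leaf 0x24026b9d))
(.node (.leaf 0x13789022)
(.leaf 0)))
(.node (.node (.leaf 0xc570b05)
(.leaf 0x2be11729))
(.node (.leaf 0x1c5cae1e)
(.leaf 0)))))
(.node (.node (.node (.node (.leaf 0x1dd0321)
(.leaf 0x2170cf9c))
(.node (.leaf 0x1258c9f4)
(.leaf 0)))
(.node (.node (.leaf 0xa6ed3a8)
(.leaf 0x2a3b168e))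
(.node (.leaf 0x183caafd)
(.leaf 0))))
(.node (.node (.node (.leaf 0x64703fa)
(.leaf 0x255d0adf))
(.node (.leaf 0x16226ff4)
(.leaf 0)))
(.node (.node (.leaf 0xd54b316)
(.leaf 0x2d8cd6b2))
(.node (.leaf 0x1df8abf4)
(.leaf 0))))))
(.node (.node (.node (.node (.node (.leaf 0xf10179)
(.leaf 0x20ff0fc3))
(.node (.leaf 0x106af2ff)
(.leaf 0)))
(.node (.node (.leaf 0x95aa6cc)
(.leaf 0x2944ef1c))
(.node (.leaf 0x177d0a5d)
(.leaf 0))))
(.node (.node (.node (.leaf 0x56503cd)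
(.leaf 0x247cca6c))
(.node (.leaf 0x1454d19a)
(.leaf 0)))
(.node (.node (.leaf 0xca24ed8)
(.leaf 0x2c6cf517))
(.node (.leaf 0x1cf2ebdb)
(.leaf 0)))))
(.node (.node (.node (.node (.leaf 0x26d015d)
(.leaf 0x22630b44))
(.node (.leaf 0x1322aa75)
(.leaf 0)))
(.node (.node (.leaf 0xade47a3)
(.leaf 0x2ad4d6f9))
(.node (.leaf 0x197ad3b7)
(.leaf 0))))
(.node (.node (.node (.leaf 0x7350416)
(.leaf 0x270d0768))
(.node (.leaf 0x166af167)
(.leaf 0)))
(.node (.node (.leaf 0xf54f414)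
(.leaf 0x2f72d6af))
(.node (.leaf 0x1e606d05)
(.leaf 0)))))))
(.node (.node (.node (.node (.node (.node (.leaf 0x64e100)
(.leaf 0x20dc6af5))
(.node (.leaf 0xfee88ec)
(.leaf 0x30f69875)))
(.node (.node (.leaf 0x8d50438)
(.leaf 0x28d2657b))
(.node (.leaf 0x172cd3c5)
(.leaf 0))))
(.node (.node (.node (.leaf 0x4b9011e)
(.leaf 0x242ab1ae))
(.node (.leaf 0x13f0d2c7)
(.leaf 0)))
(.node (.node (.leaf 0xc79075e)
(.leaf 0x2c0d17a7))
(.node (.leaf 0x1c870be5)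
(.leaf 0)))))
(.node (.node (.node (.node (.leaf 0x21cc443)
(.leaf 0x21cc685a))
(.node (.leaf 0x12c114ab)
(.leaf 0)))
(.node (.node (.leaf 0xa92911a)
(.leaf 0x2a6a755f))
(.node (.leaf 0x18b70ad4)
(.leaf 0))))
(.node (.node (.node (.leaf 0x6f683ab)
(.leaf 0x26de7204))
(.node (.leaf 0x164272cd)
(.leaf 0)))
(.node (.node (.leaf 0xdf90e4b)
(.leaf 0x2ec91741))
(.node (.leaf 0x1e24f408)
(.leaf 0))))))
(.node (.node (.node (.node (.node (.leaf 0x1b300da)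
(.leaf 0x212b0b6d))
(.node (.leaf 0x110ece20)
(.leaf 0)))
(.node (.node (.leaf 0x9cee769)
(.leaf 0x29fb14c7))
(.node (.leaf 0x17cd09f3)
(.leaf 0))))
(.node (.node (.node (.leaf 0x5c900d9)
(.leaf 0x24d4a618))
(.node (.leaf 0x156cf3a3)
(.leaf 0)))
(.node (.node (.leaf 0xd00ee97)
(.leaf 0x2ccd168b))
(.node (.leaf 0x1ddb09eb)
(.leaf 0)))))
(.node (.node (.node (.node (.leaf 0x2dee0bc)
(.leaf 0x23dad469))
(.node (.leaf 0x134b0d42)
(.leaf 0)))
(.node (.node (.leaf 0xbf0c8a2)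
(.leaf 0x2bbb15aa))
(.node (.leaf 0x1b804fc7)
(.leaf 0))))
(.node (.node (.node (.leaf 0x768e3e0)
(.leaf 0x2760d2e5))
(.node (.leaf 0x16a0ee08)
(.leaf 0)))
(.node (.node (.leaf 0xf744f80)
(.leaf 0x2fdf1873))
(.node (.leaf 0x1ecaef63)
(.leaf 0)))))))))))))
(.node (.node (.node (.node (.node (.node (.node (.node (.node (.node (.node (.node (.leaf 1)
(.leaf 0x1eceee1c))
(.node (.leaf 0xf76f44b)
(.leaf 0x2fe11842)))
(.node (.node (.leaf 0x76ae3a8)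
(.leaf 0x27666d26))
(.node (.leaf 0x16a2a9c8)
(.leaf 0))))
(.node (.node (.node (.leaf 0x2e50162)
(.leaf 0x23dcf134))
(.node (.leaf 0x134c7021)
(.leaf 0)))
(.node (.node (.leaf 0xbf2c664)
(.leaf 0x2bba972b))
(.node (.leaf 0x1b92efe2)
(.leaf 0)))))
(.node (.node (.node (.node (.leaf 0x1b4e09d)
(.leaf 0x212ceef8))
(.node (.leaf 0x1122ec85)
(.leaf 0)))
(.node (.node (.leaf 0x9d4e688)
(.leaf 0x29fad54d))
(.node (.leaf 0x17ced226)
(.leaf 0))))
(.node (.node (.node (.leaf 0x5cae216)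
(.leaf 0x24d8aa43))
(.node (.leaf 0x15790d2c)
(.leaf 0)))
(.node (.node (.leaf 0xd048835)
(.leaf 0x2cd4f61c))
(.node (.leaf 0x1ddce916)
(.leaf 0))))))
(.node (.node (.node (.node (.node (.leaf 0x68619b)
(.leaf 0x20dcf38a))
(.node (.leaf 0xffcc878)
(.leaf 0x30f897af)))
(.node (.node (.leaf 0x8d662f2)
(.leaf 0x28d48a54))
(.node (.leaf 0x1730d155)
(.leaf 0))))
(.node (.node (.node (.leaf 0x4ba6445)
(.leaf 0x242cf102))
(.node (.leaf 0x13f6a63c)
(.leaf 0)))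
(.node (.node (.leaf 0xc7b088c)
(.leaf 0x2c10769f))
(.node (.leaf 0x1c88a5e7)
(.leaf 0)))))
(.node (.node (.node (.node (.leaf 0x220a064)
(.leaf 0x21d0e750))
(.node (.leaf 0x12d6f41b)
(.leaf 0)))
(.node (.node (.leaf 0xa946a55)
(.leaf 0x2a6d16b7))
(.node (.leaf 0x18c8cd13)
(.leaf 0))))
(.node (.node (.node (.leaf 0x6fb0236)
(.leaf 0x26e06a8b))
(.node (.leaf 0x1644478f)
(.leaf 0)))
(.node (.node (.leaf 0xe02ce35)
(.leaf 0x2eccd5ef))
(.node (.leaf 0x1e270bec)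
(.leaf 0)))))))
(.node (.node (.node (.node (.node (.node (.leaf 0x36803c)
(.leaf 0x1f4cb293))
(.node (.leaf 0xf9f0f60)
(.leaf 0x304cf871)))
(.node (.node (.leaf 0x7f28434)
(.leaf 0x285e9149))
(.node (.leaf 0x16e8a674)
(.leaf 0))))
(.node (.node (.node (.leaf 0x3ccc0ac)
(.leaf 0x2402b4a3))
(.node (.leaf 0x137cd1eb)
(.leaf 0)))
(.node (.node (.leaf 0xc58870a)
(.leaf 0x2be31642))
(.node (.leaf 0x1c5e6665)
(.leaf 0)))))
(.node (.node (.node (.node (.leaf 0x1dec2b9)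
(.leaf 0x2172cc79))
(.node (.leaf 0x12588d7c)
(.leaf 0)))
(.node (.node (.leaf 0xa7069cc)
(.leaf 0x2a3cb52e))
(.node (.leaf 0x18406a4b)
(.leaf 0))))
(.node (.node (.node (.leaf 0x67e40d4)
(.leaf 0x2568cb2d))
(.node (.leaf 0x1622b3f0)
(.leaf 0)))
(.node (.node (.leaf 0xd5891ba)
(.leaf 0x2da0f6cc))
(.node (.leaf 0x1dfaee5f)
(.leaf 0))))))
(.node (.node (.node (.node (.node (.leaf 0xf4a272)
(.leaf 0x2100cea0))
(.node (.leaf 0x10730ee3)
(.leaf 0)))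
(.node (.node (.leaf 0x95ca6c5)
(.leaf 5313))
(.node (.leaf 0x177cd2c0)
(.leaf 0))))
(.node (.node (.node (.leaf 0x566c397)
(.leaf 0x2480a776))
(.node (.leaf 0x145cd2b5)
(.leaf 0)))
(.node (.node (.leaf 0xcaaaf51)
(.leaf 0x2c72d52a))
(.node (.leaf 0x1cfb0bf2)
(.leaf 0)))))
(.node (.node (.node (.node (.leaf 0x278c153)
(.leaf 0x2268ada7))
(.node (.leaf 0x1322f012)
(.leaf 0)))
(.node (.node (.leaf 0xae30a10)
(.leaf 0x2ada581e))
(.node (.leaf 0x197ea6df)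
(.leaf 0))))
(.node (.node (.node (.leaf 0x7366422)
(.leaf 0x270ef07e))
(.node (.leaf 0x166d0ace)
(.leaf 0)))
(.node (.node (.leaf 0xf56ee32)
(.leaf 0x2f7456b6))
(.node (.leaf 0x1e646771)
(.leaf 0))))))))
(.node (.node (.node (.node (.node (.node (.node (.leaf 0x2480d7)
(.leaf 0x1f051211))
(.node (.leaf 0xf8aecd8)
(.leaf 0x3002b86e)))
(.node (.node (.leaf 0x7830403)
(.leaf 0x27aeeebb))
(.node (.leaf 0x16c4ea3f)
(.leaf 0))))
(.node (.node (.node (.leaf 0x33ca241)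
(.leaf 0x23ee50e2))
(.node (.leaf 0x1360c9a0)
(.leaf 0)))
(.node (.node (.leaf 0xc28c588)
(.leaf 0x2bcad826))
(.node (.leaf 0x1c30c55a)
(.leaf 0)))))
(.node (.node (.node (.node (.leaf 0x1c9024d)
(.leaf 0x214eedcc))
(.node (.leaf 0x11b4e88e)
(.leaf 0)))
(.node (.node (.leaf 0xa20a551)
(.leaf 0x2a2cd6c4))
(.node (.leaf 0x17feb07d)
(.leaf 0))))
(.node (.node (.node (.leaf 0x6270131)
(.leaf 0x2512cb0a))
(.node (.leaf 0x1616ebb6)
(.leaf 0)))
(.node (.node (.leaf 0xd2eb1db)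
(.leaf 0x2d2095b9))
(.node (.leaf 0x1deb095f)
(.leaf 0))))))
(.node (.node (.node (.node (.node (.leaf 0xa8e17b)
(.leaf 0x20ee6721))
(.node (.leaf 0x1038ce71)
(.leaf 0)))
(.node (.node (.leaf 0x932c86a)
(.leaf 0x28f2f4af))
(.node (.leaf 0x1758d26a)
(.leaf 0))))
(.node (.node (.node (.leaf 0x4f2a030)
(.leaf 0x2456eca3))
(.node (.leaf 0x142cc61f)
(.leaf 0)))
(.node (.node (.leaf 0xc910e2d)
(.leaf 0x2c3eb5d3))
(.node (.leaf 0x1ca6a973)
(.leaf 0)))))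
(.node (.node (.node (.node (.leaf 0x2450069)
(.leaf 0x222508e9))
(.node (.leaf 0x13170b72)
(.leaf 0)))
(.node (.node (.leaf 0xab0f3de)
(.leaf 0x2a8ab576))
(.node (.leaf 0x191cf117)
(.leaf 0))))
(.node (.node (.node (.leaf 0x72aa234)
(.leaf 0x26f4aa47))
(.node (.leaf 0x1658b004)
(.leaf 0)))
(.node (.node (.leaf 0xeaac983)
(.leaf 0x2ef6f5ff))
(.node (.leaf 0x1e3cc6c8)
(.leaf 0)))))))
(.node (.node (.node (.node (.node (.node (.leaf 0x4a6353)
(.leaf 0x2002a9de))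
(.node (.leaf 0xfbd1421)
(.leaf 0x30a2d7b4)))
(.node (.node (.leaf 0x8aae411)
(.leaf 1365))
(.node (.leaf 0x1706713d)
(.leaf 0))))
(.node (.node (.node (.leaf 0x4a482c0)
(.leaf 0x24190b12))
(.node (.leaf 0x13b0c87c)
(.leaf 0)))
(.node (.node (.leaf 0xc66f387)
(.leaf 0x2bf67630))
(.node (.leaf 0x1c6f0f70)
(.leaf 0)))))
(.node (.node (.node (.node (.leaf 0x1f6c2d8)
(.leaf 0x21a0cc17))
(.node (.leaf 0x127672fb)
(.leaf 0)))
(.node (.node (.leaf 0xa7e9129)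
(.leaf 0x2a5315c1))
(.node (.leaf 0x18807091)
(.leaf 0))))
(.node (.node (.node (.leaf 0x6a6e33d)
(.leaf 0x25f910a4))
(.node (.leaf 0x1634c7b5)
(.leaf 0)))
(.node (.node (.leaf 0xd84e89a)
(.leaf 0x2eb514e0))
(.node (.leaf 0x1e0e65d1)
(.leaf 0))))))
(.node (.node (.node (.node (.node (.leaf 0x1a482b3)
(.leaf 0x21190724))
(.node (.leaf 0x10a4ed37)
(.leaf 0)))
(.node (.node (.leaf 0x982e4e1)
(.leaf 0x29a6d4f9))
(.node (.leaf 0x17a0eb2b)
(.leaf 0))))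
(.node (.node (.node (.leaf 0x5870180)
(.leaf 0x24acb1e0))
(.node (.leaf 0x14cef14e)
(.leaf 0)))
(.node (.node (.leaf 0xcd10760)
(.leaf 0x2ca11743))
(.node (.leaf 0x1d6ce72a)
(.leaf 0)))))
(.node (.node (.node (.node (.leaf 0x29c81a9)
(.leaf 0x22eaecc0))
(.node (.leaf 0x1336701a)
(.leaf 0)))
(.node (.node (.leaf 0xb270d76)
(.leaf 0x2bacf5ce))
(.node (.leaf 0x19e30a19)
(.leaf 0))))
(.node (.node (.node (.leaf 0x74aa34e)
(.leaf 0x272eab45))
(.node (.leaf 0x1684aff8)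
(.leaf 0)))
(.node (.node (.leaf 0xf64e895)
(.leaf 0x2f92d6ee))
(.node (.leaf 0x1e90a5da)
(.leaf 0)))))))))
(.node (.node (.node (.node (.node (.node (.node (.node (.leaf 0x1e200e)
(.leaf 0x1ef2f3e3))
(.node (.leaf 0xf80af32)
(.leaf 0x2feeb740)))
(.node (.node (.leaf 0x778a449)
(.leaf 0x277eaf50))
(.node (.leaf 0x16b2a987)
(.leaf 0))))
(.node (.node (.node (.leaf 0x2fec3aa)
(.leaf 0x23e493fb))
(.node (.leaf 0x1356892c)
(.leaf 0)))
(.node (.node (.leaf 0xc04a581)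
(.leaf 0x2bc277a6))
(.node (.leaf 0x1c1507ee)
(.leaf 0)))))
(.node (.node (.node (.node (.leaf 0x1bea125)
(.leaf 0x2140ae89))
(.node (.leaf 0x115cebfc)
(.leaf 0)))
(.node (.node (.leaf 0xa12c554)
(.leaf 0x2a12d518))
(.node (.leaf 0x17e8ca5e)
(.leaf 0))))
(.node (.node (.node (.leaf 0x61f006b)
(.leaf 0x24ef12a0))
(.node (.leaf 0x16104654)
(.leaf 0)))
(.node (.node (.leaf 0xd1ac972)
(.leaf 0x2cef154f))
(.node (.leaf 0x1de2b2e3)
(.leaf 0))))))
(.node (.node (.node (.node (.node (.leaf 0x8f032f)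
(.leaf 0x20e50e8a))
(.node (.leaf 0x101ccbe4)
(.leaf 0x3115176b)))
(.node (.node (.leaf 0x91ee54e)
(.leaf 0x28e489a4))
(.node (.leaf 0x1746d206)
(.leaf 0))))
(.node (.node (.node (.leaf 0x4d0430b)
(.leaf 0x24407131))
(.node (.leaf 0x14110a29)
(.leaf 0)))
(.node (.node (.leaf 0xc84f363)
(.leaf 0x2c24b839))
(.node (.leaf 0x1c98c4dd)
(.leaf 0)))))
(.node (.node (.node (.node (.leaf 0x233014c)
(.leaf 0x21e8c8ee))
(.node (.leaf 0x1310664e)
(.leaf 0)))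
(.node (.node (.leaf 0xaa50d2a)
(.leaf 0x2a7a5572))
(.node (.leaf 0x18eec513)
(.leaf 0))))
(.node (.node (.node (.leaf 0x716e2b8)
(.leaf 0x26eae54c))
(.node (.leaf 0x164eedf1)
(.leaf 0)))
(.node (.node (.leaf 0xe3eef25)
(.leaf 0x2ee2973a))
(.node (.leaf 0x1e30e6ee)
(.leaf 0)))))))
(.node (.node (.node (.node (.node (.node (.leaf 0x3ea27b)
(.leaf 0x1f810d5a))
(.node (.leaf 0xfae6f81)
(.leaf 0x3098b665)))
(.node (.node (.leaf 0x854a387)
(.leaf 0x286eefd5))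
(.node (.leaf 0x16f6c61b)
(.leaf 0))))
(.node (.node (.node (.leaf 0x49e4034)
(.leaf 0x240e6ad1))
(.node (.leaf 0x1396ccb1)
(.leaf 0)))
(.node (.node (.leaf 0xc5eaeec)
(.leaf 0x2bec75c8))
(.node (.leaf 0x1c64490f)
(.leaf 0)))))
(.node (.node (.node (.node (.leaf 0x1eae37a)
(.leaf 0x218cc818))
(.node (.leaf 0x12624bcf)
(.leaf 0)))
(.node (.node (.leaf 0xa76cff3)
(.leaf 0x2a4697bb))
(.node (.leaf 0x18690ba5)
(.leaf 0))))
(.node (.node (.node (.leaf 0x698a095)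
(.leaf 0x25c6b0c9))
(.node (.leaf 0x162ae9d6)
(.leaf 0)))
(.node (.node (.leaf 0xd66cdb9)
(.leaf 0x2e1cf692))
(.node (.leaf 0x1e0508ae)
(.leaf 0))))))
(.node (.node (.node (.node (.node (.leaf 0x19e2022)
(.leaf 0x210c483e))
(.node (.leaf 0x108d0834)
(.leaf 0)))
(.node (.node (.leaf 0x96ec519)
(.leaf 0x299af53d))
(.node (.leaf 0x178e8bd1)
(.leaf 0))))
(.node (.node (.node (.leaf 0x5750221)
(.leaf 0x2496c69b))
(.node (.leaf 0x14ad0950)
(.leaf 0)))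
(.node (.node (.leaf 0xcbaadca)
(.leaf 0x2c8656ef))
(.node (.leaf 0x1d2ea733)
(.leaf 0)))))
(.node (.node (.node (.node (.leaf 0x28b0256)
(.leaf 0x2292ecfb))
(.node (.leaf 0x132acc1f)
(.leaf 0)))
(.node (.node (.leaf 0xb04ebef)
(.leaf 0x2b75154a))
(.node (.leaf 0x199eb1bf)
(.leaf 0))))
(.node (.node (.node (.leaf 0x742e2f6)
(.leaf 0x271ccab1))
(.node (.leaf 0x1674b4bf)
(.leaf 0)))
(.node (.node (.leaf 0xf5c92a4)
(.leaf 0x2f7c9672))
(.node (.leaf 0x1e730763)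
(.leaf 0))))))))
(.node (.node (.node (.node (.node (.node (.node (.leaf 0x2b0352)
(.leaf 0x1f20e9e3))
(.node (.leaf 0xf950d38)
(.leaf 0x3016f80f)))
(.node (.node (.leaf 0x79ee374)
(.leaf 0x2856ef34))
(.node (.leaf 0x16d6b23b)
(.leaf 0))))
(.node (.node (.node (.leaf 0x392c201)
(.leaf 0x23f8cebf))
(.node (.leaf 0x136ce64d)
(.leaf 0)))
(.node (.node (.leaf 0xc50e717)
(.leaf 0x2bd67584))
(.node (.leaf 0x1c56efc5)
(.leaf 0)))))
(.node (.node (.node (.node (.leaf 0x1d0a2b5)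
(.leaf 0x2162eb6c))
(.node (.leaf 0x1250eda5)
(.leaf 0)))
(.node (.node (.leaf 0xa38a56e)
(.leaf 0x2a3456f4))
(.node (.leaf 0x181ad2c6)
(.leaf 0))))
(.node (.node (.node (.leaf 0x63243ae)
(.leaf 0x25306bc5))
(.node (.leaf 0x161cadf8)
(.leaf 0)))
(.node (.node (.leaf 0xd42e85e)
(.leaf 0x2d4ef5b8))
(.node (.leaf 0x1df248e8)
(.leaf 0))))))
(.node (.node (.node (.node (.node (.leaf 0xcf0130)
(.leaf 0x20f4af6b))
(.node (.leaf 0x1056eb8c)
(.leaf 0)))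
(.node (.node (.leaf 0x952c4d0)
(.leaf 0x29170d30))
(.node (.leaf 0x176b098d)
(.leaf 0))))
(.node (.node (.node (.leaf 0x55ea18f)
(.leaf 0x246ca928))
(.node (.leaf 0x14464d5f)
(.leaf 0)))
(.node (.node (.leaf 0xc9c4c80)
(.leaf 0x2c5ad748))
(.node (.leaf 0x1cc66c35)
(.leaf 0)))))
(.node (.node (.node (.node (.leaf 0x25ec113)
(.leaf 0x224acccf))
(.node (.leaf 0x131ceb08)
(.leaf 0)))
(.node (.node (.leaf 0xac310f8)
(.leaf 0x2aaf1761))
(.node (.leaf 0x1952c9c7)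
(.leaf 0))))
(.node (.node (.node (.leaf 0x730e15a)
(.leaf 0x27031013))
(.node (.leaf 0x166051a3)
(.leaf 0)))
(.node (.node (.leaf 0xf50a809)
(.leaf 0x2f28d634))
(.node (.leaf 0x1e5106fb)
(.leaf 0)))))))
(.node (.node (.node (.node (.node (.node (.leaf 0x57027e)
(.leaf 0x20d6ec0e))
(.node (.leaf 0xfdf0801)
(.leaf 0x30baf837)))
(.node (.node (.leaf 0x8b5041a)
(.leaf 0x28c890ba))
(.node (.leaf 0x171b1490)
(.leaf 0))))
(.node (.node (.node (.leaf 0x4aec116)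
(.leaf 0x242066bd))
(.node (.leaf 0x13ca9381)
(.leaf 0)))
(.node (.node (.leaf 0xc704f6c)
(.leaf 0x2c02b646))
(.node (.leaf 0x1c7d0f44)
(.leaf 0)))))
(.node (.node (.node (.node (.leaf 0x2110027)
(.leaf 0x21bb0b8d))
(.node (.leaf 0x128e8c59)
(.leaf 0)))
(.node (.node (.leaf 0xa888d7b)
(.leaf 0x2a5d1557))
(.node (.leaf 0x18971078)
(.leaf 0))))
(.node (.node (.node (.leaf 0x6b9009b)
(.leaf 0x26d64d62))
(.node (.leaf 0x163c70e6)
(.leaf 0)))
(.node (.node (.leaf 0xda90be8)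
(.leaf 0x2ebcf5c4))
(.node (.leaf 0x1e1d1011)
(.leaf 0))))))
(.node (.node (.node (.node (.node (.leaf 0x1aac293)
(.leaf 0x21226ca5))
(.node (.leaf 0x10e6c586)
(.leaf 0)))
(.node (.node (.leaf 0x99cc7b9)
(.leaf 0x29bf159f))
(.node (.leaf 0x17becb1d)
(.leaf 0))))
(.node (.node (.node (.leaf 0x5a6a39f)
(.leaf 0x24c64c6c))
(.node (.leaf 0x152f0a21)
(.leaf 0)))
(.node (.node (.leaf 0xcecf354)
(.leaf 0x2cbad732))
(.node (.leaf 0x1dd68c6d)
(.leaf 0)))))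
(.node (.node (.node (.node (.leaf 0x2bae060)
(.leaf 0x23d6acf6))
(.node (.leaf 0x1340eb17)
(.leaf 0)))
(.node (.node (.leaf 0xb650bbc)
(.leaf 0x2bb4f643))
(.node (.leaf 0x1a36d42a)
(.leaf 0))))
(.node (.node (.node (.leaf 0x758645b)
(.leaf 0x2748f4ae))
(.node (.leaf 0x1692cbca)
(.leaf 0)))
(.node (.node (.leaf 0xf6af41f)
(.leaf 0x2fd6788c))
(.node (.leaf 0x1eaaec4f)
(.leaf 0))))))))))
(.node (.node (.node (.node (.node (.node (.node (.node (.node (.leaf 2)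
(.leaf 0x1ee2c977))
(.node (.leaf 0xf7ccfe0)
(.leaf 0x2fe71772)))
(.node (.node (.leaf 0x77063ba)
(.leaf 0x2772d19d))
(.node (.leaf 0x16a8b46d)
(.leaf 0))))
(.node (.node (.node (.leaf 0x2f4c1e8)
(.leaf 0x23e249d8))
(.node (.leaf 0x13530a39)
(.leaf 0)))
(.node (.node (.leaf 0xbfb05bc)
(.leaf 0x2bbed801))
(.node (.leaf 0x1c0ee570)
(.leaf 0)))))
(.node (.node (.node (.node (.leaf 0x1b861dc)
(.leaf 0x21390e1b))
(.node (.leaf 0x11390a8a)
(.leaf 0)))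
(.node (.node (.leaf 0xa0f04da)
(.leaf 0x2a031627))
(.node (.leaf 0x17dec787)
(.leaf 0))))
(.node (.node (.node (.leaf 0x5fae0d5)
(.leaf 0x24e2d36f))
(.node (.leaf 0x160e44f7)
(.leaf 0)))
(.node (.node (.leaf 0xd0f12fd)
(.leaf 0x2ce2d6d7))
(.node (.leaf 0x1ddeae30)
(.leaf 0))))))
(.node (.node (.node (.node (.node (.leaf 0x7ae087)
(.leaf 0x20e30533))
(.node (.leaf 0x10110e88)
(.leaf 0x310117c6)))
(.node (.node (.leaf 0x90ce579)
(.leaf 0x28dd0d10))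
(.node (.leaf 0x173aa8e1)
(.leaf 0))))
(.node (.node (.node (.leaf 0x4c68290)
(.leaf 0x2436f0b8))
(.node (.leaf 0x13fee95e)
(.leaf 0)))
(.node (.node (.leaf 0xc80aa6d)
(.leaf 0x2c1eb779))
(.node (.leaf 0x1c8d0eb0)
(.leaf 0)))))
(.node (.node (.node (.node (.leaf 0x226c2a8)
(.leaf 0x21dccc0b))
(.node (.leaf 0x130e64f6)
(.leaf 0)))
(.node (.node (.leaf 0xa9e67b3)
(.leaf 0x2a725687))
(.node (.leaf 0x18dec923)
(.leaf 0))))
(.node (.node (.node (.leaf 0x704a3af)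
(.leaf 0x26e31205))
(.node (.leaf 0x1649124d)
(.leaf 0)))
(.node (.node (.leaf 0xe1d04c7)
(.leaf 0x2ed6d6d8))
(.node (.leaf 0x1e2c658a)
(.leaf 0)))))))
(.node (.node (.node (.node (.node (.node (.leaf 0x3a8077)
(.leaf 0x1f65054a))
(.node (.leaf 0xfa8cca7)
(.leaf 0x3082b87f)))
(.node (.node (.leaf 0x83ac41f)
(.leaf 0x28648bba))
(.node (.leaf 0x16ef10fe)
(.leaf 0))))
(.node (.node (.node (.leaf 0x3dce152)
(.leaf 0x2408f3a9))
(.node (.leaf 0x138b064c)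
(.leaf 0)))
(.node (.node (.leaf 0xc5a8cee)
(.leaf 0x2be6b81c))
(.node (.leaf 0x1c626a32)
(.leaf 0)))))
(.node (.node (.node (.node (.leaf 0x1e6c075)
(.leaf 0x2180c84c))
(.node (.leaf 0x125cd144)
(.leaf 0)))
(.node (.node (.leaf 0xa72d376)
(.leaf 0x2a4055d1))
(.node (.leaf 0x1854d331)
(.leaf 0))))
(.node (.node (.node (.leaf 0x68703dd)
(.leaf 0x25a4c62b))
(.node (.leaf 0x1626b3f3)
(.leaf 0)))
(.node (.node (.leaf 0xd610a9b)
(.leaf 0x2dc11753))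
(.node (.leaf 0x1dff0c02)
(.leaf 0))))))
(.node (.node (.node (.node (.node (.leaf 0x122a332)
(.leaf 0x2106f47b))
(.node (.leaf 0x107ecf89)
(.leaf 0)))
(.node (.node (.leaf 0x964aaf7)
(.leaf 0x2986d54e))
(.node (.leaf 0x1786b2fa)
(.leaf 0))))
(.node (.node (.node (.leaf 0x56d0316)
(.leaf 0x248cf2b7))
(.node (.leaf 0x14850b85)
(.leaf 0)))
(.node (.node (.leaf 0xcb30f79)
(.leaf 0x2c7cd785))
(.node (.leaf 0x1d12e642)
(.leaf 0)))))
(.node (.node (.node (.node (.leaf 0x282e0b3)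
(.leaf 0x2276aff7))
(.node (.leaf 0x13271422)
(.leaf 0)))
(.node (.node (.leaf 0xaeeaddc)
(.leaf 0x2b0f17c2))
(.node (.leaf 0x198d057a)
(.leaf 0))))
(.node (.node (.node (.leaf 0x73b0423)
(.leaf 0x2712b21c))
(.node (.leaf 0x16704b35)
(.leaf 0)))
(.node (.node (.leaf 0xf5ac737)
(.leaf 0x2f7895af))
(.node (.leaf 0x1e6d0c08)
(.leaf 0))))))))
(.node (.node (.node (.node (.node (.node (.node (.leaf 0x26e436)
(.leaf 0x1f110fb7))
(.node (.leaf 0xf90e520)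
(.leaf 0x300ab773)))
(.node (.node (.leaf 0x789037e)
(.leaf 0x2822d1bd))
(.node (.leaf 0x16cf0a60)
(.leaf 0))))
(.node (.node (.node (.leaf 0x370c270)
(.leaf 0x23f2f109))
(.node (.leaf 0x1364ef95)
(.leaf 0)))
(.node (.node (.leaf 0xc4f053d)
(.leaf 0x2bd0f6c3))
(.node (.leaf 0x1c44e751)
(.leaf 0)))))
(.node (.node (.node (.node (.leaf 0x1cc8058)
(.leaf 0x21550a08))
(.node (.leaf 0x124e44f5)
(.leaf 0)))
(.node (.node (.leaf 0xa2ca48d)
(.leaf 0x2a3075c0))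
(.node (.leaf 0x180ec7d5)
(.leaf 0))))
(.node (.node (.node (.leaf 0x62ae372)
(.leaf 0x2522ca04))
(.node (.leaf 0x1618b3e7)
(.leaf 0)))
(.node (.node (.leaf 0xd38ee85)
(.leaf 0x2d34d86b))
(.node (.leaf 0x1deca8e0)
(.leaf 0))))))
(.node (.node (.node (.node (.node (.leaf 0xb90049)
(.leaf 0x20f307f7))
(.node (.leaf 0x1048d21e)
(.leaf 0)))
(.node (.node (.leaf 0x94f04c3)
(.leaf 0x29051271))
(.node (.leaf 0x1762e98f)
(.leaf 0))))
(.node (.node (.node (.leaf 0x522e291)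
(.leaf 0x2460b118))
(.node (.leaf 0x1438d26f)
(.leaf 0)))
(.node (.node (.leaf 0xc950fdb)
(.leaf 0x2c50f6d1))
(.node (.leaf 0x1cb10845)
(.leaf 0)))))
(.node (.node (.node (.node (.leaf 0x254a08d)
(.leaf 0x223aefac))
(.node (.leaf 0x131a8a3b)
(.leaf 0)))
(.node (.node (.leaf 0xab65221)
(.leaf 0x2a9b1853))
(.node (.leaf 0x193f10ae)
(.leaf 0))))
(.node (.node (.node (.leaf 0x72c63e1)
(.leaf 0x26fcb2dd))
(.node (.leaf 0x165c502b)
(.leaf 0)))
(.node (.node (.leaf 0xf4f05e9)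
(.leaf 0x2f0ed784))
(.node (.leaf 0x1e42b037)
(.leaf 0)))))))
(.node (.node (.node (.node (.node (.node (.leaf 0x50e2ab)
(.leaf 0x2050a625))
(.node (.leaf 0xfcef449)
(.leaf 0x30ad16bd)))
(.node (.node (.leaf 0x8af0452)
(.leaf 0x28c6eb2a))
(.node (.leaf 0x1710f267)
(.leaf 0))))
(.node (.node (.node (.leaf 0x4a881fc)
(.leaf 0x241ca63b))
(.node (.leaf 0x13baca15)
(.leaf 0)))
(.node (.node (.leaf 0xc6c4eee)
(.leaf 0x2bfaf6c1))
(.node (.leaf 0x1c78c6f0)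
(.leaf 0)))))
(.node (.node (.node (.node (.leaf 0x206c1bd)
(.leaf 0x21ad0917))
(.node (.leaf 0x1282a89e)
(.leaf 0)))
(.node (.node (.leaf 0xa82adec)
(.leaf 0x2a569816))
(.node (.leaf 0x188ad1ab)
(.leaf 0))))
(.node (.node (.node (.leaf 0x6aee42a)
(.leaf 0x26570d11))
(.node (.leaf 0x1638e886)
(.leaf 0)))
(.node (.node (.leaf 0xd96eee8)
(.leaf 0x2eb915e2))
(.node (.leaf 0x1e16a861)
(.leaf 0))))))
(.node (.node (.node (.node (.node (.leaf 0x1a6c2f1)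
(.leaf 0x211caa9a))
(.node (.leaf 0x10d4e847)
(.leaf 0)))
(.node (.node (.leaf 0x98ac685)
(.leaf 0x29b4b4cf))
(.node (.leaf 0x17aeb16a)
(.leaf 0))))
(.node (.node (.node (.leaf 0x58f01f5)
(.leaf 0x24b8e9d7))
(.node (.leaf 0x1506ed3b)
(.leaf 0)))
(.node (.node (.leaf 0xcdc4876)
(.leaf 0x2caad70d))
(.node (.leaf 0x1da4ee3f)
(.leaf 0)))))
(.node (.node (.node (.node (.leaf 0x2a8e1b7)
(.leaf 0x2386e59f))
(.node (.leaf 0x133c4727)
(.leaf 0)))
(.node (.node (.leaf 0xb3a725f)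
(.leaf 0x2bb07612))
(.node (.leaf 0x1a1cd031)
(.leaf 0))))
(.node (.node (.node (.leaf 0x74e4318)
(.leaf 0x273cad52))
(.node (.leaf 0x168cd061)
(.leaf 0)))
(.node (.node (.leaf 0xf68cc5e)
(.leaf 5398))
(.node (.leaf 0x1e9a53c1)
(.leaf 0)))))))))
(.node (.node (.node (.node (.node (.node (.node (.node (.leaf 0x20e34b)
(.leaf 0x1efd0e24))
(.node (.leaf 0xf84b31b)
(.leaf 0x2ff51829)))
(.node (.node (.leaf 0x77ee2c5)
(.leaf 0x2790f3e6))
(.node (.leaf 0x16bb14b7)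
(.leaf 0))))
(.node (.node (.node (.leaf 0x322e10a)
(.leaf 0x23eaca8d))
(.node (.leaf 0x135aefad)
(.leaf 0)))
(.node (.node (.leaf 0xc0d04b8)
(.leaf 0x2bc677b5))
(.node (.leaf 0x1c2ac69f)
(.leaf 0)))))
(.node (.node (.node (.node (.leaf 0x1c2e14d)
(.leaf 0x214690b7))
(.node (.leaf 0x118b0eb3)
(.leaf 0)))
(.node (.node (.leaf 0xa18a574)
(.leaf 0x2a2ab685))
(.node (.leaf 0x17f6efff)
(.leaf 0))))
(.node (.node (.node (.leaf 0x620e247)
(.leaf 0x2502d40e))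
(.node (.leaf 0x16128acb)
(.leaf 0)))
(.node (.node (.leaf 0xd24cb7b)
(.leaf 0x2d04b5a2))
(.node (.leaf 0x1de68f4c)
(.leaf 0))))))
(.node (.node (.node (.node (.node (.leaf 0x9aa021)
(.leaf 0x20e86894))
(.node (.leaf 0x1028c58f)
(.leaf 0x3128f896)))
(.node (.node (.leaf 0x924e571)
(.leaf 0x28eac7e2))
(.node (.leaf 0x174eaa81)
(.leaf 0))))
(.node (.node (.node (.leaf 0x4e081e1)
(.leaf 0x244b14bb))
(.node (.leaf 0x1420c638)
(.leaf 0)))
(.node (.node (.leaf 0xc8b073f)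
(.leaf 0x2c36f616))
(.node (.leaf 0x1ca06eeb)
(.leaf 0)))))
(.node (.node (.node (.node (.leaf 0x23cc0a6)
(.leaf 0x21fceb89))
(.node (.leaf 0x1312cf38)
(.leaf 0)))
(.node (.node (.leaf 0xaa8a79e)
(.leaf 0x2a8057c0))
(.node (.leaf 0x1902f2bc)
(.leaf 0))))
(.node (.node (.node (.leaf 0x72663eb)
(.leaf 0x26ef1202))
(.node (.leaf 0x1654c525)
(.leaf 0)))
(.node (.node (.leaf 0xe92edd0)
(.leaf 0x2eeb1530))
(.node (.leaf 0x1e36e701)
(.leaf 0)))))))
(.node (.node (.node (.node (.node (.node (.leaf 0x4440f7)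
(.leaf 0x1f94f281))
(.node (.leaf 0xfb25244)
(.leaf 0x309c986a)))
(.node (.node (.leaf 0x8a70428)
(.leaf 0x287e6aba))
(.node (.leaf 0x16fcb3ce)
(.leaf 0))))
(.node (.node (.node (.leaf 0x4a08249)
(.leaf 0x24128e04))
(.node (.leaf 0x13a8a553)
(.leaf 0)))
(.node (.node (.leaf 0xc624c57)
(.leaf 0x2bf096a5))
(.node (.leaf 0x1c6a6528)
(.leaf 0)))))
(.node (.node (.node (.node (.leaf 0x1f04147)
(.leaf 0x2194e8eb))
(.node (.leaf 0x126aaa6b)
(.leaf 0)))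
(.node (.node (.leaf 0xa7aaf8b)
(.leaf 0x2a4cf7c3))
(.node (.leaf 0x18750f83)
(.leaf 0))))
(.node (.node (.node (.leaf 0x69ce3d9)
(.leaf 0x25e2d485))
(.node (.leaf 0x162ef403)
(.leaf 0)))
(.node (.node (.leaf 0xd6ef1dd)
(.leaf 5342))
(.node (.leaf 0x1e084e27)
(.leaf 0))))))
(.node (.node (.node (.node (.node (.leaf 0x1a0a242)
(.leaf 0x21104b23))
(.node (.leaf 0x1096c6fe)
(.leaf 0)))
(.node (.node (.leaf 0x976e5a5)
(.leaf 0x299ef598))
(.node (.leaf 0x1794655d)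
(.leaf 0))))
(.node (.node (.node (.leaf 0x57cc3b3)
(.leaf 0x249ecded))
(.node (.leaf 0x14b9093c)
(.leaf 0)))
(.node (.node (.leaf 0xcc710ca)
(.leaf 0x2c92d536))
(.node (.leaf 0x1d3f0f7f)
(.leaf 0)))))
(.node (.node (.node (.node (.leaf 0x2944076)
(.leaf 0x22a6efb8))
(.node (.leaf 0x1330b471)
(.leaf 0)))
(.node (.node (.leaf 0xb190672)
(.leaf 0x2baab5e9))
(.node (.leaf 0x19aef481)
(.leaf 0))))
(.node (.node (.node (.leaf 0x74683a6)
(.leaf 0x2726b1f2))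
(.node (.leaf 0x167af1e8)
(.leaf 0)))
(.node (.node (.leaf 0xf60eca4)
(.leaf 0x2f82f5d8))
(.node (.leaf 0x1e7d052a)
(.leaf 0))))))))
(.node (.node (.node (.node (.node (.node (.node (.leaf 0x2e42c2)
(.leaf 0x1f370c22))
(.node (.leaf 0xf9aeee1)
(.leaf 0x30327868)))
(.node (.node (.leaf 0x7bd0370)
(.leaf 0x285af236))
(.node (.leaf 0x16df11a6)
(.leaf 0))))
(.node (.node (.node (.leaf 0x3acc108)
(.leaf 0x23feabcd))
(.node (.leaf 0x13728512)
(.leaf 0)))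
(.node (.node (.leaf 0xc550704)
(.leaf 0x2bdd17ce))
(.node (.leaf 0x1c5b0a7b)
(.leaf 0)))))
(.node (.node (.node (.node (.leaf 0x1d70196)
(.leaf 0x216aab74))
(.node (.leaf 0x1254ad8c)
(.leaf 0)))
(.node (.node (.leaf 0xa6e4930)
(.leaf 0x2a38b81b))
(.node (.leaf 0x1830d4b1)
(.leaf 0))))
(.node (.node (.node (.leaf 0x63d02c1)
(.leaf 0x25550955))
(.node (.leaf 0x1620c9ca)
(.leaf 0)))
(.node (.node (.leaf 0xd4ece5a)
(.leaf 0x2d7eb6f0))
(.node (.leaf 0x1df6e669)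
(.leaf 0))))))
(.node (.node (.node (.node (.node (.leaf 0xe6e414)
(.leaf 0x20faf280))
(.node (.leaf 0x1060cb6f)
(.leaf 0)))
(.node (.node (.leaf 0x958c4bb)
(.leaf 0x2932e96e))
(.node (.leaf 0x17764936)
(.leaf 0))))
(.node (.node (.node (.leaf 0x563013b)
(.leaf 0x2474b203))
(.node (.leaf 0x144f10e4)
(.leaf 0)))
(.node (.node (.leaf 0xc9eefda)
(.leaf 0x2c68d75d))
(.node (.leaf 0x1cdae761)
(.leaf 0)))))
(.node (.node (.node (.node (.leaf 0x268c294)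
(.leaf 0x225ac91a))
(.node (.leaf 0x1320c50e)
(.leaf 0)))
(.node (.node (.leaf 0xad2e649)
(.leaf 0x2ac4d66f))
(.node (.leaf 0x196cd17c)
(.leaf 0))))
(.node (.node (.node (.leaf 0x732a476)
(.leaf 0x2708b273))
(.node (.leaf 0x16671035)
(.leaf 0)))
(.node (.node (.leaf 0xf52af76)
(.leaf 5377))
(.node (.leaf 0x1e5ad40a)
(.leaf 0)))))))
(.node (.node (.node (.node (.node (.node (.leaf 0x60c16e)
(.leaf 0x20daa7f5))
(.node (.leaf 0xfe70723)
(.leaf 0x30d117ef)))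
(.node (.node (.leaf 0x8ca4367)
(.leaf 0x28ccc9b3))
(.node (.leaf 0x172706e6)
(.leaf 0))))
(.node (.node (.node (.leaf 0x4b4610f)
(.leaf 0x24268d43))
(.node (.leaf 0x13eaf032)
(.leaf 0)))
(.node (.node (.leaf 0xc74e990)
(.leaf 0x2c06b809))
(.node (.leaf 0x1c82ca9f)
(.leaf 0)))))
(.node (.node (.node (.node (.leaf 0x21900ec)
(.leaf 0x21c512a2))
(.node (.leaf 0x12a0d3b5)
(.leaf 0)))
(.node (.node (.leaf 0xa8d1492)
(.leaf 0x2a647808))
(.node (.leaf 0x18a4e69a)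
(.leaf 0))))
(.node (.node (.node (.leaf 0x6cee33a)
(.leaf 0x26daf497))
(.node (.leaf 0x1640abb1)
(.leaf 0)))
(.node (.node (.leaf 0xdb6ab8e)
(.leaf 0x2ec11715))
(.node (.leaf 0x1e22cb7f)
(.leaf 0))))))
(.node (.node (.node (.node (.node (.leaf 0x1af02d7)
(.leaf 0x21269402))
(.node (.leaf 0x10f6e815)
(.leaf 0)))
(.node (.node (.leaf 0x9c0e92b)
(.leaf 0x29ded50c))
(.node (.leaf 0x17c8f104)
(.leaf 0))))
(.node (.node (.node (.leaf 0x5c0c215)
(.leaf 0x24ce6956))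
(.node (.leaf 0x1550ed41)
(.leaf 0)))
(.node (.node (.leaf 0xcf7070b)
(.leaf 0x2cc4d63f))
(.node (.leaf 0x1dd8af4b)
(.leaf 0)))))
(.node (.node (.node (.node (.leaf 0x2d4a342)
(.leaf 0x23db0647))
(.node (.leaf 0x13484d53)
(.leaf 0)))
(.node (.node (.leaf 0xbee64a9)
(.leaf 0x2bb8961d))
(.node (.leaf 0x1a98ea5b)
(.leaf 0))))
(.node (.node (.node (.leaf 0x762a350)
(.leaf 0x275a5222))
(.node (.leaf 0x169a6bcc)
(.leaf 0)))
(.node (.node (.leaf 0xf711306)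
(.leaf 0x2fdad89d))
(.node (.leaf 0x1ec2a4db)
(.leaf 0)))))))))))
(.node (.node (.node (.node (.node (.node (.node (.node (.node (.node (.leaf 458767)
(.leaf 0x1ed4943c))
(.node (.leaf 0xf7ac71d)
(.leaf 0x2fe2f881)))
(.node (.node (.leaf 0x76f0441)
(.leaf 0x276d1209))
(.node (.leaf 0x16a6a940)
(.leaf 0))))
(.node (.node (.node (.leaf 0x2ecc1ab)
(.leaf 0x23deb3b6))
(.node (.leaf 0x134ef278)
(.leaf 0)))
(.node (.node (.leaf 0xbf70518)
(.leaf 0x2bbcf79f))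
(.node (.leaf 0x1bb8caab)
(.leaf 0)))))
(.node (.node (.node (.node (.leaf 0x1b6422a)
(.leaf 0x2132a5db))
(.node (.leaf 0x1128930b)
(.leaf 0)))
(.node (.node (.leaf 0x9dee61e)
(.leaf 0x2a00d4f6))
(.node (.leaf 0x17d4f08f)
(.leaf 0))))
(.node (.node (.node (.leaf 0x5cea32e)
(.leaf 0x24dce600))
(.node (.leaf 0x158b129f)
(.leaf 0)))
(.node (.node (.leaf 0xd0708bf)
(.leaf 0x2cdc74f1))
(.node (.leaf 0x1ddec81d)
(.leaf 0))))))
(.node (.node (.node (.node (.node (.leaf 0x6c6319)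
(.leaf 0x20df10f6))
(.node (.leaf 0x1004d450)
(.leaf 0x30fcf893)))
(.node (.node (.leaf 0x906e4be)
(.leaf 0x28d8f3ad))
(.node (.leaf 0x1736eb9a)
(.leaf 0))))
(.node (.node (.node (.leaf 0x4bf0435)
(.leaf 0x2434b10e))
(.node (.leaf 0x13f8b3c8)
(.leaf 0)))
(.node (.node (.leaf 0xc7cd0ee)
(.leaf 0x2c1915cb))
(.node (.leaf 0x1c8aa58b)
(.leaf 0)))))
(.node (.node (.node (.node (.leaf 0x222e25c)
(.leaf 0x21d30ec0))
(.node (.leaf 0x12df0d47)
(.leaf 0)))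
(.node (.node (.leaf 0xa970d3f)
(.leaf 0x2a70d597))
(.node (.leaf 0x18d513fc)
(.leaf 0))))
(.node (.node (.node (.leaf 0x6fd0461)
(.leaf 0x26e113ed))
(.node (.leaf 0x1646ef40)
(.leaf 0)))
(.node (.node (.leaf 0xe110e9f)
(.leaf 0x2ed2f5e6))
(.node (.leaf 0x1e28b2fe)
(.leaf 0)))))))
(.node (.node (.node (.node (.node (.node (.leaf 0x38816c)
(.leaf 0x1f5ac6fc))
(.node (.leaf 0xfa5071b)
(.leaf 0x3050d872)))
(.node (.node (.leaf 0x80ac456)
(.leaf 0x286292e6))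
(.node (.leaf 0x16ecb059)
(.leaf 0))))
(.node (.node (.node (.leaf 0x3d26446)
(.leaf 0x2404727d))
(.node (.leaf 0x1386a78e)
(.leaf 0)))
(.node (.node (.leaf 0xc5ac5a8)
(.leaf 0x2be495f4))
(.node (.leaf 0x1c5eef85)
(.leaf 0)))))
(.node (.node (.node (.node (.leaf 0x1e4e184)
(.leaf 0x217ca900))
(.node (.leaf 0x125ad0bd)
(.leaf 0)))
(.node (.node (.leaf 0xa72a7ad)
(.leaf 0x2a3f153f))
(.node (.leaf 0x1848ecf7)
(.leaf 0))))
(.node (.node (.node (.leaf 0x683021e)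
(.leaf 0x259ee7ba))
(.node (.leaf 0x1626c7ae)
(.leaf 0)))
(.node (.node (.leaf 0xd5caf03)
(.leaf 0x2daef56e))
(.node (.leaf 0x1dfcedd2)
(.leaf 0))))))
(.node (.node (.node (.node (.node (.leaf 0x106e1e7)
(.leaf 0x21030e75))
(.node (.leaf 0x107ae890)
(.leaf 0)))
(.node (.node (.leaf 0x96104e0)
(.leaf 0x2982d663))
(.node (.leaf 0x1782b136)
(.leaf 0))))
(.node (.node (.node (.leaf 0x568a237)
(.leaf 0x2484a94a))
(.node (.leaf 0x146cf150)
(.leaf 0)))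
(.node (.node (.leaf 0xcb0ecba)
(.leaf 0x2c78f5b5))
(.node (.leaf 0x1d06a762)
(.leaf 0)))))
(.node (.node (.node (.node (.leaf 0x27ec141)
(.leaf 0x226ee807))
(.node (.leaf 0x1326c9cf)
(.leaf 0)))
(.node (.node (.leaf 0xae8f176)
(.leaf 0x2b02d5ae))
(.node (.leaf 0x198507d7)
(.leaf 0))))
(.node (.node (.node (.leaf 0x738e284)
(.leaf 0x27109391))
(.node (.leaf 0x166f0e9a)
(.leaf 0)))
(.node (.node (.leaf 0xf590e13)
(.leaf 0x2f76d58d))
(.node (.leaf 0x1e66f406)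
(.leaf 0))))))))
(.node (.node (.node (.node (.node (.node (.node (.leaf 0x2700ca)
(.leaf 0x1f084efc))
(.node (.leaf 0xf8cce80)
(.leaf 0x3006f7b7)))
(.node (.node (.leaf 0x784c469)
(.leaf 0x27bb13ab))
(.node (.leaf 0x16c8f0c7)
(.leaf 0))))
(.node (.node (.node (.leaf 0x35ca29d)
(.leaf 0x23f0926e))
(.node (.leaf 0x13630d88)
(.leaf 0)))
(.node (.node (.leaf 0xc30e4ca)
(.leaf 0x2bcf15dc))
(.node (.leaf 0x1c38c753)
(.leaf 0)))))
(.node (.node (.node (.node (.leaf 0x1c8639b)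
(.leaf 0x215265be))
(.node (.leaf 0x11c8efa1)
(.leaf 0)))
(.node (.node (.leaf 0xa24a7c0)
(.leaf 0x2a2eb563))
(.node (.leaf 0x1802d445)
(.leaf 0))))
(.node (.node (.node (.leaf 0x628830d)
(.leaf 0x25171157))
(.node (.leaf 0x1618677d)
(.leaf 0)))
(.node (.node (.leaf 0xd34ccf3)
(.leaf 0x2d2ad6be))
(.node (.leaf 0x1dec8590)
(.leaf 0))))))
(.node (.node (.node (.node (.node (.leaf 0xaf022f)
(.leaf 0x20f046f4))
(.node (.leaf 0x103e5429)
(.leaf 0)))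
(.node (.node (.leaf 0x944e889)
(.leaf 0x28f8f48e))
(.node (.leaf 0x175ed124)
(.leaf 0))))
(.node (.node (.node (.leaf 0x514e3f7)
(.leaf 0x245eb119))
(.node (.leaf 0x1432a797)
(.leaf 0)))
(.node (.node (.leaf 0xc930e50)
(.leaf 0x2c46b84e))
(.node (.leaf 0x1ca888af)
(.leaf 0)))))
(.node (.node (.node (.node (.leaf 0x24b01b0)
(.leaf 0x222b08ad))
(.node (.leaf 0x1318cd44)
(.leaf 0)))
(.node (.node (.leaf 0xab2f49a)
(.leaf 0x2a9315df))
(.node (.leaf 0x193aa679)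
(.leaf 0))))
(.node (.node (.node (.leaf 0x72a8388)
(.leaf 0x26f9148f))
(.node (.leaf 0x165ab33a)
(.leaf 0)))
(.node (.node (.leaf 0xee2ebdc)
(.leaf 0x2f031620))
(.node (.leaf 0x1e3eefdc)
(.leaf 0)))))))
(.node (.node (.node (.node (.node (.node (.leaf 0x4ee0fb)
(.leaf 0x202ab322))
(.node (.leaf 0xfc508d2)
(.leaf 0x30a71851)))
(.node (.node (.leaf 0x8ace375)
(.leaf 0x28c2478b))
(.node (.leaf 0x170cea66)
(.leaf 0))))
(.node (.node (.node (.leaf 0x4a66320)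
(.leaf 0x24185346))
(.node (.leaf 0x13b6e981)
(.leaf 0)))
(.node (.node (.leaf 0xc6ace73)
(.leaf 0x2bf8d605))
(.node (.leaf 0x1c72b386)
(.leaf 0)))))
(.node (.node (.node (.node (.leaf 0x202c065)
(.leaf 0x21a6e918))
(.node (.leaf 0x127c4f9e)
(.leaf 0)))
(.node (.node (.leaf 0xa80ad8e)
(.leaf 0x2a54b734))
(.node (.leaf 0x18870d64)
(.leaf 0))))
(.node (.node (.node (.leaf 0x6ace05b)
(.leaf 0x26190996))
(.node (.leaf 0x163709ac)
(.leaf 0)))
(.node (.node (.leaf 0xd92eefb)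
(.leaf 0x2eb477a0))
(.node (.leaf 0x1e12c914)
(.leaf 0))))))
(.node (.node (.node (.node (.node (.leaf 0x1a70037)
(.leaf 0x211ac9b8))
(.node (.leaf 0x10bed370)
(.leaf 0)))
(.node (.node (.leaf 0x988a493)
(.leaf 0x29aad4ff))
(.node (.leaf 0x17a707bd)
(.leaf 0))))
(.node (.node (.node (.leaf 0x58ac07f)
(.leaf 0x24b4b1d0))
(.node (.leaf 0x14f0c7af)
(.leaf 0)))
(.node (.node (.leaf 0xcd86d6a)
(.leaf 0x2ca316f2))
(.node (.leaf 0x1d82f417)
(.leaf 0)))))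
(.node (.node (.node (.node (.leaf 0x2a2a28c)
(.leaf 0x2322e74c))
(.node (.leaf 0x1338ea3d)
(.leaf 0)))
(.node (.node (.leaf 0xb2e6938)
(.leaf 0x2baeb50b))
(.node (.leaf 0x1a0cf2b9)
(.leaf 0))))
(.node (.node (.node (.leaf 0x74ce3c7)
(.leaf 0x2732cfe8))
(.node (.leaf 0x16890f98)
(.leaf 0)))
(.node (.node (.leaf 0xf6707cb)
(.leaf 0x2f9855bb))
(.node (.leaf 0x1e970c0f)
(.leaf 0)))))))))
(.node (.node (.node (.node (.node (.node (.node (.node (.leaf 0x1e619c)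
(.leaf 0x1ef8ed08))
(.node (.leaf 0xf8311d6)
(.leaf 0x2ff11820)))
(.node (.node (.leaf 0x77ae3d0)
(.leaf 0x2782d351))
(.node (.leaf 0x16b6b0a0)
(.leaf 0))))
(.node (.node (.node (.leaf 0x31101fa)
(.leaf 0x23e90960))
(.node (.leaf 0x1358b171)
(.leaf 0)))
(.node (.node (.leaf 0xc08e765)
(.leaf 0x2bc6960b))
(.node (.leaf 0x1c270521)
(.leaf 0)))))
(.node (.node (.node (.node (.leaf 0x1bf031d)
(.leaf 0x214488ab))
(.node (.leaf 0x116e4891)
(.leaf 0)))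
(.node (.node (.leaf 0xa16c545)
(.leaf 5320))
(.node (.leaf 0x17ecf27e)
(.leaf 0))))
(.node (.node (.node (.leaf 0x61e83fd)
(.leaf 0x24f8a60e))
(.node (.leaf 0x1610aef0)
(.leaf 0)))
(.node (.node (.leaf 0xd20e79c)
(.leaf 0x2cf4b6db))
(.node (.leaf 0x1de48b83)
(.leaf 0))))))
(.node (.node (.node (.node (.node (.leaf 0x946223)
(.leaf 0x20e66e8b))
(.node (.leaf 0x10250774)
(.leaf 0x312717ee)))
(.node (.node (.leaf 0x920c494)
(.leaf 0x28e6b476))
(.node (.leaf 0x174ae943)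
(.leaf 0))))
(.node (.node (.node (.leaf 0x4daa0c1)
(.leaf 0x244708d0))
(.node (.leaf 0x1416f17e)
(.leaf 0)))
(.node (.node (.leaf 0xc88ab7a)
(.leaf 0x2c29162a))
(.node (.leaf 0x1c9cabbf)
(.leaf 0)))))
(.node (.node (.node (.node (.leaf 0x236a2e6)
(.leaf 0x21ec682f))
(.node (.leaf 0x1310914c)
(.leaf 0)))
(.node (.node (.leaf 0xaa672dc)
(.leaf 0x2a7eb580))
(.node (.leaf 0x18f4f1ee)
(.leaf 0))))
(.node (.node (.node (.leaf 0x72621d8)
(.leaf 0x26ec701b))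
(.node (.leaf 0x1652e5fa)
(.leaf 0)))
(.node (.node (.leaf 0xe60ee6a)
(.leaf 0x2ee71618))
(.node (.leaf 0x1e330e49)
(.leaf 0)))))))
(.node (.node (.node (.node (.node (.node (.leaf 0x40c35b)
(.leaf 0x1f8aac3b))
(.node (.leaf 0xfb0f29c)
(.leaf 0x309ab76e)))
(.node (.node (.leaf 0x8a68248)
(.leaf 0x28724ac5))
(.node (.leaf 0x16f85000)
(.leaf 0))))
(.node (.node (.node (.leaf 0x49e83c1)
(.leaf 0x24110c9f))
(.node (.leaf 0x13a3078c)
(.leaf 0)))
(.node (.node (.leaf 0xc6111d9)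
(.leaf 0x2bee75c7))
(.node (.leaf 0x1c690735)
(.leaf 0)))))
(.node (.node (.node (.node (.leaf 0x1ece102)
(.leaf 0x2190ca5a))
(.node (.leaf 0x12689087)
(.leaf 0)))
(.node (.node (.leaf 0xa7867b2)
(.leaf 0x2a4a9512))
(.node (.leaf 0x186f09b9)
(.leaf 0))))
(.node (.node (.node (.leaf 0x69ae198)
(.leaf 0x25dad15c))
(.node (.leaf 0x162cd0fa)
(.leaf 0)))
(.node (.node (.leaf 0xd684ed2)
(.leaf 5335))
(.node (.leaf 0x1e06a9c9)
(.leaf 0))))))
(.node (.node (.node (.node (.node (.leaf 0x19e620b)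
(.leaf 0x210ef2a5))
(.node (.leaf 0x1092f1c9)
(.leaf 0)))
(.node (.node (.leaf 0x970a699)
(.leaf 0x299cf4ea))
(.node (.leaf 0x1790d2e9)
(.leaf 0))))
(.node (.node (.node (.leaf 0x5790210)
(.leaf 0x249aafbc))
(.node (.leaf 0x14b25272)
(.leaf 0)))
(.node (.node (.leaf 0xcc2a6ca)
(.leaf 0x2c8ad7e6))
(.node (.leaf 0x1d36ec7e)
(.leaf 0)))))
(.node (.node (.node (.node (.leaf 0x290c299)
(.leaf 0x229d1405))
(.node (.leaf 0x132f10fc)
(.leaf 0)))
(.node (.node (.leaf 0xb0ac7e5)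
(.leaf 5325))
(.node (.leaf 0x19a6f03f)
(.leaf 0))))
(.node (.node (.node (.leaf 0x744a366)
(.leaf 0x2720c6ae))
(.node (.leaf 0x1678ad25)
(.leaf 0)))
(.node (.node (.leaf 0xf5ece72)
(.leaf 0x2f80d51a))
(.node (.leaf 0x1e76ea87)
(.leaf 0))))))))
(.node (.node (.node (.node (.node (.node (.node (.leaf 0x2c626e)
(.leaf 0x1f28ebb9))
(.node (.leaf 0xf96c954)
(.leaf 0x3024b897)))
(.node (.node (.leaf 0x7ae643c)
(.leaf 0x2858eba9))
(.node (.leaf 0x16daca71)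
(.leaf 0))))
(.node (.node (.node (.leaf 0x39cc269)
(.leaf 0x23facef7))
(.node (.leaf 0x136ed240)
(.leaf 0)))
(.node (.node (.leaf 0xc526593)
(.leaf 0x2bdaf561))
(.node (.leaf 0x1c584828)
(.leaf 0)))))
(.node (.node (.node (.node (.leaf 0x1d2e2a6)
(.leaf 0x2166f375))
(.node (.leaf 0x1252ed80)
(.leaf 0)))
(.node (.node (.leaf 0xa52c76e)
(.leaf 0x2a371818))
(.node (.leaf 0x1822f274)
(.leaf 0))))
(.node (.node (.node (.leaf 0x638839a)
(.leaf 0x2544b160))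
(.node (.leaf 0x161ecbd2)
(.leaf 0)))
(.node (.node (.leaf 0xd47134a)
(.leaf 0x2d70b6bc))
(.node (.leaf 0x1df46817)
(.leaf 0))))))
(.node (.node (.node (.node (.node (.leaf 0xd7013d)
(.leaf 0x20f90e26))
(.node (.leaf 0x105c6c99)
(.leaf 0)))
(.node (.node (.leaf 0x954c68c)
(.leaf 0x2920f3bf))
(.node (.leaf 0x1770add9)
(.leaf 0))))
(.node (.node (.node (.leaf 0x560a0dc)
(.leaf 0x2470b28c))
(.node (.leaf 0x144a716e)
(.leaf 0)))
(.node (.node (.leaf 0xc9d129e)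
(.leaf 0x2c60b736))
(.node (.leaf 0x1ccea70c)
(.leaf 0)))))
(.node (.node (.node (.node (.leaf 0x262c157)
(.leaf 0x2256c72d))
(.node (.leaf 0x131e8c76)
(.leaf 0)))
(.node (.node (.leaf 0xacaf1f8)
(.leaf 0x2abb161e))
(.node (.leaf 0x1958f46f)
(.leaf 0))))
(.node (.node (.node (.leaf 0x73083f2)
(.leaf 0x2706aa1b))
(.node (.leaf 0x1664c98e)
(.leaf 0)))
(.node (.node (.leaf 0xf506cd0)
(.leaf 0x2f3cd737))
(.node (.leaf 0x1e570d03)
(.leaf 0)))))))
(.node (.node (.node (.node (.node (.node (.leaf 0x5a61f0)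
(.leaf 0x20d84803))
(.node (.leaf 0xfe30f64)
(.leaf 0x30c0b827)))
(.node (.node (.leaf 0x8c6c37c)
(.leaf 0x28ca918a))
(.node (.leaf 0x171f11f1)
(.leaf 0))))
(.node (.node (.node (.leaf 0x4b08420)
(.leaf 0x2422f18f))
(.node (.leaf 0x13ded003)
(.leaf 0)))
(.node (.node (.leaf 0xc726f3b)
(.leaf 0x2c04b7ab))
(.node (.leaf 0x1c7eac38)
(.leaf 0)))))
(.node (.node (.node (.node (.leaf 0x216c041)
(.leaf 0x21bec8a5))
(.node (.leaf 0x129d0789)
(.leaf 0)))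
(.node (.node (.leaf 0xa8aeed6)
(.leaf 0x2a60f57f))
(.node (.leaf 0x189c46b1)
(.leaf 0))))
(.node (.node (.node (.leaf 0x6caa0de)
(.leaf 0x26d84e06))
(.node (.leaf 0x163eac11)
(.leaf 0)))
(.node (.node (.leaf 0xdb0cf66)
(.leaf 0x2ebed585))
(.node (.leaf 0x1e20acce)
(.leaf 0))))))
(.node (.node (.node (.node (.node (.leaf 0x1ac43ef)
(.leaf 0x2124c87b))
(.node (.leaf 0x10f08cc7)
(.leaf 0)))
(.node (.node (.leaf 0x9a8e506)
(.leaf 0x29ccd4fa))
(.node (.leaf 0x17c308a9)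
(.leaf 0))))
(.node (.node (.node (.leaf 0x5b0c039)
(.leaf 0x24c90a1a))
(.node (.leaf 0x1538d49f)
(.leaf 0)))
(.node (.node (.leaf 0xcf2ae4d)
(.leaf 0x2cbef5d2))
(.node (.leaf 0x1dd86594)
(.leaf 0)))))
(.node (.node (.node (.node (.leaf 0x2c0c2be)
(.leaf 0x23d86fbf))
(.node (.leaf 0x13468ad2)
(.leaf 0)))
(.node (.node (.leaf 0xb74b060)
(.leaf 0x2bb69588))
(.node (.leaf 0x1a46f200)
(.leaf 0))))
(.node (.node (.node (.leaf 0x75f03b0)
(.leaf 0x2754f3f5))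
(.node (.leaf 0x1696d173)
(.leaf 0)))
(.node (.node (.leaf 0xf6e46c0)
(.leaf 0x2fd8f7fb))
(.node (.leaf 0x1ebaaf61)
(.leaf 0))))))))))
(.node (.node (.node (.node (.node (.node (.node (.node (.node (.leaf 0x16a01a)
(.leaf 0x1eeb0ccd))
(.node (.leaf 0xf7ea725)
(.leaf 0x2fe8b7df)))
(.node (.node (.leaf 0x774641e)
(.leaf 0x277af0d9))
(.node (.leaf 0x16af0ae3)
(.leaf 0))))
(.node (.node (.node (.leaf 0x2f8c2cc)
(.leaf 0x23e2d440))
(.node (.leaf 0x13548d85)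
(.leaf 0)))
(.node (.node (.leaf 0xc00c5b0)
(.leaf 0x2bc2d647))
(.node (.leaf 0x1c10c578)
(.leaf 0)))))
(.node (.node (.node (.node (.leaf 0x1bb03fe)
(.leaf 0x213eccde))
(.node (.leaf 0x11486e70)
(.leaf 0)))
(.node (.node (.leaf 0xa110498)
(.leaf 0x2a0cf4e6))
(.node (.leaf 0x17e0b27a)
(.leaf 0))))
(.node (.node (.node (.leaf 0x602c3d1)
(.leaf 0x24eb0832))
(.node (.leaf 0x160e8e0d)
(.leaf 0)))
(.node (.node (.leaf 0xd150b02)
(.leaf 0x2ce8f632))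
(.node (.leaf 0x1de0f40b)
(.leaf 0))))))
(.node (.node (.node (.node (.node (.leaf 0x84e41d)
(.leaf 0x20e2adb1))
(.node (.leaf 0x1016ef2f)
(.leaf 0x310d182a)))
(.node (.node (.leaf 0x914c4fb)
(.leaf 0x28e10d3e))
(.node (.leaf 0x173ec99c)
(.leaf 0))))
(.node (.node (.node (.leaf 0x4ccc44e)
(.leaf 0x243e6a3a))
(.node (.leaf 0x140ad01c)
(.leaf 0)))
(.node (.node (.leaf 0xc83131e)
(.leaf 0x2c22d631))
(.node (.leaf 0x1c90e7ff)
(.leaf 0)))))
(.node (.node (.node (.node (.leaf 0x22ca295)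
(.leaf 0x21e10c0c))
(.node (.leaf 0x130e5065)
(.leaf 0)))
(.node (.node (.leaf 0xaa113c3)
(.leaf 0x2a76d810))
(.node (.leaf 0x18e2d38d)
(.leaf 0))))
(.node (.node (.node (.leaf 0x70ea0e1)
(.leaf 0x26e472e7))
(.node (.leaf 0x164ad491)
(.leaf 0)))
(.node (.node (.leaf 0xe250cf1)
(.leaf 0x2edaf682))
(.node (.leaf 0x1e2cb367)
(.leaf 0)))))))
(.node (.node (.node (.node (.node (.node (.leaf 0x3ce1a4)
(.leaf 0x1f710eed))
(.node (.leaf 0xfab0e74)
(.leaf 0x30963667)))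
(.node (.node (.leaf 0x84ce46d)
(.leaf 0x2868f1fe))
(.node (.leaf 0x16f2e9f9)
(.leaf 0))))
(.node (.node (.node (.leaf 0x4286401)
(.leaf 0x240ceb37))
(.node (.leaf 0x139110b5)
(.leaf 0)))
(.node (.node (.leaf 0xc5c942c)
(.leaf 0x2be91814))
(.node (.leaf 0x1c628ffc)
(.leaf 0)))))
(.node (.node (.node (.node (.leaf 0x1e861ae)
(.leaf 0x21865318))
(.node (.leaf 0x12611097)
(.leaf 0)))
(.node (.node (.leaf 0xa74914f)
(.leaf 0x2a44d721))
(.node (.leaf 0x185cb125)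
(.leaf 0))))
(.node (.node (.node (.leaf 0x69640d6)
(.leaf 0x25c4cfb1))
(.node (.leaf 0x162912c9)
(.leaf 0)))
(.node (.node (.leaf 0xd64c68b)
(.leaf 0x2df2f7cb))
(.node (.leaf 0x1e02aa79)
(.leaf 0))))))
(.node (.node (.node (.node (.node (.leaf 0x130a393)
(.leaf 0x2108b336))
(.node (.leaf 0x10864800)
(.leaf 0)))
(.node (.node (.leaf 0x969065f)
(.leaf 5315))
(.node (.leaf 0x178ac7e7)
(.leaf 0))))
(.node (.node (.node (.leaf 0x572a277)
(.leaf 0x2490d3b0))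
(.node (.leaf 0x1496f092)
(.leaf 0)))
(.node (.node (.leaf 0xcb667cc)
(.leaf 0x2c80b6c2))
(.node (.leaf 0x1d22ecef)
(.leaf 0)))))
(.node (.node (.node (.node (.leaf 0x286c36a)
(.leaf 0x2284d425))
(.node (.leaf 0x132870a7)
(.leaf 0)))
(.node (.node (.leaf 0xafb0f28)
(.leaf 0x2b26f53e))
(.node (.leaf 0x1992d3fe)
(.leaf 0))))
(.node (.node (.node (.leaf 0x73ea440)
(.leaf 0x271886a5))
(.node (.leaf 0x1672ed36)
(.leaf 0)))
(.node (.node (.leaf 0xf5a540f)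
(.leaf 0x2f78b7f8))
(.node (.leaf 0x1e70ebe0)
(.leaf 0))))))))
(.node (.node (.node (.node (.node (.node (.node (.leaf 0x2ae099)
(.leaf 0x1f16c81b))
(.node (.leaf 0xf928534)
(.leaf 0x3012b7b9)))
(.node (.node (.leaf 0x7966459)
(.leaf 0x2856467d))
(.node (.leaf 0x16d2cac6)
(.leaf 0))))
(.node (.node (.node (.leaf 0x37ac1ed)
(.leaf 0x23f6b3ff))
(.node (.leaf 0x13684aeb)
(.leaf 0)))
(.node (.node (.leaf 0xc4eec55)
(.leaf 0x2bd47589))
(.node (.leaf 0x1c56653a)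
(.leaf 0)))))
(.node (.node (.node (.node (.leaf 0x1cea017)
(.leaf 0x2158f310))
(.node (.leaf 0x124e91cc)
(.leaf 0)))
(.node (.node (.leaf 0xa2ea543)
(.leaf 0x2a331527))
(.node (.leaf 0x1814cac8)
(.leaf 0))))
(.node (.node (.node (.leaf 0x631015f)
(.leaf 0x2528acfa))
(.node (.leaf 0x161af208)
(.leaf 0)))
(.node (.node (.leaf 0xd3eeb51)
(.leaf 0x2d3ef55a))
(.node (.leaf 0x1df10c83)
(.leaf 0))))))
(.node (.node (.node (.node (.node (.leaf 0xc8c031)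
(.leaf 0x20f46689))
(.node (.leaf 0x104d0ce0)
(.leaf 0)))
(.node (.node (.leaf 0x9510492)
(.leaf 0x290ef100))
(.node (.leaf 0x1766cd32)
(.leaf 0))))
(.node (.node (.node (.leaf 0x52ee16b)
(.leaf 0x2464d254))
(.node (.leaf 0x143ed3ca)
(.leaf 0)))
(.node (.node (.leaf 0xc98e840)
(.leaf 0x2c54b764))
(.node (.leaf 0x1cbee5e4)
(.leaf 0)))))
(.node (.node (.node (.node (.leaf 0x2570304)
(.leaf 0x2244ecc2))
(.node (.leaf 0x131ab1bb)
(.leaf 0)))
(.node (.node (.leaf 0xabd139a)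
(.leaf 0x2a9ed763))
(.node (.leaf 0x194cede4)
(.leaf 0))))
(.node (.node (.node (.leaf 0x72ec38d)
(.leaf 0x2700cb1c))
(.node (.leaf 0x165ed349)
(.leaf 0)))
(.node (.node (.leaf 0xf4eae42)
(.leaf 0x2f1f1555))
(.node (.leaf 0x1e490c0a)
(.leaf 0)))))))
(.node (.node (.node (.node (.node (.node (.leaf 0x530315)
(.leaf 0x20d6258c))
(.node (.leaf 0xfd6c804)
(.leaf 0x30b4b860)))
(.node (.node (.leaf 0x8b0e472)
(.leaf 0x28c90781))
(.node (.leaf 0x1716e6a3)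
(.leaf 0))))
(.node (.node (.node (.leaf 0x4aae2a4)
(.leaf 0x241ee524))
(.node (.leaf 0x13c4e4eb)
(.leaf 0)))
(.node (.node (.leaf 0xc6e541a)
(.leaf 0x2bfed7fd))
(.node (.leaf 0x1c7aa5e3)
(.leaf 0)))))
(.node (.node (.node (.node (.leaf 0x20ce12a)
(.leaf 0x21b30f92))
(.node (.leaf 0x1288a652)
(.leaf 0)))
(.node (.node (.leaf 0xa84cfaf)
(.leaf 0x2a58d6b3))
(.node (.leaf 0x189110ce)
(.leaf 0))))
(.node (.node (.node (.leaf 0x6b2a0e5)
(.leaf 0x26d66605))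
(.node (.leaf 0x163b0ae2)
(.leaf 0)))
(.node (.node (.leaf 0xda0f41d)
(.leaf 0x2ebb1559))
(.node (.leaf 0x1e18a913)
(.leaf 0))))))
(.node (.node (.node (.node (.node (.leaf 0x1a8642b)
(.leaf 0x212046c3))
(.node (.leaf 0x10dec539)
(.leaf 0)))
(.node (.node (.leaf 0x998c754)
(.leaf 0x29bb14d1))
(.node (.leaf 0x17b8ed78)
(.leaf 0))))
(.node (.node (.node (.leaf 0x59cc231)
(.leaf 0x24bcb2c3))
(.node (.leaf 0x1516cd7d)
(.leaf 0)))
(.node (.node (.leaf 0xce4a855)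
(.leaf 0x2cb4d83f))
(.node (.leaf 0x1dd6453b)
(.leaf 0)))))
(.node (.node (.node (.node (.leaf 0x2b64033)
(.leaf 0x23d64604))
(.node (.leaf 0x133e6ad0)
(.leaf 0)))
(.node (.node (.leaf 0xb4ce637)
(.leaf 0x2bb2d7bf))
(.node (.leaf 0x1a26a9c0)
(.leaf 0))))
(.node (.node (.node (.leaf 0x752a419)
(.leaf 0x2743107f))
(.node (.leaf 0x168eb103)
(.leaf 0)))
(.node (.node (.leaf 0xf6ac823)
(.leaf 0x2fd6b60d))
(.node (.leaf 0x1ea26f3c)
(.leaf 0)))))))))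
(.node (.node (.node (.node (.node (.node (.node (.node (.leaf 0x22c14e)
(.leaf 0x1f02c870))
(.node (.leaf 0xf890b57)
(.leaf 0x2ffaf63e)))
(.node (.node (.leaf 0x78102bd)
(.leaf 0x279cf39b))
(.node (.leaf 0x16becae5)
(.leaf 0))))
(.node (.node (.node (.leaf 0x32cc1ec)
(.leaf 0x23ecb305))
(.node (.leaf 0x135cca0f)
(.leaf 0)))
(.node (.node (.leaf 0xc1cc4fc)
(.leaf 0x2bc8f70f))
(.node (.leaf 0x1c2cc5ac)
(.leaf 0)))))
(.node (.node (.node (.node (.leaf 0x1c4e17a)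
(.leaf 0x214c6c71))
(.node (.leaf 0x11a2cce5)
(.leaf 0)))
(.node (.node (.leaf 0xa1aa898)
(.leaf 0x2a2af759))
(.node (.leaf 0x17fab2ed)
(.leaf 0))))
(.node (.node (.node (.leaf 0x624e1a5)
(.leaf 0x250710c3))
(.node (.leaf 0x16148561)
(.leaf 0)))
(.node (.node (.leaf 0xd291413)
(.leaf 0x2d0cb87c))
(.node (.leaf 0x1de8ee14)
(.leaf 0))))))
(.node (.node (.node (.node (.node (.leaf 0xa5019d)
(.leaf 0x20eb0cc9))
(.node (.leaf 0x1030cc50)
(.leaf 0x312ef7e9)))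
(.node (.node (.leaf 0x928e76d)
(.leaf 0x28ec9192))
(.node (.leaf 0x1754eff5)
(.leaf 0))))
(.node (.node (.node (.leaf 0x4ecc2a7)
(.leaf 0x244eeec1))
(.node (.leaf 0x1424d3a1)
(.leaf 0)))
(.node (.node (.leaf 0xc8c50f5)
(.leaf 0x2c3ad636))
(.node (.leaf 0x1ca28908)
(.leaf 0)))))
(.node (.node (.node (.node (.leaf 0x23ea2b2)
(.leaf 0x2210c72c))
(.node (.leaf 0x13146b62)
(.leaf 0)))
(.node (.node (.leaf 0xaaee75f)
(.leaf 0x2a84f712))
(.node (.leaf 0x1916b054)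
(.leaf 0))))
(.node (.node (.node (.leaf 0x728c250)
(.leaf 0x26f2c782))
(.node (.leaf 0x165709ee)
(.leaf 0)))
(.node (.node (.leaf 0xe9ee713)
(.leaf 0x2ef0550e))
(.node (.leaf 0x1e390a38)
(.leaf 0)))))))
(.node (.node (.node (.node (.node (.node (.leaf 0x4702fa)
(.leaf 0x1fc2eeaa))
(.node (.leaf 0xfb86c46)
(.leaf 0x30a0b65b)))
(.node (.node (.leaf 0x8a883f3)
(.leaf 0x28b6c5c6))
(.node (.leaf 0x170304b5)
(.leaf 0))))
(.node (.node (.node (.leaf 0x4a3019e)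
(.leaf 0x24170f6d))
(.node (.leaf 0x13aad251)
(.leaf 0)))
(.node (.node (.leaf 0xc650687)
(.leaf 0x2bf51550))
(.node (.leaf 0x1c6c5210)
(.leaf 0)))))
(.node (.node (.node (.node (.leaf 0x1f4c439)
(.leaf 0x219aeedf))
(.node (.leaf 0x126f12f5)
(.leaf 0)))
(.node (.node (.leaf 0xa7d1146)
(.leaf 0x2a4eb611))
(.node (.leaf 0x187af201)
(.leaf 0))))
(.node (.node (.node (.leaf 0x6a0a23b)
(.leaf 0x25f110cd))
(.node (.leaf 0x1630b4a6)
(.leaf 0)))
(.node (.node (.leaf 0xd7d0c36)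
(.leaf 0x2eb2f5c3))
(.node (.leaf 0x1e0ce912)
(.leaf 0))))))
(.node (.node (.node (.node (.node (.leaf 0x1a2c2c9)
(.leaf 0x21144c86))
(.node (.leaf 0x109acc9d)
(.leaf 0)))
(.node (.node (.leaf 0x97d0515)
(.leaf 0x29a2d4d3))
(.node (.leaf 0x17990b4f)
(.leaf 0))))
(.node (.node (.node (.leaf 0x580c3d2)
(.leaf 0x24a713b2))
(.node (.leaf 0x14c711b5)
(.leaf 0)))
(.node (.node (.leaf 0xccaea99)
(.leaf 0x2c99171c))
(.node (.leaf 0x1d52e8f4)
(.leaf 0)))))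
(.node (.node (.node (.node (.leaf 0x29900f8)
(.leaf 0x22c10f9b))
(.node (.leaf 0x1334e784)
(.leaf 0)))
(.node (.node (.leaf 0xb20f296)
(.leaf 0x2baaf710))
(.node (.leaf 0x19c0d03b)
(.leaf 0))))
(.node (.node (.node (.leaf 0x7490421)
(.leaf 0x272ad455))
(.node (.leaf 0x1682ef11)
(.leaf 0)))
(.node (.node (.leaf 0xf62cca2)
(.leaf 0x2f867811))
(.node (.leaf 0x1e8aab7c)
(.leaf 0))))))))
(.node (.node (.node (.node (.node (.node (.node (.leaf 0x32a0f3)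
(.leaf 0x1f430b6e))
(.node (.leaf 0xf9ccfd3)
(.leaf 0x30491758)))
(.node (.node (.leaf 0x7cca47f)
(.leaf 0x285ccac3))
(.node (.leaf 0x16e2c6a2)
(.leaf 0))))
(.node (.node (.node (.leaf 0x3c2e0f2)
(.leaf 0x2402c63a))
(.node (.leaf 0x1376d250)
(.leaf 0)))
(.node (.node (.leaf 0xc56aa96)
(.leaf 0x2be096cd))
(.node (.leaf 0x1c5c6720)
(.leaf 0)))))
(.node (.node (.node (.node (.leaf 0x1dc625f)
(.leaf 0x2170a540))
(.node (.leaf 0x125693a4)
(.leaf 0)))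
(.node (.node (.leaf 0xa6e900b)
(.leaf 0x2a3ab67e))
(.node (.leaf 0x183ae7ea)
(.leaf 0))))
(.node (.node (.node (.leaf 0x6446133)
(.leaf 0x2558d0b0))
(.node (.leaf 0x16230656)
(.leaf 0)))
(.node (.node (.leaf 0xd52ed50)
(.leaf 0x2d8ad7ff))
(.node (.leaf 0x1df90826)
(.leaf 0))))))
(.node (.node (.node (.node (.node (.leaf 0xf0a0b6)
(.leaf 0x20feab7d))
(.node (.leaf 0x1068cb66)
(.leaf 0)))
(.node (.node (.leaf 0x95ac5b8)
(.leaf 0x2943144c))
(.node (.leaf 0x177ae931)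
(.leaf 0))))
(.node (.node (.node (.leaf 0x564e335)
(.leaf 0x247ca988))
(.node (.leaf 0x1452cd1b)
(.leaf 0)))
(.node (.node (.leaf 0xca30d8b)
(.leaf 0x2c6b16d0))
(.node (.leaf 0x1ce0ed8f)
(.leaf 0)))))
(.node (.node (.node (.node (.leaf 0x26ce02a)
(.leaf 0x2260ee5d))
(.node (.leaf 0x13230650)
(.leaf 0)))
(.node (.node (.leaf 0xadcacea)
(.leaf 0x2ad4b660))
(.node (.leaf 0x197b11e7)
(.leaf 0))))
(.node (.node (.node (.leaf 0x73483fb)
(.leaf 0x270ca6a7))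
(.node (.leaf 0x166a898b)
(.leaf 0)))
(.node (.node (.leaf 0xf54ae45)
(.leaf 0x2f72f674))
(.node (.leaf 0x1e60abe2)
(.leaf 0)))))))
(.node (.node (.node (.node (.node (.node (.leaf 0x648074)
(.leaf 0x20dca8ce))
(.node (.leaf 0xfeaec33)
(.leaf 0x30f7176d)))
(.node (.node (.leaf 0x8d0e3b8)
(.leaf 0x28d0f49e))
(.node (.leaf 0x172cf170)
(.leaf 0))))
(.node (.node (.node (.leaf 0x4b68341)
(.leaf 0x2428b47c))
(.node (.leaf 0x13f086ac)
(.leaf 0)))
(.node (.node (.leaf 0xc78c591)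
(.leaf 0x2c0a5719))
(.node (.leaf 0x1c84ef7d)
(.leaf 0)))))
(.node (.node (.node (.node (.leaf 0x21ce2e5)
(.leaf 0x21ca49aa))
(.node (.leaf 0x12bef473)
(.leaf 0)))
(.node (.node (.leaf 0xa90d3cb)
(.leaf 0x2a687749))
(.node (.leaf 0x18b311a8)
(.leaf 0))))
(.node (.node (.node (.leaf 0x6f640e4)
(.leaf 0x26dead12))
(.node (.leaf 0x1642522a)
(.leaf 0)))
(.node (.node (.leaf 0xdf6edcf)
(.leaf 0x2ec8f6fe))
(.node (.leaf 0x1e248e2f)
(.leaf 0))))))
(.node (.node (.node (.node (.node (.leaf 0x1b0c1c5)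
(.leaf 0x212ac576))
(.node (.leaf 0x11090752)
(.leaf 0)))
(.node (.node (.leaf 0x9cac874)
(.leaf 5317))
(.node (.leaf 0x17ccc9d1)
(.leaf 0))))
(.node (.node (.node (.leaf 0x5c6c33e)
(.leaf 0x24d24a2a))
(.node (.leaf 0x15685266)
(.leaf 0)))
(.node (.node (.leaf 0xcfcd333)
(.leaf 0x2ccaf7fe))
(.node (.leaf 0x1dda684a)
(.leaf 0)))))
(.node (.node (.node (.node (.leaf 0x2daa29e)
(.leaf 0x23da7214))
(.node (.leaf 0x134a4a36)
(.leaf 0)))
(.node (.node (.leaf 0xbf0a5bd)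
(.leaf 0x2bb91792))
(.node (.leaf 0x1b7ee673)
(.leaf 0))))
(.node (.node (.node (.leaf 0x766c324)
(.leaf 0x2760efb2))
(.node (.leaf 0x169eea3c)
(.leaf 0)))
(.node (.node (.leaf 0xf74ce46)
(.leaf 0x2fdeb69d))
(.node (.leaf 0x1ec8ac87)
(.leaf 0))))))))))))
(.node (.node (.node (.node (.node (.node (.node (.node (.node (.node (.node (.leaf 172038)
(.leaf 0x1ed0af00))
(.node (.leaf 0xf786fc2)
(.leaf 0x2fe2b65a)))
(.node (.node (.leaf 0x76ce3cb)
(.leaf 0x276acab9))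
(.node (.leaf 0x16a2d30e)
(.leaf 0))))
(.node (.node (.node (.leaf 0x2e703ff)
(.leaf 0x23de8b25))
(.node (.leaf 0x134ec6d4)
(.leaf 0)))
(.node (.node (.leaf 0xbf4e65a)
(.leaf 0x2bba5802))
(.node (.leaf 0x1baacaaf)
(.leaf 0)))))
(.node (.node (.node (.node (.leaf 0x1b7009f)
(.leaf 0x212eadd3))
(.node (.leaf 0x1126f43e)
(.leaf 0)))
(.node (.node (.leaf 0x9d8c68a)
(.leaf 0x29ff14c6))
(.node (.leaf 0x17d11028)
(.leaf 0))))
(.node (.node (.node (.leaf 0x5ccc22c)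
(.leaf 0x24daabb3))
(.node (.leaf 0x1584caa5)
(.leaf 0)))
(.node (.node (.leaf 0xd04b1be)
(.leaf 0x2cd8d7c4))
(.node (.leaf 0x1ddc70c6)
(.leaf 0))))))
(.node (.node (.node (.node (.node (.leaf 0x6aa2d1)
(.leaf 0x20deace9))
(.node (.leaf 0x10031161)
(.leaf 0x30fa76fd)))
(.node (.node (.leaf 1155)
(.leaf 0x28d51215))
(.node (.leaf 0x17330526)
(.leaf 0))))
(.node (.node (.node (.leaf 0x4bcc1fb)
(.leaf 0x2432efa8))
(.node (.leaf 0x13f91020)
(.leaf 0)))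
(.node (.node (.leaf 0xc7cab9c)
(.leaf 0x2c15151d))
(.node (.leaf 0x1c88e8b8)
(.leaf 0)))))
(.node (.node (.node (.node (.leaf 0x222c036)
(.leaf 0x21d2c5e0))
(.node (.leaf 0x12daed9f)
(.leaf 0)))
(.node (.node (.leaf 0xa96c92d)
(.leaf 0x2a6eb662))
(.node (.leaf 0x18d0cf88)
(.leaf 0))))
(.node (.node (.node (.leaf 0x6fa83d3)
(.leaf 0x26e0925a))
(.node (.leaf 0x1645111d)
(.leaf 0)))
(.node (.node (.leaf 0xe08ec66)
(.leaf 0x2ed0d59c))
(.node (.leaf 0x1e286c93)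
(.leaf 0)))))))
(.node (.node (.node (.node (.node (.node (.leaf 0x3661d1)
(.leaf 0x1f5906f1))
(.node (.leaf 0xfa0cc23)
(.leaf 0x304eb894)))
(.node (.node (.leaf 0x802a465)
(.leaf 0x2860f427))
(.node (.leaf 0x16eaef22)
(.leaf 0))))
(.node (.node (.node (.leaf 0x3cee3c5)
(.leaf 0x2404cf5c))
(.node (.leaf 0x1382c9ab)
(.leaf 0)))
(.node (.node (.leaf 0xc58afcf)
(.leaf 0x2be2d856))
(.node (.leaf 0x1c5e8be6)
(.leaf 0)))))
(.node (.node (.node (.node (.leaf 0x1e2e1c1)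
(.leaf 0x2178c8fa))
(.node (.leaf 0x12585184)
(.leaf 0)))
(.node (.node (.leaf 0xa70f230)
(.leaf 0x2a3c7718))
(.node (.leaf 0x18470503)
(.leaf 0))))
(.node (.node (.node (.leaf 0x67e8235)
(.leaf 0x2592ca69))
(.node (.leaf 0x162486e5)
(.leaf 0)))
(.node (.node (.leaf 0xd5acb68)
(.leaf 0x2dad14fe))
(.node (.leaf 0x1dfcc7fc)
(.leaf 0))))))
(.node (.node (.node (.node (.node (.leaf 0x104e1d2)
(.leaf 0x2102cbfd))
(.node (.leaf 0x1076ce1d)
(.leaf 0)))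
(.node (.node (.leaf 0x95ec690)
(.leaf 0x2982b534))
(.node (.leaf 0x17810f90)
(.leaf 0))))
(.node (.node (.node (.leaf 0x568e181)
(.leaf 0x24825111))
(.node (.leaf 0x14624a59)
(.leaf 0)))
(.node (.node (.leaf 0xcaccb64)
(.leaf 0x2c76d5fc))
(.node (.leaf 0x1d030fba)
(.leaf 0)))))
(.node (.node (.node (.node (.leaf 0x27aa0e8)
(.leaf 0x226b12a6))
(.node (.leaf 0x1324f08d)
(.leaf 0)))
(.node (.node (.leaf 0xae6ce05)
(.leaf 0x2afcb5a7))
(.node (.leaf 0x197ed265)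
(.leaf 0))))
(.node (.node (.node (.leaf 0x736a462)
(.leaf 0x270e9434))
(.node (.leaf 0x166cece1)
(.leaf 0)))
(.node (.node (.leaf 0xf5885cc)
(.leaf 0x2f74f733))
(.node (.leaf 0x1e64b40d)
(.leaf 0))))))))
(.node (.node (.node (.node (.node (.node (.node (.leaf 0x24c2ba)
(.leaf 0x1f06ef07))
(.node (.leaf 0xf8c8711)
(.leaf 0x3004d85c)))
(.node (.node (.leaf 0x784a425)
(.leaf 0x27b6d23c))
(.node (.leaf 0x16c6c502)
(.leaf 0))))
(.node (.node (.node (.leaf 0x35ae323)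
(.leaf 0x23ee9344))
(.node (.leaf 0x1360b3bb)
(.leaf 0)))
(.node (.node (.leaf 0xc2aa56d)
(.leaf 0x2bccf789))
(.node (.leaf 0x1c36e541)
(.leaf 0)))))
(.node (.node (.node (.node (.leaf 0x1c8a2b4)
(.leaf 0x2150c8a7))
(.node (.leaf 0x11bae8d7)
(.leaf 0)))
(.node (.node (.leaf 0xa22e4d2)
(.leaf 0x2a2c7707))
(.node (.leaf 0x1800d1c1)
(.leaf 0))))
(.node (.node (.node (.leaf 0x626844a)
(.leaf 0x25131220))
(.node (.leaf 0x1616d0b6)
(.leaf 0)))
(.node (.node (.leaf 0xd30a81e)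
(.leaf 0x2d28b58b))
(.node (.leaf 0x1deaecc5)
(.leaf 0))))))
(.node (.node (.node (.node (.node (.leaf 0xac807d)
(.leaf 0x20eec83a))
(.node (.leaf 0x103ccf49)
(.leaf 0)))
(.node (.node (.leaf 0x934a4cb)
(.leaf 0x28f713b1))
(.node (.leaf 0x175d12f8)
(.leaf 0))))
(.node (.node (.node (.leaf 0x50701e3)
(.leaf 0x245acb0e))
(.node (.leaf 0x142e8aa7)
(.leaf 0)))
(.node (.node (.leaf 0xc92a7f9)
(.leaf 0x2c42f865))
(.node (.leaf 0x1ca6d44e)
(.leaf 0)))))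
(.node (.node (.node (.node (.leaf 0x246c1f2)
(.leaf 0x2226ef93))
(.node (.leaf 0x1316d1ec)
(.leaf 0)))
(.node (.node (.leaf 0xab24d9e)
(.leaf 0x2a8f166c))
(.node (.leaf 0x1932d277)
(.leaf 0))))
(.node (.node (.node (.leaf 0x72ac285)
(.leaf 0x26f8cb55))
(.node (.leaf 0x1658f05d)
(.leaf 0)))
(.node (.node (.leaf 0xebeeba6)
(.leaf 0x2eff1537))
(.node (.leaf 0x1e3cedc3)
(.leaf 0)))))))
(.node (.node (.node (.node (.node (.node (.leaf 0x4ce185)
(.leaf 0x2011104b))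
(.node (.leaf 0xfbeceab)
(.leaf 0x30a4b776)))
(.node (.node (.leaf 0x8ad02b0)
(.leaf 0x28c2c778))
(.node (.leaf 0x170a6d46)
(.leaf 0))))
(.node (.node (.node (.leaf 0x4a6a088)
(.leaf 0x2418b043))
(.node (.leaf 0x13b4ca26)
(.leaf 0)))
(.node (.node (.leaf 0xc68ef6e)
(.leaf 0x2bf7183a))
(.node (.leaf 0x1c70eee5)
(.leaf 0)))))
(.node (.node (.node (.node (.leaf 0x1fcc1fd)
(.leaf 0x21a485eb))
(.node (.leaf 0x127b135a)
(.leaf 0)))
(.node (.node (.leaf 0xa8086ea)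
(.leaf 0x2a529716))
(.node (.leaf 0x1884f3c2)
(.leaf 0))))
(.node (.node (.node (.leaf 0x6aaa230)
(.leaf 0x260b1026))
(.node (.leaf 0x1634509b)
(.leaf 0)))
(.node (.node (.leaf 0xd8ee89f)
(.leaf 0x2eb455d7))
(.node (.leaf 0x1e110f73)
(.leaf 0))))))
(.node (.node (.node (.node (.node (.leaf 0x1a4c3a9)
(.leaf 0x2118aa33))
(.node (.leaf 0x10aac806)
(.leaf 0)))
(.node (.node (.leaf 0x984a86c)
(.leaf 0x29a8d604))
(.node (.leaf 0x17a31470)
(.leaf 0))))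
(.node (.node (.node (.leaf 0x58900c9)
(.leaf 0x24b0f213))
(.node (.leaf 0x14d8efea)
(.leaf 0)))
(.node (.node (.leaf 0xcd4682c)
(.leaf 0x2ca0d867))
(.node (.leaf 0x1d7f074d)
(.leaf 0)))))
(.node (.node (.node (.node (.leaf 0x2a2c0f4)
(.leaf 0x2314ef55))
(.node (.leaf 0x133886ab)
(.leaf 0)))
(.node (.node (.leaf 0xb2b0ba2)
(.leaf 0x2bac56c8))
(.node (.leaf 0x1a04cd1d)
(.leaf 0))))
(.node (.node (.node (.leaf 0x74cc118)
(.leaf 0x27306cfd))
(.node (.leaf 0x1688c612)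
(.leaf 0)))
(.node (.node (.leaf 0xf650a98)
(.leaf 0x2f94f6f3))
(.node (.leaf 0x1e94c97f)
(.leaf 0)))))))))
(.node (.node (.node (.node (.node (.node (.node (.node (.leaf 0x1ea13e)
(.leaf 0x1ef4a6cb))
(.node (.leaf 0xf8287f3)
(.leaf 0x2feed884)))
(.node (.node (.leaf 0x778847a)
(.leaf 0x27810dfa))
(.node (.leaf 0x16b3139f)
(.leaf 0))))
(.node (.node (.node (.leaf 0x302c06d)
(.leaf 0x23e6b05a))
(.node (.leaf 0x135869f1)
(.leaf 0)))
(.node (.node (.leaf 0xc06c5ba)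
(.leaf 0x2bc4f5e1))
(.node (.leaf 1191)
(.leaf 0)))))
(.node (.node (.node (.node (.leaf 0x1be62f3)
(.leaf 0x2142cec3))
(.node (.leaf 0x1162cc28)
(.leaf 0)))
(.node (.node (.leaf 0xa12a7bf)
(.leaf 0x2a1914fd))
(.node (.leaf 0x17eae95a)
(.leaf 0))))
(.node (.node (.node (.leaf 0x61e607a)
(.leaf 0x24f0b0eb))
(.node (.leaf 0x16106a7c)
(.leaf 0)))
(.node (.node (.leaf 0xd1ccc4c)
(.leaf 0x2cf2d657))
(.node (.leaf 0x1de448fe)
(.leaf 0))))))
(.node (.node (.node (.node (.node (.leaf 0x910349)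
(.leaf 0x20e6aa45))
(.node (.leaf 0x10208892)
(.leaf 5732)))
(.node (.node (.leaf 0x91eca78)
(.leaf 0x28e5102c))
(.node (.leaf 0x174870f3)
(.leaf 0))))
(.node (.node (.node (.leaf 0x4d2c18e)
(.leaf 0x2442f1d1))
(.node (.leaf 0x1412abe1)
(.leaf 0)))
(.node (.node (.leaf 0xc86ede6)
(.leaf 0x2c271607))
(.node (.leaf 0x1c984dc5)
(.leaf 0)))))
(.node (.node (.node (.node (.leaf 0x234e119)
(.leaf 0x21eb0fa2))
(.node (.leaf 0x1310f038)
(.leaf 0)))
(.node (.node (.leaf 0xaa49126)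
(.leaf 0x2a7a968f))
(.node (.leaf 0x18f0d212)
(.leaf 0))))
(.node (.node (.node (.leaf 178)
(.leaf 0x26eb1223))
(.node (.leaf 0x165044a8)
(.leaf 0)))
(.node (.node (.leaf 0xe526c4a)
(.leaf 0x2ee4f7c1))
(.node (.leaf 0x1e308f3f)
(.leaf 0)))))))
(.node (.node (.node (.node (.node (.node (.leaf 0x41010b)
(.leaf 0x1f8ac599))
(.node (.leaf 0xfb0c8a6)
(.leaf 0x3098d88d)))
(.node (.node (.leaf 297)
(.leaf 0x2870cae4))
(.node (.leaf 0x16f6b4a2)
(.leaf 0))))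
(.node (.node (.node (.leaf 0x49f0085)
(.leaf 0x240eb2f4))
(.node (.leaf 0x139ec632)
(.leaf 0)))
(.node (.node (.leaf 0xc606c73)
(.leaf 0x2bed1739))
(.node (.leaf 0x1c66e82a)
(.leaf 0)))))
(.node (.node (.node (.node (.leaf 0x1ec4052)
(.leaf 0x218ecb95))
(.node (.leaf 0x12667396)
(.leaf 0)))
(.node (.node (.leaf 0xa76f459)
(.leaf 0x2a4916d9))
(.node (.leaf 0x186caa72)
(.leaf 0))))
(.node (.node (.node (.leaf 0x6984227)
(.leaf 0x25d0c68e))
(.node (.leaf 0x162b1083)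
(.leaf 0)))
(.node (.node (.leaf 0xd6887fd)
(.leaf 0x2e30b58f))
(.node (.leaf 0x1e070849)
(.leaf 0))))))
(.node (.node (.node (.node (.node (.leaf 0x19e4046)
(.leaf 0x210c8c43))
(.node (.leaf 0x10910e39)
(.leaf 0)))
(.node (.node (.leaf 0x970c4d4)
(.leaf 0x299d14ce))
(.node (.leaf 0x17910796)
(.leaf 0))))
(.node (.node (.node (.leaf 0x576e3cf)
(.leaf 0x2497148c))
(.node (.leaf 0x14aee921)
(.leaf 0)))
(.node (.node (.leaf 0xcbcd08b)
(.leaf 0x2c88d615))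
(.node (.leaf 0x1d34c82d)
(.leaf 0)))))
(.node (.node (.node (.node (.leaf 0x28cc08c)
(.leaf 0x229aa8c7))
(.node (.leaf 0x132c8dee)
(.leaf 0)))
(.node (.node (.leaf 0xb09094d)
(.leaf 0x2b7af5e8))
(.node (.leaf 0x19a0d269)
(.leaf 0))))
(.node (.node (.node (.leaf 0x74303bd)
(.leaf 0x271eb493))
(.node (.leaf 0x167686b0)
(.leaf 0)))
(.node (.node (.leaf 0xf5d136b)
(.leaf 0x2f7ef78b))
(.node (.leaf 0x1e74ae2a)
(.leaf 0))))))))
(.node (.node (.node (.node (.node (.node (.node (.leaf 0x2c81a7)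
(.leaf 0x1f24eeac))
(.node (.leaf 0xf9706ce)
(.leaf 0x301cf7b8)))
(.node (.node (.leaf 0x7aa420a)
(.leaf 0x2858caca))
(.node (.leaf 0x16d8ed65)
(.leaf 0))))
(.node (.node (.node (.leaf 0x396e24f)
(.leaf 0x23fa86a4))
(.node (.leaf 0x136e6607)
(.leaf 0)))
(.node (.node (.leaf 0xc506c2f)
(.leaf 0x2bd8d697))
(.node (.leaf 0x1c590532)
(.leaf 0)))))
(.node (.node (.node (.node (.leaf 0x1d2815b)
(.leaf 0x2164d14a))
(.node (.leaf 0x12530a46)
(.leaf 0)))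
(.node (.node (.leaf 0xa3ea4b4)
(.leaf 0x2a34f81f))
(.node (.leaf 0x1820f270)
(.leaf 0))))
(.node (.node (.node (.leaf 0x638e261)
(.leaf 0x25349133))
(.node (.leaf 0x161c92c5)
(.leaf 0)))
(.node (.node (.leaf 0xd46ec42)
(.leaf 0x2d6ed591))
(.node (.leaf 0x1df2ce9d)
(.leaf 0))))))
(.node (.node (.node (.node (.node (.leaf 0xd0a18d)
(.leaf 0x20f6af04))
(.node (.leaf 0x105aee83)
(.leaf 0)))
(.node (.node (.leaf 0x952a6b8)
(.leaf 0x291af0cb))
(.node (.leaf 0x176eeb40)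
(.leaf 0))))
(.node (.node (.node (.leaf 0x55ee307)
(.leaf 0x246eb1cd))
(.node (.leaf 0x14484ef1)
(.leaf 0)))
(.node (.node (.leaf 0xc9c8f2a)
(.leaf 0x2c5ed5b0))
(.node (.leaf 0x1cc6b1d5)
(.leaf 0)))))
(.node (.node (.node (.node (.leaf 0x2610254)
(.leaf 0x2252e86f))
(.node (.leaf 0x131ea66e)
(.leaf 0)))
(.node (.node (.leaf 0xac51364)
(.leaf 0x2ab4f575))
(.node (.leaf 0x195711e9)
(.leaf 0))))
(.node (.node (.node (.leaf 0x73103e2)
(.leaf 0x270507d8))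
(.node (.leaf 0x1662eb0f)
(.leaf 0)))
(.node (.node (.leaf 0xf508a35)
(.leaf 0x2f351645))
(.node (.leaf 0x1e5308e2)
(.leaf 0)))))))
(.node (.node (.node (.node (.node (.node (.leaf 0x5aa070)
(.leaf 0x20d8e729))
(.node (.leaf 0xfe0eb6b)
(.leaf 0x30beb60e)))
(.node (.node (.leaf 0x8c06391)
(.leaf 0x28cb0a80))
(.node (.leaf 0x171ef00e)
(.leaf 0))))
(.node (.node (.node (.leaf 0x4b100b9)
(.leaf 0x2420b186))
(.node (.leaf 0x13d6e651)
(.leaf 0)))
(.node (.node (.leaf 0xc72ad5c)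
(.leaf 0x2c04d552))
(.node (.leaf 0x1c7e88bd)
(.leaf 0)))))
(.node (.node (.node (.node (.leaf 0x214c279)
(.leaf 0x21bd0b71))
(.node (.leaf 0x1290b15d)
(.leaf 0)))
(.node (.node (.leaf 0xa8b08ea)
(.leaf 0x2a5ed73c))
(.node (.leaf 0x1898f47f)
(.leaf 0))))
(.node (.node (.node (.leaf 0x6c6e2c4)
(.leaf 0x26d86882))
(.node (.leaf 0x163e8680)
(.leaf 0)))
(.node (.node (.leaf 0xdacf442)
(.leaf 0x2ebc561a))
(.node (.leaf 0x1e1f1017)
(.leaf 0))))))
(.node (.node (.node (.node (.node (.leaf 0x1ace109)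
(.leaf 0x2122f41e))
(.node (.leaf 0x10eaec95)
(.leaf 0)))
(.node (.node (.leaf 0x9a505bb)
(.leaf 0x29c0b4f8))
(.node (.leaf 0x17c08a12)
(.leaf 0))))
(.node (.node (.node (.leaf 0x5aac199)
(.leaf 0x24c6d3a5))
(.node (.leaf 0x15310b15)
(.leaf 0)))
(.node (.node (.leaf 0xcf0ccd1)
(.leaf 0x2cbcd833))
(.node (.leaf 0x1dd6f44f)
(.leaf 0)))))
(.node (.node (.node (.node (.leaf 0x2bd0188)
(.leaf 0x23d905f8))
(.node (.leaf 0x1342ccaa)
(.leaf 0)))
(.node (.node (.leaf 0xb6b0ad6)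
(.leaf 0x2bb49769))
(.node (.leaf 0x1a38ebbd)
(.leaf 0))))
(.node (.node (.node (.leaf 0x75d01d7)
(.leaf 0x2750f3a7))
(.node (.leaf 0x16970b29)
(.leaf 0)))
(.node (.node (.leaf 0xf6c8722)
(.leaf 0x2fd8b771))
(.node (.leaf 0x1eb4ac41)
(.leaf 0))))))))))
(.node (.node (.node (.node (.node (.node (.node (.node (.node (.leaf 0x12e011)
(.leaf 0x1ee6e73d))
(.node (.leaf 0xf7d144a)
(.leaf 0x2fe6d836)))
(.node (.node (.leaf 0x772e402)
(.leaf 0x2776f253))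
(.node (.leaf 0x16aaf17a)
(.leaf 0))))
(.node (.node (.node (.leaf 0x2f6809c)
(.leaf 0x23e28c72))
(.node (.leaf 0x1352d06c)
(.leaf 0)))
(.node (.node (.leaf 0xbfee4cd)
(.leaf 0x2bc114d9))
(.node (.leaf 0x1c0ec65e)
(.leaf 0)))))
(.node (.node (.node (.node (.leaf 0x1bae120)
(.leaf 0x213acc5f))
(.node (.leaf 0x113cc9ec)
(.leaf 0)))
(.node (.node (.leaf 0xa0ea775)
(.leaf 0x2a0b14e3))
(.node (.leaf 0x17deae09)
(.leaf 0))))
(.node (.node (.node (.leaf 0x5fec222)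
(.leaf 0x24e68993))
(.node (.leaf 0x160f0640)
(.leaf 0)))
(.node (.node (.leaf 0xd12ce64)
(.leaf 0x2ce7161b))
(.node (.leaf 0x1de10f75)
(.leaf 0))))))
(.node (.node (.node (.node (.node (.leaf 0x810123)
(.leaf 0x20e268e3))
(.node (.leaf 0x101305ec)
(.leaf 0x3104d882)))
(.node (.node (.leaf 0x90ee4d1)
(.leaf 0x28dec61a))
(.node (.leaf 0x173cea16)
(.leaf 0))))
(.node (.node (.node (.leaf 0x4caa36d)
(.leaf 0x243ceb46))
(.node (.leaf 0x1406e961)
(.leaf 0)))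
(.node (.node (.leaf 0xc804dc8)
(.leaf 0x2c2055c2))
(.node (.leaf 0x1c8eaa37)
(.leaf 0)))))
(.node (.node (.node (.node (.leaf 0x22ae206)
(.leaf 0x21ded29a))
(.node (.leaf 0x130eaa30)
(.leaf 0)))
(.node (.node (.leaf 0xaa0c7aa)
(.leaf 0x2a74f698))
(.node (.leaf 0x18e10602)
(.leaf 0))))
(.node (.node (.node (.leaf 0x708a23c)
(.leaf 0x26e4ab9e))
(.node (.leaf 0x164aa8f5)
(.leaf 0)))
(.node (.node (.leaf 0xe1ed433)
(.leaf 0x2ed8d754))
(.node (.leaf 0x1e2c9245)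
(.leaf 0)))))))
(.node (.node (.node (.node (.node (.node (.leaf 0x3cc047)
(.leaf 0x1f6ab0f7))
(.node (.leaf 0xfaaeb67)
(.leaf 5485)))
(.node (.node (.leaf 0x83f0333)
(.leaf 0x28669227))
(.node (.leaf 0x16f04c75)
(.leaf 0))))
(.node (.node (.node (.leaf 0x402e1f3)
(.leaf 0x240af07a))
(.node (.leaf 0x138ec63f)
(.leaf 0)))
(.node (.node (.leaf 0xc5d133d)
(.leaf 0x2be8f5cd))
(.node (.leaf 0x1c62cc68)
(.leaf 0)))))
(.node (.node (.node (.node (.leaf 0x1e7028f)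
(.leaf 0x218505dd))
(.node (.leaf 0x125e8eda)
(.leaf 0)))
(.node (.node (.leaf 0xa74aca6)
(.leaf 0x2a4317b1))
(.node (.leaf 0x1858f258)
(.leaf 0))))
(.node (.node (.node (.leaf 58)
(.leaf 0x25aeafbb))
(.node (.leaf 0x16286d1c)
(.leaf 0)))
(.node (.node (.leaf 0xd62ae16)
(.leaf 0x2de2f57c))
(.node (.leaf 0x1e009246)
(.leaf 0))))))
(.node (.node (.node (.node (.node (.leaf 0x12661e2)
(.leaf 0x21086e6f))
(.node (.leaf 0x1082ecc4)
(.leaf 0)))
(.node (.node (.leaf 0x968c4b1)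
(.leaf 0x2990f4c2))
(.node (.leaf 0x1788c947)
(.leaf 0))))
(.node (.node (.node (.leaf 0x56ec3e4)
(.leaf 0x248f1257))
(.node (.leaf 0x1490cfec)
(.leaf 0)))
(.node (.node (.leaf 0xcb50fcd)
(.leaf 0x2c7eb5fb))
(.node (.leaf 0x1d1b0bee)
(.leaf 0)))))
(.node (.node (.node (.node (.leaf 0x287007b)
(.leaf 0x227eec1b))
(.node (.leaf 0x1328ed56)
(.leaf 0)))
(.node (.node (.leaf 0xaf2f154)
(.leaf 0x2b1cf67c))
(.node (.leaf 0x198ccfa6)
(.leaf 0))))
(.node (.node (.node (.leaf 0x73d038f)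
(.leaf 0x271651f0))
(.node (.leaf 0x1670d0fd)
(.leaf 0)))
(.node (.node (.leaf 0xf5a8aea)
(.leaf 0x2f78d691))
(.node (.leaf 0x1e6eec14)
(.leaf 0))))))))
(.node (.node (.node (.node (.node (.node (.node (.leaf 0x2842c3)
(.leaf 0x1f150c39))
(.node (.leaf 0xf90ce76)
(.leaf 0x300d16b1)))
(.node (.node (.leaf 0x788e407)
(.leaf 1279))
(.node (.leaf 0x16d28799)
(.leaf 0))))
(.node (.node (.node (.leaf 0x376c132)
(.leaf 0x23f50969))
(.node (.leaf 0x1366d0ea)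
(.leaf 0)))
(.node (.node (.leaf 0xc4e4a8e)
(.leaf 0x2bd31614))
(.node (.leaf 1195)
(.leaf 0)))))
(.node (.node (.node (.node (.leaf 0x1cce305)
(.leaf 0x21546f8c))
(.node (.leaf 0x124e6bd6)
(.leaf 0)))
(.node (.node (.leaf 0xa2cc56b)
(.leaf 0x2a30b6a0))
(.node (.leaf 0x1810e634)
(.leaf 0))))
(.node (.node (.node (.leaf 0x62f00df)
(.leaf 0x2528668d))
(.node (.leaf 0x161ac9ef)
(.leaf 0)))
(.node (.node (.leaf 0xd3ae8d1)
(.leaf 0x2d38f678))
(.node (.leaf 0x1deead04)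
(.leaf 0))))))
(.node (.node (.node (.node (.node (.leaf 0xc4e127)
(.leaf 0x20f288ca))
(.node (.leaf 0x104aedbf)
(.leaf 0)))
(.node (.node (.leaf 0x94ec5ee)
(.leaf 0x290b135d))
(.node (.leaf 0x1764eb21)
(.leaf 0))))
(.node (.node (.node (.leaf 0x52ae2c7)
(.leaf 0x24628d27))
(.node (.leaf 0x143a4bd5)
(.leaf 0)))
(.node (.node (.leaf 0xc96a73e)
(.leaf 0x2c531617))
(.node (.leaf 0x1cbab2e4)
(.leaf 0)))))
(.node (.node (.node (.node (.leaf 0x256810d)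
(.leaf 0x2240ee79))
(.node (.leaf 0x131accd9)
(.leaf 0)))
(.node (.node (.leaf 0xab91120)
(.leaf 0x2a9cf6e1))
(.node (.leaf 0x194ae9b0)
(.leaf 0))))
(.node (.node (.node (.leaf 0x72ea2e9)
(.leaf 0x26fe4922))
(.node (.leaf 0x165e66a1)
(.leaf 0)))
(.node (.node (.leaf 0xf4eca9d)
(.leaf 0x2f12f6f5))
(.node (.leaf 0x1e46a8a8)
(.leaf 0)))))))
(.node (.node (.node (.node (.node (.node (.leaf 0x5282fd)
(.leaf 1220))
(.node (.leaf 0xfd30c5c)
(.leaf 0x30b31845)))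
(.node (.node (.leaf 0x8b103f4)
(.leaf 0x28c71164))
(.node (.leaf 0x171513d5)
(.leaf 0))))
(.node (.node (.node (.leaf 0x4a843a7)
(.leaf 0x241d0a0d))
(.node (.leaf 0x13bf0617)
(.leaf 0)))
(.node (.node (.leaf 0xc6e8be9)
(.leaf 0x2bfe5521))
(.node (.leaf 0x1c790ead)
(.leaf 0)))))
(.node (.node (.node (.node (.leaf 0x20ae2d9)
(.leaf 0x21af08ff))
(.node (.leaf 0x1284a636)
(.leaf 0)))
(.node (.node (.leaf 0xa829460)
(.leaf 0x2a58b67b))
(.node (.leaf 0x188ed0d2)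
(.leaf 0))))
(.node (.node (.node (.leaf 0x6b0c21f)
(.leaf 1252))
(.node (.leaf 0x1639118d)
(.leaf 0)))
(.node (.node (.leaf 0xd9aeed4)
(.leaf 0x2eb877d1))
(.node (.leaf 0x1e167366)
(.leaf 0))))))
(.node (.node (.node (.node (.node (.leaf 0x1a8a0e9)
(.leaf 0x211d100f))
(.node (.leaf 0x10d8e742)
(.leaf 0)))
(.node (.node (.leaf 0x98cc548)
(.leaf 0x29b6f4c4))
(.node (.leaf 0x17b511b0)
(.leaf 0))))
(.node (.node (.node (.leaf 0x592c1f7)
(.leaf 0x24bccb47))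
(.node (.leaf 0x150ad28f)
(.leaf 0)))
(.node (.node (.leaf 0xcded335)
(.leaf 0x2cae57a9))
(.node (.leaf 1196)
(.leaf 0)))))
(.node (.node (.node (.node (.leaf 0x2acc166)
(.leaf 1251))
(.node (.leaf 0x133c9446)
(.leaf 0)))
(.node (.node (.leaf 0xb48f3fd)
(.leaf 0x2bb315b6))
(.node (.leaf 0x1a22eab0)
(.leaf 0))))
(.node (.node (.node (.leaf 0x7504383)
(.leaf 0x273eed2f))
(.node (.leaf 0x168cb33e)
(.leaf 0)))
(.node (.node (.leaf 0xf68aeea)
(.leaf 5446))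
(.node (.leaf 0x1ea1084f)
(.leaf 0)))))))))
(.node (.node (.node (.node (.node (.node (.node (.node (.leaf 0x224042)
(.leaf 0x1eff06f5))
(.node (.leaf 0xf86c830)
(.leaf 0x2ff65887)))
(.node (.node (.leaf 0x77e6408)
(.leaf 0x2794c6d8))
(.node (.leaf 0x16bcaefe)
(.leaf 0))))
(.node (.node (.node (.leaf 0x326c1c6)
(.leaf 0x23eab495))
(.node (.leaf 0x135ca93b)
(.leaf 0)))
(.node (.node (.leaf 0xc16a517)
(.leaf 0x2bc8d58c))
(.node (.leaf 0x1c2d04b2)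
(.leaf 0)))))
(.node (.node (.node (.node (.leaf 0x1c302b1)
(.leaf 0x214b0736))
(.node (.leaf 0x118eecc6)
(.leaf 0)))
(.node (.node (.leaf 0xa1ac4b6)
(.leaf 0x2a2a76fb))
(.node (.leaf 0x17fa695d)
(.leaf 0))))
(.node (.node (.node (.leaf 0x6226347)
(.leaf 0x2504d452))
(.node (.leaf 0x161270be)
(.leaf 0)))
(.node (.node (.leaf 0xd26cef6)
(.leaf 0x2d0ad6f1))
(.node (.leaf 0x1de711e4)
(.leaf 0))))))
(.node (.node (.node (.node (.node (.leaf 0xa0a17d)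
(.leaf 0x20e8cc62))
(.node (.leaf 0x102f0755)
(.leaf 0x312cd82f)))
(.node (.node (.leaf 0x926e5a2)
(.leaf 0x28ed0b48))
(.node (.leaf 0x1750caae)
(.leaf 0))))
(.node (.node (.node (.leaf 0x4e4a394)
(.leaf 0x244c6b60))
(.node (.leaf 0x1422adf9)
(.leaf 0)))
(.node (.node (.leaf 0xc8cec26)
(.leaf 0x2c391690))
(.node (.leaf 0x1ca11355)
(.leaf 0)))))
(.node (.node (.node (.node (.leaf 0x23f0059)
(.leaf 0x2200f27c))
(.node (.leaf 0x1312f21a)
(.leaf 0)))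
(.node (.node (.leaf 0xaab13d3)
(.leaf 0x2a8295a4))
(.node (.leaf 0x19130ad9)
(.leaf 0))))
(.node (.node (.node (.leaf 0x726445a)
(.leaf 0x26f0d1f5))
(.node (.leaf 0x1654ae01)
(.leaf 0)))
(.node (.node (.leaf 0xe98ec3a)
(.leaf 0x2eed1648))
(.node (.leaf 0x1e38859c)
(.leaf 0)))))))
(.node (.node (.node (.node (.node (.node (.leaf 0x450377)
(.leaf 0x1faeb1c8))
(.node (.leaf 0xfb4ebed)
(.leaf 0x309ef879)))
(.node (.node (.leaf 0x8a8c169)
(.leaf 1308))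
(.node (.leaf 0x16feb00d)
(.leaf 0))))
(.node (.node (.node (.leaf 0x4a2a057)
(.leaf 0x2412f25b))
(.node (.leaf 0x13a8cced)
(.leaf 0)))
(.node (.node (.leaf 0xc6312d4)
(.leaf 0x2bf0f7aa))
(.node (.leaf 0x1c6a8eb2)
(.leaf 0)))))
(.node (.node (.node (.node (.leaf 0x1f2e0c5)
(.leaf 0x219907c8))
(.node (.leaf 0x126d0ae7)
(.leaf 0)))
(.node (.node (.leaf 0xa7ad39c)
(.leaf 0x2a4ed51e))
(.node (.leaf 0x187873dc)
(.leaf 0))))
(.node (.node (.node (.leaf 0x69ec3d8)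
(.leaf 0x25e8f482))
(.node (.leaf 0x1630eaa6)
(.leaf 0)))
(.node (.node (.leaf 0xd72aea8)
(.leaf 0x2eb31525))
(.node (.leaf 0x1e0a5224)
(.leaf 0))))))
(.node (.node (.node (.node (.node (.leaf 0x1a2a00c)
(.leaf 0x2112e875))
(.node (.leaf 0x1098e879)
(.leaf 0)))
(.node (.node (.leaf 0x978a87a)
(.leaf 0x29a0d541))
(.node (.leaf 0x1798c5fc)
(.leaf 0))))
(.node (.node (.node (.leaf 0x57ec225)
(.leaf 0x24a0d465))
(.node (.leaf 0x14bcf260)
(.leaf 0)))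
(.node (.node (.leaf 0xcc6736d)
(.leaf 0x2c96d73e))
(.node (.leaf 0x1d510a7a)
(.leaf 0)))))
(.node (.node (.node (.node (.leaf 0x296e197)
(.leaf 0x22b0e859))
(.node (.leaf 0x13325168)
(.leaf 0)))
(.node (.node (.leaf 0xb1ab45d)
(.leaf 0x2baad6ed))
(.node (.leaf 0x19b8d0df)
(.leaf 0))))
(.node (.node (.node (.leaf 0x74882a9)
(.leaf 0x272aa9fa))
(.node (.leaf 0x1680c5ed)
(.leaf 0)))
(.node (.node (.leaf 0xf628877)
(.leaf 0x2f84d6bb))
(.node (.leaf 0x1e850fa0)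
(.leaf 0))))))))
(.node (.node (.node (.node (.node (.node (.node (.leaf 0x30424c)
(.leaf 0x1f3ca7f8))
(.node (.leaf 0xf9b132c)
(.leaf 0x303cf874)))
(.node (.node (.leaf 0x7c6e360)
(.leaf 0x285ad2ec))
(.node (.leaf 0x16e086e3)
(.leaf 0))))
(.node (.node (.node (.leaf 0x3b8c11f)
(.leaf 0x24005036))
(.node (.leaf 0x1374cd1a)
(.leaf 0)))
(.node (.node (.leaf 0xc54ec03)
(.leaf 0x2bdef5f5))
(.node (.leaf 0x1c5ace87)
(.leaf 0)))))
(.node (.node (.node (.node (.leaf 0x1dcc0ab)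
(.leaf 0x216d1243))
(.node (.leaf 0x12570bd0)
(.leaf 0)))
(.node (.node (.leaf 0xa6eaaaa)
(.leaf 0x2a3a7675))
(.node (.leaf 0x183713bc)
(.leaf 0))))
(.node (.node (.node (.leaf 0x641036f)
(.leaf 0x2554d3a0))
(.node (.leaf 0x1620b218)
(.leaf 0)))
(.node (.node (.leaf 0xd4f12a1)
(.leaf 0x2d8114fb))
(.node (.leaf 0x1df68f41)
(.leaf 0))))))
(.node (.node (.node (.node (.node (.leaf 0xeaa045)
(.leaf 0x20fc8bf5))
(.node (.leaf 0x1062e8b5)
(.leaf 0)))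
(.node (.node (.leaf 0x958a7bb)
(.leaf 0x29391390))
(.node (.leaf 0x1778cdd8)
(.leaf 0))))
(.node (.node (.node (.leaf 0x562c3b6)
(.leaf 0x2478e611))
(.node (.leaf 0x14510783)
(.leaf 0)))
(.node (.node (.leaf 0xca0f3e2)
(.leaf 0x2c6a7502))
(.node (.leaf 0x1cdeec37)
(.leaf 0)))))
(.node (.node (.node (.node (.leaf 0x26aa2e0)
(.leaf 0x225d08e5))
(.node (.leaf 0x13207297)
(.leaf 0)))
(.node (.node (.leaf 0xad90d77)
(.leaf 0x2ac8d74f))
(.node (.leaf 0x1974cbb0)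
(.leaf 0))))
(.node (.node (.node (.leaf 0x734e1a8)
(.leaf 0x270a69f2))
(.node (.leaf 0x1668d1c0)
(.leaf 0)))
(.node (.node (.leaf 0xf54cca8)
(.leaf 0x2f72757b))
(.node (.leaf 0x1e5f130f)
(.leaf 0)))))))
(.node (.node (.node (.node (.node (.node (.leaf 0x62c081)
(.leaf 0x20da6bf7))
(.node (.leaf 0xfe9133b)
(.leaf 5644)))
(.node (.node (.leaf 0x8cce3ce)
(.leaf 0x28ced2ef))
(.node (.leaf 0x1728660f)
(.leaf 0))))
(.node (.node (.node (.leaf 0x4b701de)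
(.leaf 0x24284780))
(.node (.leaf 0x13ecaff6)
(.leaf 0)))
(.node (.node (.leaf 0xc76cc92)
(.leaf 0x2c0a7508))
(.node (.leaf 0x1c8506ec)
(.leaf 0)))))
(.node (.node (.node (.node (.leaf 0x21ac308)
(.leaf 0x21c6f248))
(.node (.leaf 0x12b11029)
(.leaf 0)))
(.node (.node (.leaf 0xa8ed13c)
(.leaf 0x2a68d6ac))
(.node (.leaf 0x18a6edfb)
(.leaf 0))))
(.node (.node (.node (.leaf 61)
(.leaf 0x26dcd179))
(.node (.leaf 0x164094b5)
(.leaf 0)))
(.node (.node (.leaf 0xde8f051)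
(.leaf 0x2ec7152d))
(.node (.leaf 0x1e224f37)
(.leaf 0))))))
(.node (.node (.node (.node (.node (.leaf 0x1ae42fb)
(.leaf 0x2128cfe1))
(.node (.leaf 0x1104e8d6)
(.leaf 0)))
(.node (.node (.leaf 0x9c8a65d)
(.leaf 0x29e2f596))
(.node (.leaf 0x17ca6d2d)
(.leaf 0))))
(.node (.node (.node (.leaf 0x5c2e0d1)
(.leaf 0x24cf0f0e))
(.node (.leaf 0x1564477e)
(.leaf 0)))
(.node (.node (.leaf 0xcf8ce84)
(.leaf 0x2cc8d780))
(.node (.leaf 0x1ddaa5dc)
(.leaf 0)))))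
(.node (.node (.node (.node (.leaf 0x2da6134)
(.leaf 0x23da8b42))
(.node (.leaf 0x1348724a)
(.leaf 0)))
(.node (.node (.leaf 0xbeec6be)
(.leaf 0x2bb8f72f))
(.node (.leaf 0x1b66eba0)
(.leaf 0))))
(.node (.node (.node (.leaf 0x7648410)
(.leaf 0x275cf4ac))
(.node (.leaf 0x169ccdf3)
(.leaf 0)))
(.node (.node (.leaf 0xf74abea)
(.leaf 0x2fdcf79d))
(.node (.leaf 0x1ec6ef7a)
(.leaf 0)))))))))))
(.node (.node (.node (.node (.node (.node (.node (.node (.node (.node (.leaf 573445)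
(.leaf 0x1edee80d))
(.node (.leaf 0xf7b0ea4)
(.leaf 0x2fe4d7ed)))
(.node (.node (.leaf 0x770c2de)
(.leaf 0x2771143a))
(.node (.leaf 0x16a672cc)
(.leaf 0))))
(.node (.node (.node (.leaf 0x2f0c090)
(.leaf 0x23e11216))
(.node (.leaf 0x13510a0a)
(.leaf 0)))
(.node (.node (.leaf 0xbf8a4af)
(.leaf 0x2bbe564e))
(.node (.leaf 1185)
(.leaf 0)))))
(.node (.node (.node (.node (.leaf 0x1b6e3f9)
(.leaf 0x2136471c))
(.node (.leaf 0x112f06fa)
(.leaf 0)))
(.node (.node (.leaf 1158)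
(.leaf 0x2a00b5fd))
(.node (.leaf 0x17d8b094)
(.leaf 0))))
(.node (.node (.node (.leaf 0x5f0e3e6)
(.leaf 0x24e0af0f))
(.node (.leaf 1179)
(.leaf 0)))
(.node (.node (.leaf 0xd0ae7c2)
(.leaf 0x2cdeb7d7))
(.node (.leaf 0x1ddee8b9)
(.leaf 0))))))
(.node (.node (.node (.node (.node (.leaf 0x70e204)
(.leaf 0x20e06c6a))
(.node (.leaf 0x100af1fb)
(.leaf 0x30fed79a)))
(.node (.node (.leaf 0x906a549)
(.leaf 0x28da6962))
(.node (.leaf 0x17370e00)
(.leaf 0))))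
(.node (.node (.node (.leaf 0x4c302fc)
(.leaf 0x2436cb34))
(.node (.leaf 0x13fccffb)
(.leaf 0)))
(.node (.node (.leaf 0xc7ee8bc)
(.leaf 0x2c1b162c))
(.node (.leaf 0x1c8b1298)
(.leaf 0)))))
(.node (.node (.node (.node (.leaf 0x22502d5)
(.leaf 0x21d6eacd))
(.node (.leaf 1178)
(.leaf 0)))
(.node (.node (.leaf 0xa9d1085)
(.leaf 0x2a70b6d5))
(.node (.leaf 0x18d8f1f4)
(.leaf 0))))
(.node (.node (.node (.leaf 0x6fe6214)
(.leaf 0x26e2aeae))
(.node (.leaf 0x1648eacf)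
(.leaf 0)))
(.node (.node (.leaf 0xe18b247)
(.leaf 0x2ed51548))
(.node (.leaf 0x1e2acf7b)
(.leaf 0)))))))
(.node (.node (.node (.node (.node (.node (.leaf 0x384252)
(.leaf 0x1f5cef84))
(.node (.leaf 0xfa6ec21)
(.leaf 0x3054f775)))
(.node (.node (.leaf 0x81f046e)
(.leaf 0x2864c678))
(.node (.leaf 0x16eeaada)
(.leaf 0))))
(.node (.node (.node (.leaf 0x3d8e412)
(.leaf 0x2408486e))
(.node (.leaf 0x13867284)
(.leaf 0)))
(.node (.node (.leaf 0xc5b0c56)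
(.leaf 0x2be71628))
(.node (.leaf 0x1c610e90)
(.leaf 0)))))
(.node (.node (.node (.node (.leaf 0x1e4a36b)
(.leaf 0x217ea74e))
(.node (.leaf 0x125ca93f)
(.leaf 0)))
(.node (.node (.leaf 0xa728bd9)
(.leaf 0x2a3ef7a3))
(.node (.leaf 0x1850c779)
(.leaf 0))))
(.node (.node (.node (.leaf 0x682846a)
(.leaf 0x25a0d35b))
(.node (.leaf 0x16270ade)
(.leaf 0)))
(.node (.node (.leaf 0xd60c7cf)
(.leaf 0x2db916e9))
(.node (.leaf 0x1dfea8b0)
(.leaf 0))))))
(.node (.node (.node (.node (.node (.leaf 0x11ca364)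
(.leaf 0x210510f2))
(.node (.leaf 0x107cc80f)
(.leaf 0)))
(.node (.node (.leaf 0x962e49e)
(.leaf 0x2984f4ec))
(.node (.leaf 0x178707e9)
(.leaf 0))))
(.node (.node (.node (.leaf 0x56ae3da)
(.leaf 0x2486ef0b))
(.node (.leaf 0x147aefef)
(.leaf 0)))
(.node (.node (.leaf 0xcb04e63)
(.leaf 0x2c7ab7ea))
(.node (.leaf 0x1d0ee5e2)
(.leaf 0)))))
(.node (.node (.node (.node (.leaf 0x281014f)
(.leaf 0x22730f43))
(.node (.leaf 0x13267172)
(.leaf 0)))
(.node (.node (.leaf 0xaea8ffd)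
(.leaf 0x2b09164f))
(.node (.leaf 0x1984b228)
(.leaf 0))))
(.node (.node (.node (.leaf 0x73843bc)
(.leaf 0x27126abc))
(.node (.leaf 0x1670a620)
(.leaf 0)))
(.node (.node (.leaf 0xf58d0c5)
(.leaf 0x2f7716bf))
(.node (.leaf 0x1e6aac16)
(.leaf 0))))))))
(.node (.node (.node (.node (.node (.node (.node (.leaf 0x26424b)
(.leaf 0x1f0cb334))
(.node (.leaf 0xf8f0aa0)
(.leaf 0x3007188a)))
(.node (.node (.leaf 0x786e38e)
(.leaf 0x27c6efb6))
(.node (.leaf 0x16cd105b)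
(.leaf 0))))
(.node (.node (.node (.leaf 0x368a018)
(.leaf 0x23f2c985))
(.node (.leaf 0x13629101)
(.leaf 0)))
(.node (.node (.leaf 1163)
(.leaf 0x2bced6e8))
(.node (.leaf 0x1c40e6bc)
(.leaf 0)))))
(.node (.node (.node (.node (.leaf 0x1ca6171)
(.leaf 0x2152c94e))
(.node (.leaf 1177)
(.leaf 0)))
(.node (.node (.leaf 0xa28c4bd)
(.leaf 0x2a2e7866))
(.node (.leaf 0x1804ef97)
(.leaf 0))))
(.node (.node (.node (.leaf 0x62ac2ce)
(.leaf 0x251c6a7d))
(.node (.leaf 0x16191071)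
(.leaf 0)))
(.node (.node (.leaf 0xd366eca)
(.leaf 0x2d331726))
(.node (.leaf 0x1dec683c)
(.leaf 0))))))
(.node (.node (.node (.node (.node (.leaf 0xb4e191)
(.leaf 0x20f0a83d))
(.node (.leaf 0x1046ceb7)
(.leaf 0)))
(.node (.node (.leaf 1157)
(.leaf 0x28fd0c15))
(.node (.leaf 0x1760d2b1)
(.leaf 0))))
(.node (.node (.node (.leaf 0x518e40b)
(.leaf 0x24608a7f))
(.node (.leaf 0x1434e9d3)
(.leaf 0)))
(.node (.node (.leaf 0xc94a8cb)
(.leaf 0x2c4cd84c))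
(.node (.leaf 0x1caaaf52)
(.leaf 0)))))
(.node (.node (.node (.node (.leaf 0x250e1cc)
(.leaf 0x2236ec3e))
(.node (.leaf 0x1318b0bf)
(.leaf 0)))
(.node (.node (.leaf 0xab510a9)
(.leaf 0x2a96778c))
(.node (.leaf 0x193acd4e)
(.leaf 0))))
(.node (.node (.node (.leaf 0x72ca263)
(.leaf 0x26fa9463))
(.node (.leaf 0x165ce6aa)
(.leaf 0)))
(.node (.node (.leaf 1175)
(.leaf 0x2f06f834))
(.node (.leaf 0x1e42e5ea)
(.leaf 0)))))))
(.node (.node (.node (.node (.node (.node (.leaf 0x4e8194)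
(.leaf 0x2036a626))
(.node (.leaf 0xfcd1340)
(.leaf 0x30ab1806)))
(.node (.node (.leaf 0x8aee286)
(.leaf 0x28c28d96))
(.node (.leaf 0x170ed0da)
(.leaf 0))))
(.node (.node (.node (.leaf 0x4a8c13c)
(.leaf 0x241aeda8))
(.node (.leaf 0x13b8cf33)
(.leaf 0)))
(.node (.node (.leaf 0xc6ab0f4)
(.leaf 0x2bfa7681))
(.node (.leaf 0x1c76ec7a)
(.leaf 0)))))
(.node (.node (.node (.node (.leaf 0x2066124)
(.leaf 0x21aaa8fd))
(.node (.leaf 0x127e91b7)
(.leaf 0)))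
(.node (.node (.leaf 0xa82e9bb)
(.leaf 0x2a56f72e))
(.node (.leaf 0x188910a5)
(.leaf 0))))
(.node (.node (.node (.leaf 0x6aec0e0)
(.leaf 0x2644c6bf))
(.node (.leaf 0x1636cd94)
(.leaf 0)))
(.node (.node (.leaf 0xd950984)
(.leaf 0x2eb6d639))
(.node (.leaf 0x1e14ae6d)
(.leaf 0))))))
(.node (.node (.node (.node (.node (.leaf 0x1a680c6)
(.leaf 0x211a4fd2))
(.node (.leaf 0x10c91419)
(.leaf 0)))
(.node (.node (.leaf 0x98904fa)
(.leaf 0x29b0f4d5))
(.node (.leaf 0x17acb3be)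
(.leaf 0))))
(.node (.node (.node (.leaf 0x58b0343)
(.leaf 0x24b70a82))
(.node (.leaf 0x14f8c568)
(.leaf 0)))
(.node (.node (.leaf 0xcdae66a)
(.leaf 0x2ca676a3))
(.node (.leaf 0x1d96edc9)
(.leaf 0)))))
(.node (.node (.node (.node (.leaf 0x2a6c00d)
(.leaf 0x2374e537))
(.node (.leaf 0x133b138f)
(.leaf 0)))
(.node (.node (.leaf 0xb3512f0)
(.leaf 0x2baef5de))
(.node (.leaf 0x1a16d3ea)
(.leaf 0))))
(.node (.node (.node (.leaf 0x74ca463)
(.leaf 0x2738afb3))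
(.node (.leaf 0x168b0d75)
(.leaf 0)))
(.node (.node (.leaf 0xf66ce92)
(.leaf 0x2f9ad6ec))
(.node (.leaf 0x1e98ae22)
(.leaf 0)))))))))
(.node (.node (.node (.node (.node (.node (.node (.node (.leaf 0x20a23f)
(.leaf 0x1efcc5e1))
(.node (.leaf 0xf84eb70)
(.leaf 0x2ff2f67a)))
(.node (.node (.leaf 0x77ca471)
(.leaf 0x2788d159))
(.node (.leaf 0x16b8ca50)
(.leaf 0))))
(.node (.node (.node (.leaf 0x312e13a)
(.leaf 0x23e87187))
(.node (.leaf 0x135acb99)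
(.leaf 0)))
(.node (.node (.leaf 0xc0ac7be)
(.leaf 0x2bc716ca))
(.node (.leaf 0x1c29054f)
(.leaf 0)))))
(.node (.node (.node (.node (.leaf 0x1c0c2a5)
(.leaf 0x21444e60))
(.node (.leaf 0x117ccf0a)
(.leaf 0)))
(.node (.node (.leaf 0xa17055f)
(.leaf 0x2a2b152f))
(.node (.leaf 0x17f04df4)
(.leaf 0))))
(.node (.node (.node (.leaf 0x620605c)
(.leaf 0x24fa4a00))
(.node (.leaf 0x1612c564)
(.leaf 0)))
(.node (.node (.leaf 0xd22d056)
(.leaf 0x2d02b606))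
(.node (.leaf 0x1de669b4)
(.leaf 0))))))
(.node (.node (.node (.node (.node (.leaf 0x98e1b8)
(.leaf 0x20e69207))
(.node (.leaf 0x1026c4aa)
(.leaf 0x312657f4)))
(.node (.node (.leaf 0x922c5f0)
(.leaf 0x28e8c9d0))
(.node (.leaf 0x174d09af)
(.leaf 0))))
(.node (.node (.node (.leaf 0x4dcc126)
(.leaf 0x2448a510))
(.node (.leaf 0x1418d24c)
(.leaf 0)))
(.node (.node (.leaf 0xc88735e)
(.leaf 0x2c2ef6fc))
(.node (.leaf 0x1c9ef359)
(.leaf 0)))))
(.node (.node (.node (.node (.leaf 0x23ac177)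
(.leaf 0x21f4cf2c))
(.node (.leaf 0x131287a7)
(.leaf 0)))
(.node (.node (.leaf 0xaa71426)
(.leaf 0x2a7ed75c))
(.node (.leaf 0x18feeba4)
(.leaf 0))))
(.node (.node (.node (.leaf 0x726e351)
(.leaf 0x26ec5135))
(.node (.leaf 0x1652c7e3)
(.leaf 0)))
(.node (.node (.leaf 0xe84edd4)
(.leaf 0x2ee87608))
(.node (.leaf 0x1e346e28)
(.leaf 0)))))))
(.node (.node (.node (.node (.node (.node (.leaf 0x42a08e)
(.leaf 0x1f8cb371))
(.node (.leaf 0xfb2c80b)
(.leaf 0x309af85a)))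
(.node (.node (.leaf 0x8a6a3f0)
(.leaf 0x28768bb2))
(.node (.leaf 0x16fab066)
(.leaf 0))))
(.node (.node (.node (.leaf 0x4a10028)
(.leaf 0x2410d441))
(.node (.leaf 0x13a4ca25)
(.leaf 0)))
(.node (.node (.leaf 0xc62c53c)
(.leaf 0x2beeb819))
(.node (.leaf 0x1c68cf78)
(.leaf 0)))))
(.node (.node (.node (.node (.leaf 0x1eec1d0)
(.leaf 0x2192afd1))
(.node (.leaf 0x126a479f)
(.leaf 0)))
(.node (.node (.leaf 0xa78ada4)
(.leaf 0x2a4a5654))
(.node (.leaf 0x1870f001)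
(.leaf 0))))
(.node (.node (.node (.leaf 0x69b03dc)
(.leaf 0x25dd106a))
(.node (.leaf 0x162e875b)
(.leaf 0)))
(.node (.node (.leaf 0xd6af1ea)
(.leaf 0x2eaa5581))
(.node (.leaf 0x1e08881a)
(.leaf 0))))))
(.node (.node (.node (.node (.node (.leaf 0x19ee409)
(.leaf 0x211085ca))
(.node (.leaf 0x1094cbf3)
(.leaf 0)))
(.node (.node (.leaf 0x974e48f)
(.leaf 0x299eb515))
(.node (.leaf 0x17930b36)
(.leaf 0))))
(.node (.node (.node (.leaf 0x57b00be)
(.leaf 0x249ce6e4))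
(.node (.leaf 0x14b470db)
(.leaf 0)))
(.node (.node (.leaf 0xcc2d048)
(.leaf 0x2c8c95f1))
(.node (.leaf 0x1d3d0db5)
(.leaf 0)))))
(.node (.node (.node (.node (.leaf 0x292401e)
(.leaf 0x229ec903))
(.node (.leaf 0x1330c6af)
(.leaf 0)))
(.node (.node (.leaf 0xb110dac)
(.leaf 0x2baa9514))
(.node (.leaf 0x19aaeea7)
(.leaf 0))))
(.node (.node (.node (.leaf 0x74503a0)
(.leaf 0x27230cf9))
(.node (.leaf 0x1678723a)
(.leaf 0)))
(.node (.node (.leaf 0xf5eef54)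
(.leaf 0x2f81168c))
(.node (.leaf 0x1e78eaa1)
(.leaf 0))))))))
(.node (.node (.node (.node (.node (.node (.node (.leaf 0x2f00f9)
(.leaf 0x1f311148))
(.node (.leaf 0xf98d32e)
(.leaf 0x302eb892)))
(.node (.node (.leaf 0x7b4a37b)
(.leaf 0x285aa6e2))
(.node (.leaf 0x16dec9b7)
(.leaf 0))))
(.node (.node (.node (.leaf 0x3a6e266)
(.leaf 0x23fd10bc))
(.node (.leaf 0x1370ab24)
(.leaf 0)))
(.node (.node (.leaf 0xc52d1e3)
(.leaf 0x2bda96eb))
(.node (.leaf 0x1c588f19)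
(.leaf 0)))))
(.node (.node (.node (.node (.leaf 0x1d4e2ea)
(.leaf 0x21690eb6))
(.node (.leaf 0x12529435)
(.leaf 0)))
(.node (.node (.leaf 1159)
(.leaf 0x2a38f5c5))
(.node (.leaf 0x1826f1e5)
(.leaf 0))))
(.node (.node (.node (.leaf 0x63c81df)
(.leaf 0x254ecb10))
(.node (.leaf 0x161e8e9b)
(.leaf 0)))
(.node (.node (.leaf 0xd4af36e)
(.leaf 0x2d76b50a))
(.node (.leaf 0x1df51411)
(.leaf 0))))))
(.node (.node (.node (.node (.node (.leaf 0xda6175)
(.leaf 0x20fa851a))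
(.node (.leaf 0x105ccf1f)
(.leaf 0)))
(.node (.node (.leaf 0x95705d5)
(.leaf 0x2928d4a0))
(.node (.leaf 0x1772d189)
(.leaf 0))))
(.node (.node (.node (.leaf 0x560e3c6)
(.leaf 0x2473120a))
(.node (.leaf 0x144cd127)
(.leaf 0)))
(.node (.node (.leaf 0xc9ec97e)
(.leaf 0x2c62f7b3))
(.node (.leaf 0x1cd4c8b2)
(.leaf 0)))))
(.node (.node (.node (.node (.leaf 0x264e2f4)
(.leaf 0x22570c1d))
(.node (.leaf 0x131e548a)
(.leaf 0)))
(.node (.node (.leaf 0xacf09bc)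
(.leaf 0x2abed5d4))
(.node (.leaf 0x1968eba1)
(.leaf 0))))
(.node (.node (.node (.leaf 0x732843a)
(.leaf 0x27071153))
(.node (.leaf 0x1664ac64)
(.leaf 0)))
(.node (.node (.leaf 0xf52caf1)
(.leaf 0x2f40d6e2))
(.node (.leaf 0x1e58b22c)
(.leaf 0)))))))
(.node (.node (.node (.node (.node (.node (.leaf 0x5c411a)
(.leaf 0x20db058e))
(.node (.leaf 0xfe46c8b)
(.leaf 0x30c51895)))
(.node (.node (.leaf 0x8c9027a)
(.leaf 0x28caf38e))
(.node (.leaf 0x17224a2b)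
(.leaf 0))))
(.node (.node (.node (.leaf 0x4b4c0a4)
(.leaf 0x2424aac1))
(.node (.leaf 0x13e2d174)
(.leaf 0)))
(.node (.node (.leaf 0xc7444fe)
(.leaf 0x2c06d6ad))
(.node (.leaf 0x1c8306ed)
(.leaf 0)))))
(.node (.node (.node (.node (.leaf 0x217026c)
(.leaf 0x21c0e97a))
(.node (.leaf 0x129e50f9)
(.leaf 0)))
(.node (.node (.leaf 0xa8c4d73)
(.leaf 0x2a631638))
(.node (.leaf 0x18a0e5f1)
(.leaf 0))))
(.node (.node (.node (.leaf 0x6ccc03e)
(.leaf 0x26da8a44))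
(.node (.leaf 0x16406971)
(.leaf 0)))
(.node (.node (.leaf 0xdb273e1)
(.leaf 0x2ebf187a))
(.node (.leaf 0x1e20ef2d)
(.leaf 0))))))
(.node (.node (.node (.node (.node (.leaf 0x1ae81da)
(.leaf 0x2126ce78))
(.node (.leaf 0x10f2cdd6)
(.leaf 0)))
(.node (.node (.leaf 0x9aaedab)
(.leaf 0x29d6d4f5))
(.node (.leaf 0x17c7106d)
(.leaf 0))))
(.node (.node (.node (.leaf 0x5b6e337)
(.leaf 0x24cad183))
(.node (.leaf 0x153cf360)
(.leaf 0)))
(.node (.node (.leaf 0xcf46bde)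
(.leaf 0x2cc11556))
(.node (.leaf 0x1dd88829)
(.leaf 0)))))
(.node (.node (.node (.node (.leaf 0x2c4e1b9)
(.leaf 0x23d8b106))
(.node (.leaf 0x13465262)
(.leaf 0)))
(.node (.node (.leaf 1160)
(.leaf 0x2bb71727))
(.node (.leaf 0x1a62f22e)
(.leaf 0))))
(.node (.node (.node (.leaf 0x76101ce)
(.leaf 0x2758f077))
(.node (.leaf 0x169914b3)
(.leaf 0)))
(.node (.node (.leaf 0xf6eef5a)
(.leaf 0x2fdb174b))
(.node (.leaf 0x1ebea597)
(.leaf 0))))))))))
(.node (.node (.node (.node (.node (.node (.node (.node (.node (.leaf 3)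
(.leaf 0x1ef0ccb5))
(.node (.leaf 0xf8067c4)
(.leaf 0x2feb1869)))
(.node (.node (.leaf 0x7766451)
(.leaf 0x277cebcb))
(.node (.leaf 0x16b0a500)
(.leaf 0))))
(.node (.node (.node (.leaf 0x2fac096)
(.leaf 0x23e45015))
(.node (.leaf 0x1354d477)
(.leaf 0)))
(.node (.node (.leaf 0xc02e546)
(.leaf 0x2bc2570e))
(.node (.leaf 0x1c14c658)
(.leaf 0)))))
(.node (.node (.node (.node (.leaf 0x1bcc12e)
(.leaf 0x213f11b9))
(.node (.leaf 0x1156cce6)
(.leaf 0)))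
(.node (.node (.leaf 0xa10a5a6)
(.leaf 0x2a0f1564))
(.node (.leaf 0x17e6ea5f)
(.leaf 0))))
(.node (.node (.node (.leaf 31)
(.leaf 0x24ecd1a9))
(.node (.leaf 0x160eb438)
(.leaf 0)))
(.node (.node (.leaf 0xd16ad9d)
(.leaf 0x2ceb17c8))
(.node (.leaf 0x1de2edce)
(.leaf 0))))))
(.node (.node (.node (.node (.node (.leaf 0x8c6361)
(.leaf 0x20e4cb5b))
(.node (.leaf 0x1019060b)
(.leaf 0x310f169b)))
(.node (.node (.leaf 1156)
(.leaf 0x28e313d2))
(.node (.leaf 0x17431398)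
(.leaf 0))))
(.node (.node (.node (.leaf 0x4ce428d)
(.leaf 0x2440aa05))
(.node (.leaf 0x140eed82)
(.leaf 0)))
(.node (.node (.leaf 0xc84ae8c)
(.leaf 0x2c247523))
(.node (.leaf 0x1c930e56)
(.leaf 0)))))
(.node (.node (.node (.node (.leaf 0x22e82a3)
(.leaf 0x21e6ca31))
(.node (.leaf 0x130ef43b)
(.leaf 0)))
(.node (.node (.leaf 0xaa2f372)
(.leaf 0x2a78b7ac))
(.node (.leaf 0x18e8ec6f)
(.leaf 0))))
(.node (.node (.node (.leaf 0x710e0c8)
(.leaf 0x26e6f0e1))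
(.node (.leaf 0x164cac5d)
(.leaf 0)))
(.node (.node (.leaf 0xe34c89b)
(.leaf 0x2ee2d51c))
(.node (.leaf 0x1e2f0bff)
(.leaf 0)))))))
(.node (.node (.node (.node (.node (.node (.leaf 0x3d0282)
(.leaf 0x1f7cb462))
(.node (.leaf 0xfaeacbf)
(.leaf 0x3096b7f5)))
(.node (.node (.leaf 0x84ea371)
(.leaf 0x286a52bf))
(.node (.leaf 0x16f4f259)
(.leaf 0))))
(.node (.node (.node (.leaf 11)
(.leaf 0x240d1383))
(.node (.leaf 0x13926c60)
(.leaf 0)))
(.node (.node (.leaf 0xc5e682b)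
(.leaf 0x2beab69a))
(.node (.leaf 0x1c64879d)
(.leaf 0)))))
(.node (.node (.node (.node (.leaf 0x1ea80eb)
(.leaf 0x2188af91))
(.node (.leaf 0x1262a63d)
(.leaf 0)))
(.node (.node (.leaf 0xa770567)
(.leaf 0x2a447807))
(.node (.leaf 0x185ee57f)
(.leaf 0))))
(.node (.node (.node (.leaf 0x697021a)
(.leaf 0x25c4b09f))
(.node (.leaf 0x162ac6e8)
(.leaf 0)))
(.node (.node (.leaf 0xd651302)
(.leaf 0x2dfab77b))
(.node (.leaf 0x1e026fc1)
(.leaf 0))))))
(.node (.node (.node (.node (.node (.leaf 10)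
(.leaf 0x210ad1a1))
(.node (.leaf 0x1089091c)
(.leaf 0)))
(.node (.node (.leaf 0x96ca5f2)
(.leaf 0x299b14ef))
(.node (.leaf 0x178cf263)
(.leaf 0))))
(.node (.node (.node (.leaf 0x572c3e9)
(.leaf 0x2492afae))
(.node (.leaf 0x14a6f030)
(.leaf 0)))
(.node (.node (.leaf 0xcb90dba)
(.leaf 0x2c82f64a))
(.node (.leaf 0x1d2aecd4)
(.leaf 0)))))
(.node (.node (.node (.node (.leaf 0x289012f)
(.leaf 0x228b0902))
(.node (.leaf 0x132b0b18)
(.leaf 0)))
(.node (.node (.leaf 0xb00f47d)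
(.leaf 0x2b2f175a))
(.node (.leaf 0x1998f348)
(.leaf 0))))
(.node (.node (.node (.leaf 0x7406479)
(.leaf 0x271ab2b8))
(.node (.leaf 0x1674f0c2)
(.leaf 0)))
(.node (.node (.leaf 0xf5c4858)
(.leaf 0x2f7a9803))
(.node (.leaf 0x1e72c583)
(.leaf 0))))))))
(.node (.node (.node (.node (.node (.node (.node (.leaf 0x2a825d)
(.leaf 0x1f186667))
(.node (.leaf 0xf924e21)
(.leaf 0x3014b86f)))
(.node (.node (.leaf 0x79c8362)
(.leaf 0x2856c6e7))
(.node (.leaf 0x16d49238)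
(.leaf 0))))
(.node (.node (.node (.leaf 0x38ee09a)
(.leaf 0x23f90792))
(.node (.leaf 0x136b111b)
(.leaf 0)))
(.node (.node (.leaf 0xc5104ae)
(.leaf 0x2bd455d6))
(.node (.leaf 0x1c564848)
(.leaf 0)))))
(.node (.node (.node (.node (.leaf 0x1d04105)
(.leaf 0x215ec6f9))
(.node (.leaf 0x12504648)
(.leaf 0)))
(.node (.node (.leaf 0xa32c5c1)
(.leaf 0x2a32f746))
(.node (.leaf 0x181712b2)
(.leaf 0))))
(.node (.node (.node (.leaf 0x630831b)
(.leaf 0x252d0616))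
(.node (.leaf 0x161d0951)
(.leaf 0)))
(.node (.node (.leaf 0xd411057)
(.leaf 0x2d46b5bd))
(.node (.leaf 0x1df09384)
(.leaf 0))))))
(.node (.node (.node (.node (.node (.leaf 0xcb0258)
(.leaf 0x20f4ee69))
(.node (.leaf 0x1050abfa)
(.leaf 0)))
(.node (.node (.leaf 0x950a5d6)
(.leaf 0x29106788))
(.node (.leaf 0x1768abd4)
(.leaf 0))))
(.node (.node (.node (.leaf 16)
(.leaf 0x246b0b13))
(.node (.leaf 0x1442efe4)
(.leaf 0)))
(.node (.node (.leaf 0xc988fd9)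
(.leaf 0x2c58d58a))
(.node (.leaf 0x1cc2a643)
(.leaf 0)))))
(.node (.node (.node (.node (.leaf 0x25b010c)
(.leaf 0x2248e8e4))
(.node (.leaf 0x131c4786)
(.leaf 0)))
(.node (.node (.leaf 0xac0e9a2)
(.leaf 0x2aa6b798))
(.node (.leaf 0x1950ef13)
(.leaf 0))))
(.node (.node (.node (.leaf 0x72e444d)
(.leaf 0x2700f294))
(.node (.leaf 0x166107a0)
(.leaf 0)))
(.node (.node (.leaf 0xf4e6f82)
(.leaf 0x2f23179c))
(.node (.leaf 0x1e4ce90c)
(.leaf 0)))))))
(.node (.node (.node (.node (.node (.node (.leaf 0x55015e)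
(.leaf 0x20d6676c))
(.node (.leaf 0xfdae6c1)
(.leaf 0x30b71876)))
(.node (.node (.leaf 0x8b26384)
(.leaf 0x28c86d14))
(.node (.leaf 0x1718f1a2)
(.leaf 0))))
(.node (.node (.node (.leaf 0x4ad00fd)
(.leaf 0x241e90d8))
(.node (.leaf 0x13c8f02e)
(.leaf 0)))
(.node (.node (.leaf 0xc7068a1)
(.leaf 0x2c00558e))
(.node (.leaf 0x1c7c85cb)
(.leaf 0)))))
(.node (.node (.node (.node (.leaf 0x20f0296)
(.leaf 0x21b64f02))
(.node (.leaf 0x128ca9dc)
(.leaf 0)))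
(.node (.node (.leaf 0xa86ad7f)
(.leaf 0x2a5a780b))
(.node (.leaf 0x18946b8f)
(.leaf 0))))
(.node (.node (.node (.leaf 0x6b501aa)
(.leaf 0x26d70945))
(.node (.leaf 0x163af4a4)
(.leaf 0)))
(.node (.node (.leaf 0xda8c86d)
(.leaf 0x2eba75da))
(.node (.leaf 0x1e1aae7c)
(.leaf 0))))))
(.node (.node (.node (.node (.node (.leaf 0x1aaa0bd)
(.leaf 0x2120ecca))
(.node (.leaf 0x10e2c740)
(.leaf 0)))
(.node (.node (.leaf 0x99d05a4)
(.leaf 0x29beb4ed))
(.node (.leaf 0x17bad20d)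
(.leaf 0))))
(.node (.node (.node (.leaf 0x5a500cd)
(.leaf 0x24c0d139))
(.node (.leaf 0x1524eb22)
(.leaf 0)))
(.node (.node (.leaf 0xce8cb79)
(.leaf 0x2cb8f60a))
(.node (.leaf 0x1dd66831)
(.leaf 0)))))
(.node (.node (.node (.node (.leaf 0x2b9018c)
(.leaf 0x23d6699b))
(.node (.leaf 0x133e8b94)
(.leaf 0)))
(.node (.node (.leaf 0xb60b49b)
(.leaf 0x2bb515a1))
(.node (.leaf 0x1a36abaf)
(.leaf 0))))
(.node (.node (.node (.leaf 0x752e45c)
(.leaf 0x2747146b))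
(.node (.leaf 0x1692e69c)
(.leaf 0)))
(.node (.node (.leaf 0xf6aafc9)
(.leaf 0x2fd6f72a))
(.node (.leaf 0x1ea8a6c9)
(.leaf 0)))))))))
(.node (.node (.node (.node (.node (.node (.node (.node (.leaf 0x22e262)
(.leaf 0x1f04c8c8))
(.node (.leaf 0xf88d4bd)
(.leaf 0x2fff1889)))
(.node (.node (.leaf 0x782e3c0)
(.leaf 0x27a6ccdb))
(.node (.leaf 0x16c2449f)
(.leaf 0))))
(.node (.node (.node (.leaf 0x336e0a2)
(.leaf 0x23ef0c49))
(.node (.leaf 0x135ef10a)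
(.leaf 0)))
(.node (.node (.leaf 0xc1f0563)
(.leaf 0x2bcb14dd))
(.node (.leaf 0x1c2ea79a)
(.leaf 0)))))
(.node (.node (.node (.node (.leaf 0x1c6e2ac)
(.leaf 0x214ec6d0))
(.node (.leaf 0x11aad379)
(.leaf 0)))
(.node (.node (.leaf 0xa1ee5b4)
(.leaf 0x2a2c5540))
(.node (.leaf 0x17fd0881)
(.leaf 0))))
(.node (.node (.node (.leaf 0x625024a)
(.leaf 0x2508d453))
(.node (.leaf 0x161447a6)
(.leaf 0)))
(.node (.node (.leaf 0xd2ad40c)
(.leaf 0x2d1cd684))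
(.node (.leaf 0x1de8cf87)
(.leaf 0))))))
(.node (.node (.node (.node (.node (.leaf 0xa6a08b)
(.leaf 0x20eceabe))
(.node (.leaf 0x1036e585)
(.leaf 0)))
(.node (.node (.leaf 0x92d07bc)
(.leaf 0x28f0716c))
(.node (.leaf 0x1756b439)
(.leaf 0))))
(.node (.node (.node (.leaf 0x4f0e048)
(.leaf 0x2452d2cb))
(.node (.leaf 0x1426d4b2)
(.leaf 0)))
(.node (.node (.leaf 0xc8e6dc7)
(.leaf 0x2c3b1864))
(.node (.leaf 0x1ca4aa92)
(.leaf 0)))))
(.node (.node (.node (.node (.leaf 0x24260ed)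
(.leaf 0x221cccd6))
(.node (.leaf 0x1314f28b)
(.leaf 0)))
(.node (.node (.leaf 0xaae87e8)
(.leaf 0x2a86d5bf))
(.node (.leaf 0x1918ed35)
(.leaf 0))))
(.node (.node (.node (.leaf 0x7290385)
(.leaf 0x26f2b0d1))
(.node (.leaf 0x1656f3d6)
(.leaf 0)))
(.node (.node (.leaf 0xea4c7d0)
(.leaf 0x2ef0f7ba))
(.node (.leaf 0x1e3aae4a)
(.leaf 0)))))))
(.node (.node (.node (.node (.node (.node (.leaf 0x48e29c)
(.leaf 0x1ff2efc4))
(.node (.leaf 0xfbae4e7)
(.leaf 0x30a0589a)))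
(.node (.node (.leaf 0x8a8646c)
(.leaf 0x28bd075c))
(.node (.leaf 0x17050b4c)
(.leaf 0))))
(.node (.node (.node (.leaf 0x4a28404)
(.leaf 0x2416d0d5))
(.node (.leaf 0x13acb0b9)
(.leaf 0)))
(.node (.node (.leaf 0xc668c2b)
(.leaf 0x2bf456ba))
(.node (.leaf 0x1c6d1292)
(.leaf 0)))))
(.node (.node (.node (.node (.leaf 0x1f70145)
(.leaf 0x219ee89d))
(.node (.leaf 0x1274c9a7)
(.leaf 0)))
(.node (.node (.leaf 0xa7f07ab)
(.leaf 0x2a5076a7))
(.node (.leaf 0x187eecb6)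
(.leaf 0))))
(.node (.node (.node (.leaf 0x6a2e3c8)
(.leaf 0x25f2a9b1))
(.node (.leaf 0x1632aea1)
(.leaf 0)))
(.node (.node (.leaf 0xd811188)
(.leaf 0x2eb2762d))
(.node (.leaf 0x1e0c6e77)
(.leaf 0))))))
(.node (.node (.node (.node (.node (.leaf 0x1a2e345)
(.leaf 0x2116a836))
(.node (.leaf 0x109ed358)
(.leaf 0)))
(.node (.node (.leaf 0x980e4bf)
(.leaf 0x29a4f4d8))
(.node (.leaf 0x179ed014)
(.leaf 0))))
(.node (.node (.node (.leaf 0x584e218)
(.leaf 0x24ad0e0a))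
(.node (.leaf 0x14cac639)
(.leaf 0)))
(.node (.node (.leaf 0xccca843)
(.leaf 0x2c9cd81a))
(.node (.leaf 0x1d66f2a8)
(.leaf 0)))))
(.node (.node (.node (.node (.leaf 0x29ac3a4)
(.leaf 0x22d2ccd7))
(.node (.leaf 0x1336c619)
(.leaf 0)))
(.node (.node (.leaf 0xb22b4b8)
(.leaf 0x2bacb531))
(.node (.leaf 0x19d31397)
(.leaf 0))))
(.node (.node (.node (.leaf 0x7486468)
(.leaf 0x272ceb5e))
(.node (.leaf 0x168469da)
(.leaf 0)))
(.node (.node (.leaf 0xf62f041)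
(.leaf 0x2f8b15b3))
(.node (.leaf 0x1e8ce8d9)
(.leaf 0))))))))
(.node (.node (.node (.node (.node (.node (.node (.leaf 0x34a0e7)
(.leaf 0x1f450f94))
(.node (.leaf 0xf9e66d1)
(.leaf 0x304ab7c5)))
(.node (.node (.leaf 0x7dd035c)
(.leaf 0x285cf1c4))
(.node (.leaf 0x16e49122)
(.leaf 0))))
(.node (.node (.node (.leaf 0x3c8e0ff)
(.leaf 0x24024d23))
(.node (.leaf 0x137ac880)
(.leaf 0)))
(.node (.node (.leaf 0xc566d01)
(.leaf 0x2be0f742))
(.node (.leaf 0x1c5cee86)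
(.leaf 0)))))
(.node (.node (.node (.node (.leaf 0x1df00bf)
(.leaf 0x217306c2))
(.node (.leaf 0x1258aa22)
(.leaf 0)))
(.node (.node (.leaf 0xa70a671)
(.leaf 0x2a3a57e8))
(.node (.leaf 0x183f0681)
(.leaf 0))))
(.node (.node (.node (.leaf 56)
(.leaf 0x2560e653))
(.node (.leaf 0x1622920f)
(.leaf 0)))
(.node (.node (.leaf 0xd54d356)
(.leaf 0x2d92f573))
(.node (.leaf 0x1dfa89ce)
(.leaf 0))))))
(.node (.node (.node (.node (.node (.leaf 0xf2e0c2)
(.leaf 0x2100e6cd))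
(.node (.leaf 0x106e853e)
(.leaf 0)))
(.node (.node (.leaf 0x95cc565)
(.leaf 0x294acdfc))
(.node (.leaf 0x177c702f)
(.leaf 0))))
(.node (.node (.node (.leaf 0x566a0e6)
(.leaf 0x247ec63e))
(.node (.leaf 0x1456f15a)
(.leaf 0)))
(.node (.node (.leaf 0xca90b96)
(.leaf 0x2c6ef713))
(.node (.leaf 0x1cf6a8c1)
(.leaf 0)))))
(.node (.node (.node (.node (.leaf 0x26ec42f)
(.leaf 0x2262ccac))
(.node (.leaf 0x13228d83)
(.leaf 0)))
(.node (.node (.leaf 0xae0abc6)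
(.leaf 0x2ad6f570))
(.node (.leaf 0x197c64c0)
(.leaf 0))))
(.node (.node (.node (.leaf 0x73702ef)
(.leaf 0x270c494b))
(.node (.leaf 0x166a5180)
(.leaf 0)))
(.node (.node (.leaf 0xf568535)
(.leaf 0x2f7296cf))
(.node (.leaf 0x1e630e6c)
(.leaf 0)))))))
(.node (.node (.node (.node (.node (.node (.leaf 0x66a1c8)
(.leaf 0x20dc8c88))
(.node (.leaf 0xff4c980)
(.leaf 0x30f6f883)))
(.node (.node (.leaf 0x8d48475)
(.leaf 0x28d309c3))
(.node (.leaf 0x172e4df5)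
(.leaf 0))))
(.node (.node (.node (.leaf 0x4b8e2d2)
(.leaf 0x242af1f9))
(.node (.leaf 0x13f2a630)
(.leaf 0)))
(.node (.node (.leaf 0xc78a915)
(.leaf 0x2c0f1844))
(.node (.leaf 0x1c86ac29)
(.leaf 0)))))
(.node (.node (.node (.node (.leaf 0x21ee0a9)
(.leaf 0x21cecb73))
(.node (.leaf 0x12ceec5a)
(.leaf 0)))
(.node (.node (.leaf 0xa9313f4)
(.leaf 0x2a6ad79e))
(.node (.leaf 0x18bd06dc)
(.leaf 0))))
(.node (.node (.node (.leaf 0x6f6e3ca)
(.leaf 0x26ded2d8))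
(.node (.leaf 0x164292db)
(.leaf 0)))
(.node (.node (.leaf 0xdfaeaf9)
(.leaf 0x2ecad562))
(.node (.leaf 0x1e2686f6)
(.leaf 0))))))
(.node (.node (.node (.node (.node (.leaf 0x1b24122)
(.leaf 0x212aae2e))
(.node (.leaf 0x1118eee7)
(.leaf 0)))
(.node (.node (.leaf 0x9d10756)
(.leaf 0x29fab4da))
(.node (.leaf 0x17ccaac9)
(.leaf 0))))
(.node (.node (.node (.leaf 0x5c8a14a)
(.leaf 0x24d5067c))
(.node (.leaf 0x156f0f53)
(.leaf 0)))
(.node (.node (.leaf 0xd02ab0b)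
(.leaf 0x2cd2d593))
(.node (.leaf 0x1ddaec04)
(.leaf 0)))))
(.node (.node (.node (.node (.leaf 0x2de6244)
(.leaf 0x23dc6601))
(.node (.leaf 0x134cca01)
(.leaf 0)))
(.node (.node (.leaf 0xbf3048a)
(.leaf 0x2bbab637))
(.node (.leaf 0x1b84f21d)
(.leaf 0))))
(.node (.node (.node (.leaf 0x768c47b)
(.leaf 0x2762eae6))
(.node (.leaf 0x16a1104a)
(.leaf 0)))
(.node (.node (.leaf 0xf764738)
(.leaf 0x2fde5891))
(.node (.leaf 0x1eccaaed)
(.leaf 0))))))))))))))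

/-- The root of an index. -/
def posTree1 : Tree :=
(.node (.node (.node (.node (.node (.node (.node (.node (.node (.node (.node (.node (.node (.leaf 0)
(.leaf 1179))
(.node (.leaf 1175)
(.leaf 5325)))
(.node (.node (.leaf 16)
(.leaf 1179))
(.node (.leaf 1196)
(.leaf 0))))
(.node (.node (.node (.leaf 10)
(.leaf 1179))
(.node (.leaf 1251)
(.leaf 0)))
(.node (.node (.leaf 1251)
(.leaf 5325))
(.node (.leaf 1179)
(.leaf 0)))))
(.node (.node (.node (.node (.leaf 3)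
(.leaf 1365))
(.node (.leaf 1220)
(.leaf 0)))
(.node (.node (.leaf 1179)
(.leaf 5320))
(.node (.leaf 1159)
(.leaf 0))))
(.node (.node (.node (.leaf 3)
(.leaf 1163))
(.node (.leaf 1196)
(.leaf 0)))
(.node (.node (.leaf 1196)
(.leaf 5325))
(.node (.leaf 1196)
(.leaf 0))))))
(.node (.node (.node (.node (.node (.leaf 3)
(.leaf 1251))
(.node (.leaf 1178)
(.leaf 5446)))
(.node (.node (.leaf 178)
(.leaf 1179))
(.node (.leaf 1163)
(.leaf 0))))
(.node (.node (.node (.leaf 10)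
(.leaf 1220))
(.node (.leaf 1365)
(.leaf 0)))
(.node (.node (.leaf 1179)
(.leaf 5325))
(.node (.leaf 1175)
(.leaf 0)))))
(.node (.node (.node (.node (.leaf 16)
(.leaf 1179))
(.node (.leaf 1175)
(.leaf 0)))
(.node (.node (.leaf 1185)
(.leaf 5320))
(.node (.leaf 1177)
(.leaf 0))))
(.node (.node (.node (.leaf 178)
(.leaf 1179))
(.node (.leaf 1220)
(.leaf 0)))
(.node (.node (.leaf 1251)
(.leaf 5325))
(.node (.leaf 1175)
(.leaf 0)))))))
(.node (.node (.node (.node (.node (.node (.leaf 16)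
(.leaf 1365))
(.node (.leaf 1163)
(.leaf 5320)))
(.node (.node (.leaf 178)
(.leaf 1251))
(.node (.leaf 1220)
(.leaf 0))))
(.node (.node (.node (.leaf 10)
(.leaf 1178))
(.node (.leaf 1252)
(.leaf 0)))
(.node (.node (.leaf 1179)
(.leaf 5342))
(.node (.leaf 1175)
(.leaf 0)))))
(.node (.node (.node (.node (.leaf 10)
(.leaf 1178))
(.node (.leaf 1179)
(.leaf 0)))
(.node (.node (.leaf 1220)
(.leaf 5320))
(.node (.leaf 1252)
(.leaf 0))))
(.node (.node (.node (.leaf 11)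
(.leaf 1175))
(.node (.leaf 1179)
(.leaf 0)))
(.node (.node (.leaf 1175)
(.leaf 5446))
(.node (.leaf 1179)
(.leaf 0))))))
(.node (.node (.node (.node (.node (.leaf 10)
(.leaf 1159))
(.node (.leaf 1196)
(.leaf 0)))
(.node (.node (.leaf 1179)
(.leaf 1252))
(.node (.leaf 1220)
(.leaf 0))))
(.node (.node (.node (.leaf 11)
(.leaf 1179))
(.node (.leaf 1179)
(.leaf 0)))
(.node (.node (.leaf 1175)
(.leaf 5320))
(.node (.leaf 1220)
(.leaf 0)))))
(.node (.node (.node (.node (.leaf 10)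
(.leaf 1179))
(.node (.leaf 1179)
(.leaf 0)))
(.node (.node (.leaf 1158)
(.leaf 5320))
(.node (.leaf 1163)
(.leaf 0))))
(.node (.node (.node (.leaf 178)
(.leaf 1196))
(.node (.leaf 1179)
(.leaf 0)))
(.node (.node (.leaf 1158)
(.leaf 5320))
(.node (.leaf 1220)
(.leaf 0))))))))
(.node (.node (.node (.node (.node (.node (.node (.leaf 10)
(.leaf 1178))
(.node (.leaf 1175)
(.leaf 5446)))
(.node (.node (.leaf 11)
(.leaf 1195))
(.node (.leaf 1163)
(.leaf 0))))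
(.node (.node (.node (.leaf 58)
(.leaf 1251))
(.node (.leaf 1179)
(.leaf 0)))
(.node (.node (.leaf 1179)
(.leaf 5342))
(.node (.leaf 1175)
(.leaf 0)))))
(.node (.node (.node (.node (.leaf 10)
(.leaf 1159))
(.node (.leaf 1179)
(.leaf 0)))
(.node (.node (.leaf 1175)
(.leaf 5342))
(.node (.leaf 1179)
(.leaf 0))))
(.node (.node (.node (.leaf 11)
(.leaf 1195))
(.node (.leaf 1159)
(.leaf 0)))
(.node (.node (.leaf 1195)
(.leaf 5342))
(.node (.leaf 1196)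
(.leaf 0))))))
(.node (.node (.node (.node (.node (.leaf 10)
(.leaf 1179))
(.node (.leaf 1220)
(.leaf 0)))
(.node (.node (.leaf 1160)
(.leaf 1365))
(.node (.leaf 1220)
(.leaf 0))))
(.node (.node (.node (.leaf 3)
(.leaf 1251))
(.node (.leaf 1175)
(.leaf 0)))
(.node (.node (.leaf 1178)
(.leaf 5320))
(.node (.leaf 1220)
(.leaf 0)))))
(.node (.node (.node (.node (.leaf 58)
(.leaf 1179))
(.node (.leaf 1178)
(.leaf 0)))
(.node (.node (.leaf 1196)
(.leaf 5320))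
(.node (.leaf 1159)
(.leaf 0))))
(.node (.node (.node (.leaf 178)
(.leaf 1251))
(.node (.leaf 1179)
(.leaf 0)))
(.node (.node (.leaf 1179)
(.leaf 5342))
(.node (.leaf 1196)
(.leaf 0)))))))
(.node (.node (.node (.node (.node (.node (.leaf 10)
(.leaf 1159))
(.node (.leaf 1163)
(.leaf 5485)))
(.node (.node (.leaf 178)
(.leaf 1159))
(.node (.leaf 1178)
(.leaf 0))))
(.node (.node (.node (.leaf 3)
(.leaf 1178))
(.node (.leaf 1179)
(.leaf 0)))
(.node (.node (.leaf 1175)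
(.leaf 5320))
(.node (.leaf 1220)
(.leaf 0)))))
(.node (.node (.node (.node (.leaf 3)
(.leaf 1251))
(.node (.leaf 1251)
(.leaf 0)))
(.node (.node (.leaf 1158)
(.leaf 5325))
(.node (.leaf 1179)
(.leaf 0))))
(.node (.node (.node (.leaf 178)
(.leaf 1178))
(.node (.leaf 1251)
(.leaf 0)))
(.node (.node (.leaf 1163)
(.leaf 5320))
(.node (.leaf 1175)
(.leaf 0))))))
(.node (.node (.node (.node (.node (.leaf 58)
(.leaf 1179))
(.node (.leaf 1196)
(.leaf 0)))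
(.node (.node (.leaf 1157)
(.leaf 5342))
(.node (.leaf 1175)
(.leaf 0))))
(.node (.node (.node (.leaf 10)
(.leaf 1179))
(.node (.leaf 1159)
(.leaf 0)))
(.node (.node (.leaf 1251)
(.leaf 5377))
(.node (.leaf 1175)
(.leaf 0)))))
(.node (.node (.node (.node (.leaf 10)
(.leaf 1251))
(.node (.leaf 1196)
(.leaf 0)))
(.node (.node (.leaf 1220)
(.leaf 5342))
(.node (.leaf 1252)
(.leaf 0))))
(.node (.node (.node (.leaf 178)
(.leaf 1175))
(.node (.leaf 1196)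
(.leaf 0)))
(.node (.node (.leaf 1179)
(.leaf 5446))
(.node (.leaf 1175)
(.leaf 0)))))))))
(.node (.node (.node (.node (.node (.node (.node (.node (.leaf 16)
(.leaf 1179))
(.node (.leaf 1196)
(.leaf 5320)))
(.node (.node (.leaf 178)
(.leaf 1159))
(.node (.leaf 1196)
(.leaf 0))))
(.node (.node (.node (.leaf 16)
(.leaf 1195))
(.node (.leaf 1159)
(.leaf 0)))
(.node (.node (.leaf 1179)
(.leaf 5342))
(.node (.leaf 1251)
(.leaf 0)))))
(.node (.node (.node (.node (.leaf 10)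
(.leaf 1179))
(.node (.leaf 1175)
(.leaf 0)))
(.node (.node (.leaf 1251)
(.leaf 5315))
(.node (.leaf 1365)
(.leaf 0))))
(.node (.node (.node (.leaf 178)
(.leaf 1220))
(.node (.leaf 1251)
(.leaf 0)))
(.node (.node (.leaf 1163)
(.leaf 5325))
(.node (.leaf 1179)
(.leaf 0))))))
(.node (.node (.node (.node (.node (.leaf 10)
(.leaf 1179))
(.node (.leaf 1175)
(.leaf 5446)))
(.node (.node (.leaf 1157)
(.leaf 1179))
(.node (.leaf 1196)
(.leaf 0))))
(.node (.node (.node (.leaf 11)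
(.leaf 1196))
(.node (.leaf 1195)
(.leaf 0)))
(.node (.node (.leaf 1157)
(.leaf 5325))
(.node (.leaf 1195)
(.leaf 0)))))
(.node (.node (.node (.node (.leaf 10)
(.leaf 1179))
(.node (.leaf 1163)
(.leaf 0)))
(.node (.node (.leaf 1196)
(.leaf 5320))
(.node (.leaf 1177)
(.leaf 0))))
(.node (.node (.node (.leaf 178)
(.leaf 1365))
(.node (.leaf 1178)
(.leaf 0)))
(.node (.node (.leaf 1365)
(.leaf 5342))
(.node (.leaf 1179)
(.leaf 0)))))))
(.node (.node (.node (.node (.node (.node (.leaf 11)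
(.leaf 1196))
(.node (.leaf 1175)
(.leaf 5342)))
(.node (.node (.leaf 178)
(.leaf 1175))
(.node (.leaf 1175)
(.leaf 0))))
(.node (.node (.node (.leaf 178)
(.leaf 1178))
(.node (.leaf 1179)
(.leaf 0)))
(.node (.node (.leaf 1178)
(.leaf 5320))
(.node (.leaf 1163)
(.leaf 0)))))
(.node (.node (.node (.node (.leaf 10)
(.leaf 1178))
(.node (.leaf 1178)
(.leaf 0)))
(.node (.node (.leaf 1175)
(.leaf 5325))
(.node (.leaf 1163)
(.leaf 0))))
(.node (.node (.node (.leaf 178)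
(.leaf 1220))
(.node (.leaf 1365)
(.leaf 0)))
(.node (.node (.leaf 1220)
(.leaf 5320))
(.node (.leaf 1252)
(.leaf 0))))))
(.node (.node (.node (.node (.node (.leaf 56)
(.leaf 1159))
(.node (.leaf 1251)
(.leaf 0)))
(.node (.node (.leaf 1157)
(.leaf 5317))
(.node (.leaf 1175)
(.leaf 0))))
(.node (.node (.node (.leaf 3)
(.leaf 1179))
(.node (.leaf 1178)
(.leaf 0)))
(.node (.node (.leaf 1220)
(.leaf 5325))
(.node (.leaf 1179)
(.leaf 0)))))
(.node (.node (.node (.node (.leaf 10)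
(.leaf 1251))
(.node (.leaf 1365)
(.leaf 0)))
(.node (.node (.leaf 1196)
(.leaf 5377))
(.node (.leaf 1163)
(.leaf 0))))
(.node (.node (.node (.leaf 178)
(.leaf 1251))
(.node (.leaf 1177)
(.leaf 0)))
(.node (.node (.leaf 1163)
(.leaf 5342))
(.node (.leaf 1196)
(.leaf 0))))))))
(.node (.node (.node (.node (.node (.node (.node (.leaf 11)
(.leaf 1178))
(.node (.leaf 1175)
(.leaf 5320)))
(.node (.node (.leaf 178)
(.leaf 1251))
(.node (.leaf 1196)
(.leaf 0))))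
(.node (.node (.node (.leaf 58)
(.leaf 1159))
(.node (.leaf 1178)
(.leaf 0)))
(.node (.node (.leaf 1178)
(.leaf 5325))
(.node (.leaf 1196)
(.leaf 0)))))
(.node (.node (.node (.node (.leaf 3)
(.leaf 1179))
(.node (.leaf 1159)
(.leaf 0)))
(.node (.node (.leaf 1195)
(.leaf 5342))
(.node (.leaf 1365)
(.leaf 0))))
(.node (.node (.node (.leaf 10)
(.leaf 1196))
(.node (.leaf 1251)
(.leaf 0)))
(.node (.node (.leaf 1196)
(.leaf 5325))
(.node (.leaf 1163)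
(.leaf 0))))))
(.node (.node (.node (.node (.node (.leaf 11)
(.leaf 1251))
(.node (.leaf 1196)
(.leaf 0)))
(.node (.node (.leaf 1158)
(.leaf 1179))
(.node (.leaf 1175)
(.leaf 0))))
(.node (.node (.node (.leaf 297)
(.leaf 1179))
(.node (.leaf 1179)
(.leaf 0)))
(.node (.node (.leaf 1179)
(.leaf 5325))
(.node (.leaf 1195)
(.leaf 0)))))
(.node (.node (.node (.node (.leaf 10)
(.leaf 1179))
(.node (.leaf 1179)
(.leaf 0)))
(.node (.node (.leaf 1160)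
(.leaf 5325))
(.node (.leaf 1163)
(.leaf 0))))
(.node (.node (.node (.leaf 178)
(.leaf 1251))
(.node (.leaf 1179)
(.leaf 0)))
(.node (.node (.leaf 1157)
(.leaf 5342))
(.node (.leaf 1252)
(.leaf 0)))))))
(.node (.node (.node (.node (.node (.node (.leaf 3)
(.leaf 1251))
(.node (.leaf 1196)
(.leaf 5446)))
(.node (.node (.leaf 297)
(.leaf 1179))
(.node (.leaf 1175)
(.leaf 0))))
(.node (.node (.node (.leaf 10)
(.leaf 1179))
(.node (.leaf 1159)
(.leaf 0)))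
(.node (.node (.leaf 1279)
(.leaf 5325))
(.node (.leaf 1175)
(.leaf 0)))))
(.node (.node (.node (.node (.leaf 10)
(.leaf 1179))
(.node (.leaf 1178)
(.leaf 0)))
(.node (.node (.leaf 1185)
(.leaf 5320))
(.node (.leaf 1159)
(.leaf 0))))
(.node (.node (.node (.leaf 178)
(.leaf 1175))
(.node (.leaf 1175)
(.leaf 0)))
(.node (.node (.leaf 1195)
(.leaf 5446))
(.node (.leaf 1195)
(.leaf 0))))))
(.node (.node (.node (.node (.node (.leaf 3)
(.leaf 1175))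
(.node (.leaf 1179)
(.leaf 0)))
(.node (.node (.leaf 1177)
(.leaf 5325))
(.node (.leaf 1252)
(.leaf 0))))
(.node (.node (.node (.leaf 10)
(.leaf 1159))
(.node (.leaf 1252)
(.leaf 0)))
(.node (.node (.leaf 1195)
(.leaf 5325))
(.node (.leaf 1179)
(.leaf 0)))))
(.node (.node (.node (.node (.leaf 3)
(.leaf 1252))
(.node (.leaf 1179)
(.leaf 0)))
(.node (.node (.leaf 1156)
(.leaf 5320))
(.node (.leaf 1220)
(.leaf 0))))
(.node (.node (.node (.leaf 297)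
(.leaf 1179))
(.node (.leaf 1220)
(.leaf 0)))
(.node (.node (.leaf 1220)
(.leaf 5485))
(.node (.leaf 1178)
(.leaf 0))))))))))
(.node (.node (.node (.node (.node (.node (.node (.node (.node (.leaf 2)
(.leaf 1163))
(.node (.leaf 1163)
(.leaf 5320)))
(.node (.node (.leaf 178)
(.leaf 1196))
(.node (.leaf 1196)
(.leaf 0))))
(.node (.node (.node (.leaf 178)
(.leaf 1179))
(.node (.leaf 1220)
(.leaf 0)))
(.node (.node (.leaf 1177)
(.leaf 5342))
(.node (.leaf 1179)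
(.leaf 0)))))
(.node (.node (.node (.node (.leaf 10)
(.leaf 1251))
(.node (.leaf 1195)
(.leaf 0)))
(.node (.node (.leaf 1251)
(.leaf 5325))
(.node (.leaf 1196)
(.leaf 0))))
(.node (.node (.node (.leaf 10)
(.leaf 1175))
(.node (.leaf 1178)
(.leaf 0)))
(.node (.node (.leaf 1163)
(.leaf 5325))
(.node (.leaf 1175)
(.leaf 0))))))
(.node (.node (.node (.node (.node (.leaf 11)
(.leaf 1179))
(.node (.leaf 1163)
(.leaf 5446)))
(.node (.node (.leaf 1160)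
(.leaf 1179))
(.node (.leaf 1220)
(.leaf 0))))
(.node (.node (.node (.leaf 178)
(.leaf 1179))
(.node (.leaf 1196)
(.leaf 0)))
(.node (.node (.leaf 1157)
(.leaf 5325))
(.node (.leaf 1175)
(.leaf 0)))))
(.node (.node (.node (.node (.leaf 10)
(.leaf 1163))
(.node (.leaf 1251)
(.leaf 0)))
(.node (.node (.leaf 1160)
(.leaf 5325))
(.node (.leaf 1178)
(.leaf 0))))
(.node (.node (.node (.leaf 178)
(.leaf 1179))
(.node (.leaf 1279)
(.leaf 0)))
(.node (.node (.leaf 1365)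
(.leaf 5325))
(.node (.leaf 1179)
(.leaf 0)))))))
(.node (.node (.node (.node (.node (.node (.leaf 11)
(.leaf 1163))
(.node (.leaf 1195)
(.leaf 5342)))
(.node (.node (.leaf 178)
(.leaf 1251))
(.node (.leaf 1175)
(.leaf 0))))
(.node (.node (.node (.leaf 297)
(.leaf 1220))
(.node (.leaf 1251)
(.leaf 0)))
(.node (.node (.leaf 1177)
(.leaf 5342))
(.node (.leaf 1163)
(.leaf 0)))))
(.node (.node (.node (.node (.leaf 10)
(.leaf 1196))
(.node (.leaf 1179)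
(.leaf 0)))
(.node (.node (.leaf 1157)
(.leaf 5342))
(.node (.leaf 1179)
(.leaf 0))))
(.node (.node (.node (.leaf 10)
(.leaf 1179))
(.node (.leaf 1365)
(.leaf 0)))
(.node (.node (.leaf 1196)
(.leaf 5325))
(.node (.leaf 1175)
(.leaf 0))))))
(.node (.node (.node (.node (.node (.leaf 61)
(.leaf 1179))
(.node (.leaf 1196)
(.leaf 0)))
(.node (.node (.leaf 1163)
(.leaf 5320))
(.node (.leaf 1163)
(.leaf 0))))
(.node (.node (.node (.leaf 16)
(.leaf 1179))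
(.node (.leaf 1179)
(.leaf 0)))
(.node (.node (.leaf 1196)
(.leaf 5325))
(.node (.leaf 1220)
(.leaf 0)))))
(.node (.node (.node (.node (.leaf 3)
(.leaf 1196))
(.node (.leaf 1179)
(.leaf 0)))
(.node (.node (.leaf 1157)
(.leaf 5325))
(.node (.leaf 1163)
(.leaf 0))))
(.node (.node (.node (.leaf 58)
(.leaf 1178))
(.node (.leaf 1179)
(.leaf 0)))
(.node (.node (.leaf 1220)
(.leaf 5325))
(.node (.leaf 1163)
(.leaf 0))))))))
(.node (.node (.node (.node (.node (.node (.node (.leaf 11)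
(.leaf 1179))
(.node (.leaf 1195)
(.leaf 5446)))
(.node (.node (.leaf 297)
(.leaf 1252))
(.node (.leaf 1175)
(.leaf 0))))
(.node (.node (.node (.leaf 178)
(.leaf 1179))
(.node (.leaf 1251)
(.leaf 0)))
(.node (.node (.leaf 1163)
(.leaf 5325))
(.node (.leaf 1196)
(.leaf 0)))))
(.node (.node (.node (.node (.leaf 10)
(.leaf 1252))
(.node (.leaf 1251)
(.leaf 0)))
(.node (.node (.leaf 1195)
(.leaf 5342))
(.node (.leaf 1159)
(.leaf 0))))
(.node (.node (.node (.leaf 58)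
(.leaf 1196))
(.node (.leaf 1159)
(.leaf 0)))
(.node (.node (.leaf 1196)
(.leaf 5325))
(.node (.leaf 1159)
(.leaf 0))))))
(.node (.node (.node (.node (.node (.leaf 10)
(.leaf 1159))
(.node (.leaf 1196)
(.leaf 0)))
(.node (.node (.leaf 1179)
(.leaf 1178))
(.node (.leaf 1175)
(.leaf 0))))
(.node (.node (.node (.leaf 10)
(.leaf 1195))
(.node (.leaf 1178)
(.leaf 0)))
(.node (.node (.leaf 1251)
(.leaf 5325))
(.node (.leaf 1163)
(.leaf 0)))))
(.node (.node (.node (.node (.leaf 178)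
(.leaf 1179))
(.node (.leaf 1159)
(.leaf 0)))
(.node (.node (.leaf 1163)
(.leaf 5325))
(.node (.leaf 1251)
(.leaf 0))))
(.node (.node (.node (.leaf 178)
(.leaf 1159))
(.node (.leaf 1175)
(.leaf 0)))
(.node (.node (.leaf 1159)
(.leaf 5320))
(.node (.leaf 1251)
(.leaf 0)))))))
(.node (.node (.node (.node (.node (.node (.leaf 3)
(.leaf 1251))
(.node (.leaf 1157)
(.leaf 5446)))
(.node (.node (.leaf 178)
(.leaf 1252))
(.node (.leaf 1195)
(.leaf 0))))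
(.node (.node (.node (.leaf 10)
(.leaf 1251))
(.node (.leaf 1178)
(.leaf 0)))
(.node (.node (.leaf 1160)
(.leaf 5320))
(.node (.leaf 1195)
(.leaf 0)))))
(.node (.node (.node (.node (.leaf 3)
(.leaf 1178))
(.node (.leaf 1251)
(.leaf 0)))
(.node (.node (.leaf 1178)
(.leaf 5325))
(.node (.leaf 1196)
(.leaf 0))))
(.node (.node (.node (.leaf 178)
(.leaf 1220))
(.node (.leaf 1163)
(.leaf 0)))
(.node (.node (.leaf 1252)
(.leaf 5325))
(.node (.leaf 1163)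
(.leaf 0))))))
(.node (.node (.node (.node (.node (.leaf 10)
(.leaf 1179))
(.node (.leaf 1196)
(.leaf 0)))
(.node (.node (.leaf 1177)
(.leaf 5315))
(.node (.leaf 1220)
(.leaf 0))))
(.node (.node (.node (.leaf 10)
(.leaf 1179))
(.node (.leaf 1179)
(.leaf 0)))
(.node (.node (.leaf 1179)
(.leaf 5325))
(.node (.leaf 1163)
(.leaf 0)))))
(.node (.node (.node (.node (.leaf 10)
(.leaf 1179))
(.node (.leaf 1163)
(.leaf 0)))
(.node (.node (.leaf 1196)
(.leaf 5320))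
(.node (.leaf 1179)
(.leaf 0))))
(.node (.node (.node (.leaf 178)
(.leaf 1159))
(.node (.leaf 1163)
(.leaf 0)))
(.node (.node (.leaf 1159)
(.leaf 5320))
(.node (.leaf 1252)
(.leaf 0)))))))))
(.node (.node (.node (.node (.node (.node (.node (.node (.leaf 10)
(.leaf 1179))
(.node (.leaf 1220)
(.leaf 5320)))
(.node (.node (.leaf 178)
(.leaf 1163))
(.node (.leaf 1196)
(.leaf 0))))
(.node (.node (.node (.leaf 16)
(.leaf 1179))
(.node (.leaf 1178)
(.leaf 0)))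
(.node (.node (.leaf 1251)
(.leaf 5342))
(.node (.leaf 1220)
(.leaf 0)))))
(.node (.node (.node (.node (.leaf 178)
(.leaf 1251))
(.node (.leaf 1220)
(.leaf 0)))
(.node (.node (.leaf 1160)
(.leaf 5317))
(.node (.leaf 1365)
(.leaf 0))))
(.node (.node (.node (.leaf 178)
(.leaf 1220))
(.node (.leaf 1178)
(.leaf 0)))
(.node (.node (.leaf 1220)
(.leaf 5320))
(.node (.leaf 1179)
(.leaf 0))))))
(.node (.node (.node (.node (.node (.leaf 10)
(.leaf 1179))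
(.node (.leaf 1158)
(.leaf 5446)))
(.node (.node (.leaf 1158)
(.leaf 1252))
(.node (.leaf 1195)
(.leaf 0))))
(.node (.node (.node (.leaf 10)
(.leaf 1195))
(.node (.leaf 1175)
(.leaf 0)))
(.node (.node (.leaf 1157)
(.leaf 5320))
(.node (.leaf 1175)
(.leaf 0)))))
(.node (.node (.node (.node (.leaf 58)
(.leaf 1365))
(.node (.leaf 1195)
(.leaf 0)))
(.node (.node (.leaf 1163)
(.leaf 5315))
(.node (.leaf 1159)
(.leaf 0))))
(.node (.node (.node (.leaf 10)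
(.leaf 1179))
(.node (.leaf 1178)
(.leaf 0)))
(.node (.node (.leaf 1179)
(.leaf 5320))
(.node (.leaf 1179)
(.leaf 0)))))))
(.node (.node (.node (.node (.node (.node (.leaf 10)
(.leaf 1178))
(.node (.leaf 1175)
(.leaf 5325)))
(.node (.node (.leaf 297)
(.leaf 1251))
(.node (.leaf 1177)
(.leaf 0))))
(.node (.node (.node (.leaf 3)
(.leaf 1179))
(.node (.leaf 1179)
(.leaf 0)))
(.node (.node (.leaf 1185)
(.leaf 5320))
(.node (.leaf 1175)
(.leaf 0)))))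
(.node (.node (.node (.node (.leaf 31)
(.leaf 1159))
(.node (.leaf 1365)
(.leaf 0)))
(.node (.node (.leaf 1179)
(.leaf 5325))
(.node (.leaf 1179)
(.leaf 0))))
(.node (.node (.node (.leaf 3)
(.leaf 1175))
(.node (.leaf 1220)
(.leaf 0)))
(.node (.node (.leaf 1220)
(.leaf 5446))
(.node (.leaf 1195)
(.leaf 0))))))
(.node (.node (.node (.node (.node (.leaf 16)
(.leaf 1251))
(.node (.leaf 1220)
(.leaf 0)))
(.node (.node (.leaf 1160)
(.leaf 5315))
(.node (.leaf 1175)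
(.leaf 0))))
(.node (.node (.node (.leaf 10)
(.leaf 1252))
(.node (.leaf 1159)
(.leaf 0)))
(.node (.node (.leaf 1252)
(.leaf 5342))
(.node (.leaf 1163)
(.leaf 0)))))
(.node (.node (.node (.node (.leaf 178)
(.leaf 1251))
(.node (.leaf 1251)
(.leaf 0)))
(.node (.node (.leaf 1175)
(.leaf 5377))
(.node (.leaf 1179)
(.leaf 0))))
(.node (.node (.node (.leaf 58)
(.leaf 1365))
(.node (.leaf 1179)
(.leaf 0)))
(.node (.node (.leaf 1252)
(.leaf 5325))
(.node (.leaf 1195)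
(.leaf 0))))))))
(.node (.node (.node (.node (.node (.node (.node (.leaf 56)
(.leaf 1178))
(.node (.leaf 1220)
(.leaf 5644)))
(.node (.node (.leaf 297)
(.leaf 1179))
(.node (.leaf 1195)
(.leaf 0))))
(.node (.node (.node (.leaf 16)
(.leaf 1179))
(.node (.leaf 1196)
(.leaf 0)))
(.node (.node (.leaf 1178)
(.leaf 5320))
(.node (.leaf 1220)
(.leaf 0)))))
(.node (.node (.node (.node (.leaf 10)
(.leaf 1252))
(.node (.leaf 1159)
(.leaf 0)))
(.node (.node (.leaf 1196)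
(.leaf 5315))
(.node (.leaf 1175)
(.leaf 0))))
(.node (.node (.node (.leaf 178)
(.leaf 1220))
(.node (.leaf 1251)
(.leaf 0)))
(.node (.node (.leaf 1175)
(.leaf 5485))
(.node (.leaf 1178)
(.leaf 0))))))
(.node (.node (.node (.node (.node (.leaf 58)
(.leaf 1251))
(.node (.leaf 1195)
(.leaf 0)))
(.node (.node (.leaf 1160)
(.leaf 1159))
(.node (.leaf 1196)
(.leaf 0))))
(.node (.node (.node (.leaf 61)
(.leaf 1252))
(.node (.leaf 1251)
(.leaf 0)))
(.node (.node (.leaf 1157)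
(.leaf 5325))
(.node (.leaf 1175)
(.leaf 0)))))
(.node (.node (.node (.node (.leaf 3)
(.leaf 1177))
(.node (.leaf 1220)
(.leaf 0)))
(.node (.node (.leaf 1157)
(.leaf 5325))
(.node (.leaf 1175)
(.leaf 0))))
(.node (.node (.node (.leaf 297)
(.leaf 1178))
(.node (.leaf 1251)
(.leaf 0)))
(.node (.node (.leaf 1177)
(.leaf 5446))
(.node (.leaf 1220)
(.leaf 0)))))))
(.node (.node (.node (.node (.node (.node (.leaf 10)
(.leaf 1179))
(.node (.leaf 1175)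
(.leaf 5644)))
(.node (.node (.leaf 297)
(.leaf 1159))
(.node (.leaf 1178)
(.leaf 0))))
(.node (.node (.node (.leaf 10)
(.leaf 1178))
(.node (.leaf 1156)
(.leaf 0)))
(.node (.node (.leaf 1279)
(.leaf 5325))
(.node (.leaf 1220)
(.leaf 0)))))
(.node (.node (.node (.node (.leaf 3)
(.leaf 1252))
(.node (.leaf 1175)
(.leaf 0)))
(.node (.node (.leaf 1185)
(.leaf 5325))
(.node (.leaf 1179)
(.leaf 0))))
(.node (.node (.node (.leaf 10)
(.leaf 1252))
(.node (.leaf 1196)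
(.leaf 0)))
(.node (.node (.leaf 1365)
(.leaf 5325))
(.node (.leaf 1195)
(.leaf 0))))))
(.node (.node (.node (.node (.node (.leaf 10)
(.leaf 1159))
(.node (.leaf 1175)
(.leaf 0)))
(.node (.node (.leaf 1160)
(.leaf 5315))
(.node (.leaf 1179)
(.leaf 0))))
(.node (.node (.node (.leaf 31)
(.leaf 1179))
(.node (.leaf 1163)
(.leaf 0)))
(.node (.node (.leaf 1196)
(.leaf 5325))
(.node (.leaf 1220)
(.leaf 0)))))
(.node (.node (.node (.node (.leaf 16)
(.leaf 1159))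
(.node (.leaf 1251)
(.leaf 0)))
(.node (.node (.leaf 1251)
(.leaf 5342))
(.node (.leaf 1179)
(.leaf 0))))
(.node (.node (.node (.leaf 10)
(.leaf 1159))
(.node (.leaf 1175)
(.leaf 0)))
(.node (.node (.leaf 1196)
(.leaf 5377))
(.node (.leaf 1179)
(.leaf 0)))))))))))
(.node (.node (.node (.node (.node (.node (.node (.node (.node (.node (.leaf 1)
(.leaf 1179))
(.node (.leaf 1175)
(.leaf 5325)))
(.node (.node (.leaf 11)
(.leaf 1196))
(.node (.leaf 1196)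
(.leaf 0))))
(.node (.node (.node (.leaf 3)
(.leaf 1252))
(.node (.leaf 1251)
(.leaf 0)))
(.node (.node (.leaf 1251)
(.leaf 5315))
(.node (.leaf 1251)
(.leaf 0)))))
(.node (.node (.node (.node (.leaf 10)
(.leaf 1179))
(.node (.leaf 1196)
(.leaf 0)))
(.node (.node (.leaf 1155)
(.leaf 5315))
(.node (.leaf 1196)
(.leaf 0))))
(.node (.node (.node (.leaf 10)
(.leaf 1159))
(.node (.leaf 1196)
(.leaf 0)))
(.node (.node (.leaf 1163)
(.leaf 5325))
(.node (.leaf 1220)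
(.leaf 0))))))
(.node (.node (.node (.node (.node (.leaf 16)
(.leaf 1179))
(.node (.leaf 1178)
(.leaf 5446)))
(.node (.node (.leaf 1156)
(.leaf 1179))
(.node (.leaf 1175)
(.leaf 0))))
(.node (.node (.node (.leaf 178)
(.leaf 1178))
(.node (.leaf 1156)
(.leaf 0)))
(.node (.node (.leaf 1160)
(.leaf 5325))
(.node (.leaf 1163)
(.leaf 0)))))
(.node (.node (.node (.node (.leaf 10)
(.leaf 1177))
(.node (.leaf 1163)
(.leaf 0)))
(.node (.node (.leaf 1175)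
(.leaf 5325))
(.node (.leaf 1365)
(.leaf 0))))
(.node (.node (.node (.leaf 297)
(.leaf 1196))
(.node (.leaf 1163)
(.leaf 0)))
(.node (.node (.leaf 1178)
(.leaf 5342))
(.node (.leaf 1196)
(.leaf 0)))))))
(.node (.node (.node (.node (.node (.node (.leaf 10)
(.leaf 1179))
(.node (.leaf 1196)
(.leaf 5325)))
(.node (.node (.leaf 11)
(.leaf 1163))
(.node (.leaf 1175)
(.leaf 0))))
(.node (.node (.node (.leaf 10)
(.leaf 1175))
(.node (.leaf 1252)
(.leaf 0)))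
(.node (.node (.leaf 1178)
(.leaf 5320))
(.node (.leaf 1220)
(.leaf 0)))))
(.node (.node (.node (.node (.leaf 10)
(.leaf 1177))
(.node (.leaf 1196)
(.leaf 0)))
(.node (.node (.leaf 1308)
(.leaf 5335))
(.node (.leaf 1178)
(.leaf 0))))
(.node (.node (.node (.leaf 56)
(.leaf 1251))
(.node (.leaf 1220)
(.leaf 0)))
(.node (.node (.leaf 1220)
(.leaf 5325))
(.node (.leaf 1195)
(.leaf 0))))))
(.node (.node (.node (.node (.node (.leaf 178)
(.leaf 1220))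
(.node (.leaf 1220)
(.leaf 0)))
(.node (.node (.leaf 1220)
(.leaf 5315))
(.node (.leaf 1175)
(.leaf 0))))
(.node (.node (.node (.leaf 58)
(.leaf 1179))
(.node (.leaf 1195)
(.leaf 0)))
(.node (.node (.leaf 1175)
(.leaf 5320))
(.node (.leaf 1179)
(.leaf 0)))))
(.node (.node (.node (.node (.leaf 10)
(.leaf 1279))
(.node (.leaf 1179)
(.leaf 0)))
(.node (.node (.leaf 1155)
(.leaf 5342))
(.node (.leaf 1175)
(.leaf 0))))
(.node (.node (.node (.leaf 16)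
(.leaf 1178))
(.node (.leaf 1251)
(.leaf 0)))
(.node (.node (.leaf 1175)
(.leaf 5325))
(.node (.leaf 1196)
(.leaf 0))))))))
(.node (.node (.node (.node (.node (.node (.node (.leaf 11)
(.leaf 1252))
(.node (.leaf 1196)
(.leaf 5320)))
(.node (.node (.leaf 178)
(.leaf 1252))
(.node (.leaf 1163)
(.leaf 0))))
(.node (.node (.node (.leaf 16)
(.leaf 1196))
(.node (.leaf 1177)
(.leaf 0)))
(.node (.node (.leaf 1178)
(.leaf 5325))
(.node (.leaf 1196)
(.leaf 0)))))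
(.node (.node (.node (.node (.leaf 10)
(.leaf 1179))
(.node (.leaf 1179)
(.leaf 0)))
(.node (.node (.leaf 1251)
(.leaf 5325))
(.node (.leaf 1251)
(.leaf 0))))
(.node (.node (.node (.leaf 178)
(.leaf 1179))
(.node (.leaf 1178)
(.leaf 0)))
(.node (.node (.leaf 1220)
(.leaf 5342))
(.node (.leaf 1163)
(.leaf 0))))))
(.node (.node (.node (.node (.node (.leaf 11)
(.leaf 1251))
(.node (.leaf 1175)
(.leaf 0)))
(.node (.node (.leaf 1160)
(.leaf 1179))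
(.node (.leaf 1175)
(.leaf 0))))
(.node (.node (.node (.leaf 11)
(.leaf 1175))
(.node (.leaf 1179)
(.leaf 0)))
(.node (.node (.leaf 1251)
(.leaf 5325))
(.node (.leaf 1175)
(.leaf 0)))))
(.node (.node (.node (.node (.leaf 3)
(.leaf 1159))
(.node (.leaf 1365)
(.leaf 0)))
(.node (.node (.leaf 1157)
(.leaf 5320))
(.node (.leaf 1159)
(.leaf 0))))
(.node (.node (.node (.leaf 10)
(.leaf 1177))
(.node (.leaf 1179)
(.leaf 0)))
(.node (.node (.leaf 1177)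
(.leaf 5325))
(.node (.leaf 1178)
(.leaf 0)))))))
(.node (.node (.node (.node (.node (.node (.leaf 10)
(.leaf 1163))
(.node (.leaf 1163)
(.leaf 5325)))
(.node (.node (.leaf 61)
(.leaf 1179))
(.node (.leaf 1179)
(.leaf 0))))
(.node (.node (.node (.leaf 3)
(.leaf 1178))
(.node (.leaf 1178)
(.leaf 0)))
(.node (.node (.leaf 1160)
(.leaf 5732))
(.node (.leaf 1163)
(.leaf 0)))))
(.node (.node (.node (.node (.leaf 10)
(.leaf 1365))
(.node (.leaf 1175)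
(.leaf 0)))
(.node (.node (.leaf 1179)
(.leaf 5317))
(.node (.leaf 1179)
(.leaf 0))))
(.node (.node (.node (.leaf 3)
(.leaf 1159))
(.node (.leaf 1163)
(.leaf 0)))
(.node (.node (.leaf 1195)
(.leaf 5325))
(.node (.leaf 1175)
(.leaf 0))))))
(.node (.node (.node (.node (.node (.leaf 61)
(.leaf 1178))
(.node (.leaf 1220)
(.leaf 0)))
(.node (.node (.leaf 1252)
(.leaf 5315))
(.node (.leaf 1175)
(.leaf 0))))
(.node (.node (.node (.leaf 178)
(.leaf 1195))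
(.node (.leaf 1279)
(.leaf 0)))
(.node (.node (.leaf 1251)
(.leaf 5325))
(.node (.leaf 1196)
(.leaf 0)))))
(.node (.node (.node (.node (.leaf 58)
(.leaf 1196))
(.node (.leaf 1196)
(.leaf 0)))
(.node (.node (.leaf 1195)
(.leaf 5325))
(.node (.leaf 1179)
(.leaf 0))))
(.node (.node (.node (.leaf 16)
(.leaf 1195))
(.node (.leaf 1175)
(.leaf 0)))
(.node (.node (.leaf 1159)
(.leaf 5446))
(.node (.leaf 1178)
(.leaf 0)))))))))
(.node (.node (.node (.node (.node (.node (.node (.node (.leaf 1)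
(.leaf 1179))
(.node (.leaf 1195)
(.leaf 5325)))
(.node (.node (.leaf 3)
(.leaf 1175))
(.node (.leaf 1196)
(.leaf 0))))
(.node (.node (.node (.leaf 61)
(.leaf 1251))
(.node (.leaf 1159)
(.leaf 0)))
(.node (.node (.leaf 1159)
(.leaf 5325))
(.node (.leaf 1196)
(.leaf 0)))))
(.node (.node (.node (.node (.leaf 3)
(.leaf 1251))
(.node (.leaf 1196)
(.leaf 0)))
(.node (.node (.leaf 1179)
(.leaf 5325))
(.node (.leaf 1365)
(.leaf 0))))
(.node (.node (.node (.leaf 10)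
(.leaf 1220))
(.node (.leaf 1251)
(.leaf 0)))
(.node (.node (.leaf 1196)
(.leaf 5325))
(.node (.leaf 1175)
(.leaf 0))))))
(.node (.node (.node (.node (.node (.leaf 10)
(.leaf 1179))
(.node (.leaf 1220)
(.leaf 5446)))
(.node (.node (.leaf 1156)
(.leaf 1159))
(.node (.leaf 1163)
(.leaf 0))))
(.node (.node (.node (.leaf 10)
(.leaf 1252))
(.node (.leaf 1196)
(.leaf 0)))
(.node (.node (.leaf 1163)
(.leaf 5325))
(.node (.leaf 1175)
(.leaf 0)))))
(.node (.node (.node (.node (.leaf 3)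
(.leaf 1365))
(.node (.leaf 1365)
(.leaf 0)))
(.node (.node (.leaf 1196)
(.leaf 5325))
(.node (.leaf 1179)
(.leaf 0))))
(.node (.node (.node (.leaf 11)
(.leaf 1178))
(.node (.leaf 1178)
(.leaf 0)))
(.node (.node (.leaf 1196)
(.leaf 5446))
(.node (.leaf 1196)
(.leaf 0)))))))
(.node (.node (.node (.node (.node (.node (.leaf 3)
(.leaf 1179))
(.node (.leaf 1196)
(.leaf 5732)))
(.node (.node (.leaf 11)
(.leaf 1179))
(.node (.leaf 1196)
(.leaf 0))))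
(.node (.node (.node (.leaf 10)
(.leaf 1251))
(.node (.leaf 1365)
(.leaf 0)))
(.node (.node (.leaf 1179)
(.leaf 5320))
(.node (.leaf 1163)
(.leaf 0)))))
(.node (.node (.node (.node (.leaf 10)
(.leaf 1159))
(.node (.leaf 1175)
(.leaf 0)))
(.node (.node (.leaf 1158)
(.leaf 5325))
(.node (.leaf 1178)
(.leaf 0))))
(.node (.node (.node (.leaf 10)
(.leaf 1163))
(.node (.leaf 1178)
(.leaf 0)))
(.node (.node (.leaf 1157)
(.leaf 5342))
(.node (.leaf 1175)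
(.leaf 0))))))
(.node (.node (.node (.node (.node (.leaf 56)
(.leaf 1252))
(.node (.leaf 1175)
(.leaf 0)))
(.node (.node (.leaf 1157)
(.leaf 5315))
(.node (.leaf 1195)
(.leaf 0))))
(.node (.node (.node (.leaf 10)
(.leaf 1163))
(.node (.leaf 1179)
(.leaf 0)))
(.node (.node (.leaf 1178)
(.leaf 5342))
(.node (.leaf 1163)
(.leaf 0)))))
(.node (.node (.node (.node (.leaf 3)
(.leaf 1163))
(.node (.leaf 1178)
(.leaf 0)))
(.node (.node (.leaf 1196)
(.leaf 5320))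
(.node (.leaf 1163)
(.leaf 0))))
(.node (.node (.node (.leaf 61)
(.leaf 1252))
(.node (.leaf 1179)
(.leaf 0)))
(.node (.node (.leaf 1195)
(.leaf 5325))
(.node (.leaf 1175)
(.leaf 0))))))))
(.node (.node (.node (.node (.node (.node (.node (.leaf 11)
(.leaf 1175))
(.node (.leaf 1175)
(.leaf 5342)))
(.node (.node (.leaf 178)
(.leaf 1252))
(.node (.leaf 1251)
(.leaf 0))))
(.node (.node (.node (.leaf 178)
(.leaf 1179))
(.node (.leaf 1220)
(.leaf 0)))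
(.node (.node (.leaf 1179)
(.leaf 5342))
(.node (.leaf 1220)
(.leaf 0)))))
(.node (.node (.node (.node (.leaf 10)
(.leaf 1251))
(.node (.leaf 1251)
(.leaf 0)))
(.node (.node (.leaf 1175)
(.leaf 5313))
(.node (.leaf 1179)
(.leaf 0))))
(.node (.node (.node (.leaf 10)
(.leaf 1196))
(.node (.leaf 1251)
(.leaf 0)))
(.node (.node (.leaf 1195)
(.leaf 5320))
(.node (.leaf 1279)
(.leaf 0))))))
(.node (.node (.node (.node (.node (.leaf 3)
(.leaf 1179))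
(.node (.leaf 1196)
(.leaf 0)))
(.node (.node (.leaf 1158)
(.leaf 1179))
(.node (.leaf 1163)
(.leaf 0))))
(.node (.node (.node (.leaf 10)
(.leaf 1178))
(.node (.leaf 1163)
(.leaf 0)))
(.node (.node (.leaf 1179)
(.leaf 5320))
(.node (.leaf 1163)
(.leaf 0)))))
(.node (.node (.node (.node (.leaf 10)
(.leaf 1279))
(.node (.leaf 1196)
(.leaf 0)))
(.node (.node (.leaf 1158)
(.leaf 5325))
(.node (.leaf 1195)
(.leaf 0))))
(.node (.node (.node (.leaf 16)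
(.leaf 1251))
(.node (.leaf 1251)
(.leaf 0)))
(.node (.node (.leaf 1178)
(.leaf 5485))
(.node (.leaf 1220)
(.leaf 0)))))))
(.node (.node (.node (.node (.node (.node (.leaf 3)
(.leaf 1251))
(.node (.leaf 1157)
(.leaf 5446)))
(.node (.node (.leaf 178)
(.leaf 1179))
(.node (.leaf 1175)
(.leaf 0))))
(.node (.node (.node (.leaf 10)
(.leaf 1179))
(.node (.leaf 1178)
(.leaf 0)))
(.node (.node (.leaf 1179)
(.leaf 5377))
(.node (.leaf 1175)
(.leaf 0)))))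
(.node (.node (.node (.node (.leaf 10)
(.leaf 1178))
(.node (.leaf 1163)
(.leaf 0)))
(.node (.node (.leaf 1158)
(.leaf 5325))
(.node (.leaf 1159)
(.leaf 0))))
(.node (.node (.node (.leaf 178)
(.leaf 1179))
(.node (.leaf 1220)
(.leaf 0)))
(.node (.node (.leaf 1175)
(.leaf 5644))
(.node (.leaf 1175)
(.leaf 0))))))
(.node (.node (.node (.node (.node (.leaf 10)
(.leaf 1163))
(.node (.leaf 1195)
(.leaf 0)))
(.node (.node (.leaf 1179)
(.leaf 5325))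
(.node (.leaf 1195)
(.leaf 0))))
(.node (.node (.node (.leaf 10)
(.leaf 1251))
(.node (.leaf 1220)
(.leaf 0)))
(.node (.node (.leaf 1220)
(.leaf 5320))
(.node (.leaf 1251)
(.leaf 0)))))
(.node (.node (.node (.node (.leaf 10)
(.leaf 1179))
(.node (.leaf 1177)
(.leaf 0)))
(.node (.node (.leaf 1157)
(.leaf 5325))
(.node (.leaf 1179)
(.leaf 0))))
(.node (.node (.node (.leaf 297)
(.leaf 1159))
(.node (.leaf 1196)
(.leaf 0)))
(.node (.node (.leaf 1220)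
(.leaf 5732))
(.node (.leaf 1179)
(.leaf 0))))))))))
(.node (.node (.node (.node (.node (.node (.node (.node (.node (.leaf 10)
(.leaf 1178))
(.node (.leaf 1196)
(.leaf 5377)))
(.node (.node (.leaf 10)
(.leaf 1163))
(.node (.leaf 1220)
(.leaf 0))))
(.node (.node (.node (.leaf 31)
(.leaf 1220))
(.node (.leaf 1179)
(.leaf 0)))
(.node (.node (.leaf 1175)
(.leaf 5644))
(.node (.leaf 1179)
(.leaf 0)))))
(.node (.node (.node (.node (.leaf 10)
(.leaf 1179))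
(.node (.leaf 1196)
(.leaf 0)))
(.node (.node (.leaf 1157)
(.leaf 5315))
(.node (.leaf 1179)
(.leaf 0))))
(.node (.node (.node (.leaf 10)
(.leaf 1220))
(.node (.leaf 1251)
(.leaf 0)))
(.node (.node (.leaf 1195)
(.leaf 5325))
(.node (.leaf 1179)
(.leaf 0))))))
(.node (.node (.node (.node (.node (.leaf 10)
(.leaf 1220))
(.node (.leaf 1163)
(.leaf 5446)))
(.node (.node (.leaf 1156)
(.leaf 1251))
(.node (.leaf 1195)
(.leaf 0))))
(.node (.node (.node (.leaf 10)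
(.leaf 1251))
(.node (.leaf 1179)
(.leaf 0)))
(.node (.node (.leaf 1157)
(.leaf 5377))
(.node (.leaf 1163)
(.leaf 0)))))
(.node (.node (.node (.node (.leaf 10)
(.leaf 1179))
(.node (.leaf 1252)
(.leaf 0)))
(.node (.node (.leaf 1220)
(.leaf 5325))
(.node (.leaf 1177)
(.leaf 0))))
(.node (.node (.node (.leaf 178)
(.leaf 1196))
(.node (.leaf 1175)
(.leaf 0)))
(.node (.node (.leaf 1178)
(.leaf 5320))
(.node (.leaf 1220)
(.leaf 0)))))))
(.node (.node (.node (.node (.node (.node (.leaf 11)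
(.leaf 1175))
(.node (.leaf 1220)
(.leaf 5325)))
(.node (.node (.leaf 297)
(.leaf 1365))
(.node (.leaf 1163)
(.leaf 0))))
(.node (.node (.node (.leaf 3)
(.leaf 1178))
(.node (.leaf 1179)
(.leaf 0)))
(.node (.node (.leaf 1178)
(.leaf 5325))
(.node (.leaf 1195)
(.leaf 0)))))
(.node (.node (.node (.node (.leaf 10)
(.leaf 1178))
(.node (.leaf 1178)
(.leaf 0)))
(.node (.node (.leaf 1252)
(.leaf 5315))
(.node (.leaf 1178)
(.leaf 0))))
(.node (.node (.node (.leaf 178)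
(.leaf 1175))
(.node (.leaf 1179)
(.leaf 0)))
(.node (.node (.leaf 1220)
(.leaf 5732))
(.node (.leaf 1196)
(.leaf 0))))))
(.node (.node (.node (.node (.node (.leaf 58)
(.leaf 1177))
(.node (.leaf 1179)
(.leaf 0)))
(.node (.node (.leaf 1191)
(.leaf 5315))
(.node (.leaf 1220)
(.leaf 0))))
(.node (.node (.node (.leaf 10)
(.leaf 1179))
(.node (.leaf 1195)
(.leaf 0)))
(.node (.node (.leaf 1157)
(.leaf 5325))
(.node (.leaf 1175)
(.leaf 0)))))
(.node (.node (.node (.node (.leaf 10)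
(.leaf 1177))
(.node (.leaf 1159)
(.leaf 0)))
(.node (.node (.leaf 1175)
(.leaf 5325))
(.node (.leaf 1220)
(.leaf 0))))
(.node (.node (.node (.leaf 16)
(.leaf 1159))
(.node (.leaf 1179)
(.leaf 0)))
(.node (.node (.leaf 1163)
(.leaf 5325))
(.node (.leaf 1175)
(.leaf 0))))))))
(.node (.node (.node (.node (.node (.node (.node (.leaf 10)
(.leaf 1365))
(.node (.leaf 1163)
(.leaf 5446)))
(.node (.node (.leaf 11)
(.leaf 1163))
(.node (.leaf 1195)
(.leaf 0))))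
(.node (.node (.node (.leaf 16)
(.leaf 1196))
(.node (.leaf 1178)
(.leaf 0)))
(.node (.node (.leaf 1177)
(.leaf 5325))
(.node (.leaf 1163)
(.leaf 0)))))
(.node (.node (.node (.node (.leaf 10)
(.leaf 1179))
(.node (.leaf 1178)
(.leaf 0)))
(.node (.node (.leaf 1175)
(.leaf 5325))
(.node (.leaf 1178)
(.leaf 0))))
(.node (.node (.node (.leaf 16)
(.leaf 1175))
(.node (.leaf 1179)
(.leaf 0)))
(.node (.node (.leaf 1220)
(.leaf 5325))
(.node (.leaf 1220)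
(.leaf 0))))))
(.node (.node (.node (.node (.node (.leaf 10)
(.leaf 1365))
(.node (.leaf 1251)
(.leaf 0)))
(.node (.node (.leaf 1196)
(.leaf 1252))
(.node (.leaf 1220)
(.leaf 0))))
(.node (.node (.node (.leaf 10)
(.leaf 1220))
(.node (.leaf 1159)
(.leaf 0)))
(.node (.node (.leaf 1178)
(.leaf 5320))
(.node (.leaf 1196)
(.leaf 0)))))
(.node (.node (.node (.node (.leaf 3)
(.leaf 1179))
(.node (.leaf 1179)
(.leaf 0)))
(.node (.node (.leaf 1191)
(.leaf 5325))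
(.node (.leaf 1159)
(.leaf 0))))
(.node (.node (.node (.leaf 31)
(.leaf 1179))
(.node (.leaf 1251)
(.leaf 0)))
(.node (.node (.leaf 1177)
(.leaf 5320))
(.node (.leaf 1220)
(.leaf 0)))))))
(.node (.node (.node (.node (.node (.node (.leaf 10)
(.leaf 1178))
(.node (.leaf 1157)
(.leaf 5732)))
(.node (.node (.leaf 297)
(.leaf 1179))
(.node (.leaf 1251)
(.leaf 0))))
(.node (.node (.node (.leaf 10)
(.leaf 1179))
(.node (.leaf 1251)
(.leaf 0)))
(.node (.node (.leaf 1175)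
(.leaf 5320))
(.node (.leaf 1196)
(.leaf 0)))))
(.node (.node (.node (.node (.leaf 3)
(.leaf 1365))
(.node (.leaf 1252)
(.leaf 0)))
(.node (.node (.leaf 1157)
(.leaf 5313))
(.node (.leaf 1195)
(.leaf 0))))
(.node (.node (.node (.leaf 3)
(.leaf 1179))
(.node (.leaf 1220)
(.leaf 0)))
(.node (.node (.leaf 1220)
(.leaf 5446))
(.node (.leaf 1163)
(.leaf 0))))))
(.node (.node (.node (.node (.node (.leaf 10)
(.leaf 1163))
(.node (.leaf 1175)
(.leaf 0)))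
(.node (.node (.leaf 1178)
(.leaf 5313))
(.node (.leaf 1159)
(.leaf 0))))
(.node (.node (.node (.leaf 10)
(.leaf 1279))
(.node (.leaf 1252)
(.leaf 0)))
(.node (.node (.leaf 1195)
(.leaf 5377))
(.node (.leaf 1163)
(.leaf 0)))))
(.node (.node (.node (.node (.leaf 10)
(.leaf 1178))
(.node (.leaf 1175)
(.leaf 0)))
(.node (.node (.leaf 1175)
(.leaf 5398))
(.node (.leaf 1159)
(.leaf 0))))
(.node (.node (.node (.leaf 61)
(.leaf 1179))
(.node (.leaf 1196)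
(.leaf 0)))
(.node (.node (.leaf 1251)
(.leaf 5485))
(.node (.leaf 1178)
(.leaf 0)))))))))
(.node (.node (.node (.node (.node (.node (.node (.node (.leaf 1)
(.leaf 1178))
(.node (.leaf 1196)
(.leaf 5325)))
(.node (.node (.leaf 178)
(.leaf 1175))
(.node (.leaf 1163)
(.leaf 0))))
(.node (.node (.node (.leaf 61)
(.leaf 1252))
(.node (.leaf 1179)
(.leaf 0)))
(.node (.node (.leaf 1159)
(.leaf 5325))
(.node (.leaf 1196)
(.leaf 0)))))
(.node (.node (.node (.node (.leaf 11)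
(.leaf 1178))
(.node (.leaf 1175)
(.leaf 0)))
(.node (.node (.leaf 1308)
(.leaf 5342))
(.node (.leaf 1179)
(.leaf 0))))
(.node (.node (.node (.leaf 10)
(.leaf 1196))
(.node (.leaf 1252)
(.leaf 0)))
(.node (.node (.leaf 1220)
(.leaf 5325))
(.node (.leaf 1365)
(.leaf 0))))))
(.node (.node (.node (.node (.node (.leaf 10)
(.leaf 1365))
(.node (.leaf 1220)
(.leaf 5644)))
(.node (.node (.leaf 1159)
(.leaf 1179))
(.node (.leaf 1163)
(.leaf 0))))
(.node (.node (.node (.leaf 3)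
(.leaf 1175))
(.node (.leaf 1175)
(.leaf 0)))
(.node (.node (.leaf 1179)
(.leaf 5446))
(.node (.leaf 1195)
(.leaf 0)))))
(.node (.node (.node (.node (.leaf 3)
(.leaf 1179))
(.node (.leaf 1179)
(.leaf 0)))
(.node (.node (.leaf 1196)
(.leaf 5342))
(.node (.leaf 1159)
(.leaf 0))))
(.node (.node (.node (.leaf 297)
(.leaf 1159))
(.node (.leaf 1163)
(.leaf 0)))
(.node (.node (.leaf 1163)
(.leaf 5342))
(.node (.leaf 1220)
(.leaf 0)))))))
(.node (.node (.node (.node (.node (.node (.leaf 31)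
(.leaf 1179))
(.node (.leaf 1175)
(.leaf 5446)))
(.node (.node (.leaf 178)
(.leaf 1252))
(.node (.leaf 1175)
(.leaf 0))))
(.node (.node (.node (.leaf 10)
(.leaf 1178))
(.node (.leaf 1179)
(.leaf 0)))
(.node (.node (.leaf 1179)
(.leaf 5446))
(.node (.leaf 1175)
(.leaf 0)))))
(.node (.node (.node (.node (.leaf 11)
(.leaf 1251))
(.node (.leaf 1159)
(.leaf 0)))
(.node (.node (.leaf 1157)
(.leaf 5325))
(.node (.leaf 1163)
(.leaf 0))))
(.node (.node (.node (.leaf 178)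
(.leaf 1163))
(.node (.leaf 1220)
(.leaf 0)))
(.node (.node (.leaf 1308)
(.leaf 5320))
(.node (.leaf 1251)
(.leaf 0))))))
(.node (.node (.node (.node (.node (.leaf 16)
(.leaf 1251))
(.node (.leaf 1251)
(.leaf 0)))
(.node (.node (.leaf 1220)
(.leaf 5317))
(.node (.leaf 1196)
(.leaf 0))))
(.node (.node (.node (.leaf 11)
(.leaf 1159))
(.node (.leaf 1179)
(.leaf 0)))
(.node (.node (.leaf 1179)
(.leaf 5325))
(.node (.leaf 1220)
(.leaf 0)))))
(.node (.node (.node (.node (.leaf 10)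
(.leaf 1196))
(.node (.leaf 1177)
(.leaf 0)))
(.node (.node (.leaf 1196)
(.leaf 5325))
(.node (.leaf 1159)
(.leaf 0))))
(.node (.node (.node (.leaf 58)
(.leaf 1179))
(.node (.leaf 1163)
(.leaf 0)))
(.node (.node (.leaf 1251)
(.leaf 5644))
(.node (.leaf 1196)
(.leaf 0))))))))
(.node (.node (.node (.node (.node (.node (.node (.leaf 3)
(.leaf 1252))
(.node (.leaf 1196)
(.leaf 5325)))
(.node (.node (.leaf 178)
(.leaf 1196))
(.node (.leaf 1175)
(.leaf 0))))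
(.node (.node (.node (.leaf 61)
(.leaf 1252))
(.node (.leaf 1179)
(.leaf 0)))
(.node (.node (.leaf 1178)
(.leaf 5325))
(.node (.leaf 1220)
(.leaf 0)))))
(.node (.node (.node (.node (.leaf 11)
(.leaf 1159))
(.node (.leaf 1178)
(.leaf 0)))
(.node (.node (.leaf 1163)
(.leaf 5325))
(.node (.leaf 1365)
(.leaf 0))))
(.node (.node (.node (.leaf 10)
(.leaf 1178))
(.node (.leaf 1178)
(.leaf 0)))
(.node (.node (.leaf 1220)
(.leaf 5320))
(.node (.leaf 1196)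
(.leaf 0))))))
(.node (.node (.node (.node (.node (.leaf 10)
(.leaf 1251))
(.node (.leaf 1163)
(.leaf 0)))
(.node (.node (.leaf 1185)
(.leaf 1252))
(.node (.leaf 1163)
(.leaf 0))))
(.node (.node (.node (.leaf 31)
(.leaf 1179))
(.node (.leaf 1252)
(.leaf 0)))
(.node (.node (.leaf 1191)
(.leaf 5325))
(.node (.leaf 1196)
(.leaf 0)))))
(.node (.node (.node (.node (.leaf 11)
(.leaf 1179))
(.node (.leaf 1159)
(.leaf 0)))
(.node (.node (.leaf 1160)
(.leaf 5377))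
(.node (.leaf 1196)
(.leaf 0))))
(.node (.node (.node (.leaf 178)
(.leaf 1179))
(.node (.leaf 1159)
(.leaf 0)))
(.node (.node (.leaf 1156)
(.leaf 5342))
(.node (.leaf 1251)
(.leaf 0)))))))
(.node (.node (.node (.node (.node (.node (.leaf 3)
(.leaf 1365))
(.node (.leaf 1178)
(.leaf 5325)))
(.node (.node (.leaf 178)
(.leaf 1251))
(.node (.leaf 1252)
(.leaf 0))))
(.node (.node (.node (.leaf 11)
(.leaf 1220))
(.node (.leaf 1179)
(.leaf 0)))
(.node (.node (.leaf 1251)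
(.leaf 5320))
(.node (.leaf 1196)
(.leaf 0)))))
(.node (.node (.node (.node (.leaf 3)
(.leaf 1179))
(.node (.leaf 1175)
(.leaf 0)))
(.node (.node (.leaf 1179)
(.leaf 5325))
(.node (.leaf 1177)
(.leaf 0))))
(.node (.node (.node (.leaf 297)
(.leaf 1196))
(.node (.leaf 1196)
(.leaf 0)))
(.node (.node (.leaf 1178)
(.leaf 5325))
(.node (.leaf 1179)
(.leaf 0))))))
(.node (.node (.node (.node (.node (.leaf 3)
(.leaf 1178))
(.node (.leaf 1179)
(.leaf 0)))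
(.node (.node (.leaf 1160)
(.leaf 5313))
(.node (.leaf 1163)
(.leaf 0))))
(.node (.node (.node (.leaf 11)
(.leaf 1177))
(.node (.leaf 1179)
(.leaf 0)))
(.node (.node (.leaf 1196)
(.leaf 5325))
(.node (.leaf 1196)
(.leaf 0)))))
(.node (.node (.node (.node (.leaf 11)
(.leaf 1163))
(.node (.leaf 1251)
(.leaf 0)))
(.node (.node (.leaf 1179)
(.leaf 5325))
(.node (.leaf 1365)
(.leaf 0))))
(.node (.node (.node (.leaf 178)
(.leaf 1179))
(.node (.leaf 1175)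
(.leaf 0)))
(.node (.node (.leaf 1196)
(.leaf 5320))
(.node (.leaf 1195)
(.leaf 0))))))))))))
(.node (.node (.node (.node (.node (.node (.node (.node (.node (.node (.node (.leaf 2)
(.leaf 1179))
(.node (.leaf 1175)
(.leaf 5325)))
(.node (.node (.leaf 178)
(.leaf 1220))
(.node (.leaf 1196)
(.leaf 0))))
(.node (.node (.node (.leaf 178)
(.leaf 1252))
(.node (.leaf 1179)
(.leaf 0)))
(.node (.node (.leaf 1179)
(.leaf 5325))
(.node (.leaf 1179)
(.leaf 0)))))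
(.node (.node (.node (.node (.leaf 10)
(.leaf 1251))
(.node (.leaf 1220)
(.leaf 0)))
(.node (.node (.leaf 1179)
(.leaf 5325))
(.node (.leaf 1196)
(.leaf 0))))
(.node (.node (.node (.leaf 3)
(.leaf 1163))
(.node (.leaf 1163)
(.leaf 0)))
(.node (.node (.leaf 1196)
(.leaf 5325))
(.node (.leaf 1220)
(.leaf 0))))))
(.node (.node (.node (.node (.node (.leaf 11)
(.leaf 1178))
(.node (.leaf 1252)
(.leaf 5644)))
(.node (.node (.leaf 178)
(.leaf 1251))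
(.node (.leaf 1196)
(.leaf 0))))
(.node (.node (.node (.leaf 3)
(.leaf 1195))
(.node (.leaf 1251)
(.leaf 0)))
(.node (.node (.leaf 1179)
(.leaf 5342))
(.node (.leaf 1196)
(.leaf 0)))))
(.node (.node (.node (.node (.leaf 10)
(.leaf 1179))
(.node (.leaf 1175)
(.leaf 0)))
(.node (.node (.leaf 1220)
(.leaf 5446))
(.node (.leaf 1178)
(.leaf 0))))
(.node (.node (.node (.leaf 3)
(.leaf 1220))
(.node (.leaf 1220)
(.leaf 0)))
(.node (.node (.leaf 1252)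
(.leaf 5325))
(.node (.leaf 1175)
(.leaf 0)))))))
(.node (.node (.node (.node (.node (.node (.leaf 3)
(.leaf 1178))
(.node (.leaf 1163)
(.leaf 5446)))
(.node (.node (.leaf 178)
(.leaf 1163))
(.node (.leaf 1163)
(.leaf 0))))
(.node (.node (.node (.leaf 10)
(.leaf 1175))
(.node (.leaf 1159)
(.leaf 0)))
(.node (.node (.leaf 1195)
(.leaf 5325))
(.node (.leaf 1175)
(.leaf 0)))))
(.node (.node (.node (.node (.leaf 11)
(.leaf 1178))
(.node (.leaf 1365)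
(.leaf 0)))
(.node (.node (.leaf 1157)
(.leaf 5342))
(.node (.leaf 1178)
(.leaf 0))))
(.node (.node (.node (.leaf 10)
(.leaf 1179))
(.node (.leaf 1251)
(.leaf 0)))
(.node (.node (.leaf 1175)
(.leaf 5325))
(.node (.leaf 1179)
(.leaf 0))))))
(.node (.node (.node (.node (.node (.leaf 3)
(.leaf 1179))
(.node (.leaf 1175)
(.leaf 0)))
(.node (.node (.leaf 1175)
(.leaf 5313))
(.node (.leaf 1220)
(.leaf 0))))
(.node (.node (.node (.leaf 3)
(.leaf 1179))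
(.node (.leaf 1179)
(.leaf 0)))
(.node (.node (.leaf 1220)
(.leaf 5325))
(.node (.leaf 1220)
(.leaf 0)))))
(.node (.node (.node (.node (.leaf 16)
(.leaf 1252))
(.node (.leaf 1157)
(.leaf 0)))
(.node (.node (.leaf 1220)
(.leaf 5325))
(.node (.leaf 1195)
(.leaf 0))))
(.node (.node (.node (.leaf 16)
(.leaf 1179))
(.node (.leaf 1179)
(.leaf 0)))
(.node (.node (.leaf 1163)
(.leaf 5320))
(.node (.leaf 1175)
(.leaf 0))))))))
(.node (.node (.node (.node (.node (.node (.node (.leaf 10)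
(.leaf 1178))
(.node (.leaf 1175)
(.leaf 5325)))
(.node (.node (.leaf 178)
(.leaf 1178))
(.node (.leaf 1196)
(.leaf 0))))
(.node (.node (.node (.leaf 16)
(.leaf 1252))
(.node (.leaf 1177)
(.leaf 0)))
(.node (.node (.leaf 1178)
(.leaf 5325))
(.node (.leaf 1196)
(.leaf 0)))))
(.node (.node (.node (.node (.leaf 10)
(.leaf 1179))
(.node (.leaf 1252)
(.leaf 0)))
(.node (.node (.leaf 1279)
(.leaf 5342))
(.node (.leaf 1252)
(.leaf 0))))
(.node (.node (.node (.leaf 3)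
(.leaf 1196))
(.node (.leaf 1178)
(.leaf 0)))
(.node (.node (.leaf 1175)
(.leaf 5325))
(.node (.leaf 1179)
(.leaf 0))))))
(.node (.node (.node (.node (.node (.leaf 10)
(.leaf 1365))
(.node (.leaf 1160)
(.leaf 0)))
(.node (.node (.leaf 1158)
(.leaf 1179))
(.node (.leaf 1175)
(.leaf 0))))
(.node (.node (.node (.leaf 3)
(.leaf 1220))
(.node (.leaf 1178)
(.leaf 0)))
(.node (.node (.leaf 1179)
(.leaf 5325))
(.node (.leaf 1252)
(.leaf 0)))))
(.node (.node (.node (.node (.leaf 10)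
(.leaf 1179))
(.node (.leaf 1159)
(.leaf 0)))
(.node (.node (.leaf 1156)
(.leaf 5325))
(.node (.leaf 1179)
(.leaf 0))))
(.node (.node (.node (.leaf 16)
(.leaf 1279))
(.node (.leaf 1159)
(.leaf 0)))
(.node (.node (.leaf 1179)
(.leaf 5342))
(.node (.leaf 1220)
(.leaf 0)))))))
(.node (.node (.node (.node (.node (.node (.leaf 11)
(.leaf 1251))
(.node (.leaf 1163)
(.leaf 5446)))
(.node (.node (.leaf 178)
(.leaf 1196))
(.node (.leaf 1220)
(.leaf 0))))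
(.node (.node (.node (.leaf 3)
(.leaf 1178))
(.node (.leaf 1252)
(.leaf 0)))
(.node (.node (.leaf 1157)
(.leaf 5320))
(.node (.leaf 1196)
(.leaf 0)))))
(.node (.node (.node (.node (.leaf 10)
(.leaf 1195))
(.node (.leaf 1365)
(.leaf 0)))
(.node (.node (.leaf 1160)
(.leaf 5342))
(.node (.leaf 1252)
(.leaf 0))))
(.node (.node (.node (.leaf 178)
(.leaf 1175))
(.node (.leaf 1178)
(.leaf 0)))
(.node (.node (.leaf 1195)
(.leaf 5325))
(.node (.leaf 1163)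
(.leaf 0))))))
(.node (.node (.node (.node (.node (.leaf 16)
(.leaf 1251))
(.node (.leaf 1196)
(.leaf 0)))
(.node (.node (.leaf 1157)
(.leaf 5320))
(.node (.leaf 1251)
(.leaf 0))))
(.node (.node (.node (.leaf 3)
(.leaf 1175))
(.node (.leaf 1179)
(.leaf 0)))
(.node (.node (.leaf 1279)
(.leaf 5342))
(.node (.leaf 1365)
(.leaf 0)))))
(.node (.node (.node (.node (.leaf 3)
(.leaf 1195))
(.node (.leaf 1196)
(.leaf 0)))
(.node (.node (.leaf 1195)
(.leaf 5342))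
(.node (.leaf 1252)
(.leaf 0))))
(.node (.node (.node (.leaf 178)
(.leaf 1163))
(.node (.leaf 1196)
(.leaf 0)))
(.node (.node (.leaf 1365)
(.leaf 5485))
(.node (.leaf 1179)
(.leaf 0)))))))))
(.node (.node (.node (.node (.node (.node (.node (.node (.leaf 16)
(.leaf 1178))
(.node (.leaf 1178)
(.leaf 5325)))
(.node (.node (.leaf 10)
(.leaf 1196))
(.node (.leaf 1175)
(.leaf 0))))
(.node (.node (.node (.leaf 16)
(.leaf 1179))
(.node (.leaf 1179)
(.leaf 0)))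
(.node (.node (.leaf 1179)
(.leaf 5325))
(.node (.leaf 1252)
(.leaf 0)))))
(.node (.node (.node (.node (.leaf 16)
(.leaf 1251))
(.node (.leaf 1196)
(.leaf 0)))
(.node (.node (.leaf 1178)
(.leaf 5320))
(.node (.leaf 1252)
(.leaf 0))))
(.node (.node (.node (.leaf 297)
(.leaf 1196))
(.node (.leaf 1251)
(.leaf 0)))
(.node (.node (.leaf 1175)
(.leaf 5320))
(.node (.leaf 1251)
(.leaf 0))))))
(.node (.node (.node (.node (.node (.leaf 10)
(.leaf 1178))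
(.node (.leaf 1175)
(.leaf 5446)))
(.node (.node (.leaf 1157)
(.leaf 1159))
(.node (.leaf 1163)
(.leaf 0))))
(.node (.node (.node (.leaf 10)
(.leaf 1195))
(.node (.leaf 1195)
(.leaf 0)))
(.node (.node (.leaf 1160)
(.leaf 5325))
(.node (.leaf 1175)
(.leaf 0)))))
(.node (.node (.node (.node (.leaf 10)
(.leaf 1365))
(.node (.leaf 1251)
(.leaf 0)))
(.node (.node (.leaf 1196)
(.leaf 5377))
(.node (.leaf 1177)
(.leaf 0))))
(.node (.node (.node (.leaf 10)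
(.leaf 1178))
(.node (.leaf 1178)
(.leaf 0)))
(.node (.node (.leaf 1251)
(.leaf 5325))
(.node (.leaf 1220)
(.leaf 0)))))))
(.node (.node (.node (.node (.node (.node (.leaf 10)
(.leaf 1196))
(.node (.leaf 1220)
(.leaf 5342)))
(.node (.node (.leaf 297)
(.leaf 1251))
(.node (.leaf 1196)
(.leaf 0))))
(.node (.node (.node (.leaf 3)
(.leaf 1178))
(.node (.leaf 1251)
(.leaf 0)))
(.node (.node (.leaf 1177)
(.leaf 5325))
(.node (.leaf 1196)
(.leaf 0)))))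
(.node (.node (.node (.node (.leaf 10)
(.leaf 1178))
(.node (.leaf 1252)
(.leaf 0)))
(.node (.node (.leaf 1191)
(.leaf 5325))
(.node (.leaf 1252)
(.leaf 0))))
(.node (.node (.node (.leaf 3)
(.leaf 1196))
(.node (.leaf 1251)
(.leaf 0)))
(.node (.node (.leaf 1175)
(.leaf 5320))
(.node (.leaf 1195)
(.leaf 0))))))
(.node (.node (.node (.node (.node (.leaf 58)
(.leaf 1179))
(.node (.leaf 1175)
(.leaf 0)))
(.node (.node (.leaf 1158)
(.leaf 5325))
(.node (.leaf 1195)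
(.leaf 0))))
(.node (.node (.node (.leaf 11)
(.leaf 1251))
(.node (.leaf 1178)
(.leaf 0)))
(.node (.node (.leaf 1175)
(.leaf 5320))
(.node (.leaf 1163)
(.leaf 0)))))
(.node (.node (.node (.node (.leaf 3)
(.leaf 1252))
(.node (.leaf 1159)
(.leaf 0)))
(.node (.node (.leaf 1220)
(.leaf 5325))
(.node (.leaf 1196)
(.leaf 0))))
(.node (.node (.node (.leaf 16)
(.leaf 1365))
(.node (.leaf 1179)
(.leaf 0)))
(.node (.node (.leaf 1220)
(.leaf 5325))
(.node (.leaf 1220)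
(.leaf 0))))))))
(.node (.node (.node (.node (.node (.node (.node (.leaf 10)
(.leaf 1178))
(.node (.leaf 1251)
(.leaf 5485)))
(.node (.node (.leaf 10)
(.leaf 1178))
(.node (.leaf 1163)
(.leaf 0))))
(.node (.node (.node (.leaf 61)
(.leaf 1179))
(.node (.leaf 1195)
(.leaf 0)))
(.node (.node (.leaf 1178)
(.leaf 5325))
(.node (.leaf 1175)
(.leaf 0)))))
(.node (.node (.node (.node (.leaf 10)
(.leaf 1179))
(.node (.leaf 1178)
(.leaf 0)))
(.node (.node (.leaf 1195)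
(.leaf 5320))
(.node (.leaf 1179)
(.leaf 0))))
(.node (.node (.node (.leaf 3)
(.leaf 1220))
(.node (.leaf 1251)
(.leaf 0)))
(.node (.node (.leaf 1163)
(.leaf 5325))
(.node (.leaf 1175)
(.leaf 0))))))
(.node (.node (.node (.node (.node (.leaf 178)
(.leaf 1251))
(.node (.leaf 1195)
(.leaf 0)))
(.node (.node (.leaf 1191)
(.leaf 1178))
(.node (.leaf 1220)
(.leaf 0))))
(.node (.node (.node (.leaf 10)
(.leaf 1179))
(.node (.leaf 1159)
(.leaf 0)))
(.node (.node (.leaf 1251)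
(.leaf 5325))
(.node (.leaf 1195)
(.leaf 0)))))
(.node (.node (.node (.node (.leaf 178)
(.leaf 1179))
(.node (.leaf 1179)
(.leaf 0)))
(.node (.node (.leaf 1157)
(.leaf 5320))
(.node (.leaf 1195)
(.leaf 0))))
(.node (.node (.node (.leaf 178)
(.leaf 1251))
(.node (.leaf 1279)
(.leaf 0)))
(.node (.node (.leaf 1159)
(.leaf 5485))
(.node (.leaf 1252)
(.leaf 0)))))))
(.node (.node (.node (.node (.node (.node (.leaf 31)
(.leaf 1159))
(.node (.leaf 1157)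
(.leaf 5446)))
(.node (.node (.leaf 297)
(.leaf 1179))
(.node (.leaf 1251)
(.leaf 0))))
(.node (.node (.node (.leaf 3)
(.leaf 1178))
(.node (.leaf 1179)
(.leaf 0)))
(.node (.node (.leaf 1159)
(.leaf 5377))
(.node (.leaf 1175)
(.leaf 0)))))
(.node (.node (.node (.node (.leaf 10)
(.leaf 1178))
(.node (.leaf 1163)
(.leaf 0)))
(.node (.node (.leaf 1158)
(.leaf 5320))
(.node (.leaf 1220)
(.leaf 0))))
(.node (.node (.node (.leaf 31)
(.leaf 1159))
(.node (.leaf 1178)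
(.leaf 0)))
(.node (.node (.leaf 1196)
(.leaf 5446))
(.node (.leaf 1163)
(.leaf 0))))))
(.node (.node (.node (.node (.node (.leaf 10)
(.leaf 1220))
(.node (.leaf 1220)
(.leaf 0)))
(.node (.node (.leaf 1179)
(.leaf 5325))
(.node (.leaf 1195)
(.leaf 0))))
(.node (.node (.node (.leaf 297)
(.leaf 1179))
(.node (.leaf 1175)
(.leaf 0)))
(.node (.node (.leaf 1175)
(.leaf 5325))
(.node (.leaf 1220)
(.leaf 0)))))
(.node (.node (.node (.node (.leaf 10)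
(.leaf 1252))
(.node (.leaf 1252)
(.leaf 0)))
(.node (.node (.leaf 1157)
(.leaf 5317))
(.node (.leaf 1179)
(.leaf 0))))
(.node (.node (.node (.leaf 178)
(.leaf 1251))
(.node (.leaf 1195)
(.leaf 0)))
(.node (.node (.leaf 1175)
(.leaf 5320))
(.node (.leaf 1252)
(.leaf 0))))))))))
(.node (.node (.node (.node (.node (.node (.node (.node (.node (.leaf 10)
(.leaf 1251))
(.node (.leaf 1191)
(.leaf 5377)))
(.node (.node (.leaf 3)
(.leaf 1196))
(.node (.leaf 1196)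
(.leaf 0))))
(.node (.node (.node (.leaf 178)
(.leaf 1251))
(.node (.leaf 1178)
(.leaf 0)))
(.node (.node (.leaf 1196)
(.leaf 5325))
(.node (.leaf 1251)
(.leaf 0)))))
(.node (.node (.node (.node (.leaf 10)
(.leaf 1178))
(.node (.leaf 1163)
(.leaf 0)))
(.node (.node (.leaf 1157)
(.leaf 5325))
(.node (.leaf 1251)
(.leaf 0))))
(.node (.node (.node (.leaf 31)
(.leaf 1196))
(.node (.leaf 1251)
(.leaf 0)))
(.node (.node (.leaf 1163)
(.leaf 5342))
(.node (.leaf 1175)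
(.leaf 0))))))
(.node (.node (.node (.node (.node (.leaf 10)
(.leaf 1179))
(.node (.leaf 1175)
(.leaf 5446)))
(.node (.node (.leaf 1160)
(.leaf 1178))
(.node (.leaf 1196)
(.leaf 0))))
(.node (.node (.node (.leaf 10)
(.leaf 1252))
(.node (.leaf 1175)
(.leaf 0)))
(.node (.node (.leaf 1157)
(.leaf 5377))
(.node (.leaf 1220)
(.leaf 0)))))
(.node (.node (.node (.node (.leaf 10)
(.leaf 1365))
(.node (.leaf 1279)
(.leaf 0)))
(.node (.node (.leaf 1196)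
(.leaf 5325))
(.node (.leaf 1177)
(.leaf 0))))
(.node (.node (.node (.leaf 178)
(.leaf 1220))
(.node (.leaf 1175)
(.leaf 0)))
(.node (.node (.leaf 1175)
(.leaf 5325))
(.node (.leaf 1195)
(.leaf 0)))))))
(.node (.node (.node (.node (.node (.node (.leaf 11)
(.leaf 1179))
(.node (.leaf 1196)
(.leaf 5325)))
(.node (.node (.leaf 31)
(.leaf 1175))
(.node (.leaf 1163)
(.leaf 0))))
(.node (.node (.node (.leaf 31)
(.leaf 1178))
(.node (.leaf 1251)
(.leaf 0)))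
(.node (.node (.leaf 1177)
(.leaf 5325))
(.node (.leaf 1196)
(.leaf 0)))))
(.node (.node (.node (.node (.leaf 16)
(.leaf 1220))
(.node (.leaf 1251)
(.leaf 0)))
(.node (.node (.leaf 1196)
(.leaf 5320))
(.node (.leaf 1252)
(.leaf 0))))
(.node (.node (.node (.leaf 31)
(.leaf 1163))
(.node (.leaf 1251)
(.leaf 0)))
(.node (.node (.leaf 1195)
(.leaf 5320))
(.node (.leaf 1175)
(.leaf 0))))))
(.node (.node (.node (.node (.node (.leaf 3)
(.leaf 1163))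
(.node (.leaf 1220)
(.leaf 0)))
(.node (.node (.leaf 1160)
(.leaf 5315))
(.node (.leaf 1220)
(.leaf 0))))
(.node (.node (.node (.leaf 11)
(.leaf 1279))
(.node (.leaf 1279)
(.leaf 0)))
(.node (.node (.leaf 1163)
(.leaf 5325))
(.node (.leaf 1163)
(.leaf 0)))))
(.node (.node (.node (.node (.leaf 297)
(.leaf 1179))
(.node (.leaf 1179)
(.leaf 0)))
(.node (.node (.leaf 1220)
(.leaf 5342))
(.node (.leaf 1163)
(.leaf 0))))
(.node (.node (.node (.leaf 61)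
(.leaf 1178))
(.node (.leaf 1179)
(.leaf 0)))
(.node (.node (.leaf 1195)
(.leaf 5342))
(.node (.leaf 1163)
(.leaf 0))))))))
(.node (.node (.node (.node (.node (.node (.node (.leaf 10)
(.leaf 1177))
(.node (.leaf 1195)
(.leaf 5644)))
(.node (.node (.leaf 58)
(.leaf 1179))
(.node (.leaf 1196)
(.leaf 0))))
(.node (.node (.node (.leaf 10)
(.leaf 1179))
(.node (.leaf 1251)
(.leaf 0)))
(.node (.node (.leaf 1179)
(.leaf 5325))
(.node (.leaf 1196)
(.leaf 0)))))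
(.node (.node (.node (.node (.leaf 10)
(.leaf 1175))
(.node (.leaf 1178)
(.leaf 0)))
(.node (.node (.leaf 1196)
(.leaf 5325))
(.node (.leaf 1159)
(.leaf 0))))
(.node (.node (.node (.leaf 16)
(.leaf 1196))
(.node (.leaf 1365)
(.leaf 0)))
(.node (.node (.leaf 1195)
(.leaf 5446))
(.node (.leaf 1163)
(.leaf 0))))))
(.node (.node (.node (.node (.node (.leaf 11)
(.leaf 1251))
(.node (.leaf 1220)
(.leaf 0)))
(.node (.node (.leaf 1175)
(.leaf 1251))
(.node (.leaf 1178)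
(.leaf 0))))
(.node (.node (.node (.leaf 11)
(.leaf 1175))
(.node (.leaf 1159)
(.leaf 0)))
(.node (.node (.leaf 1179)
(.leaf 5325))
(.node (.leaf 1196)
(.leaf 0)))))
(.node (.node (.node (.node (.leaf 58)
(.leaf 1179))
(.node (.leaf 1220)
(.leaf 0)))
(.node (.node (.leaf 1157)
(.leaf 5325))
(.node (.leaf 1175)
(.leaf 0))))
(.node (.node (.node (.leaf 10)
(.leaf 1251))
(.node (.leaf 1179)
(.leaf 0)))
(.node (.node (.leaf 1159)
(.leaf 5325))
(.node (.leaf 1251)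
(.leaf 0)))))))
(.node (.node (.node (.node (.node (.node (.leaf 10)
(.leaf 1251))
(.node (.leaf 1156)
(.leaf 5485)))
(.node (.node (.leaf 56)
(.leaf 1179))
(.node (.leaf 1220)
(.leaf 0))))
(.node (.node (.node (.leaf 3)
(.leaf 1179))
(.node (.leaf 1252)
(.leaf 0)))
(.node (.node (.leaf 1163)
(.leaf 5325))
(.node (.leaf 1163)
(.leaf 0)))))
(.node (.node (.node (.node (.leaf 3)
(.leaf 1179))
(.node (.leaf 1175)
(.leaf 0)))
(.node (.node (.leaf 1179)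
(.leaf 5320))
(.node (.leaf 1163)
(.leaf 0))))
(.node (.node (.node (.leaf 10)
(.leaf 1163))
(.node (.leaf 1175)
(.leaf 0)))
(.node (.node (.leaf 1158)
(.leaf 5485))
(.node (.leaf 1175)
(.leaf 0))))))
(.node (.node (.node (.node (.node (.leaf 10)
(.leaf 1178))
(.node (.leaf 1159)
(.leaf 0)))
(.node (.node (.leaf 1178)
(.leaf 5315))
(.node (.leaf 1159)
(.leaf 0))))
(.node (.node (.node (.leaf 10)
(.leaf 1178))
(.node (.leaf 1175)
(.leaf 0)))
(.node (.node (.leaf 1159)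
(.leaf 5325))
(.node (.leaf 1175)
(.leaf 0)))))
(.node (.node (.node (.node (.leaf 10)
(.leaf 1163))
(.node (.leaf 1163)
(.leaf 0)))
(.node (.node (.leaf 1196)
(.leaf 5320))
(.node (.leaf 1251)
(.leaf 0))))
(.node (.node (.node (.leaf 178)
(.leaf 1179))
(.node (.leaf 1175)
(.leaf 0)))
(.node (.node (.leaf 1179)
(.leaf 5325))
(.node (.leaf 1178)
(.leaf 0)))))))))
(.node (.node (.node (.node (.node (.node (.node (.node (.leaf 2)
(.leaf 1178))
(.node (.leaf 1196)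
(.leaf 5325)))
(.node (.node (.leaf 297)
(.leaf 1163))
(.node (.leaf 1163)
(.leaf 0))))
(.node (.node (.node (.leaf 58)
(.leaf 1178))
(.node (.leaf 1251)
(.leaf 0)))
(.node (.node (.leaf 1365)
(.leaf 5342))
(.node (.leaf 1220)
(.leaf 0)))))
(.node (.node (.node (.node (.leaf 3)
(.leaf 1159))
(.node (.leaf 1220)
(.leaf 0)))
(.node (.node (.leaf 1220)
(.leaf 5377))
(.node (.leaf 1178)
(.leaf 0))))
(.node (.node (.node (.leaf 3)
(.leaf 1195))
(.node (.leaf 1179)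
(.leaf 0)))
(.node (.node (.leaf 1220)
(.leaf 5325))
(.node (.leaf 1175)
(.leaf 0))))))
(.node (.node (.node (.node (.node (.leaf 10)
(.leaf 1179))
(.node (.leaf 1163)
(.leaf 5485)))
(.node (.node (.leaf 1178)
(.leaf 1159))
(.node (.leaf 1163)
(.leaf 0))))
(.node (.node (.node (.leaf 3)
(.leaf 1220))
(.node (.leaf 1220)
(.leaf 0)))
(.node (.node (.leaf 1179)
(.leaf 5325))
(.node (.leaf 1179)
(.leaf 0)))))
(.node (.node (.node (.node (.leaf 3)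
(.leaf 1178))
(.node (.leaf 1251)
(.leaf 0)))
(.node (.node (.leaf 1220)
(.leaf 5325))
(.node (.leaf 1179)
(.leaf 0))))
(.node (.node (.node (.leaf 31)
(.leaf 1159))
(.node (.leaf 1179)
(.leaf 0)))
(.node (.node (.leaf 1191)
(.leaf 5644))
(.node (.leaf 1179)
(.leaf 0)))))))
(.node (.node (.node (.node (.node (.node (.leaf 3)
(.leaf 1251))
(.node (.leaf 1220)
(.leaf 5485)))
(.node (.node (.leaf 178)
(.leaf 1251))
(.node (.leaf 1177)
(.leaf 0))))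
(.node (.node (.node (.leaf 10)
(.leaf 1252))
(.node (.leaf 1220)
(.leaf 0)))
(.node (.node (.leaf 1160)
(.leaf 5446))
(.node (.leaf 1163)
(.leaf 0)))))
(.node (.node (.node (.node (.leaf 178)
(.leaf 1178))
(.node (.leaf 1179)
(.leaf 0)))
(.node (.node (.leaf 1191)
(.leaf 5325))
(.node (.leaf 1196)
(.leaf 0))))
(.node (.node (.node (.leaf 31)
(.leaf 1177))
(.node (.leaf 1195)
(.leaf 0)))
(.node (.node (.leaf 1158)
(.leaf 5320))
(.node (.leaf 1175)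
(.leaf 0))))))
(.node (.node (.node (.node (.node (.leaf 10)
(.leaf 1179))
(.node (.leaf 1220)
(.leaf 0)))
(.node (.node (.leaf 1158)
(.leaf 5317))
(.node (.leaf 1220)
(.leaf 0))))
(.node (.node (.node (.leaf 16)
(.leaf 1252))
(.node (.leaf 1179)
(.leaf 0)))
(.node (.node (.leaf 1179)
(.leaf 5325))
(.node (.leaf 1177)
(.leaf 0)))))
(.node (.node (.node (.node (.leaf 10)
(.leaf 1163))
(.node (.leaf 1179)
(.leaf 0)))
(.node (.node (.leaf 1196)
(.leaf 5342))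
(.node (.leaf 1179)
(.leaf 0))))
(.node (.node (.node (.leaf 16)
(.leaf 1178))
(.node (.leaf 1163)
(.leaf 0)))
(.node (.node (.leaf 1163)
(.leaf 5446))
(.node (.leaf 1163)
(.leaf 0))))))))
(.node (.node (.node (.node (.node (.node (.node (.leaf 58)
(.leaf 1179))
(.node (.leaf 1220)
(.leaf 5325)))
(.node (.node (.leaf 178)
(.leaf 1252))
(.node (.leaf 1163)
(.leaf 0))))
(.node (.node (.node (.leaf 10)
(.leaf 1179))
(.node (.leaf 1251)
(.leaf 0)))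
(.node (.node (.leaf 1251)
(.leaf 5342))
(.node (.leaf 1195)
(.leaf 0)))))
(.node (.node (.node (.node (.leaf 10)
(.leaf 1251))
(.node (.leaf 1179)
(.leaf 0)))
(.node (.node (.leaf 1195)
(.leaf 5317))
(.node (.leaf 1251)
(.leaf 0))))
(.node (.node (.node (.leaf 58)
(.leaf 1179))
(.node (.leaf 1178)
(.leaf 0)))
(.node (.node (.leaf 1279)
(.leaf 5342))
(.node (.leaf 1196)
(.leaf 0))))))
(.node (.node (.node (.node (.node (.leaf 10)
(.leaf 1365))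
(.node (.leaf 1220)
(.leaf 0)))
(.node (.node (.leaf 1179)
(.leaf 1179))
(.node (.leaf 1163)
(.leaf 0))))
(.node (.node (.node (.leaf 3)
(.leaf 1178))
(.node (.leaf 1279)
(.leaf 0)))
(.node (.node (.leaf 1158)
(.leaf 5325))
(.node (.leaf 1175)
(.leaf 0)))))
(.node (.node (.node (.node (.leaf 10)
(.leaf 1163))
(.node (.leaf 1365)
(.leaf 0)))
(.node (.node (.leaf 1160)
(.leaf 5325))
(.node (.leaf 1163)
(.leaf 0))))
(.node (.node (.node (.leaf 178)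
(.leaf 1163))
(.node (.leaf 1279)
(.leaf 0)))
(.node (.node (.leaf 1251)
(.leaf 5342))
(.node (.leaf 1195)
(.leaf 0)))))))
(.node (.node (.node (.node (.node (.node (.leaf 31)
(.leaf 1251))
(.node (.leaf 1157)
(.leaf 5342)))
(.node (.node (.leaf 178)
(.leaf 1179))
(.node (.leaf 1195)
(.leaf 0))))
(.node (.node (.node (.leaf 297)
(.leaf 1179))
(.node (.leaf 1195)
(.leaf 0)))
(.node (.node (.leaf 1251)
(.leaf 5446))
(.node (.leaf 1220)
(.leaf 0)))))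
(.node (.node (.node (.node (.leaf 10)
(.leaf 1179))
(.node (.leaf 1220)
(.leaf 0)))
(.node (.node (.leaf 1179)
(.leaf 5320))
(.node (.leaf 1159)
(.leaf 0))))
(.node (.node (.node (.leaf 10)
(.leaf 1220))
(.node (.leaf 1163)
(.leaf 0)))
(.node (.node (.leaf 1159)
(.leaf 5325))
(.node (.leaf 1196)
(.leaf 0))))))
(.node (.node (.node (.node (.node (.leaf 3)
(.leaf 1179))
(.node (.leaf 1220)
(.leaf 0)))
(.node (.node (.leaf 1157)
(.leaf 5315))
(.node (.leaf 1251)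
(.leaf 0))))
(.node (.node (.node (.leaf 3)
(.leaf 1179))
(.node (.leaf 1177)
(.leaf 0)))
(.node (.node (.leaf 1175)
(.leaf 5320))
(.node (.leaf 1195)
(.leaf 0)))))
(.node (.node (.node (.node (.leaf 10)
(.leaf 1179))
(.node (.leaf 1252)
(.leaf 0)))
(.node (.node (.leaf 1179)
(.leaf 5377))
(.node (.leaf 1252)
(.leaf 0))))
(.node (.node (.node (.leaf 31)
(.leaf 1179))
(.node (.leaf 1175)
(.leaf 0)))
(.node (.node (.leaf 1196)
(.leaf 5377))
(.node (.leaf 1179)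
(.leaf 0)))))))))))
(.node (.node (.node (.node (.node (.node (.node (.node (.node (.node (.leaf 1)
(.leaf 1178))
(.node (.leaf 1175)
(.leaf 5485)))
(.node (.node (.leaf 3)
(.leaf 1196))
(.node (.leaf 1195)
(.leaf 0))))
(.node (.node (.node (.leaf 10)
(.leaf 1179))
(.node (.leaf 1251)
(.leaf 0)))
(.node (.node (.leaf 1251)
(.leaf 5325))
(.node (.leaf 1252)
(.leaf 0)))))
(.node (.node (.node (.node (.leaf 3)
(.leaf 1251))
(.node (.leaf 1251)
(.leaf 0)))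
(.node (.node (.leaf 1157)
(.leaf 5317))
(.node (.leaf 1175)
(.leaf 0))))
(.node (.node (.node (.leaf 10)
(.leaf 1175))
(.node (.leaf 1178)
(.leaf 0)))
(.node (.node (.leaf 1163)
(.leaf 5320))
(.node (.leaf 1195)
(.leaf 0))))))
(.node (.node (.node (.node (.node (.leaf 10)
(.leaf 1159))
(.node (.leaf 1179)
(.leaf 5485)))
(.node (.node (.leaf 1158)
(.leaf 1177))
(.node (.leaf 1220)
(.leaf 0))))
(.node (.node (.node (.leaf 297)
(.leaf 1177))
(.node (.leaf 1195)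
(.leaf 0)))
(.node (.node (.leaf 1156)
(.leaf 5325))
(.node (.leaf 1195)
(.leaf 0)))))
(.node (.node (.node (.node (.leaf 3)
(.leaf 1251))
(.node (.leaf 1178)
(.leaf 0)))
(.node (.node (.leaf 1175)
(.leaf 5317))
(.node (.leaf 1159)
(.leaf 0))))
(.node (.node (.node (.leaf 178)
(.leaf 1195))
(.node (.leaf 1163)
(.leaf 0)))
(.node (.node (.leaf 1178)
(.leaf 5342))
(.node (.leaf 1220)
(.leaf 0)))))))
(.node (.node (.node (.node (.node (.node (.leaf 10)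
(.leaf 1163))
(.node (.leaf 1220)
(.leaf 5320)))
(.node (.node (.leaf 10)
(.leaf 1178))
(.node (.leaf 1175)
(.leaf 0))))
(.node (.node (.node (.leaf 3)
(.leaf 1196))
(.node (.leaf 1177)
(.leaf 0)))
(.node (.node (.leaf 1252)
(.leaf 5325))
(.node (.leaf 1175)
(.leaf 0)))))
(.node (.node (.node (.node (.leaf 10)
(.leaf 1159))
(.node (.leaf 1159)
(.leaf 0)))
(.node (.node (.leaf 1160)
(.leaf 5446))
(.node (.leaf 1179)
(.leaf 0))))
(.node (.node (.node (.leaf 178)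
(.leaf 1251))
(.node (.leaf 1251)
(.leaf 0)))
(.node (.node (.leaf 1175)
(.leaf 5320))
(.node (.leaf 1196)
(.leaf 0))))))
(.node (.node (.node (.node (.node (.leaf 10)
(.leaf 1196))
(.node (.leaf 1196)
(.leaf 0)))
(.node (.node (.leaf 1196)
(.leaf 5317))
(.node (.leaf 1175)
(.leaf 0))))
(.node (.node (.node (.leaf 3)
(.leaf 1179))
(.node (.leaf 1179)
(.leaf 0)))
(.node (.node (.leaf 1220)
(.leaf 5320))
(.node (.leaf 1365)
(.leaf 0)))))
(.node (.node (.node (.node (.leaf 10)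
(.leaf 1178))
(.node (.leaf 1251)
(.leaf 0)))
(.node (.node (.leaf 1308)
(.leaf 5325))
(.node (.leaf 1195)
(.leaf 0))))
(.node (.node (.node (.leaf 16)
(.leaf 1177))
(.node (.leaf 1159)
(.leaf 0)))
(.node (.node (.leaf 1163)
(.leaf 5644))
(.node (.leaf 1163)
(.leaf 0))))))))
(.node (.node (.node (.node (.node (.node (.node (.leaf 11)
(.leaf 1251))
(.node (.leaf 1196)
(.leaf 5325)))
(.node (.node (.leaf 178)
(.leaf 1159))
(.node (.leaf 1163)
(.leaf 0))))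
(.node (.node (.node (.leaf 56)
(.leaf 1179))
(.node (.leaf 1178)
(.leaf 0)))
(.node (.node (.leaf 1196)
(.leaf 5446))
(.node (.leaf 1220)
(.leaf 0)))))
(.node (.node (.node (.node (.leaf 11)
(.leaf 1159))
(.node (.leaf 1279)
(.leaf 0)))
(.node (.node (.leaf 1179)
(.leaf 5325))
(.node (.leaf 1252)
(.leaf 0))))
(.node (.node (.node (.leaf 178)
(.leaf 1163))
(.node (.leaf 1251)
(.leaf 0)))
(.node (.node (.leaf 1175)
(.leaf 5325))
(.node (.leaf 1163)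
(.leaf 0))))))
(.node (.node (.node (.node (.node (.leaf 10)
(.leaf 1178))
(.node (.leaf 1175)
(.leaf 0)))
(.node (.node (.leaf 1160)
(.leaf 1179))
(.node (.leaf 1159)
(.leaf 0))))
(.node (.node (.node (.leaf 10)
(.leaf 1220))
(.node (.leaf 1179)
(.leaf 0)))
(.node (.node (.leaf 1365)
(.leaf 5342))
(.node (.leaf 1196)
(.leaf 0)))))
(.node (.node (.node (.node (.leaf 10)
(.leaf 1179))
(.node (.leaf 1179)
(.leaf 0)))
(.node (.node (.leaf 1158)
(.leaf 5342))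
(.node (.leaf 1179)
(.leaf 0))))
(.node (.node (.node (.leaf 178)
(.leaf 1178))
(.node (.leaf 1163)
(.leaf 0)))
(.node (.node (.leaf 1179)
(.leaf 5325))
(.node (.leaf 1179)
(.leaf 0)))))))
(.node (.node (.node (.node (.node (.node (.leaf 10)
(.leaf 1179))
(.node (.leaf 1220)
(.leaf 5320)))
(.node (.node (.leaf 58)
(.leaf 1178))
(.node (.leaf 1163)
(.leaf 0))))
(.node (.node (.node (.leaf 10)
(.leaf 1178))
(.node (.leaf 1179)
(.leaf 0)))
(.node (.node (.leaf 1157)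
(.leaf 5446))
(.node (.leaf 1196)
(.leaf 0)))))
(.node (.node (.node (.node (.leaf 10)
(.leaf 1177))
(.node (.leaf 1159)
(.leaf 0)))
(.node (.node (.leaf 1159)
(.leaf 5315))
(.node (.leaf 1156)
(.leaf 0))))
(.node (.node (.node (.leaf 178)
(.leaf 1196))
(.node (.leaf 1175)
(.leaf 0)))
(.node (.node (.leaf 1179)
(.leaf 5325))
(.node (.leaf 1163)
(.leaf 0))))))
(.node (.node (.node (.node (.node (.leaf 16)
(.leaf 1179))
(.node (.leaf 1175)
(.leaf 0)))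
(.node (.node (.leaf 1177)
(.leaf 5317))
(.node (.leaf 1175)
(.leaf 0))))
(.node (.node (.node (.leaf 10)
(.leaf 1279))
(.node (.leaf 1252)
(.leaf 0)))
(.node (.node (.leaf 1179)
(.leaf 5325))
(.node (.leaf 1179)
(.leaf 0)))))
(.node (.node (.node (.node (.leaf 58)
(.leaf 1179))
(.node (.leaf 1163)
(.leaf 0)))
(.node (.node (.leaf 1220)
(.leaf 5342))
(.node (.leaf 1163)
(.leaf 0))))
(.node (.node (.node (.leaf 16)
(.leaf 1252))
(.node (.leaf 1195)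
(.leaf 0)))
(.node (.node (.leaf 1365)
(.leaf 5325))
(.node (.leaf 1252)
(.leaf 0)))))))))
(.node (.node (.node (.node (.node (.node (.node (.node (.leaf 11)
(.leaf 1159))
(.node (.leaf 1220)
(.leaf 5320)))
(.node (.node (.leaf 178)
(.leaf 1175))
(.node (.leaf 1196)
(.leaf 0))))
(.node (.node (.node (.leaf 16)
(.leaf 1251))
(.node (.leaf 1179)
(.leaf 0)))
(.node (.node (.leaf 1251)
(.leaf 5325))
(.node (.leaf 1163)
(.leaf 0)))))
(.node (.node (.node (.node (.leaf 11)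
(.leaf 1251))
(.node (.leaf 1196)
(.leaf 0)))
(.node (.node (.leaf 1157)
(.leaf 5398))
(.node (.leaf 1159)
(.leaf 0))))
(.node (.node (.node (.leaf 16)
(.leaf 1163))
(.node (.leaf 1178)
(.leaf 0)))
(.node (.node (.leaf 1196)
(.leaf 5320))
(.node (.leaf 1252)
(.leaf 0))))))
(.node (.node (.node (.node (.node (.leaf 10)
(.leaf 1179))
(.node (.leaf 1158)
(.leaf 5732)))
(.node (.node (.leaf 1158)
(.leaf 1251))
(.node (.leaf 1195)
(.leaf 0))))
(.node (.node (.node (.leaf 10)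
(.leaf 1159))
(.node (.leaf 1163)
(.leaf 0)))
(.node (.node (.leaf 1185)
(.leaf 5320))
(.node (.leaf 1195)
(.leaf 0)))))
(.node (.node (.node (.node (.leaf 10)
(.leaf 1179))
(.node (.leaf 1251)
(.leaf 0)))
(.node (.node (.leaf 1220)
(.leaf 5315))
(.node (.leaf 1365)
(.leaf 0))))
(.node (.node (.node (.leaf 10)
(.leaf 1177))
(.node (.leaf 1163)
(.leaf 0)))
(.node (.node (.leaf 1179)
(.leaf 5446))
(.node (.leaf 1175)
(.leaf 0)))))))
(.node (.node (.node (.node (.node (.node (.leaf 10)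
(.leaf 1163))
(.node (.leaf 1220)
(.leaf 5325)))
(.node (.node (.leaf 178)
(.leaf 1251))
(.node (.leaf 1163)
(.leaf 0))))
(.node (.node (.node (.leaf 10)
(.leaf 1251))
(.node (.leaf 1178)
(.leaf 0)))
(.node (.node (.leaf 1179)
(.leaf 5325))
(.node (.leaf 1195)
(.leaf 0)))))
(.node (.node (.node (.node (.leaf 10)
(.leaf 1178))
(.node (.leaf 1251)
(.leaf 0)))
(.node (.node (.leaf 1178)
(.leaf 5325))
(.node (.leaf 1178)
(.leaf 0))))
(.node (.node (.node (.leaf 10)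
(.leaf 1163))
(.node (.leaf 1163)
(.leaf 0)))
(.node (.node (.leaf 1157)
(.leaf 5377))
(.node (.leaf 1220)
(.leaf 0))))))
(.node (.node (.node (.node (.node (.leaf 58)
(.leaf 1179))
(.node (.leaf 1175)
(.leaf 0)))
(.node (.node (.leaf 1160)
(.leaf 5325))
(.node (.leaf 1220)
(.leaf 0))))
(.node (.node (.node (.leaf 10)
(.leaf 1178))
(.node (.leaf 1159)
(.leaf 0)))
(.node (.node (.leaf 1220)
(.leaf 5325))
(.node (.leaf 1159)
(.leaf 0)))))
(.node (.node (.node (.node (.leaf 178)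
(.leaf 1175))
(.node (.leaf 1179)
(.leaf 0)))
(.node (.node (.leaf 1157)
(.leaf 5325))
(.node (.leaf 1175)
(.leaf 0))))
(.node (.node (.node (.leaf 16)
(.leaf 1179))
(.node (.leaf 1177)
(.leaf 0)))
(.node (.node (.leaf 1159)
(.leaf 5377))
(.node (.leaf 1175)
(.leaf 0))))))))
(.node (.node (.node (.node (.node (.node (.node (.leaf 10)
(.leaf 1251))
(.node (.leaf 1220)
(.leaf 5446)))
(.node (.node (.leaf 3)
(.leaf 1175))
(.node (.leaf 1163)
(.leaf 0))))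
(.node (.node (.node (.leaf 61)
(.leaf 1279))
(.node (.leaf 1178)
(.leaf 0)))
(.node (.node (.leaf 1177)
(.leaf 5325))
(.node (.leaf 1220)
(.leaf 0)))))
(.node (.node (.node (.node (.leaf 3)
(.leaf 1179))
(.node (.leaf 1179)
(.leaf 0)))
(.node (.node (.leaf 1196)
(.leaf 5325))
(.node (.leaf 1179)
(.leaf 0))))
(.node (.node (.node (.leaf 16)
(.leaf 1220))
(.node (.leaf 1179)
(.leaf 0)))
(.node (.node (.leaf 1220)
(.leaf 5325))
(.node (.leaf 1220)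
(.leaf 0))))))
(.node (.node (.node (.node (.node (.leaf 3)
(.leaf 1179))
(.node (.leaf 1220)
(.leaf 0)))
(.node (.node (.leaf 1158)
(.leaf 1251))
(.node (.leaf 1179)
(.leaf 0))))
(.node (.node (.node (.leaf 178)
(.leaf 1196))
(.node (.leaf 1179)
(.leaf 0)))
(.node (.node (.leaf 1157)
(.leaf 5377))
(.node (.leaf 1220)
(.leaf 0)))))
(.node (.node (.node (.node (.leaf 11)
(.leaf 1159))
(.node (.leaf 1179)
(.leaf 0)))
(.node (.node (.leaf 1160)
(.leaf 5325))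
(.node (.leaf 1163)
(.leaf 0))))
(.node (.node (.node (.leaf 16)
(.leaf 1251))
(.node (.leaf 1179)
(.leaf 0)))
(.node (.node (.leaf 1179)
(.leaf 5320))
(.node (.leaf 1252)
(.leaf 0)))))))
(.node (.node (.node (.node (.node (.node (.leaf 10)
(.leaf 1251))
(.node (.leaf 1163)
(.leaf 5485)))
(.node (.node (.leaf 178)
(.leaf 1365))
(.node (.leaf 1178)
(.leaf 0))))
(.node (.node (.node (.leaf 178)
(.leaf 1279))
(.node (.leaf 1156)
(.leaf 0)))
(.node (.node (.leaf 1179)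
(.leaf 5377))
(.node (.leaf 1175)
(.leaf 0)))))
(.node (.node (.node (.node (.leaf 10)
(.leaf 1159))
(.node (.leaf 1163)
(.leaf 0)))
(.node (.node (.leaf 1220)
(.leaf 5320))
(.node (.leaf 1159)
(.leaf 0))))
(.node (.node (.node (.leaf 3)
(.leaf 1159))
(.node (.leaf 1196)
(.leaf 0)))
(.node (.node (.leaf 1251)
(.leaf 5485))
(.node (.leaf 1175)
(.leaf 0))))))
(.node (.node (.node (.node (.node (.leaf 3)
(.leaf 1220))
(.node (.leaf 1195)
(.leaf 0)))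
(.node (.node (.leaf 1178)
(.leaf 5317))
(.node (.leaf 1251)
(.leaf 0))))
(.node (.node (.node (.leaf 178)
(.leaf 1179))
(.node (.leaf 1220)
(.leaf 0)))
(.node (.node (.leaf 1196)
(.leaf 5325))
(.node (.leaf 1163)
(.leaf 0)))))
(.node (.node (.node (.node (.leaf 16)
(.leaf 1178))
(.node (.leaf 1178)
(.leaf 0)))
(.node (.node (.leaf 1251)
(.leaf 5325))
(.node (.leaf 1177)
(.leaf 0))))
(.node (.node (.node (.leaf 297)
(.leaf 1252))
(.node (.leaf 1163)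
(.leaf 0)))
(.node (.node (.leaf 1163)
(.leaf 5446))
(.node (.leaf 1178)
(.leaf 0))))))))))
(.node (.node (.node (.node (.node (.node (.node (.node (.node (.leaf 3)
(.leaf 1179))
(.node (.leaf 1196)
(.leaf 5485)))
(.node (.node (.leaf 10)
(.leaf 1251))
(.node (.leaf 1220)
(.leaf 0))))
(.node (.node (.node (.leaf 16)
(.leaf 1179))
(.node (.leaf 1178)
(.leaf 0)))
(.node (.node (.leaf 1251)
(.leaf 5485))
(.node (.leaf 1178)
(.leaf 0)))))
(.node (.node (.node (.node (.leaf 3)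
(.leaf 1251))
(.node (.leaf 1175)
(.leaf 0)))
(.node (.node (.leaf 1178)
(.leaf 5342))
(.node (.leaf 1179)
(.leaf 0))))
(.node (.node (.node (.leaf 178)
(.leaf 1179))
(.node (.leaf 1251)
(.leaf 0)))
(.node (.node (.leaf 1195)
(.leaf 5325))
(.node (.leaf 1251)
(.leaf 0))))))
(.node (.node (.node (.node (.node (.leaf 3)
(.leaf 1178))
(.node (.leaf 1175)
(.leaf 5644)))
(.node (.node (.leaf 1157)
(.leaf 1365))
(.node (.leaf 1163)
(.leaf 0))))
(.node (.node (.node (.leaf 31)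
(.leaf 1251))
(.node (.leaf 1163)
(.leaf 0)))
(.node (.node (.leaf 1251)
(.leaf 5320))
(.node (.leaf 1220)
(.leaf 0)))))
(.node (.node (.node (.node (.leaf 11)
(.leaf 1179))
(.node (.leaf 1179)
(.leaf 0)))
(.node (.node (.leaf 1220)
(.leaf 5325))
(.node (.leaf 1159)
(.leaf 0))))
(.node (.node (.node (.leaf 178)
(.leaf 1365))
(.node (.leaf 1163)
(.leaf 0)))
(.node (.node (.leaf 1178)
(.leaf 5342))
(.node (.leaf 1175)
(.leaf 0)))))))
(.node (.node (.node (.node (.node (.node (.leaf 10)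
(.leaf 1196))
(.node (.leaf 1365)
(.leaf 5325)))
(.node (.node (.leaf 11)
(.leaf 1195))
(.node (.leaf 1251)
(.leaf 0))))
(.node (.node (.node (.leaf 10)
(.leaf 1175))
(.node (.leaf 1179)
(.leaf 0)))
(.node (.node (.leaf 1178)
(.leaf 5325))
(.node (.leaf 1175)
(.leaf 0)))))
(.node (.node (.node (.node (.leaf 3)
(.leaf 1178))
(.node (.leaf 1220)
(.leaf 0)))
(.node (.node (.leaf 1156)
(.leaf 5313))
(.node (.leaf 1179)
(.leaf 0))))
(.node (.node (.node (.leaf 178)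
(.leaf 1196))
(.node (.leaf 1251)
(.leaf 0)))
(.node (.node (.leaf 1220)
(.leaf 5446))
(.node (.leaf 1195)
(.leaf 0))))))
(.node (.node (.node (.node (.node (.leaf 16)
(.leaf 1179))
(.node (.leaf 1220)
(.leaf 0)))
(.node (.node (.leaf 1158)
(.leaf 5315))
(.node (.leaf 1196)
(.leaf 0))))
(.node (.node (.node (.leaf 31)
(.leaf 1177))
(.node (.leaf 1179)
(.leaf 0)))
(.node (.node (.leaf 1175)
(.leaf 5325))
(.node (.leaf 1178)
(.leaf 0)))))
(.node (.node (.node (.node (.leaf 178)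
(.leaf 1179))
(.node (.leaf 1196)
(.leaf 0)))
(.node (.node (.leaf 1308)
(.leaf 5325))
(.node (.leaf 1196)
(.leaf 0))))
(.node (.node (.node (.leaf 297)
(.leaf 1179))
(.node (.leaf 1179)
(.leaf 0)))
(.node (.node (.leaf 1158)
(.leaf 5325))
(.node (.leaf 1196)
(.leaf 0))))))))
(.node (.node (.node (.node (.node (.node (.node (.leaf 10)
(.leaf 1178))
(.node (.leaf 1220)
(.leaf 5320)))
(.node (.node (.leaf 10)
(.leaf 1179))
(.node (.leaf 1220)
(.leaf 0))))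
(.node (.node (.node (.leaf 16)
(.leaf 1179))
(.node (.leaf 1178)
(.leaf 0)))
(.node (.node (.leaf 1252)
(.leaf 5325))
(.node (.leaf 1220)
(.leaf 0)))))
(.node (.node (.node (.node (.leaf 10)
(.leaf 1178))
(.node (.leaf 1252)
(.leaf 0)))
(.node (.node (.leaf 1163)
(.leaf 5320))
(.node (.leaf 1252)
(.leaf 0))))
(.node (.node (.node (.leaf 16)
(.leaf 1175))
(.node (.leaf 1179)
(.leaf 0)))
(.node (.node (.leaf 1220)
(.leaf 5320))
(.node (.leaf 1159)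
(.leaf 0))))))
(.node (.node (.node (.node (.node (.leaf 3)
(.leaf 1179))
(.node (.leaf 1196)
(.leaf 0)))
(.node (.node (.leaf 1163)
(.leaf 1252))
(.node (.leaf 1196)
(.leaf 0))))
(.node (.node (.node (.leaf 297)
(.leaf 1175))
(.node (.leaf 1179)
(.leaf 0)))
(.node (.node (.leaf 1252)
(.leaf 5325))
(.node (.leaf 1252)
(.leaf 0)))))
(.node (.node (.node (.node (.leaf 10)
(.leaf 1251))
(.node (.leaf 1179)
(.leaf 0)))
(.node (.node (.leaf 1160)
(.leaf 5320))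
(.node (.leaf 1163)
(.leaf 0))))
(.node (.node (.node (.leaf 31)
(.leaf 1365))
(.node (.leaf 1279)
(.leaf 0)))
(.node (.node (.leaf 1179)
(.leaf 5320))
(.node (.leaf 1251)
(.leaf 0)))))))
(.node (.node (.node (.node (.node (.node (.leaf 31)
(.leaf 1178))
(.node (.leaf 1251)
(.leaf 5446)))
(.node (.node (.leaf 178)
(.leaf 1179))
(.node (.leaf 1163)
(.leaf 0))))
(.node (.node (.node (.leaf 3)
(.leaf 1251))
(.node (.leaf 1179)
(.leaf 0)))
(.node (.node (.leaf 1178)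
(.leaf 5325))
(.node (.leaf 1163)
(.leaf 0)))))
(.node (.node (.node (.node (.leaf 3)
(.leaf 1178))
(.node (.leaf 1365)
(.leaf 0)))
(.node (.node (.leaf 1158)
(.leaf 5325))
(.node (.leaf 1179)
(.leaf 0))))
(.node (.node (.node (.leaf 10)
(.leaf 1163))
(.node (.leaf 1196)
(.leaf 0)))
(.node (.node (.leaf 1158)
(.leaf 5485))
(.node (.leaf 1163)
(.leaf 0))))))
(.node (.node (.node (.node (.node (.leaf 10)
(.leaf 1163))
(.node (.leaf 1220)
(.leaf 0)))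
(.node (.node (.leaf 1178)
(.leaf 5320))
(.node (.leaf 1163)
(.leaf 0))))
(.node (.node (.node (.leaf 10)
(.leaf 1179))
(.node (.leaf 1252)
(.leaf 0)))
(.node (.node (.leaf 1196)
(.leaf 5377))
(.node (.leaf 1163)
(.leaf 0)))))
(.node (.node (.node (.node (.leaf 3)
(.leaf 1179))
(.node (.leaf 1179)
(.leaf 0)))
(.node (.node (.leaf 1157)
(.leaf 5313))
(.node (.leaf 1178)
(.leaf 0))))
(.node (.node (.node (.leaf 16)
(.leaf 1179))
(.node (.leaf 1195)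
(.leaf 0)))
(.node (.node (.leaf 1185)
(.leaf 5732))
(.node (.leaf 1178)
(.leaf 0)))))))))
(.node (.node (.node (.node (.node (.node (.node (.node (.leaf 10)
(.leaf 1175))
(.node (.leaf 1163)
(.leaf 5320)))
(.node (.node (.leaf 178)
(.leaf 1220))
(.node (.leaf 1163)
(.leaf 0))))
(.node (.node (.node (.leaf 56)
(.leaf 1175))
(.node (.leaf 1178)
(.leaf 0)))
(.node (.node (.leaf 1157)
(.leaf 5320))
(.node (.leaf 1195)
(.leaf 0)))))
(.node (.node (.node (.node (.leaf 11)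
(.leaf 1179))
(.node (.leaf 1175)
(.leaf 0)))
(.node (.node (.leaf 1196)
(.leaf 5320))
(.node (.leaf 1179)
(.leaf 0))))
(.node (.node (.node (.leaf 10)
(.leaf 1163))
(.node (.leaf 1178)
(.leaf 0)))
(.node (.node (.leaf 1179)
(.leaf 5377))
(.node (.leaf 1179)
(.leaf 0))))))
(.node (.node (.node (.node (.node (.leaf 10)
(.leaf 1179))
(.node (.leaf 1177)
(.leaf 5446)))
(.node (.node (.leaf 1157)
(.leaf 1365))
(.node (.leaf 1163)
(.leaf 0))))
(.node (.node (.node (.leaf 10)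
(.leaf 1163))
(.node (.leaf 1163)
(.leaf 0)))
(.node (.node (.leaf 1178)
(.leaf 5325))
(.node (.leaf 1220)
(.leaf 0)))))
(.node (.node (.node (.node (.leaf 11)
(.leaf 1179))
(.node (.leaf 1179)
(.leaf 0)))
(.node (.node (.leaf 1163)
(.leaf 5325))
(.node (.leaf 1159)
(.leaf 0))))
(.node (.node (.node (.leaf 61)
(.leaf 1179))
(.node (.leaf 1252)
(.leaf 0)))
(.node (.node (.leaf 1159)
(.leaf 5320))
(.node (.leaf 1177)
(.leaf 0)))))))
(.node (.node (.node (.node (.node (.node (.leaf 3)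
(.leaf 1279))
(.node (.leaf 1163)
(.leaf 5320)))
(.node (.node (.leaf 178)
(.leaf 1251))
(.node (.leaf 1175)
(.leaf 0))))
(.node (.node (.node (.leaf 3)
(.leaf 1179))
(.node (.leaf 1179)
(.leaf 0)))
(.node (.node (.leaf 1185)
(.leaf 5325))
(.node (.leaf 1220)
(.leaf 0)))))
(.node (.node (.node (.node (.leaf 3)
(.leaf 1220))
(.node (.leaf 1178)
(.leaf 0)))
(.node (.node (.leaf 1158)
(.leaf 5325))
(.node (.leaf 1251)
(.leaf 0))))
(.node (.node (.node (.leaf 178)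
(.leaf 1163))
(.node (.leaf 1252)
(.leaf 0)))
(.node (.node (.leaf 1163)
(.leaf 5377))
(.node (.leaf 1196)
(.leaf 0))))))
(.node (.node (.node (.node (.node (.leaf 58)
(.leaf 1251))
(.node (.leaf 1195)
(.leaf 0)))
(.node (.node (.leaf 1175)
(.leaf 5342))
(.node (.leaf 1220)
(.leaf 0))))
(.node (.node (.node (.leaf 178)
(.leaf 1179))
(.node (.leaf 1179)
(.leaf 0)))
(.node (.node (.leaf 1279)
(.leaf 5325))
(.node (.leaf 1163)
(.leaf 0)))))
(.node (.node (.node (.node (.leaf 11)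
(.leaf 1163))
(.node (.leaf 1196)
(.leaf 0)))
(.node (.node (.leaf 1220)
(.leaf 5325))
(.node (.leaf 1179)
(.leaf 0))))
(.node (.node (.node (.leaf 61)
(.leaf 1159))
(.node (.leaf 1163)
(.leaf 0)))
(.node (.node (.leaf 1179)
(.leaf 5446))
(.node (.leaf 1220)
(.leaf 0))))))))
(.node (.node (.node (.node (.node (.node (.node (.leaf 58)
(.leaf 1252))
(.node (.leaf 1220)
(.leaf 5485)))
(.node (.node (.leaf 297)
(.leaf 1175))
(.node (.leaf 1220)
(.leaf 0))))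
(.node (.node (.node (.leaf 178)
(.leaf 1177))
(.node (.leaf 1365)
(.leaf 0)))
(.node (.node (.leaf 1251)
(.leaf 5446))
(.node (.leaf 1195)
(.leaf 0)))))
(.node (.node (.node (.node (.leaf 3)
(.leaf 1179))
(.node (.leaf 1179)
(.leaf 0)))
(.node (.node (.leaf 1175)
(.leaf 5320))
(.node (.leaf 1365)
(.leaf 0))))
(.node (.node (.node (.leaf 16)
(.leaf 1179))
(.node (.leaf 1179)
(.leaf 0)))
(.node (.node (.leaf 1163)
(.leaf 5325))
(.node (.leaf 1175)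
(.leaf 0))))))
(.node (.node (.node (.node (.node (.leaf 16)
(.leaf 1179))
(.node (.leaf 1196)
(.leaf 0)))
(.node (.node (.leaf 1155)
(.leaf 1179))
(.node (.leaf 1178)
(.leaf 0))))
(.node (.node (.node (.leaf 10)
(.leaf 1178))
(.node (.leaf 1220)
(.leaf 0)))
(.node (.node (.leaf 1160)
(.leaf 5325))
(.node (.leaf 1163)
(.leaf 0)))))
(.node (.node (.node (.node (.leaf 178)
(.leaf 1163))
(.node (.leaf 1179)
(.leaf 0)))
(.node (.node (.leaf 1220)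
(.leaf 5342))
(.node (.leaf 1175)
(.leaf 0))))
(.node (.node (.node (.leaf 178)
(.leaf 1179))
(.node (.leaf 1179)
(.leaf 0)))
(.node (.node (.leaf 1160)
(.leaf 5320))
(.node (.leaf 1251)
(.leaf 0)))))))
(.node (.node (.node (.node (.node (.node (.leaf 3)
(.leaf 1252))
(.node (.leaf 1163)
(.leaf 5446)))
(.node (.node (.leaf 61)
(.leaf 1179))
(.node (.leaf 1195)
(.leaf 0))))
(.node (.node (.node (.leaf 3)
(.leaf 1179))
(.node (.leaf 1175)
(.leaf 0)))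
(.node (.node (.leaf 1179)
(.leaf 5320))
(.node (.leaf 1163)
(.leaf 0)))))
(.node (.node (.node (.node (.leaf 3)
(.leaf 1178))
(.node (.leaf 1163)
(.leaf 0)))
(.node (.node (.leaf 1179)
(.leaf 5325))
(.node (.leaf 1179)
(.leaf 0))))
(.node (.node (.node (.leaf 178)
(.leaf 1220))
(.node (.leaf 1163)
(.leaf 0)))
(.node (.node (.leaf 1178)
(.leaf 5320))
(.node (.leaf 1163)
(.leaf 0))))))
(.node (.node (.node (.node (.node (.leaf 10)
(.leaf 1179))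
(.node (.leaf 1196)
(.leaf 0)))
(.node (.node (.leaf 1163)
(.leaf 5325))
(.node (.leaf 1195)
(.leaf 0))))
(.node (.node (.node (.leaf 3)
(.leaf 1196))
(.node (.leaf 1196)
(.leaf 0)))
(.node (.node (.leaf 1175)
(.leaf 5342))
(.node (.leaf 1179)
(.leaf 0)))))
(.node (.node (.node (.node (.leaf 10)
(.leaf 1279))
(.node (.leaf 1251)
(.leaf 0)))
(.node (.node (.leaf 1159)
(.leaf 5320))
(.node (.leaf 1251)
(.leaf 0))))
(.node (.node (.node (.leaf 10)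
(.leaf 1179))
(.node (.leaf 1220)
(.leaf 0)))
(.node (.node (.leaf 1220)
(.leaf 5325))
(.node (.leaf 1251)
(.leaf 0)))))))))))))
(.node (.node (.node (.node (.node (.node (.node (.node (.node (.node (.node (.node (.leaf 1)
(.leaf 1179))
(.node (.leaf 1175)
(.leaf 5325)))
(.node (.node (.leaf 10)
(.leaf 1179))
(.node (.leaf 1220)
(.leaf 0))))
(.node (.node (.node (.leaf 10)
(.leaf 1179))
(.node (.leaf 1178)
(.leaf 0)))
(.node (.node (.leaf 1251)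
(.leaf 5320))
(.node (.leaf 1179)
(.leaf 0)))))
(.node (.node (.node (.node (.leaf 10)
(.leaf 1178))
(.node (.leaf 1252)
(.leaf 0)))
(.node (.node (.leaf 1251)
(.leaf 5377))
(.node (.leaf 1163)
(.leaf 0))))
(.node (.node (.node (.leaf 10)
(.leaf 1163))
(.node (.leaf 1196)
(.leaf 0)))
(.node (.node (.leaf 1196)
(.leaf 5325))
(.node (.leaf 1175)
(.leaf 0))))))
(.node (.node (.node (.node (.node (.leaf 3)
(.leaf 1251))
(.node (.leaf 1179)
(.leaf 5446)))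
(.node (.node (.leaf 297)
(.leaf 1179))
(.node (.leaf 1163)
(.leaf 0))))
(.node (.node (.node (.leaf 10)
(.leaf 1196))
(.node (.leaf 1179)
(.leaf 0)))
(.node (.node (.leaf 1179)
(.leaf 5325))
(.node (.leaf 1175)
(.leaf 0)))))
(.node (.node (.node (.node (.leaf 16)
(.leaf 1179))
(.node (.leaf 1178)
(.leaf 0)))
(.node (.node (.leaf 1160)
(.leaf 5335))
(.node (.leaf 1179)
(.leaf 0))))
(.node (.node (.node (.leaf 11)
(.leaf 1178))
(.node (.leaf 1196)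
(.leaf 0)))
(.node (.node (.leaf 1365)
(.leaf 5342))
(.node (.leaf 1175)
(.leaf 0)))))))
(.node (.node (.node (.node (.node (.node (.leaf 10)
(.leaf 1175))
(.node (.leaf 1196)
(.leaf 5325)))
(.node (.node (.leaf 178)
(.leaf 1251))
(.node (.leaf 1196)
(.leaf 0))))
(.node (.node (.node (.leaf 10)
(.leaf 1279))
(.node (.leaf 1252)
(.leaf 0)))
(.node (.node (.leaf 1220)
(.leaf 5325))
(.node (.leaf 1175)
(.leaf 0)))))
(.node (.node (.node (.node (.leaf 10)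
(.leaf 1175))
(.node (.leaf 1178)
(.leaf 0)))
(.node (.node (.leaf 1191)
(.leaf 5315))
(.node (.leaf 1178)
(.leaf 0))))
(.node (.node (.node (.leaf 11)
(.leaf 1175))
(.node (.leaf 1178)
(.leaf 0)))
(.node (.node (.leaf 1220)
(.leaf 5342))
(.node (.leaf 1196)
(.leaf 0))))))
(.node (.node (.node (.node (.node (.leaf 11)
(.leaf 1179))
(.node (.leaf 1195)
(.leaf 0)))
(.node (.node (.leaf 1157)
(.leaf 5313))
(.node (.leaf 1252)
(.leaf 0))))
(.node (.node (.node (.leaf 31)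
(.leaf 1179))
(.node (.leaf 1251)
(.leaf 0)))
(.node (.node (.leaf 1175)
(.leaf 5325))
(.node (.leaf 1251)
(.leaf 0)))))
(.node (.node (.node (.node (.leaf 10)
(.leaf 1179))
(.node (.leaf 1178)
(.leaf 0)))
(.node (.node (.leaf 1158)
(.leaf 5320))
(.node (.leaf 1163)
(.leaf 0))))
(.node (.node (.node (.leaf 11)
(.leaf 1196))
(.node (.leaf 1179)
(.leaf 0)))
(.node (.node (.leaf 1177)
(.leaf 5342))
(.node (.leaf 1196)
(.leaf 0))))))))
(.node (.node (.node (.node (.node (.node (.node (.leaf 3)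
(.leaf 1178))
(.node (.leaf 1220)
(.leaf 5342)))
(.node (.node (.leaf 178)
(.leaf 1175))
(.node (.leaf 1175)
(.leaf 0))))
(.node (.node (.node (.leaf 16)
(.leaf 1159))
(.node (.leaf 1178)
(.leaf 0)))
(.node (.node (.leaf 1178)
(.leaf 5325))
(.node (.leaf 1175)
(.leaf 0)))))
(.node (.node (.node (.node (.leaf 10)
(.leaf 1179))
(.node (.leaf 1178)
(.leaf 0)))
(.node (.node (.leaf 1191)
(.leaf 5325))
(.node (.leaf 1178)
(.leaf 0))))
(.node (.node (.node (.leaf 10)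
(.leaf 1175))
(.node (.leaf 1179)
(.leaf 0)))
(.node (.node (.leaf 1220)
(.leaf 5320))
(.node (.leaf 1179)
(.leaf 0))))))
(.node (.node (.node (.node (.node (.leaf 3)
(.leaf 1163))
(.node (.leaf 1163)
(.leaf 0)))
(.node (.node (.leaf 1185)
(.leaf 1178))
(.node (.leaf 1220)
(.leaf 0))))
(.node (.node (.node (.leaf 3)
(.leaf 1163))
(.node (.leaf 1196)
(.leaf 0)))
(.node (.node (.leaf 1179)
(.leaf 5325))
(.node (.leaf 1179)
(.leaf 0)))))
(.node (.node (.node (.node (.leaf 10)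
(.leaf 1220))
(.node (.leaf 1159)
(.leaf 0)))
(.node (.node (.leaf 1163)
(.leaf 5325))
(.node (.leaf 1178)
(.leaf 0))))
(.node (.node (.node (.leaf 16)
(.leaf 1178))
(.node (.leaf 1179)
(.leaf 0)))
(.node (.node (.leaf 1179)
(.leaf 5446))
(.node (.leaf 1175)
(.leaf 0)))))))
(.node (.node (.node (.node (.node (.node (.leaf 10)
(.leaf 1179))
(.node (.leaf 1196)
(.leaf 5485)))
(.node (.node (.leaf 61)
(.leaf 1365))
(.node (.leaf 1220)
(.leaf 0))))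
(.node (.node (.node (.leaf 31)
(.leaf 1179))
(.node (.leaf 1177)
(.leaf 0)))
(.node (.node (.leaf 1157)
(.leaf 5320))
(.node (.leaf 1175)
(.leaf 0)))))
(.node (.node (.node (.node (.leaf 3)
(.leaf 1175))
(.node (.leaf 1178)
(.leaf 0)))
(.node (.node (.leaf 1179)
(.leaf 5325))
(.node (.leaf 1178)
(.leaf 0))))
(.node (.node (.node (.leaf 3)
(.leaf 1252))
(.node (.leaf 1251)
(.leaf 0)))
(.node (.node (.leaf 1195)
(.leaf 5320))
(.node (.leaf 1196)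
(.leaf 0))))))
(.node (.node (.node (.node (.node (.leaf 61)
(.leaf 1252))
(.node (.leaf 1179)
(.leaf 0)))
(.node (.node (.leaf 1157)
(.leaf 5320))
(.node (.leaf 1179)
(.leaf 0))))
(.node (.node (.node (.leaf 10)
(.leaf 1179))
(.node (.leaf 1177)
(.leaf 0)))
(.node (.node (.leaf 1251)
(.leaf 5320))
(.node (.leaf 1175)
(.leaf 0)))))
(.node (.node (.node (.node (.leaf 11)
(.leaf 1220))
(.node (.leaf 1175)
(.leaf 0)))
(.node (.node (.leaf 1196)
(.leaf 5325))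
(.node (.leaf 1179)
(.leaf 0))))
(.node (.node (.node (.leaf 178)
(.leaf 1163))
(.node (.leaf 1178)
(.leaf 0)))
(.node (.node (.leaf 1179)
(.leaf 5485))
(.node (.leaf 1220)
(.leaf 0)))))))))
(.node (.node (.node (.node (.node (.node (.node (.node (.leaf 2)
(.leaf 1196))
(.node (.leaf 1195)
(.leaf 5377)))
(.node (.node (.leaf 297)
(.leaf 1196))
(.node (.leaf 1179)
(.leaf 0))))
(.node (.node (.node (.leaf 3)
(.leaf 1196))
(.node (.leaf 1179)
(.leaf 0)))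
(.node (.node (.leaf 1251)
(.leaf 5320))
(.node (.leaf 1179)
(.leaf 0)))))
(.node (.node (.node (.node (.leaf 11)
(.leaf 1251))
(.node (.leaf 1163)
(.leaf 0)))
(.node (.node (.leaf 1252)
(.leaf 5315))
(.node (.leaf 1251)
(.leaf 0))))
(.node (.node (.node (.leaf 297)
(.leaf 1175))
(.node (.leaf 1179)
(.leaf 0)))
(.node (.node (.leaf 1175)
(.leaf 5377))
(.node (.leaf 1179)
(.leaf 0))))))
(.node (.node (.node (.node (.node (.leaf 61)
(.leaf 1179))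
(.node (.leaf 1175)
(.leaf 5446)))
(.node (.node (.leaf 1163)
(.leaf 1179))
(.node (.leaf 1163)
(.leaf 0))))
(.node (.node (.node (.leaf 11)
(.leaf 1175))
(.node (.leaf 1196)
(.leaf 0)))
(.node (.node (.leaf 1160)
(.leaf 5377))
(.node (.leaf 1220)
(.leaf 0)))))
(.node (.node (.node (.node (.leaf 3)
(.leaf 1251))
(.node (.leaf 1179)
(.leaf 0)))
(.node (.node (.leaf 1163)
(.leaf 5325))
(.node (.leaf 1179)
(.leaf 0))))
(.node (.node (.node (.leaf 297)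
(.leaf 1252))
(.node (.leaf 1179)
(.leaf 0)))
(.node (.node (.leaf 1178)
(.leaf 5325))
(.node (.leaf 1220)
(.leaf 0)))))))
(.node (.node (.node (.node (.node (.node (.leaf 10)
(.leaf 1163))
(.node (.leaf 1220)
(.leaf 5485)))
(.node (.node (.leaf 178)
(.leaf 1175))
(.node (.leaf 1220)
(.leaf 0))))
(.node (.node (.node (.leaf 11)
(.leaf 1178))
(.node (.leaf 1179)
(.leaf 0)))
(.node (.node (.leaf 1178)
(.leaf 5320))
(.node (.leaf 1196)
(.leaf 0)))))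
(.node (.node (.node (.node (.leaf 10)
(.leaf 1163))
(.node (.leaf 1179)
(.leaf 0)))
(.node (.node (.leaf 1158)
(.leaf 5325))
(.node (.leaf 1365)
(.leaf 0))))
(.node (.node (.node (.leaf 178)
(.leaf 1252))
(.node (.leaf 1163)
(.leaf 0)))
(.node (.node (.leaf 1191)
(.leaf 5325))
(.node (.leaf 1163)
(.leaf 0))))))
(.node (.node (.node (.node (.node (.leaf 16)
(.leaf 1252))
(.node (.leaf 1163)
(.leaf 0)))
(.node (.node (.leaf 1155)
(.leaf 5315))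
(.node (.leaf 1163)
(.leaf 0))))
(.node (.node (.node (.leaf 3)
(.leaf 1365))
(.node (.leaf 1251)
(.leaf 0)))
(.node (.node (.leaf 1175)
(.leaf 5325))
(.node (.leaf 1220)
(.leaf 0)))))
(.node (.node (.node (.node (.leaf 3)
(.leaf 1251))
(.node (.leaf 1179)
(.leaf 0)))
(.node (.node (.leaf 1196)
(.leaf 5320))
(.node (.leaf 1196)
(.leaf 0))))
(.node (.node (.node (.leaf 16)
(.leaf 1179))
(.node (.leaf 1179)
(.leaf 0)))
(.node (.node (.leaf 1196)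
(.leaf 5342))
(.node (.leaf 1220)
(.leaf 0))))))))
(.node (.node (.node (.node (.node (.node (.node (.leaf 3)
(.leaf 1179))
(.node (.leaf 1196)
(.leaf 5342)))
(.node (.node (.leaf 10)
(.leaf 1175))
(.node (.leaf 1195)
(.leaf 0))))
(.node (.node (.node (.leaf 16)
(.leaf 1159))
(.node (.leaf 1220)
(.leaf 0)))
(.node (.node (.leaf 1179)
(.leaf 5325))
(.node (.leaf 1175)
(.leaf 0)))))
(.node (.node (.node (.node (.leaf 31)
(.leaf 1251))
(.node (.leaf 1179)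
(.leaf 0)))
(.node (.node (.leaf 1175)
(.leaf 5325))
(.node (.leaf 1178)
(.leaf 0))))
(.node (.node (.node (.leaf 3)
(.leaf 1179))
(.node (.leaf 1220)
(.leaf 0)))
(.node (.node (.leaf 1220)
(.leaf 5320))
(.node (.leaf 1196)
(.leaf 0))))))
(.node (.node (.node (.node (.node (.leaf 3)
(.leaf 1179))
(.node (.leaf 1220)
(.leaf 0)))
(.node (.node (.leaf 1157)
(.leaf 1179))
(.node (.leaf 1178)
(.leaf 0))))
(.node (.node (.node (.leaf 10)
(.leaf 1179))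
(.node (.leaf 1252)
(.leaf 0)))
(.node (.node (.leaf 1179)
(.leaf 5446))
(.node (.leaf 1175)
(.leaf 0)))))
(.node (.node (.node (.node (.leaf 3)
(.leaf 1179))
(.node (.leaf 1251)
(.leaf 0)))
(.node (.node (.leaf 1160)
(.leaf 5342))
(.node (.leaf 1220)
(.leaf 0))))
(.node (.node (.node (.leaf 16)
(.leaf 1365))
(.node (.leaf 1179)
(.leaf 0)))
(.node (.node (.leaf 1178)
(.leaf 5320))
(.node (.leaf 1251)
(.leaf 0)))))))
(.node (.node (.node (.node (.node (.node (.leaf 3)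
(.leaf 1179))
(.node (.leaf 1163)
(.leaf 5446)))
(.node (.node (.leaf 178)
(.leaf 1178))
(.node (.leaf 1220)
(.leaf 0))))
(.node (.node (.node (.leaf 10)
(.leaf 1365))
(.node (.leaf 1179)
(.leaf 0)))
(.node (.node (.leaf 1159)
(.leaf 5325))
(.node (.leaf 1175)
(.leaf 0)))))
(.node (.node (.node (.node (.leaf 10)
(.leaf 1178))
(.node (.leaf 1179)
(.leaf 0)))
(.node (.node (.leaf 1156)
(.leaf 5320))
(.node (.leaf 1177)
(.leaf 0))))
(.node (.node (.node (.leaf 178)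
(.leaf 1196))
(.node (.leaf 1220)
(.leaf 0)))
(.node (.node (.leaf 1196)
(.leaf 5446))
(.node (.leaf 1196)
(.leaf 0))))))
(.node (.node (.node (.node (.node (.leaf 31)
(.leaf 1196))
(.node (.leaf 1220)
(.leaf 0)))
(.node (.node (.leaf 1251)
(.leaf 5325))
(.node (.leaf 1163)
(.leaf 0))))
(.node (.node (.node (.leaf 10)
(.leaf 1179))
(.node (.leaf 1175)
(.leaf 0)))
(.node (.node (.leaf 1196)
(.leaf 5325))
(.node (.leaf 1178)
(.leaf 0)))))
(.node (.node (.node (.node (.leaf 10)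
(.leaf 1179))
(.node (.leaf 1178)
(.leaf 0)))
(.node (.node (.leaf 1179)
(.leaf 5325))
(.node (.leaf 1179)
(.leaf 0))))
(.node (.node (.node (.leaf 178)
(.leaf 1179))
(.node (.leaf 1179)
(.leaf 0)))
(.node (.node (.leaf 1160)
(.leaf 5732))
(.node (.leaf 1159)
(.leaf 0))))))))))
(.node (.node (.node (.node (.node (.node (.node (.node (.node (.leaf 2)
(.leaf 1179))
(.node (.leaf 1175)
(.leaf 5325)))
(.node (.node (.leaf 10)
(.leaf 1220))
(.node (.leaf 1196)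
(.leaf 0))))
(.node (.node (.node (.leaf 178)
(.leaf 1252))
(.node (.leaf 1159)
(.leaf 0)))
(.node (.node (.leaf 1163)
(.leaf 5317))
(.node (.leaf 1179)
(.leaf 0)))))
(.node (.node (.node (.node (.leaf 10)
(.leaf 1251))
(.node (.leaf 1175)
(.leaf 0)))
(.node (.node (.leaf 1185)
(.leaf 5325))
(.node (.leaf 1178)
(.leaf 0))))
(.node (.node (.node (.leaf 10)
(.leaf 1196))
(.node (.leaf 1252)
(.leaf 0)))
(.node (.node (.leaf 1195)
(.leaf 5325))
(.node (.leaf 1220)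
(.leaf 0))))))
(.node (.node (.node (.node (.node (.leaf 10)
(.leaf 1178))
(.node (.leaf 1156)
(.leaf 5446)))
(.node (.node (.leaf 1160)
(.leaf 1179))
(.node (.leaf 1196)
(.leaf 0))))
(.node (.node (.node (.leaf 10)
(.leaf 1251))
(.node (.leaf 1175)
(.leaf 0)))
(.node (.node (.leaf 1220)
(.leaf 5320))
(.node (.leaf 1220)
(.leaf 0)))))
(.node (.node (.node (.node (.leaf 3)
(.leaf 1179))
(.node (.leaf 1252)
(.leaf 0)))
(.node (.node (.leaf 1156)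
(.leaf 5325))
(.node (.leaf 1179)
(.leaf 0))))
(.node (.node (.node (.leaf 178)
(.leaf 1163))
(.node (.leaf 1220)
(.leaf 0)))
(.node (.node (.leaf 1177)
(.leaf 5325))
(.node (.leaf 1175)
(.leaf 0)))))))
(.node (.node (.node (.node (.node (.node (.leaf 3)
(.leaf 1196))
(.node (.leaf 1196)
(.leaf 5325)))
(.node (.node (.leaf 178)
(.leaf 1175))
(.node (.leaf 1251)
(.leaf 0))))
(.node (.node (.node (.leaf 11)
(.leaf 1175))
(.node (.leaf 1252)
(.leaf 0)))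
(.node (.node (.leaf 1159)
(.leaf 5320))
(.node (.leaf 1196)
(.leaf 0)))))
(.node (.node (.node (.node (.leaf 10)
(.leaf 1279))
(.node (.leaf 1178)
(.leaf 0)))
(.node (.node (.leaf 1155)
(.leaf 5325))
(.node (.leaf 1251)
(.leaf 0))))
(.node (.node (.node (.leaf 3)
(.leaf 1179))
(.node (.leaf 1178)
(.leaf 0)))
(.node (.node (.leaf 1195)
(.leaf 5320))
(.node (.leaf 1175)
(.leaf 0))))))
(.node (.node (.node (.node (.node (.leaf 16)
(.leaf 1251))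
(.node (.leaf 1196)
(.leaf 0)))
(.node (.node (.leaf 1158)
(.leaf 5313))
(.node (.leaf 1220)
(.leaf 0))))
(.node (.node (.node (.leaf 10)
(.leaf 1179))
(.node (.leaf 1179)
(.leaf 0)))
(.node (.node (.leaf 1196)
(.leaf 5320))
(.node (.leaf 1196)
(.leaf 0)))))
(.node (.node (.node (.node (.leaf 11)
(.leaf 1175))
(.node (.leaf 1196)
(.leaf 0)))
(.node (.node (.leaf 1196)
(.leaf 5325))
(.node (.leaf 1195)
(.leaf 0))))
(.node (.node (.node (.leaf 16)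
(.leaf 1179))
(.node (.leaf 1279)
(.leaf 0)))
(.node (.node (.leaf 1156)
(.leaf 5325))
(.node (.leaf 1175)
(.leaf 0))))))))
(.node (.node (.node (.node (.node (.node (.node (.leaf 10)
(.leaf 1177))
(.node (.leaf 1196)
(.leaf 5446)))
(.node (.node (.leaf 11)
(.leaf 1175))
(.node (.leaf 1195)
(.leaf 0))))
(.node (.node (.node (.leaf 58)
(.leaf 1178))
(.node (.leaf 1178)
(.leaf 0)))
(.node (.node (.leaf 1163)
(.leaf 5325))
(.node (.leaf 1195)
(.leaf 0)))))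
(.node (.node (.node (.node (.leaf 297)
(.leaf 1159))
(.node (.leaf 1178)
(.leaf 0)))
(.node (.node (.leaf 1196)
(.leaf 5325))
(.node (.leaf 1178)
(.leaf 0))))
(.node (.node (.node (.leaf 58)
(.leaf 1159))
(.node (.leaf 1179)
(.leaf 0)))
(.node (.node (.leaf 1220)
(.leaf 5325))
(.node (.leaf 1178)
(.leaf 0))))))
(.node (.node (.node (.node (.node (.leaf 10)
(.leaf 1159))
(.node (.leaf 1179)
(.leaf 0)))
(.node (.node (.leaf 1160)
(.leaf 1179))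
(.node (.leaf 1251)
(.leaf 0))))
(.node (.node (.node (.leaf 178)
(.leaf 1175))
(.node (.leaf 1178)
(.leaf 0)))
(.node (.node (.leaf 1251)
(.leaf 5342))
(.node (.leaf 1220)
(.leaf 0)))))
(.node (.node (.node (.node (.leaf 10)
(.leaf 1251))
(.node (.leaf 1251)
(.leaf 0)))
(.node (.node (.leaf 1156)
(.leaf 5325))
(.node (.leaf 1251)
(.leaf 0))))
(.node (.node (.node (.leaf 10)
(.leaf 1251))
(.node (.leaf 1279)
(.leaf 0)))
(.node (.node (.leaf 1178)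
(.leaf 5325))
(.node (.leaf 1220)
(.leaf 0)))))))
(.node (.node (.node (.node (.node (.node (.leaf 10)
(.leaf 1179))
(.node (.leaf 1175)
(.leaf 5446)))
(.node (.node (.leaf 178)
(.leaf 1251))
(.node (.leaf 1196)
(.leaf 0))))
(.node (.node (.node (.leaf 10)
(.leaf 1179))
(.node (.leaf 1251)
(.leaf 0)))
(.node (.node (.leaf 1196)
(.leaf 5377))
(.node (.leaf 1220)
(.leaf 0)))))
(.node (.node (.node (.node (.leaf 297)
(.leaf 1179))
(.node (.leaf 1251)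
(.leaf 0)))
(.node (.node (.leaf 1179)
(.leaf 5320))
(.node (.leaf 1163)
(.leaf 0))))
(.node (.node (.node (.leaf 3)
(.leaf 1220))
(.node (.leaf 1175)
(.leaf 0)))
(.node (.node (.leaf 1157)
(.leaf 5325))
(.node (.leaf 1179)
(.leaf 0))))))
(.node (.node (.node (.node (.node (.leaf 10)
(.leaf 1251))
(.node (.leaf 1220)
(.leaf 0)))
(.node (.node (.leaf 1179)
(.leaf 5320))
(.node (.leaf 1220)
(.leaf 0))))
(.node (.node (.node (.leaf 178)
(.leaf 1179))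
(.node (.leaf 1179)
(.leaf 0)))
(.node (.node (.leaf 1252)
(.leaf 5325))
(.node (.leaf 1163)
(.leaf 0)))))
(.node (.node (.node (.node (.leaf 10)
(.leaf 1179))
(.node (.leaf 1196)
(.leaf 0)))
(.node (.node (.leaf 1175)
(.leaf 5325))
(.node (.leaf 1251)
(.leaf 0))))
(.node (.node (.node (.leaf 16)
(.leaf 1178))
(.node (.leaf 1163)
(.leaf 0)))
(.node (.node (.leaf 1179)
(.leaf 5732))
(.node (.leaf 1178)
(.leaf 0)))))))))
(.node (.node (.node (.node (.node (.node (.node (.node (.leaf 3)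
(.leaf 1179))
(.node (.leaf 1220)
(.leaf 5325)))
(.node (.node (.leaf 178)
(.leaf 1175))
(.node (.leaf 1163)
(.leaf 0))))
(.node (.node (.node (.leaf 178)
(.leaf 1178))
(.node (.leaf 1179)
(.leaf 0)))
(.node (.node (.leaf 1178)
(.leaf 5320))
(.node (.leaf 1179)
(.leaf 0)))))
(.node (.node (.node (.node (.leaf 10)
(.leaf 1251))
(.node (.leaf 1163)
(.leaf 0)))
(.node (.node (.leaf 1157)
(.leaf 5325))
(.node (.leaf 1159)
(.leaf 0))))
(.node (.node (.node (.leaf 3)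
(.leaf 1175))
(.node (.leaf 1178)
(.leaf 0)))
(.node (.node (.leaf 1177)
(.leaf 5325))
(.node (.leaf 1195)
(.leaf 0))))))
(.node (.node (.node (.node (.node (.leaf 3)
(.leaf 1179))
(.node (.leaf 1195)
(.leaf 5446)))
(.node (.node (.leaf 1177)
(.leaf 1178))
(.node (.leaf 1175)
(.leaf 0))))
(.node (.node (.node (.leaf 10)
(.leaf 1163))
(.node (.leaf 1163)
(.leaf 0)))
(.node (.node (.leaf 1157)
(.leaf 5320))
(.node (.leaf 1220)
(.leaf 0)))))
(.node (.node (.node (.node (.leaf 16)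
(.leaf 1178))
(.node (.leaf 1179)
(.leaf 0)))
(.node (.node (.leaf 1196)
(.leaf 5325))
(.node (.leaf 1159)
(.leaf 0))))
(.node (.node (.node (.leaf 10)
(.leaf 1178))
(.node (.leaf 1178)
(.leaf 0)))
(.node (.node (.leaf 1179)
(.leaf 5320))
(.node (.leaf 1179)
(.leaf 0)))))))
(.node (.node (.node (.node (.node (.node (.leaf 10)
(.leaf 1179))
(.node (.leaf 1220)
(.leaf 5325)))
(.node (.node (.leaf 178)
(.leaf 1159))
(.node (.leaf 1177)
(.leaf 0))))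
(.node (.node (.node (.leaf 10)
(.leaf 1179))
(.node (.leaf 1178)
(.leaf 0)))
(.node (.node (.leaf 1195)
(.leaf 5644))
(.node (.leaf 1163)
(.leaf 0)))))
(.node (.node (.node (.node (.leaf 10)
(.leaf 1252))
(.node (.leaf 1179)
(.leaf 0)))
(.node (.node (.leaf 1179)
(.leaf 5342))
(.node (.leaf 1251)
(.leaf 0))))
(.node (.node (.node (.leaf 10)
(.leaf 1195))
(.node (.leaf 1175)
(.leaf 0)))
(.node (.node (.leaf 1220)
(.leaf 5320))
(.node (.leaf 1179)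
(.leaf 0))))))
(.node (.node (.node (.node (.node (.leaf 16)
(.leaf 1252))
(.node (.leaf 1196)
(.leaf 0)))
(.node (.node (.leaf 1196)
(.leaf 5325))
(.node (.leaf 1178)
(.leaf 0))))
(.node (.node (.node (.leaf 10)
(.leaf 1179))
(.node (.leaf 1179)
(.leaf 0)))
(.node (.node (.leaf 1179)
(.leaf 5320))
(.node (.leaf 1163)
(.leaf 0)))))
(.node (.node (.node (.node (.leaf 178)
(.leaf 1163))
(.node (.leaf 1179)
(.leaf 0)))
(.node (.node (.leaf 1220)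
(.leaf 5325))
(.node (.leaf 1179)
(.leaf 0))))
(.node (.node (.node (.leaf 58)
(.leaf 1159))
(.node (.leaf 1159)
(.leaf 0)))
(.node (.node (.leaf 1179)
(.leaf 5485))
(.node (.leaf 1163)
(.leaf 0))))))))
(.node (.node (.node (.node (.node (.node (.node (.leaf 16)
(.leaf 1179))
(.node (.leaf 1196)
(.leaf 5325)))
(.node (.node (.leaf 10)
(.leaf 1179))
(.node (.leaf 1196)
(.leaf 0))))
(.node (.node (.node (.leaf 58)
(.leaf 1220))
(.node (.leaf 1178)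
(.leaf 0)))
(.node (.node (.leaf 1178)
(.leaf 5342))
(.node (.leaf 1175)
(.leaf 0)))))
(.node (.node (.node (.node (.leaf 3)
(.leaf 1251))
(.node (.leaf 1251)
(.leaf 0)))
(.node (.node (.leaf 1175)
(.leaf 5325))
(.node (.leaf 1179)
(.leaf 0))))
(.node (.node (.node (.leaf 10)
(.leaf 1175))
(.node (.leaf 1178)
(.leaf 0)))
(.node (.node (.leaf 1196)
(.leaf 5325))
(.node (.leaf 1220)
(.leaf 0))))))
(.node (.node (.node (.node (.node (.leaf 11)
(.leaf 1178))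
(.node (.leaf 1196)
(.leaf 0)))
(.node (.node (.leaf 1157)
(.leaf 1179))
(.node (.leaf 1178)
(.leaf 0))))
(.node (.node (.node (.leaf 10)
(.leaf 1179))
(.node (.leaf 1252)
(.leaf 0)))
(.node (.node (.leaf 1160)
(.leaf 5325))
(.node (.leaf 1196)
(.leaf 0)))))
(.node (.node (.node (.node (.leaf 10)
(.leaf 1220))
(.node (.leaf 1179)
(.leaf 0)))
(.node (.node (.leaf 1191)
(.leaf 5325))
(.node (.leaf 1163)
(.leaf 0))))
(.node (.node (.node (.leaf 11)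
(.leaf 1179))
(.node (.leaf 1196)
(.leaf 0)))
(.node (.node (.leaf 1157)
(.leaf 5446))
(.node (.leaf 1251)
(.leaf 0)))))))
(.node (.node (.node (.node (.node (.node (.leaf 3)
(.leaf 1163))
(.node (.leaf 1175)
(.leaf 5485)))
(.node (.node (.leaf 178)
(.leaf 1252))
(.node (.leaf 1220)
(.leaf 0))))
(.node (.node (.node (.leaf 10)
(.leaf 1195))
(.node (.leaf 1196)
(.leaf 0)))
(.node (.node (.leaf 1179)
(.leaf 5320))
(.node (.leaf 1220)
(.leaf 0)))))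
(.node (.node (.node (.node (.leaf 3)
(.leaf 1252))
(.node (.leaf 1196)
(.leaf 0)))
(.node (.node (.leaf 1155)
(.leaf 5377))
(.node (.leaf 1179)
(.leaf 0))))
(.node (.node (.node (.leaf 10)
(.leaf 1175))
(.node (.leaf 1163)
(.leaf 0)))
(.node (.node (.leaf 1179)
(.leaf 5325))
(.node (.leaf 1163)
(.leaf 0))))))
(.node (.node (.node (.node (.node (.leaf 3)
(.leaf 1177))
(.node (.leaf 1175)
(.leaf 0)))
(.node (.node (.leaf 1179)
(.leaf 5315))
(.node (.leaf 1252)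
(.leaf 0))))
(.node (.node (.node (.leaf 11)
(.leaf 1159))
(.node (.leaf 1163)
(.leaf 0)))
(.node (.node (.leaf 1220)
(.leaf 5320))
(.node (.leaf 1178)
(.leaf 0)))))
(.node (.node (.node (.node (.leaf 16)
(.leaf 1251))
(.node (.leaf 1179)
(.leaf 0)))
(.node (.node (.leaf 1365)
(.leaf 5320))
(.node (.leaf 1178)
(.leaf 0))))
(.node (.node (.node (.leaf 10)
(.leaf 1159))
(.node (.leaf 1196)
(.leaf 0)))
(.node (.node (.leaf 1163)
(.leaf 5320))
(.node (.leaf 1251)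
(.leaf 0)))))))))))
(.node (.node (.node (.node (.node (.node (.node (.node (.node (.node (.leaf 1)
(.leaf 1178))
(.node (.leaf 1163)
(.leaf 5325)))
(.node (.node (.leaf 11)
(.leaf 1220))
(.node (.leaf 1175)
(.leaf 0))))
(.node (.node (.node (.leaf 10)
(.leaf 1252))
(.node (.leaf 1251)
(.leaf 0)))
(.node (.node (.leaf 1252)
(.leaf 5325))
(.node (.leaf 1159)
(.leaf 0)))))
(.node (.node (.node (.node (.leaf 10)
(.leaf 1196))
(.node (.leaf 1195)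
(.leaf 0)))
(.node (.node (.leaf 1191)
(.leaf 5315))
(.node (.leaf 1196)
(.leaf 0))))
(.node (.node (.node (.leaf 10)
(.leaf 1251))
(.node (.leaf 1163)
(.leaf 0)))
(.node (.node (.leaf 1163)
(.leaf 5320))
(.node (.leaf 1175)
(.leaf 0))))))
(.node (.node (.node (.node (.node (.leaf 11)
(.leaf 1159))
(.node (.leaf 1179)
(.leaf 5485)))
(.node (.node (.leaf 1157)
(.leaf 1251))
(.node (.leaf 1175)
(.leaf 0))))
(.node (.node (.node (.leaf 178)
(.leaf 1178))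
(.node (.leaf 1163)
(.leaf 0)))
(.node (.node (.leaf 1157)
(.leaf 5320))
(.node (.leaf 1163)
(.leaf 0)))))
(.node (.node (.node (.node (.leaf 3)
(.leaf 1179))
(.node (.leaf 1251)
(.leaf 0)))
(.node (.node (.leaf 1175)
(.leaf 5342))
(.node (.leaf 1178)
(.leaf 0))))
(.node (.node (.node (.leaf 178)
(.leaf 1163))
(.node (.leaf 1178)
(.leaf 0)))
(.node (.node (.leaf 1252)
(.leaf 5325))
(.node (.leaf 1195)
(.leaf 0)))))))
(.node (.node (.node (.node (.node (.node (.leaf 3)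
(.leaf 1179))
(.node (.leaf 1195)
(.leaf 5485)))
(.node (.node (.leaf 11)
(.leaf 1179))
(.node (.leaf 1175)
(.leaf 0))))
(.node (.node (.node (.leaf 3)
(.leaf 1196))
(.node (.leaf 1220)
(.leaf 0)))
(.node (.node (.leaf 1251)
(.leaf 5342))
(.node (.leaf 1175)
(.leaf 0)))))
(.node (.node (.node (.node (.leaf 10)
(.leaf 1179))
(.node (.leaf 1252)
(.leaf 0)))
(.node (.node (.leaf 1158)
(.leaf 5313))
(.node (.leaf 1365)
(.leaf 0))))
(.node (.node (.node (.leaf 10)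
(.leaf 1178))
(.node (.leaf 1252)
(.leaf 0)))
(.node (.node (.leaf 1175)
(.leaf 5325))
(.node (.leaf 1179)
(.leaf 0))))))
(.node (.node (.node (.node (.node (.leaf 10)
(.leaf 1175))
(.node (.leaf 1195)
(.leaf 0)))
(.node (.node (.leaf 1163)
(.leaf 5317))
(.node (.leaf 1196)
(.leaf 0))))
(.node (.node (.node (.leaf 178)
(.leaf 1179))
(.node (.leaf 1279)
(.leaf 0)))
(.node (.node (.leaf 1157)
(.leaf 5325))
(.node (.leaf 1251)
(.leaf 0)))))
(.node (.node (.node (.node (.leaf 10)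
(.leaf 1178))
(.node (.leaf 1251)
(.leaf 0)))
(.node (.node (.leaf 1163)
(.leaf 5320))
(.node (.leaf 1195)
(.leaf 0))))
(.node (.node (.node (.leaf 10)
(.leaf 1179))
(.node (.leaf 1251)
(.leaf 0)))
(.node (.node (.leaf 1163)
(.leaf 5446))
(.node (.leaf 1195)
(.leaf 0))))))))
(.node (.node (.node (.node (.node (.node (.node (.leaf 3)
(.leaf 1251))
(.node (.leaf 1220)
(.leaf 5732)))
(.node (.node (.leaf 178)
(.leaf 1220))
(.node (.leaf 1196)
(.leaf 0))))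
(.node (.node (.node (.leaf 16)
(.leaf 1179))
(.node (.leaf 1178)
(.leaf 0)))
(.node (.node (.leaf 1196)
(.leaf 5485))
(.node (.leaf 1220)
(.leaf 0)))))
(.node (.node (.node (.node (.leaf 10)
(.leaf 1179))
(.node (.leaf 1157)
(.leaf 0)))
(.node (.node (.leaf 1179)
(.leaf 5342))
(.node (.leaf 1179)
(.leaf 0))))
(.node (.node (.node (.leaf 297)
(.leaf 1163))
(.node (.leaf 1251)
(.leaf 0)))
(.node (.node (.leaf 1175)
(.leaf 5320))
(.node (.leaf 1163)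
(.leaf 0))))))
(.node (.node (.node (.node (.node (.leaf 11)
(.leaf 1179))
(.node (.leaf 1220)
(.leaf 0)))
(.node (.node (.leaf 1155)
(.leaf 1251))
(.node (.leaf 1220)
(.leaf 0))))
(.node (.node (.node (.leaf 10)
(.leaf 1220))
(.node (.leaf 1178)
(.leaf 0)))
(.node (.node (.leaf 1252)
(.leaf 5325))
(.node (.leaf 1196)
(.leaf 0)))))
(.node (.node (.node (.node (.leaf 31)
(.leaf 1178))
(.node (.leaf 1179)
(.leaf 0)))
(.node (.node (.leaf 1157)
(.leaf 5325))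
(.node (.leaf 1177)
(.leaf 0))))
(.node (.node (.node (.leaf 10)
(.leaf 1251))
(.node (.leaf 1179)
(.leaf 0)))
(.node (.node (.leaf 1179)
(.leaf 5325))
(.node (.leaf 1178)
(.leaf 0)))))))
(.node (.node (.node (.node (.node (.node (.leaf 10)
(.leaf 1178))
(.node (.leaf 1156)
(.leaf 5325)))
(.node (.node (.leaf 178)
(.leaf 1251))
(.node (.leaf 1179)
(.leaf 0))))
(.node (.node (.node (.leaf 3)
(.leaf 1179))
(.node (.leaf 1159)
(.leaf 0)))
(.node (.node (.leaf 1195)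
(.leaf 5485))
(.node (.leaf 1179)
(.leaf 0)))))
(.node (.node (.node (.node (.leaf 10)
(.leaf 1251))
(.node (.leaf 1252)
(.leaf 0)))
(.node (.node (.leaf 1157)
(.leaf 5446))
(.node (.leaf 1179)
(.leaf 0))))
(.node (.node (.node (.leaf 178)
(.leaf 1251))
(.node (.leaf 1175)
(.leaf 0)))
(.node (.node (.leaf 1160)
(.leaf 5325))
(.node (.leaf 1220)
(.leaf 0))))))
(.node (.node (.node (.node (.node (.leaf 58)
(.leaf 1178))
(.node (.leaf 1220)
(.leaf 0)))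
(.node (.node (.leaf 1251)
(.leaf 5315))
(.node (.leaf 1175)
(.leaf 0))))
(.node (.node (.node (.leaf 10)
(.leaf 1252))
(.node (.leaf 1179)
(.leaf 0)))
(.node (.node (.leaf 1179)
(.leaf 5377))
(.node (.leaf 1195)
(.leaf 0)))))
(.node (.node (.node (.node (.leaf 58)
(.leaf 1179))
(.node (.leaf 1196)
(.leaf 0)))
(.node (.node (.leaf 1196)
(.leaf 5320))
(.node (.leaf 1178)
(.leaf 0))))
(.node (.node (.node (.leaf 10)
(.leaf 1251))
(.node (.leaf 1195)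
(.leaf 0)))
(.node (.node (.leaf 1159)
(.leaf 5446))
(.node (.leaf 1179)
(.leaf 0)))))))))
(.node (.node (.node (.node (.node (.node (.node (.node (.leaf 10)
(.leaf 1251))
(.node (.leaf 1175)
(.leaf 5325)))
(.node (.node (.leaf 297)
(.leaf 1196))
(.node (.leaf 1365)
(.leaf 0))))
(.node (.node (.node (.leaf 16)
(.leaf 1365))
(.node (.leaf 1178)
(.leaf 0)))
(.node (.node (.leaf 1179)
(.leaf 5325))
(.node (.leaf 1220)
(.leaf 0)))))
(.node (.node (.node (.node (.leaf 10)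
(.leaf 1251))
(.node (.leaf 1163)
(.leaf 0)))
(.node (.node (.leaf 1157)
(.leaf 5315))
(.node (.leaf 1178)
(.leaf 0))))
(.node (.node (.node (.leaf 3)
(.leaf 1220))
(.node (.leaf 1178)
(.leaf 0)))
(.node (.node (.leaf 1175)
(.leaf 5342))
(.node (.leaf 1163)
(.leaf 0))))))
(.node (.node (.node (.node (.node (.leaf 58)
(.leaf 1178))
(.node (.leaf 1175)
(.leaf 5485)))
(.node (.node (.leaf 1160)
(.leaf 1251))
(.node (.leaf 1175)
(.leaf 0))))
(.node (.node (.node (.leaf 10)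
(.leaf 1179))
(.node (.leaf 1220)
(.leaf 0)))
(.node (.node (.leaf 1157)
(.leaf 5320))
(.node (.leaf 1251)
(.leaf 0)))))
(.node (.node (.node (.node (.leaf 3)
(.leaf 1251))
(.node (.leaf 1251)
(.leaf 0)))
(.node (.node (.leaf 1220)
(.leaf 5325))
(.node (.leaf 1178)
(.leaf 0))))
(.node (.node (.node (.leaf 10)
(.leaf 1159))
(.node (.leaf 1220)
(.leaf 0)))
(.node (.node (.leaf 1160)
(.leaf 5446))
(.node (.leaf 1178)
(.leaf 0)))))))
(.node (.node (.node (.node (.node (.node (.leaf 10)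
(.leaf 1179))
(.node (.leaf 1163)
(.leaf 5325)))
(.node (.node (.leaf 178)
(.leaf 1252))
(.node (.leaf 1163)
(.leaf 0))))
(.node (.node (.node (.leaf 61)
(.leaf 1252))
(.node (.leaf 1159)
(.leaf 0)))
(.node (.node (.leaf 1179)
(.leaf 5325))
(.node (.leaf 1196)
(.leaf 0)))))
(.node (.node (.node (.node (.leaf 10)
(.leaf 1179))
(.node (.leaf 1251)
(.leaf 0)))
(.node (.node (.leaf 1365)
(.leaf 5342))
(.node (.leaf 1163)
(.leaf 0))))
(.node (.node (.node (.leaf 10)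
(.leaf 1195))
(.node (.leaf 1252)
(.leaf 0)))
(.node (.node (.leaf 1175)
(.leaf 5320))
(.node (.leaf 1220)
(.leaf 0))))))
(.node (.node (.node (.node (.node (.leaf 16)
(.leaf 1251))
(.node (.leaf 1196)
(.leaf 0)))
(.node (.node (.leaf 1175)
(.leaf 5315))
(.node (.leaf 1175)
(.leaf 0))))
(.node (.node (.node (.leaf 10)
(.leaf 1196))
(.node (.leaf 1252)
(.leaf 0)))
(.node (.node (.leaf 1279)
(.leaf 5320))
(.node (.leaf 1196)
(.leaf 0)))))
(.node (.node (.node (.node (.leaf 178)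
(.leaf 1195))
(.node (.leaf 1178)
(.leaf 0)))
(.node (.node (.leaf 1157)
(.leaf 5320))
(.node (.leaf 1196)
(.leaf 0))))
(.node (.node (.node (.leaf 58)
(.leaf 1179))
(.node (.leaf 1178)
(.leaf 0)))
(.node (.node (.leaf 1179)
(.leaf 5320))
(.node (.leaf 1279)
(.leaf 0))))))))
(.node (.node (.node (.node (.node (.node (.node (.leaf 10)
(.leaf 1179))
(.node (.leaf 1163)
(.leaf 5320)))
(.node (.node (.leaf 11)
(.leaf 1177))
(.node (.leaf 1195)
(.leaf 0))))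
(.node (.node (.node (.leaf 56)
(.leaf 1279))
(.node (.leaf 1175)
(.leaf 0)))
(.node (.node (.leaf 1178)
(.leaf 5325))
(.node (.leaf 1163)
(.leaf 0)))))
(.node (.node (.node (.node (.leaf 3)
(.leaf 1252))
(.node (.leaf 1179)
(.leaf 0)))
(.node (.node (.leaf 1175)
(.leaf 5315))
(.node (.leaf 1179)
(.leaf 0))))
(.node (.node (.node (.leaf 16)
(.leaf 1163))
(.node (.leaf 1179)
(.leaf 0)))
(.node (.node (.leaf 1195)
(.leaf 5342))
(.node (.leaf 1179)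
(.leaf 0))))))
(.node (.node (.node (.node (.node (.leaf 11)
(.leaf 1178))
(.node (.leaf 1175)
(.leaf 0)))
(.node (.node (.leaf 1179)
(.leaf 1179))
(.node (.leaf 1196)
(.leaf 0))))
(.node (.node (.node (.leaf 10)
(.leaf 1178))
(.node (.leaf 1179)
(.leaf 0)))
(.node (.node (.leaf 1157)
(.leaf 5320))
(.node (.leaf 1195)
(.leaf 0)))))
(.node (.node (.node (.node (.leaf 3)
(.leaf 1178))
(.node (.leaf 1365)
(.leaf 0)))
(.node (.node (.leaf 1191)
(.leaf 5325))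
(.node (.leaf 1195)
(.leaf 0))))
(.node (.node (.node (.leaf 178)
(.leaf 1177))
(.node (.leaf 1179)
(.leaf 0)))
(.node (.node (.leaf 1179)
(.leaf 5325))
(.node (.leaf 1220)
(.leaf 0)))))))
(.node (.node (.node (.node (.node (.node (.leaf 10)
(.leaf 1177))
(.node (.leaf 1220)
(.leaf 5644)))
(.node (.node (.leaf 297)
(.leaf 1251))
(.node (.leaf 1179)
(.leaf 0))))
(.node (.node (.node (.leaf 11)
(.leaf 1178))
(.node (.leaf 1178)
(.leaf 0)))
(.node (.node (.leaf 1251)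
(.leaf 5320))
(.node (.leaf 1220)
(.leaf 0)))))
(.node (.node (.node (.node (.leaf 3)
(.leaf 1159))
(.node (.leaf 1163)
(.leaf 0)))
(.node (.node (.leaf 1185)
(.leaf 5320))
(.node (.leaf 1179)
(.leaf 0))))
(.node (.node (.node (.leaf 297)
(.leaf 1220))
(.node (.leaf 1196)
(.leaf 0)))
(.node (.node (.leaf 1158)
(.leaf 5446))
(.node (.leaf 1196)
(.leaf 0))))))
(.node (.node (.node (.node (.node (.leaf 10)
(.leaf 1163))
(.node (.leaf 1179)
(.leaf 0)))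
(.node (.node (.leaf 1177)
(.leaf 5315))
(.node (.leaf 1251)
(.leaf 0))))
(.node (.node (.node (.leaf 178)
(.leaf 1177))
(.node (.leaf 1220)
(.leaf 0)))
(.node (.node (.leaf 1196)
(.leaf 5342))
(.node (.leaf 1178)
(.leaf 0)))))
(.node (.node (.node (.node (.leaf 16)
(.leaf 1252))
(.node (.leaf 1175)
(.leaf 0)))
(.node (.node (.leaf 1178)
(.leaf 5325))
(.node (.leaf 1179)
(.leaf 0))))
(.node (.node (.node (.leaf 297)
(.leaf 1252))
(.node (.leaf 1220)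
(.leaf 0)))
(.node (.node (.leaf 1220)
(.leaf 5485))
(.node (.leaf 1179)
(.leaf 0))))))))))
(.node (.node (.node (.node (.node (.node (.node (.node (.node (.leaf 10)
(.leaf 1179))
(.node (.leaf 1196)
(.leaf 5446)))
(.node (.node (.leaf 10)
(.leaf 1196))
(.node (.leaf 1175)
(.leaf 0))))
(.node (.node (.node (.leaf 16)
(.leaf 1179))
(.node (.leaf 1251)
(.leaf 0)))
(.node (.node (.leaf 1175)
(.leaf 5446))
(.node (.leaf 1179)
(.leaf 0)))))
(.node (.node (.node (.node (.leaf 10)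
(.leaf 1252))
(.node (.leaf 1220)
(.leaf 0)))
(.node (.node (.leaf 1158)
(.leaf 5315))
(.node (.leaf 1251)
(.leaf 0))))
(.node (.node (.node (.leaf 31)
(.leaf 1195))
(.node (.leaf 1252)
(.leaf 0)))
(.node (.node (.leaf 1196)
(.leaf 5325))
(.node (.leaf 1252)
(.leaf 0))))))
(.node (.node (.node (.node (.node (.leaf 10)
(.leaf 1178))
(.node (.leaf 1179)
(.leaf 5485)))
(.node (.node (.leaf 1158)
(.leaf 1251))
(.node (.leaf 1196)
(.leaf 0))))
(.node (.node (.node (.leaf 11)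
(.leaf 1252))
(.node (.leaf 1251)
(.leaf 0)))
(.node (.node (.leaf 1251)
(.leaf 5320))
(.node (.leaf 1195)
(.leaf 0)))))
(.node (.node (.node (.node (.leaf 3)
(.leaf 1179))
(.node (.leaf 1179)
(.leaf 0)))
(.node (.node (.leaf 1196)
(.leaf 5377))
(.node (.leaf 1179)
(.leaf 0))))
(.node (.node (.node (.leaf 178)
(.leaf 1179))
(.node (.leaf 1220)
(.leaf 0)))
(.node (.node (.leaf 1177)
(.leaf 5325))
(.node (.leaf 1195)
(.leaf 0)))))))
(.node (.node (.node (.node (.node (.node (.leaf 10)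
(.leaf 1195))
(.node (.leaf 1196)
(.leaf 5485)))
(.node (.node (.leaf 178)
(.leaf 1178))
(.node (.leaf 1196)
(.leaf 0))))
(.node (.node (.node (.leaf 10)
(.leaf 1179))
(.node (.leaf 1251)
(.leaf 0)))
(.node (.node (.leaf 1178)
(.leaf 5342))
(.node (.leaf 1163)
(.leaf 0)))))
(.node (.node (.node (.node (.leaf 10)
(.leaf 1159))
(.node (.leaf 1159)
(.leaf 0)))
(.node (.node (.leaf 1191)
(.leaf 5317))
(.node (.leaf 1251)
(.leaf 0))))
(.node (.node (.node (.leaf 178)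
(.leaf 1175))
(.node (.leaf 1251)
(.leaf 0)))
(.node (.node (.leaf 1195)
(.leaf 5485))
(.node (.leaf 1175)
(.leaf 0))))))
(.node (.node (.node (.node (.node (.leaf 16)
(.leaf 1251))
(.node (.leaf 1178)
(.leaf 0)))
(.node (.node (.leaf 1160)
(.leaf 5325))
(.node (.leaf 1196)
(.leaf 0))))
(.node (.node (.node (.leaf 10)
(.leaf 1179))
(.node (.leaf 1220)
(.leaf 0)))
(.node (.node (.leaf 1220)
(.leaf 5325))
(.node (.leaf 1220)
(.leaf 0)))))
(.node (.node (.node (.node (.leaf 11)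
(.leaf 1251))
(.node (.leaf 1251)
(.leaf 0)))
(.node (.node (.leaf 1175)
(.leaf 5325))
(.node (.leaf 1175)
(.leaf 0))))
(.node (.node (.node (.leaf 16)
(.leaf 1159))
(.node (.leaf 1251)
(.leaf 0)))
(.node (.node (.leaf 1196)
(.leaf 5320))
(.node (.leaf 1163)
(.leaf 0))))))))
(.node (.node (.node (.node (.node (.node (.node (.leaf 31)
(.leaf 1179))
(.node (.leaf 1195)
(.leaf 5446)))
(.node (.node (.leaf 31)
(.leaf 1196))
(.node (.leaf 1163)
(.leaf 0))))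
(.node (.node (.node (.leaf 16)
(.leaf 1159))
(.node (.leaf 1178)
(.leaf 0)))
(.node (.node (.leaf 1251)
(.leaf 5342))
(.node (.leaf 1163)
(.leaf 0)))))
(.node (.node (.node (.node (.leaf 58)
(.leaf 1179))
(.node (.leaf 1159)
(.leaf 0)))
(.node (.node (.leaf 1175)
(.leaf 5342))
(.node (.leaf 1179)
(.leaf 0))))
(.node (.node (.node (.leaf 10)
(.leaf 1179))
(.node (.leaf 1251)
(.leaf 0)))
(.node (.node (.leaf 1220)
(.leaf 5320))
(.node (.leaf 1196)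
(.leaf 0))))))
(.node (.node (.node (.node (.node (.leaf 3)
(.leaf 1252))
(.node (.leaf 1220)
(.leaf 0)))
(.node (.node (.leaf 1163)
(.leaf 1179))
(.node (.leaf 1220)
(.leaf 0))))
(.node (.node (.node (.leaf 178)
(.leaf 1220))
(.node (.leaf 1252)
(.leaf 0)))
(.node (.node (.leaf 1251)
(.leaf 5325))
(.node (.leaf 1195)
(.leaf 0)))))
(.node (.node (.node (.node (.leaf 3)
(.leaf 1251))
(.node (.leaf 1251)
(.leaf 0)))
(.node (.node (.leaf 1157)
(.leaf 5315))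
(.node (.leaf 1220)
(.leaf 0))))
(.node (.node (.node (.leaf 178)
(.leaf 1365))
(.node (.leaf 1220)
(.leaf 0)))
(.node (.node (.leaf 1159)
(.leaf 5320))
(.node (.leaf 1178)
(.leaf 0)))))))
(.node (.node (.node (.node (.node (.node (.leaf 10)
(.leaf 1179))
(.node (.leaf 1163)
(.leaf 5485)))
(.node (.node (.leaf 178)
(.leaf 1179))
(.node (.leaf 1196)
(.leaf 0))))
(.node (.node (.node (.leaf 31)
(.leaf 1251))
(.node (.leaf 1163)
(.leaf 0)))
(.node (.node (.leaf 1163)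
(.leaf 5320))
(.node (.leaf 1196)
(.leaf 0)))))
(.node (.node (.node (.node (.leaf 10)
(.leaf 1179))
(.node (.leaf 1179)
(.leaf 0)))
(.node (.node (.leaf 1160)
(.leaf 5485))
(.node (.leaf 1179)
(.leaf 0))))
(.node (.node (.node (.leaf 11)
(.leaf 1163))
(.node (.leaf 1220)
(.leaf 0)))
(.node (.node (.leaf 1156)
(.leaf 5644))
(.node (.leaf 1251)
(.leaf 0))))))
(.node (.node (.node (.node (.node (.leaf 10)
(.leaf 1196))
(.node (.leaf 1220)
(.leaf 0)))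
(.node (.node (.leaf 1163)
(.leaf 5315))
(.node (.leaf 1178)
(.leaf 0))))
(.node (.node (.node (.leaf 178)
(.leaf 1179))
(.node (.leaf 1196)
(.leaf 0)))
(.node (.node (.leaf 1195)
(.leaf 5325))
(.node (.leaf 1196)
(.leaf 0)))))
(.node (.node (.node (.node (.leaf 10)
(.leaf 1179))
(.node (.leaf 1159)
(.leaf 0)))
(.node (.node (.leaf 1179)
(.leaf 5485))
(.node (.leaf 1251)
(.leaf 0))))
(.node (.node (.node (.leaf 58)
(.leaf 1252))
(.node (.leaf 1175)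
(.leaf 0)))
(.node (.node (.leaf 1252)
(.leaf 5446))
(.node (.leaf 1178)
(.leaf 0)))))))))
(.node (.node (.node (.node (.node (.node (.node (.node (.leaf 1)
(.leaf 1179))
(.node (.leaf 1196)
(.leaf 5342)))
(.node (.node (.leaf 3)
(.leaf 1163))
(.node (.leaf 1220)
(.leaf 0))))
(.node (.node (.node (.leaf 10)
(.leaf 1179))
(.node (.leaf 1252)
(.leaf 0)))
(.node (.node (.leaf 1178)
(.leaf 5325))
(.node (.leaf 1175)
(.leaf 0)))))
(.node (.node (.node (.node (.leaf 10)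
(.leaf 1179))
(.node (.leaf 1195)
(.leaf 0)))
(.node (.node (.leaf 1157)
(.leaf 5325))
(.node (.leaf 1179)
(.leaf 0))))
(.node (.node (.node (.leaf 10)
(.leaf 1163))
(.node (.leaf 1179)
(.leaf 0)))
(.node (.node (.leaf 1175)
(.leaf 5325))
(.node (.leaf 1163)
(.leaf 0))))))
(.node (.node (.node (.node (.node (.leaf 10)
(.leaf 1159))
(.node (.leaf 1220)
(.leaf 5446)))
(.node (.node (.leaf 1157)
(.leaf 1179))
(.node (.leaf 1175)
(.leaf 0))))
(.node (.node (.node (.leaf 10)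
(.leaf 1163))
(.node (.leaf 1175)
(.leaf 0)))
(.node (.node (.leaf 1178)
(.leaf 5446))
(.node (.leaf 1196)
(.leaf 0)))))
(.node (.node (.node (.node (.leaf 3)
(.leaf 1252))
(.node (.leaf 1175)
(.leaf 0)))
(.node (.node (.leaf 1175)
(.leaf 5315))
(.node (.leaf 1163)
(.leaf 0))))
(.node (.node (.node (.leaf 11)
(.leaf 1178))
(.node (.leaf 1251)
(.leaf 0)))
(.node (.node (.leaf 1195)
(.leaf 5446))
(.node (.leaf 1163)
(.leaf 0)))))))
(.node (.node (.node (.node (.node (.node (.leaf 10)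
(.leaf 1179))
(.node (.leaf 1195)
(.leaf 5325)))
(.node (.node (.leaf 178)
(.leaf 1159))
(.node (.leaf 1179)
(.leaf 0))))
(.node (.node (.node (.leaf 3)
(.leaf 1178))
(.node (.leaf 1179)
(.leaf 0)))
(.node (.node (.leaf 1157)
(.leaf 5320))
(.node (.leaf 1220)
(.leaf 0)))))
(.node (.node (.node (.node (.leaf 10)
(.leaf 1177))
(.node (.leaf 1179)
(.leaf 0)))
(.node (.node (.leaf 1179)
(.leaf 5325))
(.node (.leaf 1163)
(.leaf 0))))
(.node (.node (.node (.leaf 297)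
(.leaf 1365))
(.node (.leaf 1195)
(.leaf 0)))
(.node (.node (.leaf 1308)
(.leaf 5325))
(.node (.leaf 1220)
(.leaf 0))))))
(.node (.node (.node (.node (.node (.leaf 58)
(.leaf 1179))
(.node (.leaf 1220)
(.leaf 0)))
(.node (.node (.leaf 1195)
(.leaf 5325))
(.node (.leaf 1175)
(.leaf 0))))
(.node (.node (.node (.leaf 3)
(.leaf 1252))
(.node (.leaf 1251)
(.leaf 0)))
(.node (.node (.leaf 1179)
(.leaf 5325))
(.node (.leaf 1175)
(.leaf 0)))))
(.node (.node (.node (.node (.leaf 10)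
(.leaf 1163))
(.node (.leaf 1196)
(.leaf 0)))
(.node (.node (.leaf 1220)
(.leaf 5320))
(.node (.leaf 1365)
(.leaf 0))))
(.node (.node (.node (.leaf 56)
(.leaf 1365))
(.node (.leaf 1220)
(.leaf 0)))
(.node (.node (.leaf 1179)
(.leaf 5446))
(.node (.leaf 1163)
(.leaf 0))))))))
(.node (.node (.node (.node (.node (.node (.node (.leaf 61)
(.leaf 1365))
(.node (.leaf 1220)
(.leaf 5446)))
(.node (.node (.leaf 178)
(.leaf 1196))
(.node (.leaf 1195)
(.leaf 0))))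
(.node (.node (.node (.leaf 16)
(.leaf 1177))
(.node (.leaf 1178)
(.leaf 0)))
(.node (.node (.leaf 1177)
(.leaf 5320))
(.node (.leaf 1175)
(.leaf 0)))))
(.node (.node (.node (.node (.leaf 3)
(.leaf 1179))
(.node (.leaf 1178)
(.leaf 0)))
(.node (.node (.leaf 1163)
(.leaf 5315))
(.node (.leaf 1179)
(.leaf 0))))
(.node (.node (.node (.leaf 58)
(.leaf 1163))
(.node (.leaf 1279)
(.leaf 0)))
(.node (.node (.leaf 1196)
(.leaf 5446))
(.node (.leaf 1195)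
(.leaf 0))))))
(.node (.node (.node (.node (.node (.leaf 10)
(.leaf 1177))
(.node (.leaf 1195)
(.leaf 0)))
(.node (.node (.leaf 1158)
(.leaf 1175))
(.node (.leaf 1220)
(.leaf 0))))
(.node (.node (.node (.leaf 178)
(.leaf 1252))
(.node (.leaf 1179)
(.leaf 0)))
(.node (.node (.leaf 1251)
(.leaf 5485))
(.node (.leaf 1175)
(.leaf 0)))))
(.node (.node (.node (.node (.leaf 10)
(.leaf 1252))
(.node (.leaf 1365)
(.leaf 0)))
(.node (.node (.leaf 1160)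
(.leaf 5325))
(.node (.leaf 1220)
(.leaf 0))))
(.node (.node (.node (.leaf 178)
(.leaf 1365))
(.node (.leaf 1179)
(.leaf 0)))
(.node (.node (.leaf 1179)
(.leaf 5342))
(.node (.leaf 1251)
(.leaf 0)))))))
(.node (.node (.node (.node (.node (.node (.leaf 3)
(.leaf 1179))
(.node (.leaf 1220)
(.leaf 5446)))
(.node (.node (.leaf 297)
(.leaf 1159))
(.node (.leaf 1220)
(.leaf 0))))
(.node (.node (.node (.leaf 178)
(.leaf 1251))
(.node (.leaf 1251)
(.leaf 0)))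
(.node (.node (.leaf 1279)
(.leaf 5320))
(.node (.leaf 1175)
(.leaf 0)))))
(.node (.node (.node (.node (.leaf 3)
(.leaf 1251))
(.node (.leaf 1196)
(.leaf 0)))
(.node (.node (.leaf 1159)
(.leaf 5325))
(.node (.leaf 1178)
(.leaf 0))))
(.node (.node (.node (.leaf 178)
(.leaf 1163))
(.node (.leaf 1220)
(.leaf 0)))
(.node (.node (.leaf 1179)
(.leaf 5325))
(.node (.leaf 1195)
(.leaf 0))))))
(.node (.node (.node (.node (.node (.leaf 11)
(.leaf 1179))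
(.node (.leaf 1220)
(.leaf 0)))
(.node (.node (.leaf 1157)
(.leaf 5317))
(.node (.leaf 1252)
(.leaf 0))))
(.node (.node (.node (.leaf 3)
(.leaf 1163))
(.node (.leaf 1179)
(.leaf 0)))
(.node (.node (.leaf 1175)
(.leaf 5644))
(.node (.leaf 1196)
(.leaf 0)))))
(.node (.node (.node (.node (.leaf 10)
(.leaf 1178))
(.node (.leaf 1179)
(.leaf 0)))
(.node (.node (.leaf 1252)
(.leaf 5317))
(.node (.leaf 1159)
(.leaf 0))))
(.node (.node (.node (.leaf 31)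
(.leaf 1159))
(.node (.leaf 1220)
(.leaf 0)))
(.node (.node (.leaf 1163)
(.leaf 5325))
(.node (.leaf 1159)
(.leaf 0))))))))))))
(.node (.node (.node (.node (.node (.node (.node (.node (.node (.node (.node (.leaf 3)
(.leaf 1178))
(.node (.leaf 1220)
(.leaf 5377)))
(.node (.node (.leaf 178)
(.leaf 1179))
(.node (.leaf 1163)
(.leaf 0))))
(.node (.node (.node (.leaf 11)
(.leaf 1251))
(.node (.leaf 1179)
(.leaf 0)))
(.node (.node (.leaf 1251)
(.leaf 5320))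
(.node (.leaf 1159)
(.leaf 0)))))
(.node (.node (.node (.node (.leaf 3)
(.leaf 1179))
(.node (.leaf 1220)
(.leaf 0)))
(.node (.node (.leaf 1179)
(.leaf 5325))
(.node (.leaf 1196)
(.leaf 0))))
(.node (.node (.node (.leaf 10)
(.leaf 1175))
(.node (.leaf 1163)
(.leaf 0)))
(.node (.node (.leaf 1163)
(.leaf 5342))
(.node (.leaf 1163)
(.leaf 0))))))
(.node (.node (.node (.node (.node (.leaf 3)
(.leaf 1179))
(.node (.leaf 1251)
(.leaf 5644)))
(.node (.node (.leaf 1155)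
(.leaf 1179))
(.node (.leaf 1196)
(.leaf 0))))
(.node (.node (.node (.leaf 3)
(.leaf 1179))
(.node (.leaf 1179)
(.leaf 0)))
(.node (.node (.leaf 1252)
(.leaf 5320))
(.node (.leaf 1175)
(.leaf 0)))))
(.node (.node (.node (.node (.leaf 10)
(.leaf 1251))
(.node (.leaf 1163)
(.leaf 0)))
(.node (.node (.leaf 1196)
(.leaf 5315))
(.node (.leaf 1178)
(.leaf 0))))
(.node (.node (.node (.leaf 178)
(.leaf 1251))
(.node (.leaf 1196)
(.leaf 0)))
(.node (.node (.leaf 1178)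
(.leaf 5320))
(.node (.leaf 1179)
(.leaf 0)))))))
(.node (.node (.node (.node (.node (.node (.leaf 31)
(.leaf 1251))
(.node (.leaf 1163)
(.leaf 5325)))
(.node (.node (.leaf 10)
(.leaf 1163))
(.node (.leaf 1220)
(.leaf 0))))
(.node (.node (.node (.leaf 10)
(.leaf 1220))
(.node (.leaf 1251)
(.leaf 0)))
(.node (.node (.leaf 1195)
(.leaf 5325))
(.node (.leaf 1251)
(.leaf 0)))))
(.node (.node (.node (.node (.leaf 3)
(.leaf 1159))
(.node (.leaf 1179)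
(.leaf 0)))
(.node (.node (.leaf 1158)
(.leaf 5320))
(.node (.leaf 1251)
(.leaf 0))))
(.node (.node (.node (.leaf 16)
(.leaf 1175))
(.node (.leaf 1252)
(.leaf 0)))
(.node (.node (.leaf 1163)
(.leaf 5325))
(.node (.leaf 1220)
(.leaf 0))))))
(.node (.node (.node (.node (.node (.leaf 10)
(.leaf 1251))
(.node (.leaf 1220)
(.leaf 0)))
(.node (.node (.leaf 1157)
(.leaf 5315))
(.node (.leaf 1196)
(.leaf 0))))
(.node (.node (.node (.leaf 3)
(.leaf 1251))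
(.node (.leaf 1279)
(.leaf 0)))
(.node (.node (.leaf 1220)
(.leaf 5325))
(.node (.leaf 1220)
(.leaf 0)))))
(.node (.node (.node (.node (.leaf 10)
(.leaf 1178))
(.node (.leaf 1365)
(.leaf 0)))
(.node (.node (.leaf 1158)
(.leaf 5342))
(.node (.leaf 1196)
(.leaf 0))))
(.node (.node (.node (.leaf 16)
(.leaf 1159))
(.node (.leaf 1251)
(.leaf 0)))
(.node (.node (.leaf 1195)
(.leaf 5320))
(.node (.leaf 1220)
(.leaf 0))))))))
(.node (.node (.node (.node (.node (.node (.node (.leaf 3)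
(.leaf 1252))
(.node (.leaf 1175)
(.leaf 5325)))
(.node (.node (.leaf 178)
(.leaf 1220))
(.node (.leaf 1175)
(.leaf 0))))
(.node (.node (.node (.leaf 3)
(.leaf 1252))
(.node (.leaf 1179)
(.leaf 0)))
(.node (.node (.leaf 1179)
(.leaf 5325))
(.node (.leaf 1163)
(.leaf 0)))))
(.node (.node (.node (.node (.leaf 3)
(.leaf 1179))
(.node (.leaf 1179)
(.leaf 0)))
(.node (.node (.leaf 1179)
(.leaf 5325))
(.node (.leaf 1251)
(.leaf 0))))
(.node (.node (.node (.leaf 10)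
(.leaf 1175))
(.node (.leaf 1220)
(.leaf 0)))
(.node (.node (.leaf 1175)
(.leaf 5320))
(.node (.leaf 1175)
(.leaf 0))))))
(.node (.node (.node (.node (.node (.leaf 10)
(.leaf 1177))
(.node (.leaf 1159)
(.leaf 0)))
(.node (.node (.leaf 1179)
(.leaf 1251))
(.node (.leaf 1251)
(.leaf 0))))
(.node (.node (.node (.leaf 10)
(.leaf 1175))
(.node (.leaf 1178)
(.leaf 0)))
(.node (.node (.leaf 1179)
(.leaf 5325))
(.node (.leaf 1163)
(.leaf 0)))))
(.node (.node (.node (.node (.leaf 10)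
(.leaf 1179))
(.node (.leaf 1251)
(.leaf 0)))
(.node (.node (.leaf 1157)
(.leaf 5325))
(.node (.leaf 1179)
(.leaf 0))))
(.node (.node (.node (.leaf 31)
(.leaf 1178))
(.node (.leaf 1179)
(.leaf 0)))
(.node (.node (.leaf 1159)
(.leaf 5320))
(.node (.leaf 1220)
(.leaf 0)))))))
(.node (.node (.node (.node (.node (.node (.leaf 3)
(.leaf 1179))
(.node (.leaf 1159)
(.leaf 5644)))
(.node (.node (.leaf 178)
(.leaf 1252))
(.node (.leaf 1175)
(.leaf 0))))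
(.node (.node (.node (.leaf 178)
(.leaf 1179))
(.node (.leaf 1179)
(.leaf 0)))
(.node (.node (.leaf 1157)
(.leaf 5313))
(.node (.leaf 1163)
(.leaf 0)))))
(.node (.node (.node (.node (.leaf 10)
(.leaf 1175))
(.node (.leaf 1179)
(.leaf 0)))
(.node (.node (.leaf 1160)
(.leaf 5320))
(.node (.leaf 1251)
(.leaf 0))))
(.node (.node (.node (.leaf 10)
(.leaf 1163))
(.node (.leaf 1163)
(.leaf 0)))
(.node (.node (.leaf 1196)
(.leaf 5320))
(.node (.leaf 1196)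
(.leaf 0))))))
(.node (.node (.node (.node (.node (.leaf 16)
(.leaf 1179))
(.node (.leaf 1220)
(.leaf 0)))
(.node (.node (.leaf 1251)
(.leaf 5317))
(.node (.leaf 1196)
(.leaf 0))))
(.node (.node (.node (.leaf 3)
(.leaf 1196))
(.node (.leaf 1179)
(.leaf 0)))
(.node (.node (.leaf 1179)
(.leaf 5320))
(.node (.leaf 1175)
(.leaf 0)))))
(.node (.node (.node (.node (.leaf 11)
(.leaf 1163))
(.node (.leaf 1196)
(.leaf 0)))
(.node (.node (.leaf 1195)
(.leaf 5325))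
(.node (.leaf 1179)
(.leaf 0))))
(.node (.node (.node (.leaf 178)
(.leaf 1196))
(.node (.leaf 1196)
(.leaf 0)))
(.node (.node (.leaf 1179)
(.leaf 5644))
(.node (.leaf 1179)
(.leaf 0)))))))))
(.node (.node (.node (.node (.node (.node (.node (.node (.leaf 2)
(.leaf 1252))
(.node (.leaf 1195)
(.leaf 5325)))
(.node (.node (.leaf 178)
(.leaf 1163))
(.node (.leaf 1163)
(.leaf 0))))
(.node (.node (.node (.leaf 58)
(.leaf 1251))
(.node (.leaf 1159)
(.leaf 0)))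
(.node (.node (.leaf 1179)
(.leaf 5342))
(.node (.leaf 1175)
(.leaf 0)))))
(.node (.node (.node (.node (.leaf 10)
(.leaf 1251))
(.node (.leaf 1196)
(.leaf 0)))
(.node (.node (.leaf 1179)
(.leaf 5325))
(.node (.leaf 1179)
(.leaf 0))))
(.node (.node (.node (.leaf 31)
(.leaf 1175))
(.node (.leaf 1251)
(.leaf 0)))
(.node (.node (.leaf 1163)
(.leaf 5325))
(.node (.leaf 1179)
(.leaf 0))))))
(.node (.node (.node (.node (.node (.leaf 3)
(.leaf 1251))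
(.node (.leaf 1196)
(.leaf 5644)))
(.node (.node (.leaf 1157)
(.leaf 1252))
(.node (.leaf 1196)
(.leaf 0))))
(.node (.node (.node (.leaf 10)
(.leaf 1196))
(.node (.leaf 1196)
(.leaf 0)))
(.node (.node (.leaf 1163)
(.leaf 5342))
(.node (.leaf 1251)
(.leaf 0)))))
(.node (.node (.node (.node (.leaf 10)
(.leaf 1365))
(.node (.leaf 1251)
(.leaf 0)))
(.node (.node (.leaf 1163)
(.leaf 5325))
(.node (.leaf 1159)
(.leaf 0))))
(.node (.node (.node (.leaf 3)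
(.leaf 1179))
(.node (.leaf 1179)
(.leaf 0)))
(.node (.node (.leaf 1158)
(.leaf 5732))
(.node (.leaf 1220)
(.leaf 0)))))))
(.node (.node (.node (.node (.node (.node (.leaf 11)
(.leaf 1220))
(.node (.leaf 1175)
(.leaf 5320)))
(.node (.node (.leaf 297)
(.leaf 1251))
(.node (.leaf 1196)
(.leaf 0))))
(.node (.node (.node (.leaf 10)
(.leaf 1252))
(.node (.leaf 1178)
(.leaf 0)))
(.node (.node (.leaf 1251)
(.leaf 5342))
(.node (.leaf 1196)
(.leaf 0)))))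
(.node (.node (.node (.node (.leaf 10)
(.leaf 1252))
(.node (.leaf 1251)
(.leaf 0)))
(.node (.node (.leaf 1178)
(.leaf 5325))
(.node (.leaf 1178)
(.leaf 0))))
(.node (.node (.node (.leaf 3)
(.leaf 1163))
(.node (.leaf 1179)
(.leaf 0)))
(.node (.node (.leaf 1191)
(.leaf 5325))
(.node (.leaf 1178)
(.leaf 0))))))
(.node (.node (.node (.node (.node (.leaf 58)
(.leaf 1365))
(.node (.leaf 1251)
(.leaf 0)))
(.node (.node (.leaf 1157)
(.leaf 5315))
(.node (.leaf 1159)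
(.leaf 0))))
(.node (.node (.node (.leaf 178)
(.leaf 1220))
(.node (.leaf 1279)
(.leaf 0)))
(.node (.node (.leaf 1178)
(.leaf 5325))
(.node (.leaf 1175)
(.leaf 0)))))
(.node (.node (.node (.node (.leaf 178)
(.leaf 1163))
(.node (.leaf 1178)
(.leaf 0)))
(.node (.node (.leaf 1196)
(.leaf 5325))
(.node (.leaf 1220)
(.leaf 0))))
(.node (.node (.node (.leaf 61)
(.leaf 1159))
(.node (.leaf 1251)
(.leaf 0)))
(.node (.node (.leaf 1160)
(.leaf 5342))
(.node (.leaf 1175)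
(.leaf 0))))))))
(.node (.node (.node (.node (.node (.node (.node (.leaf 10)
(.leaf 1196))
(.node (.leaf 1196)
(.leaf 5325)))
(.node (.node (.leaf 178)
(.leaf 1163))
(.node (.leaf 1175)
(.leaf 0))))
(.node (.node (.node (.leaf 16)
(.leaf 1251))
(.node (.leaf 1220)
(.leaf 0)))
(.node (.node (.leaf 1159)
(.leaf 5320))
(.node (.leaf 1220)
(.leaf 0)))))
(.node (.node (.node (.node (.leaf 31)
(.leaf 1251))
(.node (.leaf 1220)
(.leaf 0)))
(.node (.node (.leaf 1220)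
(.leaf 5315))
(.node (.leaf 1163)
(.leaf 0))))
(.node (.node (.node (.leaf 178)
(.leaf 1163))
(.node (.leaf 1179)
(.leaf 0)))
(.node (.node (.leaf 1195)
(.leaf 5377))
(.node (.leaf 1178)
(.leaf 0))))))
(.node (.node (.node (.node (.node (.leaf 10)
(.leaf 1179))
(.node (.leaf 1175)
(.leaf 0)))
(.node (.node (.leaf 1158)
(.leaf 1179))
(.node (.leaf 1175)
(.leaf 0))))
(.node (.node (.node (.leaf 10)
(.leaf 1220))
(.node (.leaf 1179)
(.leaf 0)))
(.node (.node (.leaf 1251)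
(.leaf 5320))
(.node (.leaf 1175)
(.leaf 0)))))
(.node (.node (.node (.node (.leaf 10)
(.leaf 1178))
(.node (.leaf 1365)
(.leaf 0)))
(.node (.node (.leaf 1179)
(.leaf 5377))
(.node (.leaf 1175)
(.leaf 0))))
(.node (.node (.node (.leaf 16)
(.leaf 1178))
(.node (.leaf 1251)
(.leaf 0)))
(.node (.node (.leaf 1159)
(.leaf 5325))
(.node (.leaf 1252)
(.leaf 0)))))))
(.node (.node (.node (.node (.node (.node (.leaf 10)
(.leaf 1178))
(.node (.leaf 1195)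
(.leaf 5446)))
(.node (.node (.leaf 178)
(.leaf 1177))
(.node (.leaf 1163)
(.leaf 0))))
(.node (.node (.node (.leaf 11)
(.leaf 1252))
(.node (.leaf 1178)
(.leaf 0)))
(.node (.node (.leaf 1179)
(.leaf 5320))
(.node (.leaf 1163)
(.leaf 0)))))
(.node (.node (.node (.node (.leaf 10)
(.leaf 1179))
(.node (.leaf 1195)
(.leaf 0)))
(.node (.node (.leaf 1196)
(.leaf 5325))
(.node (.leaf 1159)
(.leaf 0))))
(.node (.node (.node (.leaf 178)
(.leaf 1196))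
(.node (.leaf 1220)
(.leaf 0)))
(.node (.node (.leaf 1175)
(.leaf 5446))
(.node (.leaf 1196)
(.leaf 0))))))
(.node (.node (.node (.node (.node (.leaf 3)
(.leaf 1179))
(.node (.leaf 1196)
(.leaf 0)))
(.node (.node (.leaf 1195)
(.leaf 5325))
(.node (.leaf 1163)
(.leaf 0))))
(.node (.node (.node (.leaf 10)
(.leaf 1179))
(.node (.leaf 1220)
(.leaf 0)))
(.node (.node (.leaf 1195)
(.leaf 5377))
(.node (.leaf 1179)
(.leaf 0)))))
(.node (.node (.node (.node (.leaf 10)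
(.leaf 1178))
(.node (.leaf 1179)
(.leaf 0)))
(.node (.node (.leaf 1178)
(.leaf 5325))
(.node (.leaf 1179)
(.leaf 0))))
(.node (.node (.node (.leaf 297)
(.leaf 1179))
(.node (.leaf 1175)
(.leaf 0)))
(.node (.node (.leaf 1175)
(.leaf 5446))
(.node (.leaf 1159)
(.leaf 0))))))))))
(.node (.node (.node (.node (.node (.node (.node (.node (.node (.leaf 11)
(.leaf 1159))
(.node (.leaf 1175)
(.leaf 5320)))
(.node (.node (.leaf 11)
(.leaf 1196))
(.node (.leaf 1220)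
(.leaf 0))))
(.node (.node (.node (.leaf 10)
(.leaf 1179))
(.node (.leaf 1179)
(.leaf 0)))
(.node (.node (.leaf 1175)
(.leaf 5325))
(.node (.leaf 1159)
(.leaf 0)))))
(.node (.node (.node (.node (.leaf 3)
(.leaf 1251))
(.node (.leaf 1196)
(.leaf 0)))
(.node (.node (.leaf 1157)
(.leaf 5325))
(.node (.leaf 1251)
(.leaf 0))))
(.node (.node (.node (.leaf 11)
(.leaf 1175))
(.node (.leaf 1163)
(.leaf 0)))
(.node (.node (.leaf 1163)
(.leaf 5320))
(.node (.leaf 1251)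
(.leaf 0))))))
(.node (.node (.node (.node (.node (.leaf 3)
(.leaf 1163))
(.node (.leaf 1191)
(.leaf 5446)))
(.node (.node (.leaf 1163)
(.leaf 1251))
(.node (.leaf 1175)
(.leaf 0))))
(.node (.node (.node (.leaf 10)
(.leaf 1178))
(.node (.leaf 1252)
(.leaf 0)))
(.node (.node (.leaf 1163)
(.leaf 5325))
(.node (.leaf 1220)
(.leaf 0)))))
(.node (.node (.node (.node (.leaf 10)
(.leaf 1178))
(.node (.leaf 1179)
(.leaf 0)))
(.node (.node (.leaf 1195)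
(.leaf 5325))
(.node (.leaf 1163)
(.leaf 0))))
(.node (.node (.node (.leaf 178)
(.leaf 1220))
(.node (.leaf 1220)
(.leaf 0)))
(.node (.node (.leaf 1365)
(.leaf 5377))
(.node (.leaf 1159)
(.leaf 0)))))))
(.node (.node (.node (.node (.node (.node (.leaf 10)
(.leaf 1196))
(.node (.leaf 1220)
(.leaf 5325)))
(.node (.node (.leaf 58)
(.leaf 1175))
(.node (.leaf 1196)
(.leaf 0))))
(.node (.node (.node (.leaf 3)
(.leaf 1179))
(.node (.leaf 1179)
(.leaf 0)))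
(.node (.node (.leaf 1179)
(.leaf 5644))
(.node (.leaf 1163)
(.leaf 0)))))
(.node (.node (.node (.node (.leaf 3)
(.leaf 1177))
(.node (.leaf 1252)
(.leaf 0)))
(.node (.node (.leaf 1160)
(.leaf 5320))
(.node (.leaf 1365)
(.leaf 0))))
(.node (.node (.node (.leaf 3)
(.leaf 1178))
(.node (.leaf 1179)
(.leaf 0)))
(.node (.node (.leaf 1195)
(.leaf 5446))
(.node (.leaf 1196)
(.leaf 0))))))
(.node (.node (.node (.node (.node (.leaf 56)
(.leaf 1365))
(.node (.leaf 1163)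
(.leaf 0)))
(.node (.node (.leaf 1156)
(.leaf 5315))
(.node (.leaf 1163)
(.leaf 0))))
(.node (.node (.node (.leaf 178)
(.leaf 1251))
(.node (.leaf 1179)
(.leaf 0)))
(.node (.node (.leaf 1196)
(.leaf 5325))
(.node (.leaf 1179)
(.leaf 0)))))
(.node (.node (.node (.node (.leaf 3)
(.leaf 1179))
(.node (.leaf 1179)
(.leaf 0)))
(.node (.node (.leaf 1195)
(.leaf 5325))
(.node (.leaf 1163)
(.leaf 0))))
(.node (.node (.node (.leaf 178)
(.leaf 1159))
(.node (.leaf 1252)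
(.leaf 0)))
(.node (.node (.leaf 1175)
(.leaf 5325))
(.node (.leaf 1195)
(.leaf 0))))))))
(.node (.node (.node (.node (.node (.node (.node (.leaf 10)
(.leaf 1179))
(.node (.leaf 1163)
(.leaf 5485)))
(.node (.node (.leaf 10)
(.leaf 1251))
(.node (.leaf 1163)
(.leaf 0))))
(.node (.node (.node (.leaf 16)
(.leaf 1179))
(.node (.leaf 1179)
(.leaf 0)))
(.node (.node (.leaf 1251)
(.leaf 5325))
(.node (.leaf 1163)
(.leaf 0)))))
(.node (.node (.node (.node (.leaf 10)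
(.leaf 1179))
(.node (.leaf 1157)
(.leaf 0)))
(.node (.node (.leaf 1175)
(.leaf 5342))
(.node (.leaf 1252)
(.leaf 0))))
(.node (.node (.node (.leaf 11)
(.leaf 1163))
(.node (.leaf 1179)
(.leaf 0)))
(.node (.node (.leaf 1220)
(.leaf 5325))
(.node (.leaf 1163)
(.leaf 0))))))
(.node (.node (.node (.node (.node (.leaf 10)
(.leaf 1179))
(.node (.leaf 1220)
(.leaf 0)))
(.node (.node (.leaf 1195)
(.leaf 1177))
(.node (.leaf 1279)
(.leaf 0))))
(.node (.node (.node (.leaf 3)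
(.leaf 1196))
(.node (.leaf 1179)
(.leaf 0)))
(.node (.node (.leaf 1178)
(.leaf 5325))
(.node (.leaf 1175)
(.leaf 0)))))
(.node (.node (.node (.node (.leaf 10)
(.leaf 1179))
(.node (.leaf 1178)
(.leaf 0)))
(.node (.node (.leaf 1175)
(.leaf 5325))
(.node (.leaf 1157)
(.leaf 0))))
(.node (.node (.node (.leaf 61)
(.leaf 1252))
(.node (.leaf 1179)
(.leaf 0)))
(.node (.node (.leaf 1159)
(.leaf 5325))
(.node (.leaf 1220)
(.leaf 0)))))))
(.node (.node (.node (.node (.node (.node (.leaf 31)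
(.leaf 1251))
(.node (.leaf 1178)
(.leaf 5325)))
(.node (.node (.leaf 178)
(.leaf 1252))
(.node (.leaf 1195)
(.leaf 0))))
(.node (.node (.node (.leaf 3)
(.leaf 1179))
(.node (.leaf 1177)
(.leaf 0)))
(.node (.node (.leaf 1195)
(.leaf 5325))
(.node (.leaf 1196)
(.leaf 0)))))
(.node (.node (.node (.node (.leaf 11)
(.leaf 1178))
(.node (.leaf 1251)
(.leaf 0)))
(.node (.node (.leaf 1158)
(.leaf 5325))
(.node (.leaf 1175)
(.leaf 0))))
(.node (.node (.node (.leaf 10)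
(.leaf 1175))
(.node (.leaf 1175)
(.leaf 0)))
(.node (.node (.leaf 1157)
(.leaf 5644))
(.node (.leaf 1220)
(.leaf 0))))))
(.node (.node (.node (.node (.node (.leaf 10)
(.leaf 1251))
(.node (.leaf 1220)
(.leaf 0)))
(.node (.node (.leaf 1178)
(.leaf 5335))
(.node (.leaf 1177)
(.leaf 0))))
(.node (.node (.node (.leaf 10)
(.leaf 1179))
(.node (.leaf 1178)
(.leaf 0)))
(.node (.node (.leaf 1195)
(.leaf 5325))
(.node (.leaf 1195)
(.leaf 0)))))
(.node (.node (.node (.node (.leaf 10)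
(.leaf 1178))
(.node (.leaf 1196)
(.leaf 0)))
(.node (.node (.leaf 1220)
(.leaf 5320))
(.node (.leaf 1179)
(.leaf 0))))
(.node (.node (.node (.leaf 178)
(.leaf 1179))
(.node (.leaf 1179)
(.leaf 0)))
(.node (.node (.leaf 1179)
(.leaf 5446))
(.node (.leaf 1251)
(.leaf 0)))))))))
(.node (.node (.node (.node (.node (.node (.node (.node (.leaf 10)
(.leaf 1252))
(.node (.leaf 1196)
(.leaf 5320)))
(.node (.node (.leaf 297)
(.leaf 1177))
(.node (.leaf 1220)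
(.leaf 0))))
(.node (.node (.node (.leaf 16)
(.leaf 1163))
(.node (.leaf 1252)
(.leaf 0)))
(.node (.node (.leaf 1179)
(.leaf 5325))
(.node (.leaf 1220)
(.leaf 0)))))
(.node (.node (.node (.node (.leaf 11)
(.leaf 1178))
(.node (.leaf 1175)
(.leaf 0)))
(.node (.node (.leaf 1157)
(.leaf 5325))
(.node (.leaf 1178)
(.leaf 0))))
(.node (.node (.node (.leaf 31)
(.leaf 1175))
(.node (.leaf 1179)
(.leaf 0)))
(.node (.node (.leaf 1175)
(.leaf 5325))
(.node (.leaf 1163)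
(.leaf 0))))))
(.node (.node (.node (.node (.node (.leaf 58)
(.leaf 1179))
(.node (.leaf 1163)
(.leaf 5446)))
(.node (.node (.leaf 1179)
(.leaf 1159))
(.node (.leaf 1163)
(.leaf 0))))
(.node (.node (.node (.leaf 31)
(.leaf 1163))
(.node (.leaf 1163)
(.leaf 0)))
(.node (.node (.leaf 1251)
(.leaf 5644))
(.node (.leaf 1179)
(.leaf 0)))))
(.node (.node (.node (.node (.leaf 3)
(.leaf 1196))
(.node (.leaf 1251)
(.leaf 0)))
(.node (.node (.leaf 1163)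
(.leaf 5325))
(.node (.leaf 1177)
(.leaf 0))))
(.node (.node (.node (.leaf 10)
(.leaf 1252))
(.node (.leaf 1252)
(.leaf 0)))
(.node (.node (.leaf 1158)
(.leaf 5325))
(.node (.leaf 1220)
(.leaf 0)))))))
(.node (.node (.node (.node (.node (.node (.leaf 58)
(.leaf 1179))
(.node (.leaf 1220)
(.leaf 5485)))
(.node (.node (.leaf 178)
(.leaf 1251))
(.node (.leaf 1175)
(.leaf 0))))
(.node (.node (.node (.leaf 3)
(.leaf 1251))
(.node (.leaf 1179)
(.leaf 0)))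
(.node (.node (.leaf 1251)
(.leaf 5485))
(.node (.leaf 1220)
(.leaf 0)))))
(.node (.node (.node (.node (.leaf 10)
(.leaf 1178))
(.node (.leaf 1178)
(.leaf 0)))
(.node (.node (.leaf 1185)
(.leaf 5325))
(.node (.leaf 1220)
(.leaf 0))))
(.node (.node (.node (.leaf 3)
(.leaf 1251))
(.node (.leaf 1220)
(.leaf 0)))
(.node (.node (.leaf 1179)
(.leaf 5644))
(.node (.leaf 1220)
(.leaf 0))))))
(.node (.node (.node (.node (.node (.leaf 61)
(.leaf 1178))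
(.node (.leaf 1175)
(.leaf 0)))
(.node (.node (.leaf 1196)
(.leaf 5317))
(.node (.leaf 1252)
(.leaf 0))))
(.node (.node (.node (.leaf 10)
(.leaf 1179))
(.node (.leaf 1279)
(.leaf 0)))
(.node (.node (.leaf 1175)
(.leaf 5325))
(.node (.leaf 1163)
(.leaf 0)))))
(.node (.node (.node (.node (.leaf 10)
(.leaf 1163))
(.node (.leaf 1251)
(.leaf 0)))
(.node (.node (.leaf 1220)
(.leaf 5325))
(.node (.leaf 1179)
(.leaf 0))))
(.node (.node (.node (.leaf 3)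
(.leaf 1177))
(.node (.leaf 1195)
(.leaf 0)))
(.node (.node (.leaf 1365)
(.leaf 5325))
(.node (.leaf 1163)
(.leaf 0))))))))
(.node (.node (.node (.node (.node (.node (.node (.leaf 16)
(.leaf 1179))
(.node (.leaf 1220)
(.leaf 5325)))
(.node (.node (.leaf 178)
(.leaf 1178))
(.node (.leaf 1196)
(.leaf 0))))
(.node (.node (.node (.leaf 58)
(.leaf 1179))
(.node (.leaf 1178)
(.leaf 0)))
(.node (.node (.leaf 1251)
(.leaf 5342))
(.node (.leaf 1220)
(.leaf 0)))))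
(.node (.node (.node (.node (.leaf 16)
(.leaf 1196))
(.node (.leaf 1178)
(.leaf 0)))
(.node (.node (.leaf 1196)
(.leaf 5317))
(.node (.leaf 1178)
(.leaf 0))))
(.node (.node (.node (.leaf 3)
(.leaf 1175))
(.node (.leaf 1252)
(.leaf 0)))
(.node (.node (.leaf 1196)
(.leaf 5325))
(.node (.leaf 1163)
(.leaf 0))))))
(.node (.node (.node (.node (.node (.leaf 10)
(.leaf 1252))
(.node (.leaf 1196)
(.leaf 0)))
(.node (.node (.leaf 1157)
(.leaf 1251))
(.node (.leaf 1175)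
(.leaf 0))))
(.node (.node (.node (.leaf 10)
(.leaf 1159))
(.node (.leaf 1251)
(.leaf 0)))
(.node (.node (.leaf 1163)
(.leaf 5377))
(.node (.leaf 1252)
(.leaf 0)))))
(.node (.node (.node (.node (.leaf 10)
(.leaf 1178))
(.node (.leaf 1159)
(.leaf 0)))
(.node (.node (.leaf 1157)
(.leaf 5377))
(.node (.leaf 1196)
(.leaf 0))))
(.node (.node (.node (.leaf 178)
(.leaf 1178))
(.node (.leaf 1252)
(.leaf 0)))
(.node (.node (.leaf 1157)
(.leaf 5320))
(.node (.leaf 1251)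
(.leaf 0)))))))
(.node (.node (.node (.node (.node (.node (.leaf 10)
(.leaf 1178))
(.node (.leaf 1220)
(.leaf 5446)))
(.node (.node (.leaf 178)
(.leaf 1220))
(.node (.leaf 1195)
(.leaf 0))))
(.node (.node (.node (.leaf 3)
(.leaf 1178))
(.node (.leaf 1195)
(.leaf 0)))
(.node (.node (.leaf 1220)
(.leaf 5320))
(.node (.leaf 1196)
(.leaf 0)))))
(.node (.node (.node (.node (.leaf 3)
(.leaf 1365))
(.node (.leaf 1163)
(.leaf 0)))
(.node (.node (.leaf 1365)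
(.leaf 5377))
(.node (.leaf 1159)
(.leaf 0))))
(.node (.node (.node (.leaf 178)
(.leaf 1175))
(.node (.leaf 1163)
(.leaf 0)))
(.node (.node (.leaf 1178)
(.leaf 5325))
(.node (.leaf 1196)
(.leaf 0))))))
(.node (.node (.node (.node (.node (.leaf 3)
(.leaf 1179))
(.node (.leaf 1196)
(.leaf 0)))
(.node (.node (.leaf 1155)
(.leaf 5325))
(.node (.leaf 1220)
(.leaf 0))))
(.node (.node (.node (.leaf 10)
(.leaf 1177))
(.node (.leaf 1175)
(.leaf 0)))
(.node (.node (.leaf 1196)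
(.leaf 5320))
(.node (.leaf 1163)
(.leaf 0)))))
(.node (.node (.node (.node (.leaf 11)
(.leaf 1175))
(.node (.leaf 1251)
(.leaf 0)))
(.node (.node (.leaf 1252)
(.leaf 5325))
(.node (.leaf 1179)
(.leaf 0))))
(.node (.node (.node (.leaf 178)
(.leaf 1251))
(.node (.leaf 1175)
(.leaf 0)))
(.node (.node (.leaf 1196)
(.leaf 5446))
(.node (.leaf 1178)
(.leaf 0)))))))))))
(.node (.node (.node (.node (.node (.node (.node (.node (.node (.node (.leaf 3)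
(.leaf 1178))
(.node (.leaf 1220)
(.leaf 5320)))
(.node (.node (.leaf 178)
(.leaf 1175))
(.node (.leaf 1196)
(.leaf 0))))
(.node (.node (.node (.leaf 178)
(.leaf 1220))
(.node (.leaf 1159)
(.leaf 0)))
(.node (.node (.leaf 1178)
(.leaf 5325))
(.node (.leaf 1251)
(.leaf 0)))))
(.node (.node (.node (.node (.leaf 10)
(.leaf 1251))
(.node (.leaf 1195)
(.leaf 0)))
(.node (.node (.leaf 1157)
(.leaf 5315))
(.node (.leaf 1196)
(.leaf 0))))
(.node (.node (.node (.leaf 16)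
(.leaf 1163))
(.node (.leaf 1179)
(.leaf 0)))
(.node (.node (.leaf 1175)
(.leaf 5320))
(.node (.leaf 1196)
(.leaf 0))))))
(.node (.node (.node (.node (.node (.leaf 3)
(.leaf 1177))
(.node (.leaf 1163)
(.leaf 5446)))
(.node (.node (.leaf 1159)
(.leaf 1252))
(.node (.leaf 1196)
(.leaf 0))))
(.node (.node (.node (.leaf 178)
(.leaf 1365))
(.node (.leaf 1196)
(.leaf 0)))
(.node (.node (.leaf 1163)
(.leaf 5320))
(.node (.leaf 1195)
(.leaf 0)))))
(.node (.node (.node (.node (.leaf 16)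
(.leaf 1251))
(.node (.leaf 1179)
(.leaf 0)))
(.node (.node (.leaf 1158)
(.leaf 5342))
(.node (.leaf 1251)
(.leaf 0))))
(.node (.node (.node (.leaf 178)
(.leaf 1163))
(.node (.leaf 1220)
(.leaf 0)))
(.node (.node (.leaf 1179)
(.leaf 5325))
(.node (.leaf 1196)
(.leaf 0)))))))
(.node (.node (.node (.node (.node (.node (.leaf 3)
(.leaf 1195))
(.node (.leaf 1175)
(.leaf 5446)))
(.node (.node (.leaf 178)
(.leaf 1252))
(.node (.leaf 1220)
(.leaf 0))))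
(.node (.node (.node (.leaf 31)
(.leaf 1163))
(.node (.leaf 1252)
(.leaf 0)))
(.node (.node (.leaf 1251)
(.leaf 5325))
(.node (.leaf 1220)
(.leaf 0)))))
(.node (.node (.node (.node (.leaf 10)
(.leaf 1252))
(.node (.leaf 1179)
(.leaf 0)))
(.node (.node (.leaf 1158)
(.leaf 5325))
(.node (.leaf 1177)
(.leaf 0))))
(.node (.node (.node (.leaf 31)
(.leaf 1178))
(.node (.leaf 1251)
(.leaf 0)))
(.node (.node (.leaf 1220)
(.leaf 5446))
(.node (.leaf 1195)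
(.leaf 0))))))
(.node (.node (.node (.node (.node (.leaf 16)
(.leaf 1179))
(.node (.leaf 1220)
(.leaf 0)))
(.node (.node (.leaf 1163)
(.leaf 5317))
(.node (.leaf 1175)
(.leaf 0))))
(.node (.node (.node (.leaf 11)
(.leaf 1178))
(.node (.leaf 1179)
(.leaf 0)))
(.node (.node (.leaf 1157)
(.leaf 5325))
(.node (.leaf 1365)
(.leaf 0)))))
(.node (.node (.node (.node (.leaf 178)
(.leaf 1163))
(.node (.leaf 1179)
(.leaf 0)))
(.node (.node (.leaf 1175)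
(.leaf 5325))
(.node (.leaf 1163)
(.leaf 0))))
(.node (.node (.node (.leaf 178)
(.leaf 1178))
(.node (.leaf 1177)
(.leaf 0)))
(.node (.node (.leaf 1158)
(.leaf 5342))
(.node (.leaf 1179)
(.leaf 0))))))))
(.node (.node (.node (.node (.node (.node (.node (.leaf 10)
(.leaf 1175))
(.node (.leaf 1175)
(.leaf 5485)))
(.node (.node (.leaf 297)
(.leaf 1279))
(.node (.leaf 1196)
(.leaf 0))))
(.node (.node (.node (.leaf 58)
(.leaf 1279))
(.node (.leaf 1159)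
(.leaf 0)))
(.node (.node (.leaf 1163)
(.leaf 5317))
(.node (.leaf 1196)
(.leaf 0)))))
(.node (.node (.node (.node (.leaf 3)
(.leaf 1178))
(.node (.leaf 1178)
(.leaf 0)))
(.node (.node (.leaf 1155)
(.leaf 5320))
(.node (.leaf 1251)
(.leaf 0))))
(.node (.node (.node (.leaf 178)
(.leaf 1251))
(.node (.leaf 1178)
(.leaf 0)))
(.node (.node (.leaf 1178)
(.leaf 5325))
(.node (.leaf 1220)
(.leaf 0))))))
(.node (.node (.node (.node (.node (.leaf 10)
(.leaf 1178))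
(.node (.leaf 1220)
(.leaf 0)))
(.node (.node (.leaf 1191)
(.leaf 1251))
(.node (.leaf 1175)
(.leaf 0))))
(.node (.node (.node (.leaf 11)
(.leaf 1163))
(.node (.leaf 1178)
(.leaf 0)))
(.node (.node (.leaf 1252)
(.leaf 5320))
(.node (.leaf 1179)
(.leaf 0)))))
(.node (.node (.node (.node (.leaf 3)
(.leaf 1251))
(.node (.leaf 1177)
(.leaf 0)))
(.node (.node (.leaf 1191)
(.leaf 5320))
(.node (.leaf 1220)
(.leaf 0))))
(.node (.node (.node (.leaf 11)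
(.leaf 1252))
(.node (.leaf 1175)
(.leaf 0)))
(.node (.node (.leaf 1178)
(.leaf 5325))
(.node (.leaf 1195)
(.leaf 0)))))))
(.node (.node (.node (.node (.node (.node (.leaf 10)
(.leaf 1252))
(.node (.leaf 1156)
(.leaf 5325)))
(.node (.node (.leaf 178)
(.leaf 1179))
(.node (.leaf 1175)
(.leaf 0))))
(.node (.node (.node (.leaf 3)
(.leaf 1179))
(.node (.leaf 1178)
(.leaf 0)))
(.node (.node (.leaf 1196)
(.leaf 5485))
(.node (.leaf 1175)
(.leaf 0)))))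
(.node (.node (.node (.node (.leaf 31)
(.leaf 1179))
(.node (.leaf 1251)
(.leaf 0)))
(.node (.node (.leaf 1159)
(.leaf 5315))
(.node (.leaf 1196)
(.leaf 0))))
(.node (.node (.node (.leaf 297)
(.leaf 1196))
(.node (.leaf 1175)
(.leaf 0)))
(.node (.node (.leaf 1252)
(.leaf 5325))
(.node (.leaf 1220)
(.leaf 0))))))
(.node (.node (.node (.node (.node (.leaf 3)
(.leaf 1159))
(.node (.leaf 1220)
(.leaf 0)))
(.node (.node (.leaf 1175)
(.leaf 5315))
(.node (.leaf 1196)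
(.leaf 0))))
(.node (.node (.node (.leaf 10)
(.leaf 1252))
(.node (.leaf 1177)
(.leaf 0)))
(.node (.node (.leaf 1279)
(.leaf 5377))
(.node (.leaf 1175)
(.leaf 0)))))
(.node (.node (.node (.node (.leaf 3)
(.leaf 1179))
(.node (.leaf 1163)
(.leaf 0)))
(.node (.node (.leaf 1195)
(.leaf 5325))
(.node (.leaf 1179)
(.leaf 0))))
(.node (.node (.node (.leaf 58)
(.leaf 1179))
(.node (.leaf 1163)
(.leaf 0)))
(.node (.node (.leaf 1179)
(.leaf 5377))
(.node (.leaf 1251)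
(.leaf 0)))))))))
(.node (.node (.node (.node (.node (.node (.node (.node (.leaf 10)
(.leaf 1196))
(.node (.leaf 1196)
(.leaf 5446)))
(.node (.node (.leaf 178)
(.leaf 1195))
(.node (.leaf 1220)
(.leaf 0))))
(.node (.node (.node (.leaf 56)
(.leaf 1179))
(.node (.leaf 1178)
(.leaf 0)))
(.node (.node (.leaf 1178)
(.leaf 5325))
(.node (.leaf 1196)
(.leaf 0)))))
(.node (.node (.node (.node (.leaf 3)
(.leaf 1179))
(.node (.leaf 1220)
(.leaf 0)))
(.node (.node (.leaf 1160)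
(.leaf 5325))
(.node (.leaf 1159)
(.leaf 0))))
(.node (.node (.node (.leaf 3)
(.leaf 1163))
(.node (.leaf 1178)
(.leaf 0)))
(.node (.node (.leaf 1163)
(.leaf 5325))
(.node (.leaf 1251)
(.leaf 0))))))
(.node (.node (.node (.node (.node (.leaf 31)
(.leaf 1177))
(.node (.leaf 1179)
(.leaf 5446)))
(.node (.node (.leaf 1175)
(.leaf 1252))
(.node (.leaf 1179)
(.leaf 0))))
(.node (.node (.node (.leaf 3)
(.leaf 1178))
(.node (.leaf 1163)
(.leaf 0)))
(.node (.node (.leaf 1157)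
(.leaf 5325))
(.node (.leaf 1163)
(.leaf 0)))))
(.node (.node (.node (.node (.leaf 10)
(.leaf 1179))
(.node (.leaf 1179)
(.leaf 0)))
(.node (.node (.leaf 1196)
(.leaf 5320))
(.node (.leaf 1178)
(.leaf 0))))
(.node (.node (.node (.leaf 16)
(.leaf 1179))
(.node (.leaf 1220)
(.leaf 0)))
(.node (.node (.leaf 1178)
(.leaf 5446))
(.node (.leaf 1179)
(.leaf 0)))))))
(.node (.node (.node (.node (.node (.node (.leaf 11)
(.leaf 1163))
(.node (.leaf 1195)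
(.leaf 5446)))
(.node (.node (.leaf 178)
(.leaf 1179))
(.node (.leaf 1163)
(.leaf 0))))
(.node (.node (.node (.leaf 3)
(.leaf 1251))
(.node (.leaf 1178)
(.leaf 0)))
(.node (.node (.leaf 1157)
(.leaf 5325))
(.node (.leaf 1196)
(.leaf 0)))))
(.node (.node (.node (.node (.leaf 10)
(.leaf 1251))
(.node (.leaf 1177)
(.leaf 0)))
(.node (.node (.leaf 1177)
(.leaf 5320))
(.node (.leaf 1179)
(.leaf 0))))
(.node (.node (.node (.leaf 11)
(.leaf 1196))
(.node (.leaf 1175)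
(.leaf 0)))
(.node (.node (.leaf 1191)
(.leaf 5325))
(.node (.leaf 1175)
(.leaf 0))))))
(.node (.node (.node (.node (.node (.leaf 3)
(.leaf 1179))
(.node (.leaf 1175)
(.leaf 0)))
(.node (.node (.leaf 1156)
(.leaf 5335))
(.node (.leaf 1220)
(.leaf 0))))
(.node (.node (.node (.leaf 10)
(.leaf 1179))
(.node (.leaf 1179)
(.leaf 0)))
(.node (.node (.leaf 1279)
(.leaf 5325))
(.node (.leaf 1196)
(.leaf 0)))))
(.node (.node (.node (.node (.leaf 178)
(.leaf 1179))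
(.node (.leaf 1251)
(.leaf 0)))
(.node (.node (.leaf 1175)
(.leaf 5342))
(.node (.leaf 1251)
(.leaf 0))))
(.node (.node (.node (.leaf 58)
(.leaf 1177))
(.node (.leaf 1178)
(.leaf 0)))
(.node (.node (.leaf 1179)
(.leaf 5325))
(.node (.leaf 1196)
(.leaf 0))))))))
(.node (.node (.node (.node (.node (.node (.node (.leaf 10)
(.leaf 1196))
(.node (.leaf 1179)
(.leaf 5485)))
(.node (.node (.leaf 3)
(.leaf 1195))
(.node (.leaf 1195)
(.leaf 0))))
(.node (.node (.node (.leaf 16)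
(.leaf 1177))
(.node (.leaf 1195)
(.leaf 0)))
(.node (.node (.leaf 1159)
(.leaf 5325))
(.node (.leaf 1163)
(.leaf 0)))))
(.node (.node (.node (.node (.leaf 31)
(.leaf 1252))
(.node (.leaf 1179)
(.leaf 0)))
(.node (.node (.leaf 1220)
(.leaf 5342))
(.node (.leaf 1175)
(.leaf 0))))
(.node (.node (.node (.leaf 16)
(.leaf 1177))
(.node (.leaf 1251)
(.leaf 0)))
(.node (.node (.leaf 1175)
(.leaf 5342))
(.node (.leaf 1196)
(.leaf 0))))))
(.node (.node (.node (.node (.node (.leaf 11)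
(.leaf 1220))
(.node (.leaf 1160)
(.leaf 0)))
(.node (.node (.leaf 1158)
(.leaf 1179))
(.node (.leaf 1163)
(.leaf 0))))
(.node (.node (.node (.leaf 10)
(.leaf 1251))
(.node (.leaf 1251)
(.leaf 0)))
(.node (.node (.leaf 1220)
(.leaf 5320))
(.node (.leaf 1175)
(.leaf 0)))))
(.node (.node (.node (.node (.leaf 10)
(.leaf 1177))
(.node (.leaf 1179)
(.leaf 0)))
(.node (.node (.leaf 1157)
(.leaf 5377))
(.node (.leaf 1163)
(.leaf 0))))
(.node (.node (.node (.leaf 178)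
(.leaf 1179))
(.node (.leaf 1178)
(.leaf 0)))
(.node (.node (.leaf 1159)
(.leaf 5446))
(.node (.leaf 1196)
(.leaf 0)))))))
(.node (.node (.node (.node (.node (.node (.leaf 3)
(.leaf 1252))
(.node (.leaf 1175)
(.leaf 5485)))
(.node (.node (.leaf 178)
(.leaf 1178))
(.node (.leaf 1178)
(.leaf 0))))
(.node (.node (.node (.leaf 16)
(.leaf 1179))
(.node (.leaf 1196)
(.leaf 0)))
(.node (.node (.leaf 1179)
(.leaf 5320))
(.node (.leaf 1196)
(.leaf 0)))))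
(.node (.node (.node (.node (.leaf 10)
(.leaf 1279))
(.node (.leaf 1196)
(.leaf 0)))
(.node (.node (.leaf 1155)
(.leaf 5320))
(.node (.leaf 1159)
(.leaf 0))))
(.node (.node (.node (.leaf 3)
(.leaf 1251))
(.node (.leaf 1220)
(.leaf 0)))
(.node (.node (.leaf 1191)
(.leaf 5485))
(.node (.leaf 1220)
(.leaf 0))))))
(.node (.node (.node (.node (.node (.leaf 3)
(.leaf 1196))
(.node (.leaf 1220)
(.leaf 0)))
(.node (.node (.leaf 1179)
(.leaf 5313))
(.node (.leaf 1179)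
(.leaf 0))))
(.node (.node (.node (.leaf 10)
(.leaf 1179))
(.node (.leaf 1157)
(.leaf 0)))
(.node (.node (.leaf 1196)
(.leaf 5342))
(.node (.leaf 1251)
(.leaf 0)))))
(.node (.node (.node (.node (.leaf 16)
(.leaf 1252))
(.node (.leaf 1251)
(.leaf 0)))
(.node (.node (.leaf 1179)
(.leaf 5317))
(.node (.leaf 1159)
(.leaf 0))))
(.node (.node (.node (.leaf 11)
(.leaf 1179))
(.node (.leaf 1220)
(.leaf 0)))
(.node (.node (.leaf 1220)
(.leaf 5325))
(.node (.leaf 1220)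
(.leaf 0))))))))))
(.node (.node (.node (.node (.node (.node (.node (.node (.node (.leaf 1)
(.leaf 1220))
(.node (.leaf 1175)
(.leaf 5446)))
(.node (.node (.leaf 178)
(.leaf 1175))
(.node (.leaf 1196)
(.leaf 0))))
(.node (.node (.node (.leaf 16)
(.leaf 1179))
(.node (.leaf 1178)
(.leaf 0)))
(.node (.node (.leaf 1179)
(.leaf 5325))
(.node (.leaf 1196)
(.leaf 0)))))
(.node (.node (.node (.node (.leaf 11)
(.leaf 1178))
(.node (.leaf 1195)
(.leaf 0)))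
(.node (.node (.leaf 1158)
(.leaf 5315))
(.node (.leaf 1365)
(.leaf 0))))
(.node (.node (.node (.leaf 178)
(.leaf 1196))
(.node (.leaf 1179)
(.leaf 0)))
(.node (.node (.leaf 1220)
(.leaf 5325))
(.node (.leaf 1251)
(.leaf 0))))))
(.node (.node (.node (.node (.node (.leaf 10)
(.leaf 1179))
(.node (.leaf 1156)
(.leaf 5485)))
(.node (.node (.leaf 1157)
(.leaf 1252))
(.node (.leaf 1220)
(.leaf 0))))
(.node (.node (.node (.leaf 10)
(.leaf 1178))
(.node (.leaf 1163)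
(.leaf 0)))
(.node (.node (.leaf 1251)
(.leaf 5320))
(.node (.leaf 1220)
(.leaf 0)))))
(.node (.node (.node (.node (.leaf 16)
(.leaf 1251))
(.node (.leaf 1179)
(.leaf 0)))
(.node (.node (.leaf 1175)
(.leaf 5325))
(.node (.leaf 1195)
(.leaf 0))))
(.node (.node (.node (.leaf 178)
(.leaf 1178))
(.node (.leaf 1179)
(.leaf 0)))
(.node (.node (.leaf 1179)
(.leaf 5325))
(.node (.leaf 1220)
(.leaf 0)))))))
(.node (.node (.node (.node (.node (.node (.leaf 10)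
(.leaf 1163))
(.node (.leaf 1196)
(.leaf 5325)))
(.node (.node (.leaf 178)
(.leaf 1196))
(.node (.leaf 1196)
(.leaf 0))))
(.node (.node (.node (.leaf 10)
(.leaf 1220))
(.node (.leaf 1179)
(.leaf 0)))
(.node (.node (.leaf 1179)
(.leaf 5320))
(.node (.leaf 1178)
(.leaf 0)))))
(.node (.node (.node (.node (.leaf 10)
(.leaf 1159))
(.node (.leaf 1159)
(.leaf 0)))
(.node (.node (.leaf 1191)
(.leaf 5325))
(.node (.leaf 1365)
(.leaf 0))))
(.node (.node (.node (.leaf 178)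
(.leaf 1220))
(.node (.leaf 1179)
(.leaf 0)))
(.node (.node (.leaf 1252)
(.leaf 5320))
(.node (.leaf 1163)
(.leaf 0))))))
(.node (.node (.node (.node (.node (.leaf 16)
(.leaf 1159))
(.node (.leaf 1175)
(.leaf 0)))
(.node (.node (.leaf 1157)
(.leaf 5315))
(.node (.leaf 1220)
(.leaf 0))))
(.node (.node (.node (.leaf 10)
(.leaf 1179))
(.node (.leaf 1179)
(.leaf 0)))
(.node (.node (.leaf 1220)
(.leaf 5377))
(.node (.leaf 1195)
(.leaf 0)))))
(.node (.node (.node (.node (.leaf 11)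
(.leaf 1178))
(.node (.leaf 1178)
(.leaf 0)))
(.node (.node (.leaf 1155)
(.leaf 5320))
(.node (.leaf 1163)
(.leaf 0))))
(.node (.node (.node (.leaf 16)
(.leaf 1251))
(.node (.leaf 1177)
(.leaf 0)))
(.node (.node (.leaf 1163)
(.leaf 5320))
(.node (.leaf 1163)
(.leaf 0))))))))
(.node (.node (.node (.node (.node (.node (.node (.leaf 10)
(.leaf 1179))
(.node (.leaf 1220)
(.leaf 5732)))
(.node (.node (.leaf 10)
(.leaf 1252))
(.node (.leaf 1163)
(.leaf 0))))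
(.node (.node (.node (.leaf 3)
(.leaf 1159))
(.node (.leaf 1178)
(.leaf 0)))
(.node (.node (.leaf 1179)
(.leaf 5325))
(.node (.leaf 1196)
(.leaf 0)))))
(.node (.node (.node (.node (.leaf 10)
(.leaf 1178))
(.node (.leaf 1178)
(.leaf 0)))
(.node (.node (.leaf 1195)
(.leaf 5320))
(.node (.leaf 1252)
(.leaf 0))))
(.node (.node (.node (.leaf 3)
(.leaf 1195))
(.node (.leaf 1179)
(.leaf 0)))
(.node (.node (.leaf 1196)
(.leaf 5325))
(.node (.leaf 1175)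
(.leaf 0))))))
(.node (.node (.node (.node (.node (.leaf 10)
(.leaf 1251))
(.node (.leaf 1195)
(.leaf 0)))
(.node (.node (.leaf 1160)
(.leaf 1365))
(.node (.leaf 1220)
(.leaf 0))))
(.node (.node (.node (.leaf 297)
(.leaf 1163))
(.node (.leaf 1179)
(.leaf 0)))
(.node (.node (.leaf 1178)
(.leaf 5377))
(.node (.leaf 1195)
(.leaf 0)))))
(.node (.node (.node (.node (.leaf 10)
(.leaf 1178))
(.node (.leaf 1179)
(.leaf 0)))
(.node (.node (.leaf 1196)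
(.leaf 5377))
(.node (.leaf 1163)
(.leaf 0))))
(.node (.node (.node (.leaf 61)
(.leaf 1251))
(.node (.leaf 1179)
(.leaf 0)))
(.node (.node (.leaf 1178)
(.leaf 5644))
(.node (.leaf 1159)
(.leaf 0)))))))
(.node (.node (.node (.node (.node (.node (.leaf 10)
(.leaf 1179))
(.node (.leaf 1220)
(.leaf 5446)))
(.node (.node (.leaf 178)
(.leaf 1179))
(.node (.leaf 1179)
(.leaf 0))))
(.node (.node (.node (.leaf 297)
(.leaf 1178))
(.node (.leaf 1179)
(.leaf 0)))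
(.node (.node (.leaf 1178)
(.leaf 5320))
(.node (.leaf 1220)
(.leaf 0)))))
(.node (.node (.node (.node (.leaf 11)
(.leaf 1178))
(.node (.leaf 1178)
(.leaf 0)))
(.node (.node (.leaf 1163)
(.leaf 5317))
(.node (.leaf 1175)
(.leaf 0))))
(.node (.node (.node (.leaf 31)
(.leaf 1251))
(.node (.leaf 1175)
(.leaf 0)))
(.node (.node (.leaf 1163)
(.leaf 5446))
(.node (.leaf 1178)
(.leaf 0))))))
(.node (.node (.node (.node (.node (.leaf 31)
(.leaf 1163))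
(.node (.leaf 1220)
(.leaf 0)))
(.node (.node (.leaf 1178)
(.leaf 5315))
(.node (.leaf 1195)
(.leaf 0))))
(.node (.node (.node (.leaf 178)
(.leaf 1365))
(.node (.leaf 1251)
(.leaf 0)))
(.node (.node (.leaf 1196)
(.leaf 5325))
(.node (.leaf 1179)
(.leaf 0)))))
(.node (.node (.node (.node (.leaf 10)
(.leaf 1252))
(.node (.leaf 1179)
(.leaf 0)))
(.node (.node (.leaf 1157)
(.leaf 5342))
(.node (.leaf 1179)
(.leaf 0))))
(.node (.node (.node (.leaf 10)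
(.leaf 1179))
(.node (.leaf 1159)
(.leaf 0)))
(.node (.node (.leaf 1157)
(.leaf 5485))
(.node (.leaf 1178)
(.leaf 0)))))))))
(.node (.node (.node (.node (.node (.node (.node (.node (.leaf 31)
(.leaf 1252))
(.node (.leaf 1196)
(.leaf 5320)))
(.node (.node (.leaf 178)
(.leaf 1175))
(.node (.leaf 1178)
(.leaf 0))))
(.node (.node (.node (.leaf 58)
(.leaf 1251))
(.node (.leaf 1159)
(.leaf 0)))
(.node (.node (.leaf 1178)
(.leaf 5325))
(.node (.leaf 1163)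
(.leaf 0)))))
(.node (.node (.node (.node (.leaf 10)
(.leaf 1251))
(.node (.leaf 1179)
(.leaf 0)))
(.node (.node (.leaf 1160)
(.leaf 5320))
(.node (.leaf 1178)
(.leaf 0))))
(.node (.node (.node (.leaf 3)
(.leaf 1163))
(.node (.leaf 1163)
(.leaf 0)))
(.node (.node (.leaf 1175)
(.leaf 5325))
(.node (.leaf 1175)
(.leaf 0))))))
(.node (.node (.node (.node (.node (.leaf 10)
(.leaf 1251))
(.node (.leaf 1163)
(.leaf 0)))
(.node (.node (.leaf 1179)
(.leaf 1178))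
(.node (.leaf 1251)
(.leaf 0))))
(.node (.node (.node (.leaf 58)
(.leaf 1178))
(.node (.leaf 1195)
(.leaf 0)))
(.node (.node (.leaf 1191)
(.leaf 5325))
(.node (.leaf 1163)
(.leaf 0)))))
(.node (.node (.node (.node (.leaf 10)
(.leaf 1179))
(.node (.leaf 1252)
(.leaf 0)))
(.node (.node (.leaf 1220)
(.leaf 5315))
(.node (.leaf 1177)
(.leaf 0))))
(.node (.node (.node (.leaf 16)
(.leaf 1179))
(.node (.leaf 1179)
(.leaf 0)))
(.node (.node (.leaf 1177)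
(.leaf 5325))
(.node (.leaf 1179)
(.leaf 0)))))))
(.node (.node (.node (.node (.node (.node (.leaf 10)
(.leaf 1179))
(.node (.leaf 1196)
(.leaf 5320)))
(.node (.node (.leaf 297)
(.leaf 1251))
(.node (.leaf 1220)
(.leaf 0))))
(.node (.node (.node (.leaf 10)
(.leaf 1159))
(.node (.leaf 1179)
(.leaf 0)))
(.node (.node (.leaf 1157)
(.leaf 5320))
(.node (.leaf 1196)
(.leaf 0)))))
(.node (.node (.node (.node (.leaf 31)
(.leaf 1279))
(.node (.leaf 1196)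
(.leaf 0)))
(.node (.node (.leaf 1158)
(.leaf 5320))
(.node (.leaf 1178)
(.leaf 0))))
(.node (.node (.node (.leaf 178)
(.leaf 1179))
(.node (.leaf 1179)
(.leaf 0)))
(.node (.node (.leaf 1159)
(.leaf 5325))
(.node (.leaf 1220)
(.leaf 0))))))
(.node (.node (.node (.node (.node (.leaf 31)
(.leaf 1179))
(.node (.leaf 1220)
(.leaf 0)))
(.node (.node (.leaf 1175)
(.leaf 5325))
(.node (.leaf 1175)
(.leaf 0))))
(.node (.node (.node (.leaf 10)
(.leaf 1163))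
(.node (.leaf 1251)
(.leaf 0)))
(.node (.node (.leaf 1179)
(.leaf 5377))
(.node (.leaf 1220)
(.leaf 0)))))
(.node (.node (.node (.node (.leaf 31)
(.leaf 1163))
(.node (.leaf 1220)
(.leaf 0)))
(.node (.node (.leaf 1220)
(.leaf 5320))
(.node (.leaf 1159)
(.leaf 0))))
(.node (.node (.node (.leaf 56)
(.leaf 1179))
(.node (.leaf 1196)
(.leaf 0)))
(.node (.node (.leaf 1220)
(.leaf 5446))
(.node (.leaf 1163)
(.leaf 0))))))))
(.node (.node (.node (.node (.node (.node (.node (.leaf 16)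
(.leaf 1179))
(.node (.leaf 1179)
(.leaf 5325)))
(.node (.node (.leaf 178)
(.leaf 1365))
(.node (.leaf 1163)
(.leaf 0))))
(.node (.node (.node (.leaf 3)
(.leaf 1179))
(.node (.leaf 1179)
(.leaf 0)))
(.node (.node (.leaf 1178)
(.leaf 5325))
(.node (.leaf 1195)
(.leaf 0)))))
(.node (.node (.node (.node (.leaf 11)
(.leaf 1251))
(.node (.leaf 1177)
(.leaf 0)))
(.node (.node (.leaf 1195)
(.leaf 5320))
(.node (.leaf 1159)
(.leaf 0))))
(.node (.node (.node (.leaf 10)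
(.leaf 1177))
(.node (.leaf 1163)
(.leaf 0)))
(.node (.node (.leaf 1163)
(.leaf 5325))
(.node (.leaf 1196)
(.leaf 0))))))
(.node (.node (.node (.node (.node (.leaf 10)
(.leaf 1178))
(.node (.leaf 1163)
(.leaf 0)))
(.node (.node (.leaf 1157)
(.leaf 1179))
(.node (.leaf 1175)
(.leaf 0))))
(.node (.node (.node (.leaf 10)
(.leaf 1279))
(.node (.leaf 1179)
(.leaf 0)))
(.node (.node (.leaf 1251)
(.leaf 5377))
(.node (.leaf 1251)
(.leaf 0)))))
(.node (.node (.node (.node (.leaf 10)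
(.leaf 1179))
(.node (.leaf 1159)
(.leaf 0)))
(.node (.node (.leaf 1157)
(.leaf 5320))
(.node (.leaf 1175)
(.leaf 0))))
(.node (.node (.node (.leaf 178)
(.leaf 1365))
(.node (.leaf 1195)
(.leaf 0)))
(.node (.node (.leaf 1158)
(.leaf 5325))
(.node (.leaf 1251)
(.leaf 0)))))))
(.node (.node (.node (.node (.node (.node (.leaf 16)
(.leaf 1252))
(.node (.leaf 1196)
(.leaf 5446)))
(.node (.node (.leaf 178)
(.leaf 1179))
(.node (.leaf 1178)
(.leaf 0))))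
(.node (.node (.node (.leaf 178)
(.leaf 1175))
(.node (.leaf 1251)
(.leaf 0)))
(.node (.node (.leaf 1251)
(.leaf 5377))
(.node (.leaf 1220)
(.leaf 0)))))
(.node (.node (.node (.node (.leaf 58)
(.leaf 1179))
(.node (.leaf 1196)
(.leaf 0)))
(.node (.node (.leaf 1179)
(.leaf 5320))
(.node (.leaf 1159)
(.leaf 0))))
(.node (.node (.node (.leaf 178)
(.leaf 1163))
(.node (.leaf 1196)
(.leaf 0)))
(.node (.node (.leaf 1365)
(.leaf 5325))
(.node (.leaf 1195)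
(.leaf 0))))))
(.node (.node (.node (.node (.node (.leaf 10)
(.leaf 1178))
(.node (.leaf 1220)
(.leaf 0)))
(.node (.node (.leaf 1279)
(.leaf 5315))
(.node (.leaf 1220)
(.leaf 0))))
(.node (.node (.node (.leaf 10)
(.leaf 1175))
(.node (.leaf 1191)
(.leaf 0)))
(.node (.node (.leaf 1195)
(.leaf 5325))
(.node (.leaf 1163)
(.leaf 0)))))
(.node (.node (.node (.node (.leaf 11)
(.leaf 1179))
(.node (.leaf 1252)
(.leaf 0)))
(.node (.node (.leaf 1251)
(.leaf 5342))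
(.node (.leaf 1179)
(.leaf 0))))
(.node (.node (.node (.leaf 10)
(.leaf 1251))
(.node (.leaf 1196)
(.leaf 0)))
(.node (.node (.leaf 1195)
(.leaf 5325))
(.node (.leaf 1179)
(.leaf 0))))))))))))))

/-- The generators: a code and an involution. -/
def orbGens1 : List (ℕ × ℕ) :=
  [(0, 0),
   (0, 1),
   (0, 2),
   (0, 5),
   (3584, 56),
   (0, 61),
   (2816, 145),
   (0, 1155)]

/-- Root (6303 for the identity), orbit length, order, word of a transporter, count. -/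
def orbRows1 : List (ℕ × ℕ × ℕ × List ℕ × ℕ) :=
  [(6303, 1, 2, [], 96),
   (0, 1, 1, [], 128),
   (1, 8, 2, [0], 0),
   (2, 6, 2, [1], 0),
   (3, 192, 3, [4], 128),
   (10, 384, 5, [4, 1], 128),
   (11, 96, 4, [0, 4], 0),
   (16, 96, 4, [4, 0, 0], 0),
   (31, 48, 4, [0, 4, 1], 128),
   (56, 12, 2, [0, 4, 0, 0], 16),
   (58, 48, 4, [2, 4, 0, 0], 0),
   (61, 24, 2, [0, 4, 1, 0], 16),
   (178, 192, 6, [4, 3, 2, 4], 64),
   (297, 48, 4, [4, 2, 3, 4, 0], 64),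
   (1155, 12, 2, [], 0),
   (1156, 24, 2, [0], 0),
   (1157, 96, 4, [1], 0),
   (1158, 48, 4, [2], 0),
   (1159, 192, 6, [4], 0),
   (1160, 48, 2, [0, 0], 0),
   (1163, 384, 12, [4, 0], 128),
   (1175, 384, 8, [4, 2], 128),
   (1177, 96, 4, [0, 4], 0),
   (1178, 384, 10, [1, 4], 0),
   (1179, 768, 10, [2, 4], 0),
   (1185, 12, 2, [1, 1, 0], 0),
   (1191, 24, 2, [2, 2, 0], 0),
   (1195, 192, 8, [1, 4, 0], 0),
   (1196, 384, 12, [2, 4, 0], 0),
   (1220, 384, 12, [0, 4, 1], 128),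
   (1251, 384, 6, [0, 0, 4], 0),
   (1252, 192, 4, [1, 0, 4], 64),
   (1279, 48, 4, [0, 4, 0, 0], 0),
   (1308, 6, 2, [1, 1, 2, 0], 0),
   (1365, 96, 4, [0, 4, 0, 1], 0),
   (5313, 12, 2, [], 0),
   (5315, 48, 4, [1], 0),
   (5317, 24, 2, [0, 0], 0),
   (5320, 192, 6, [4, 0], 0),
   (5325, 384, 6, [4, 1], 0),
   (5335, 4, 2, [1, 1, 0], 0),
   (5342, 96, 4, [0, 4, 0], 0),
   (5377, 48, 4, [1, 4, 2], 0),
   (5398, 2, 2, [1, 1, 2, 0], 0),
   (5446, 96, 4, [4, 3, 2, 1], 0),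
   (5485, 48, 4, [4, 1, 3, 2], 0),
   (5644, 24, 2, [0, 4, 3, 2, 1], 0),
   (5732, 12, 2, [0, 4, 1, 3, 2], 0)]

end CfsgLib.J4Type.Order
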