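import Cfsg.Agent.Lib.J4Type.Order.Code

/-!
The orbits of the stabiliser of representative 2 on the 6303 involutions.
-/

set_option autoImplicit false
set_option maxRecDepth 100000

namespace CfsgLib.J4Type.Order

open CfsgLib.Fusion.TableSylow (Tree Dict)

/-- Entries `i + 8192 * (0 or 1 + 16 * parent position + generator)`. -/
def orbTree2 : Tree :=
(.node (.node (.node (.node (.node (.node (.node (.node (.node (.node (.node (.node (.node (.leaf 0)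
(.leaf 0x1f5f0a2e))
(.node (.leaf 0xf9527c8)
(.leaf 0x2fdd3872)))
(.node (.node (.leaf 0x75f2417)
(.leaf 0x24f50a3c))
(.node (.leaf 0x14aa8cce)
(.leaf 0))))
(.node (.node (.node (.leaf 0x26ce1b7)
(.leaf 0x20e2d054))
(.node (.leaf 0x10fb072e)
(.leaf 0)))
(.node (.node (.leaf 0xb3aae10)
(.leaf 0x2aa095a4))
(.node (.leaf 0x1a24a4c2)
(.leaf 0)))))
(.node (.node (.node (.node (.leaf 0x1aee109)
(.leaf 0x1ffb078c))
(.node (.leaf 0x102128f7)
(.leaf 0)))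
(.node (.node (.leaf 0x9e4c68c)
(.leaf 0x29dcd4ff))
(.node (.leaf 0x18decfd3)
(.leaf 0))))
(.node (.node (.node (.leaf 0x59b0343)
(.leaf 0x2220f082))
(.node (.leaf 0x1214ccff)
(.leaf 0)))
(.node (.node (.leaf 0xc390d76)
(.leaf 0x2bef14cd))
(.node (.leaf 0x1d470a41)
(.leaf 0))))))
(.node (.node (.node (.node (.node (.leaf 0x5a6353)
(.leaf 0x1f9eed09))
(.node (.leaf 0xfd0af27)
(.leaf 0x30f6f883)))
(.node (.node (.leaf 0x8d68475)
(.leaf 0x2896ed3c))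
(.node (.leaf 0x1894cca2)
(.leaf 0))))
(.node (.node (.node (.leaf 0x4b520b0)
(.leaf 0x215c69f3))
(.node (.leaf 0x1166e810)
(.leaf 0)))
(.node (.node (.leaf 0xb9aacea)
(.leaf 0x2b2c573e))
(.node (.leaf 0x1cfe24e6)
(.leaf 0)))))
(.node (.node (.node (.node (.leaf 0x1f6e18b)
(.leaf 0x2072ab3a))
(.node (.leaf 0x108aab0b)
(.leaf 0)))
(.node (.node (.leaf 0xafe249c)
(.leaf 0x2a56b683))
(.node (.leaf 0x1968d323)
(.leaf 0))))
(.node (.node (.node (.leaf 0x6f6e3ca)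
(.leaf 0x237cea4e))
(.node (.leaf 0x13210e9f)
(.leaf 0)))
(.node (.node (.leaf 0xd3ab1a7)
(.leaf 0x2ecad6d4))
(.node (.leaf 0x1e151204)
(.leaf 0)))))))
(.node (.node (.node (.node (.node (.node (.leaf 0x2e626e)
(.leaf 0x1f7d2526))
(.node (.leaf 0xfb0c591)
(.leaf 0x300ed625)))
(.node (.node (.leaf 0x7a66459)
(.leaf 0x2866673a))
(.node (.leaf 0x187e24de)
(.leaf 0))))
(.node (.node (.node (.leaf 0x316e094)
(.leaf 0x2124ea02))
(.node (.leaf 0x1130e85a)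
(.leaf 0)))
(.node (.node (.leaf 0xb5f1143)
(.leaf 0x2ad47839))
(.node (.leaf 0x1afecf3d)
(.leaf 0)))))
(.node (.node (.node (.node (.leaf 0x1cd01ef)
(.leaf 0x202ae635))
(.node (.leaf 0x10532b04)
(.leaf 0)))
(.node (.node (.leaf 0xa14c543)
(.leaf 0x2a3934f2))
(.node (.leaf 0x19190c46)
(.leaf 0))))
(.node (.node (.node (.leaf 0x67f00cb)
(.leaf 0x22a6d110))
(.node (.leaf 0x12a8d371)
(.leaf 0)))
(.node (.node (.leaf 0xc990fa8)
(.leaf 0x2cecb5c2))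
(.node (.leaf 0x1d95323c)
(.leaf 0))))))
(.node (.node (.node (.node (.node (.leaf 0xd52189)
(.leaf 0x1fbeab24))
(.node (.leaf 0xff04ed8)
(.leaf 0)))
(.node (.node (.leaf 0x95b088f)
(.leaf 0x294705f9))
(.node (.leaf 0x18b72773)
(.leaf 0))))
(.node (.node (.node (.leaf 0x564e222)
(.leaf 0x21b6ce09))
(.node (.leaf 0x11c07375)
(.leaf 0)))
(.node (.node (.leaf 0xbdcc7e5)
(.leaf 0x2b88b65e))
(.node (.leaf 0x1d16d351)
(.leaf 0)))))
(.node (.node (.node (.node (.leaf 0x22ee2d9)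
(.leaf 0x20acaf1e))
(.node (.leaf 0x10bcaf36)
(.leaf 0)))
(.node (.node (.leaf 0xb14adec)
(.leaf 0x2a78f77a))
(.node (.leaf 0x19c30afb)
(.leaf 0))))
(.node (.node (.node (.leaf 0x7330482)
(.leaf 0x243b2b1a))
(.node (.leaf 0x13de9011)
(.leaf 0)))
(.node (.node (.leaf 0xf7e24ad)
(.leaf 0x2f0f1620))
(.node (.leaf 0x1f46d1ec)
(.leaf 0))))))))
(.node (.node (.node (.node (.node (.node (.node (.leaf 0x23217e)
(.leaf 0x1f6c7045))
(.node (.leaf 0xfa305c9)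
(.leaf 0x2fef17ef)))
(.node (.node (.leaf 0x7830219)
(.leaf 0x283f0509))
(.node (.leaf 0x15211408)
(.leaf 0))))
(.node (.node (.node (.leaf 0x2aea240)
(.leaf 0x210ac61f))
(.node (.leaf 0x11192edb)
(.leaf 0)))
(.node (.node (.leaf 0xb4a53f8)
(.leaf 0x2abaf792))
(.node (.leaf 0x1a792e29)
(.leaf 0)))))
(.node (.node (.node (.node (.leaf 0x1bec0ec)
(.leaf 0x200f27e3))
(.node (.leaf 0x103a682c)
(.leaf 0)))
(.node (.node (.leaf 0x9fca4d2)
(.leaf 0x2a2c5540))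
(.node (.leaf 0x18f86c06)
(.leaf 0))))
(.node (.node (.node (.leaf 0x624a137)
(.leaf 0x224cb2c4))
(.node (.leaf 0x1249072f)
(.leaf 0)))
(.node (.node (.leaf 0xc6cc6e1)
(.leaf 0x2c531623))
(.node (.leaf 0x1d690768)
(.leaf 0))))))
(.node (.node (.node (.node (.node (.leaf 0x80a2d1)
(.leaf 0x1facd1f3))
(.node (.leaf 0xfe265c5)
(.leaf 0)))
(.node (.node (.leaf 0x925288b)
(.leaf 0x28c52778))
(.node (.leaf 0x18a2ef5a)
(.leaf 0))))
(.node (.node (.node (.leaf 0x4dcc44e)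
(.leaf 0x2180cb39))
(.node (.leaf 0x118ecdb0)
(.leaf 0)))
(.node (.node (.leaf 0xbb52780)
(.leaf 0x2b50f584))
(.node (.leaf 0x1d0893a4)
(.leaf 0)))))
(.node (.node (.node (.node (.leaf 0x2088144)
(.leaf 0x208f11a8))
(.node (.leaf 0x10a30c7d)
(.leaf 0)))
(.node (.node (.leaf 0xb090567)
(.leaf 0x2a66d66e))
(.node (.leaf 0x198d052c)
(.leaf 0))))
(.node (.node (.node (.leaf 0x7292288)
(.leaf 0x23dccbb1))
(.node (.leaf 0x136728b4)
(.leaf 0)))
(.node (.node (.leaf 0xe0d2992)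
(.leaf 0x2eea7528))
(.node (.leaf 0x1f3e24ec)
(.leaf 0)))))))
(.node (.node (.node (.node (.node (.node (.leaf 0x43241d)
(.leaf 0x1f8ec766))
(.node (.leaf 0xfc0ab6d)
(.leaf 0x3035385a)))
(.node (.node (.leaf 0x8ab246c)
(.leaf 0x28772f1c))
(.node (.leaf 0x188906ce)
(.leaf 0))))
(.node (.node (.node (.leaf 0x4a3019e)
(.leaf 0x21430680))
(.node (.leaf 0x114acf1b)
(.leaf 0)))
(.node (.node (.leaf 0xb78f1f8)
(.leaf 0x2b053701))
(.node (.leaf 0x1b86c873)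
(.leaf 0)))))
(.node (.node (.node (.node (.leaf 0x1e10196)
(.leaf 0x20488bb6))
(.node (.leaf 0x106cf37e)
(.leaf 0)))
(.node (.node (.leaf 0xa33292b)
(.leaf 0x2a46955e))
(.node (.leaf 0x193d2f8a)
(.leaf 0))))
(.node (.node (.node (.leaf 0x6a0e0b8)
(.leaf 0x232cd09a))
(.node (.leaf 0x12e30625)
(.leaf 0)))
(.node (.node (.leaf 0xce2b080)
(.leaf 0x2eb735d7))
(.node (.leaf 0x1dd2eaec)
(.leaf 0))))))
(.node (.node (.node (.node (.node (.leaf 0x1a2c2c9)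
(.leaf 0x1fd6f26b))
(.node (.leaf 0x100b1315)
(.leaf 0)))
(.node (.node (.leaf 0x9a504fc)
(.leaf 0x29a31609))
(.node (.leaf 0x18c84dbe)
(.leaf 0))))
(.node (.node (.node (.leaf 0x579032a)
(.leaf 0x21f90a23))
(.node (.leaf 0x11e8f41d)
(.leaf 0)))
(.node (.node (.leaf 0xc0f349b)
(.leaf 0x2bbcf5b8))
(.node (.leaf 0x1d307153)
(.leaf 0)))))
(.node (.node (.node (.node (.leaf 0x246c12f)
(.leaf 0x20c92fee))
(.node (.leaf 0x10deccf3)
(.leaf 0)))
(.node (.node (.leaf 0xb250c6c)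
(.leaf 0x2a8c7619))
(.node (.leaf 0x19faec48)
(.leaf 0))))
(.node (.node (.node (.leaf 0x7484418)
(.leaf 0x2486ea63))
(.node (.leaf 0x14612c8a)
(.leaf 0)))
(.node (.node (.leaf 0xf892e99)
(.leaf 0x2f5b1634))
(.node (.leaf 0x1f52c50e)
(.leaf 0)))))))))
(.node (.node (.node (.node (.node (.node (.node (.node (.leaf 0x1e8007)
(.leaf 0x1f6729da))
(.node (.leaf 0xf9a8c2b)
(.leaf 0x2fe4f881)))
(.node (.node (.leaf 0x772c209)
(.leaf 0x25991104))
(.node (.leaf 0x14d128e7)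
(.leaf 0))))
(.node (.node (.node (.leaf 0x298c2d4)
(.leaf 0x20fac638))
(.node (.leaf 0x110f2d55)
(.leaf 0)))
(.node (.node (.leaf 0xb4313c3)
(.leaf 0x2ab134df))
(.node (.leaf 0x1a40cf4e)
(.leaf 0)))))
(.node (.node (.node (.node (.leaf 0x1b64122)
(.leaf 0x200507a9))
(.node (.leaf 0x102a736d)
(.leaf 0)))
(.node (.node (.leaf 0x9ef05bf)
(.leaf 0x29f6b50f))
(.node (.leaf 0x18ef1421)
(.leaf 0))))
(.node (.node (.node (.leaf 0x61e2043)
(.leaf 0x2232eea1))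
(.node (.leaf 0x12250e15)
(.leaf 0)))
(.node (.node (.leaf 0xc52ada9)
(.leaf 0x2c1f170e))
(.node (.leaf 0x1d56a9dc)
(.leaf 0))))))
(.node (.node (.node (.node (.node (.leaf 0x6e411a)
(.leaf 0x1fa6eb36))
(.node (.leaf 0xfdb2598)
(.leaf 0x3103374c)))
(.node (.node (.leaf 0x90f0753)
(.leaf 0x28a90c15))
(.node (.leaf 0x189ccc5e)
(.leaf 0))))
(.node (.node (.node (.leaf 0x4be8381)
(.leaf 0x216d2fe3))
(.node (.leaf 0x1178ae24)
(.leaf 0)))
(.node (.node (.leaf 0xba72e0a)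
(.leaf 0x2b3f36aa))
(.node (.leaf 0x1d03301b)
(.leaf 0)))))
(.node (.node (.node (.node (.leaf 0x201028f)
(.leaf 0x207f0c64))
(.node (.leaf 0x1098c919)
(.leaf 0)))
(.node (.node (.leaf 0xb02e9d2)
(.leaf 0x2a5ed79b))
(.node (.leaf 0x197cef2f)
(.leaf 0))))
(.node (.node (.node (.leaf 0x708c3d4)
(.leaf 0x23a2d4a2))
(.node (.leaf 0x134d0491)
(.leaf 0)))
(.node (.node (.leaf 0xd730fbb)
(.leaf 0x2ed71724))
(.node (.leaf 0x1e39103e)
(.leaf 0)))))))
(.node (.node (.node (.node (.node (.node (.leaf 0x3ae297)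
(.leaf 0x1f852d7e))
(.node (.leaf 0xfb8d243)
(.leaf 0x301ad87e)))
(.node (.node (.leaf 0x86b0333)
(.leaf 0x286e6926))
(.node (.leaf 0x1880ceb8)
(.leaf 0))))
(.node (.node (.node (.leaf 0x49e2026)
(.leaf 0x21364ef1))
(.node (.leaf 0x11412bff)
(.leaf 0)))
(.node (.node (.leaf 0xb686d9c)
(.leaf 0x2aec952a))
(.node (.leaf 0x1b3cd279)
(.leaf 0)))))
(.node (.node (.node (.node (.leaf 0x1d6a017)
(.leaf 0x203d0ba1))
(.node (.leaf 0x10612c08)
(.leaf 0)))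
(.node (.node (.leaf 0xa26c56c)
(.leaf 0x2a3eb52e))
(.node (.leaf 0x192eeb6b)
(.leaf 0))))
(.node (.node (.node (.leaf 0x69723d8)
(.leaf 0x230332c2))
(.node (.leaf 0x12c30851)
(.leaf 0)))
(.node (.node (.leaf 0xcb510de)
(.leaf 0x2de0f595))
(.node (.leaf 0x1db32a49)
(.leaf 0))))))
(.node (.node (.node (.node (.node (.leaf 0x19e801b)
(.leaf 0x1fcab399))
(.node (.leaf 0x10010ef2)
(.leaf 0)))
(.node (.node (.leaf 0x96f05ba)
(.leaf 0x298b34e6))
(.node (.leaf 0x18bf2820)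
(.leaf 0))))
(.node (.node (.node (.leaf 0x56d23e4)
(.leaf 0x21d270fe))
(.node (.leaf 0x11d24e69)
(.leaf 0)))
(.node (.node (.leaf 0xbf4d4aa)
(.leaf 0x2ba4b503))
(.node (.leaf 0x1d22eae1)
(.leaf 0)))))
(.node (.node (.node (.node (.leaf 0x238a1bf)
(.leaf 0x20bca947))
(.node (.leaf 0x10cd1413)
(.leaf 0)))
(.node (.node (.leaf 0xb1c8d7b)
(.leaf 0x2a827749))
(.node (.leaf 0x19db0ce0)
(.leaf 0))))
(.node (.node (.node (.leaf 0x73c4346)
(.leaf 0x245ea613))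
(.node (.leaf 0x141d2748)
(.leaf 0)))
(.node (.node (.leaf 0xf82a860)
(.leaf 0x2f3336bf))
(.node (.leaf 0x1f4d10a6)
(.leaf 0))))))))
(.node (.node (.node (.node (.node (.node (.node (.leaf 0x28c31a)
(.leaf 0x1f7470c7))
(.node (.leaf 0xfa8eeb4)
(.leaf 0x2ff85898)))
(.node (.node (.leaf 0x78f02bd)
(.leaf 0x2857275d))
(.node (.leaf 0x15ecebdc)
(.leaf 0))))
(.node (.node (.node (.leaf 0x2f8a0e8)
(.leaf 0x2116d23b))
(.node (.leaf 0x1124747b)
(.leaf 0)))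
(.node (.node (.leaf 0xb57263a)
(.leaf 0x2ac477d4))
(.node (.leaf 0x1aa8d341)
(.leaf 0)))))
(.node (.node (.node (.node (.leaf 0x1c5031d)
(.leaf 0x201f310c))
(.node (.leaf 0x10473300)
(.leaf 0)))
(.node (.node (.leaf 0xa09051b)
(.leaf 0x2a30f74a))
(.node (.leaf 0x1903078a)
(.leaf 0))))
(.node (.node (.node (.leaf 0x62e63a3)
(.leaf 0x227506a0))
(.node (.leaf 0x12751406)
(.leaf 0)))
(.node (.node (.leaf 0xc7f109f)
(.leaf 0x2c873766))
(.node (.leaf 0x1d790cfd)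
(.leaf 0))))))
(.node (.node (.node (.node (.node (.leaf 0xb2a025)
(.leaf 0x1fb6ab90))
(.node (.leaf 0xfe8d326)
(.leaf 0)))
(.node (.node (.leaf 0x950a589)
(.leaf 0x290513bd))
(.node (.leaf 0x18ad08f9)
(.leaf 0))))
(.node (.node (.node (.leaf 0x55e203b)
(.leaf 0x2198d078))
(.node (.leaf 0x11af2859)
(.leaf 0)))
(.node (.node (.leaf 0xbc70f28)
(.leaf 0x2b6d3859))
(.node (.leaf 0x1d11064a)
(.leaf 0)))))
(.node (.node (.node (.node (.leaf 0x216c076)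
(.leaf 0x209cf10f))
(.node (.leaf 0x10af0ec2)
(.leaf 0)))
(.node (.node (.leaf 0xb0e8e0b)
(.leaf 0x2a70780b))
(.node (.leaf 0x19a6ec44)
(.leaf 0))))
(.node (.node (.node (.leaf 0x72f0368)
(.leaf 0x241f0b15))
(.node (.leaf 0x13952bad)
(.leaf 0)))
(.node (.node (.leaf 0xe5f0967)
(.leaf 0x2ef8770a))
(.node (.leaf 0x1f41347a)
(.leaf 0)))))))
(.node (.node (.node (.node (.node (.node (.leaf 0x4f224c)
(.leaf 0x1f9713fe))
(.node (.leaf 0xfc8ec26)
(.leaf 0x309b1758)))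
(.node (.node (.leaf 0x8b46384)
(.leaf 0x28830b50))
(.node (.leaf 0x188f2746)
(.leaf 0))))
(.node (.node (.node (.leaf 0x4aac13c)
(.leaf 0x214d2950))
(.node (.leaf 0x1158b2af)
(.leaf 0)))
(.node (.node (.leaf 0xb8b1410)
(.leaf 0x2b1cf6bc))
(.node (.leaf 0x1bbcca37)
(.leaf 0)))))
(.node (.node (.node (.node (.leaf 0x1ef2152)
(.leaf 0x205f0d39))
(.node (.leaf 0x1078ecb4)
(.leaf 0)))
(.node (.node (.leaf 0xa570560)
(.leaf 0x2a4d3768))
(.node (.leaf 0x194ee90f)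
(.leaf 0))))
(.node (.node (.node (.leaf 0x6b4a239)
(.leaf 0x235ed28f))
(.node (.leaf 0x1302d22c)
(.leaf 0)))
(.node (.node (.leaf 0xd0b2a4a)
(.leaf 0x2ebf1559))
(.node (.leaf 0x1df4719d)
(.leaf 0))))))
(.node (.node (.node (.node (.node (.leaf 0x1a8a0e9)
(.leaf 0x1fe4adde))
(.node (.leaf 0x10151318)
(.leaf 0)))
(.node (.node (.leaf 0x9de2490)
(.leaf 0x29cd3515))
(.node (.leaf 0x18d2e520)
(.leaf 0))))
(.node (.node (.node (.leaf 0x588a3a2)
(.leaf 0x220cd2c6))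
(.node (.leaf 0x11ff2c4a)
(.leaf 0)))
(.node (.node (.leaf 0xc267304)
(.leaf 0x2bd1171a))
(.node (.leaf 0x1d3a725a)
(.leaf 0)))))
(.node (.node (.node (.node (.leaf 0x258a060)
(.leaf 0x20d8d130))
(.node (.leaf 0x10eaf037)
(.leaf 0)))
(.node (.node (.leaf 0xb2eef0b)
(.leaf 0x2a97355c))
(.node (.leaf 0x1a12cc31)
(.leaf 0))))
(.node (.node (.node (.leaf 0x753238e)
(.leaf 0x24ccab2e))
(.node (.leaf 0x1488ea34)
(.leaf 0)))
(.node (.node (.leaf 0xf8f2c17)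
(.leaf 0x2fd6d76f))
(.node (.leaf 0x1f58aaa2)
(.leaf 0))))))))))
(.node (.node (.node (.node (.node (.node (.node (.node (.node (.leaf 565268)
(.leaf 0x1f609484))
(.node (.leaf 0xf970c51)
(.leaf 0x2fe2b6bd)))
(.node (.node (.leaf 0x766a47c)
(.leaf 0x251f2bd2))
(.node (.leaf 0x14c133c1)
(.leaf 0))))
(.node (.node (.node (.leaf 0x27d21fa)
(.leaf 0x20ecca1e))
(.node (.leaf 0x1106ce5a)
(.leaf 0)))
(.node (.node (.leaf 0xb3ecbb8)
(.leaf 0x2aa5384a))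
(.node (.leaf 0x1a32ed37)
(.leaf 0)))))
(.node (.node (.node (.node (.leaf 0x1b042fb)
(.leaf 0x1ffeada2))
(.node (.leaf 0x1026ae91)
(.leaf 0)))
(.node (.node (.leaf 0x9e8a7bb)
(.leaf 0x29eaf4cb))
(.node (.leaf 0x18e84c5b)
(.leaf 0))))
(.node (.node (.node (.leaf 0x5aca216)
(.leaf 0x222d119c))
(.node (.leaf 0x121d2c0f)
(.leaf 0)))
(.node (.node (.leaf 0xc4928d3)
(.leaf 0x2c03163d))
(.node (.leaf 0x1d50a652)
(.leaf 0))))))
(.node (.node (.node (.node (.node (.leaf 0x604322)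
(.leaf 0x1fa2efad))
(.node (.leaf 0xfd44cbd)
(.leaf 0x30fc77f1)))
(.node (.node (.leaf 0x906a549)
(.leaf 0x289d117b))
(.node (.leaf 0x189908a4)
(.leaf 0))))
(.node (.node (.node (.leaf 0x4b8630b)
(.leaf 0x2165339f))
(.node (.leaf 0x116eb415)
(.leaf 0)))
(.node (.node (.leaf 0xba3347c)
(.leaf 0x2b3535fb))
(.node (.leaf 0x1d004648)
(.leaf 0)))))
(.node (.node (.node (.node (.leaf 0x1fd20eb)
(.leaf 0x20793266))
(.node (.leaf 0x108f281a)
(.leaf 0)))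
(.node (.node (.leaf 0xb00a671)
(.leaf 0x2a5ad783))
(.node (.leaf 0x19712c7a)
(.leaf 0))))
(.node (.node (.node (.leaf 0x6ff2232)
(.leaf 0x238f26dc))
(.node (.leaf 0x1338b2ac)
(.leaf 0)))
(.node (.node (.leaf 0xd58ea43)
(.leaf 0x2ed117bd))
(.node (.leaf 0x1e212cf0)
(.leaf 0)))))))
(.node (.node (.node (.node (.node (.node (.leaf 0x3502a2)
(.leaf 0x1f82a69e))
(.node (.leaf 0xfb46c2d)
(.leaf 0x3016b82b)))
(.node (.node (.leaf 0x7be643c)
(.leaf 0x28692ddd))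
(.node (.leaf 0x187e6f82)
(.leaf 0))))
(.node (.node (.node (.leaf 0x34ca08f)
(.leaf 0x212f0ffa))
(.node (.leaf 0x113b2e4b)
(.leaf 0)))
(.node (.node (.leaf 0xb6533e5)
(.leaf 0x2ae0d5ba))
(.node (.leaf 0x1b14e530)
(.leaf 0)))))
(.node (.node (.node (.node (.leaf 0x1d2a04f)
(.leaf 0x2030d4a9))
(.node (.leaf 0x10587411)
(.leaf 0)))
(.node (.node (.leaf 0xa1b261e)
(.leaf 0x2a3ad830))
(.node (.leaf 0x192309e1)
(.leaf 0))))
(.node (.node (.node (.leaf 0x682846a)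
(.leaf 0x22d6cbaa))
(.node (.leaf 0x12b8aaf5)
(.leaf 0)))
(.node (.node (.leaf 0xca309a1)
(.leaf 0x2d9f3688))
(.node (.leaf 0x1d9acfb3)
(.leaf 0))))))
(.node (.node (.node (.node (.node (.leaf 0x10721d2)
(.leaf 0x1fc4cd1a))
(.node (.leaf 0xffb2c09)
(.leaf 0)))
(.node (.node (.leaf 0x966e867)
(.leaf 0x2984f53a))
(.node (.leaf 0x18bacb8c)
(.leaf 0))))
(.node (.node (.node (.leaf 0x568432c)
(.leaf 0x21c1133e))
(.node (.leaf 0x11c8abf0)
(.leaf 0)))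
(.node (.node (.leaf 0xbe4c62b)
(.leaf 0x2b9516d1))
(.node (.leaf 0x1d1f2605)
(.leaf 0)))))
(.node (.node (.node (.node (.leaf 0x2350296)
(.leaf 0x20b4d136))
(.node (.leaf 0x10c6cb7b)
(.leaf 0)))
(.node (.node (.leaf 0xb190a05)
(.leaf 0x2a80b5c7))
(.node (.leaf 0x19cf3034)
(.leaf 0))))
(.node (.node (.node (.leaf 0x737234c)
(.leaf 0x2448d190))
(.node (.leaf 0x13fb3352)
(.leaf 0)))
(.node (.node (.leaf 0xf8104ae)
(.leaf 0x2f22f674))
(.node (.leaf 0x1f4a696d)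
(.leaf 0))))))))
(.node (.node (.node (.node (.node (.node (.node (.leaf 0x246382)
(.leaf 0x1f70b3e9))
(.node (.leaf 0xfa4541a)
(.leaf 0x2ff4b73d)))
(.node (.node (.leaf 0x7890413)
(.leaf 0x2844c658))
(.node (.leaf 0x15852ccd)
(.leaf 0))))
(.node (.node (.node (.leaf 0x2c4e098)
(.leaf 0x2110d2ba))
(.node (.leaf 0x111ee86f)
(.leaf 0)))
(.node (.node (.leaf 0xb50b329)
(.leaf 0x2ac0d635))
(.node (.leaf 0x1a97058b)
(.leaf 0)))))
(.node (.node (.node (.node (.leaf 0x1c2a035)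
(.leaf 0x2014d251))
(.node (.leaf 0x10431312)
(.leaf 0)))
(.node (.node (.leaf 0xa02a5f2)
(.leaf 0x2a2ed633))
(.node (.leaf 0x18fa5244)
(.leaf 0))))
(.node (.node (.node (.leaf 0x628606e)
(.leaf 0x2260d185))
(.node (.leaf 0x125d081d)
(.leaf 0)))
(.node (.node (.leaf 0xc74f3fd)
(.leaf 0x2c60f5a2))
(.node (.leaf 0x1d71096c)
(.leaf 0))))))
(.node (.node (.node (.node (.node (.leaf 0xa46361)
(.leaf 0x1fb0ef95))
(.node (.leaf 0xfe72c43)
(.leaf 0)))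
(.node (.node (.leaf 0x94f048c)
(.leaf 0x28e90942))
(.node (.leaf 0x18a6ef3e)
(.leaf 0))))
(.node (.node (.node (.leaf 0x4ecc273)
(.leaf 0x218b2a17))
(.node (.leaf 0x119a6af3)
(.leaf 0)))
(.node (.node (.leaf 0xbbf0645)
(.leaf 0x2b5ab62c))
(.node (.leaf 0x1d0ce7a4)
(.leaf 0)))))
(.node (.node (.node (.node (.leaf 0x20ea0c0)
(.leaf 0x20950dd9))
(.node (.leaf 0x10a70b02)
(.leaf 0)))
(.node (.node (.leaf 0xb0a89bf)
(.leaf 0x2a6cb7b3))
(.node (.leaf 0x19950752)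
(.leaf 0))))
(.node (.node (.node (.leaf 0x72b23e0)
(.leaf 0x2406e95d))
(.node (.leaf 0x13750e9d)
(.leaf 0)))
(.node (.node (.leaf 0xe4106e0)
(.leaf 0x2ef13834))
(.node (.leaf 0x1f3ef43b)
(.leaf 0)))))))
(.node (.node (.node (.node (.node (.node (.leaf 0x48c246)
(.leaf 0x1f92eb29))
(.node (.leaf 0xfc52f77)
(.leaf 0x30551828)))
(.node (.node (.leaf 0x8b0e286)
(.leaf 0x287b1271))
(.node (.leaf 0x188ad0c5)
(.leaf 0))))
(.node (.node (.node (.leaf 0x4a720b9)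
(.leaf 0x21468674))
(.node (.leaf 0x1152c7cf)
(.leaf 0)))
(.node (.node (.leaf 0xb811231)
(.leaf 0x2b153814))
(.node (.leaf 0x1ba326f0)
(.leaf 0)))))
(.node (.node (.node (.node (.leaf 0x1eaa056)
(.leaf 0x2054f039))
(.node (.leaf 0x107332b6)
(.leaf 0)))
(.node (.node (.leaf 0xa4ae5aa)
(.leaf 0x2a48b7f2))
(.node (.leaf 0x1944eeb5)
(.leaf 0))))
(.node (.node (.node (.leaf 0x6a90229)
(.leaf 0x233f0ad4))
(.node (.leaf 0x12f4a533)
(.leaf 0)))
(.node (.node (.leaf 0xcf4d0e9)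
(.leaf 0x2eb897bc))
(.node (.leaf 0x1ddcd1f2)
(.leaf 0))))))
(.node (.node (.node (.node (.node (.leaf 0x1a4e42e)
(.leaf 0x1fdf064c))
(.node (.leaf 0x1010eb97)
(.leaf 0)))
(.node (.node (.leaf 0x9b30765)
(.leaf 0x29cab533))
(.node (.leaf 0x18cd3306)
(.leaf 0))))
(.node (.node (.node (.leaf 0x5810224)
(.leaf 0x2204b005))
(.node (.leaf 0x11f2cd05)
(.leaf 0)))
(.node (.node (.leaf 0xc1d3465)
(.leaf 0x2bc317c2))
(.node (.leaf 0x1d36ab45)
(.leaf 0)))))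
(.node (.node (.node (.node (.leaf 0x2512278)
(.leaf 0x20d2d1ac))
(.node (.leaf 0x10e64629)
(.leaf 0)))
(.node (.node (.leaf 0xb2b29c5)
(.leaf 0x2a913719))
(.node (.leaf 0x1a07096a)
(.leaf 0))))
(.node (.node (.node (.leaf 0x74d246d)
(.leaf 0x24b10f9f))
(.node (.leaf 0x1478cb83)
(.leaf 0)))
(.node (.node (.leaf 0xf8b2dbd)
(.leaf 0x2f70d6e7))
(.node (.leaf 0x1f54cff0)
(.leaf 0)))))))))
(.node (.node (.node (.node (.node (.node (.node (.node (.leaf 0x2120a1)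
(.leaf 0x1f6b2798))
(.node (.leaf 0xf9f2ed5)
(.leaf 0x2fe8d836)))
(.node (.node (.leaf 0x77ca1c7)
(.leaf 0x25d51489))
(.node (.leaf 0x14e4e975)
(.leaf 0))))
(.node (.node (.node (.leaf 0x2a68164)
(.leaf 0x2101144d))
(.node (.leaf 0x11150f65)
(.leaf 0)))
(.node (.node (.leaf 0xb4928d0)
(.leaf 0x2ab535c6))
(.node (.leaf 0x1a5b2cfe)
(.leaf 0)))))
(.node (.node (.node (.node (.leaf 0x1bb2301)
(.leaf 0x2008c623))
(.node (.leaf 0x1030b330)
(.leaf 0)))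
(.node (.node (.leaf 0x9f2e542)
(.leaf 0x2a2a5603))
(.node (.leaf 0x18f46f81)
(.leaf 0))))
(.node (.node (.node (.leaf 0x620605c)
(.leaf 0x2240f2e0))
(.node (.leaf 0x12370c87)
(.leaf 0)))
(.node (.node (.leaf 0xc606a6c)
(.leaf 0x2c311702))
(.node (.leaf 0x1d5cb15d)
(.leaf 0))))))
(.node (.node (.node (.node (.node (.leaf 0x7702a0)
(.leaf 0x1faac9a0))
(.node (.leaf 0xfdc715e)
(.leaf 0x311b182a)))
(.node (.node (.leaf 0x91b24cc)
(.leaf 0x28b114a0))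
(.node (.leaf 0x189ef41f)
(.leaf 0))))
(.node (.node (.node (.leaf 0x4c863b9)
(.leaf 0x2174eb4b))
(.node (.leaf 0x1183140d)
(.leaf 0)))
(.node (.node (.leaf 0xbac8ffd)
(.leaf 0x2b44f769))
(.node (.leaf 0x1d070e12)
(.leaf 0)))))
(.node (.node (.node (.node (.leaf 0x204a396)
(.leaf 0x208730a0))
(.node (.leaf 0x109ecfb8)
(.leaf 0)))
(.node (.node (.leaf 0xb0510c0)
(.leaf 0x2a62f692))
(.node (.leaf 0x19868892)
(.leaf 0))))
(.node (.node (.node (.leaf 0x726a38a)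
(.leaf 0x23bf102f))
(.node (.leaf 0x1359284d)
(.leaf 0)))
(.node (.node (.leaf 0xd9aa968)
(.leaf 0x2eded754))
(.node (.leaf 0x1e6ed1f0)
(.leaf 0)))))))
(.node (.node (.node (.node (.node (.node (.leaf 0x4100fa)
(.leaf 0x1f88f278))
(.node (.leaf 0xfbd131e)
(.leaf 0x302316b1)))
(.node (.node (.leaf 0x8a6a3f0)
(.leaf 0x287073d8))
(.node (.leaf 0x18850dc4)
(.leaf 0))))
(.node (.node (.node (.leaf 0x4a10028)
(.leaf 0x213c8837))
(.node (.leaf 0x11464c1e)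
(.leaf 0)))
(.node (.node (.leaf 0xb6f0e04)
(.leaf 0x2af93686))
(.node (.leaf 0x1b5f2be5)
(.leaf 0)))))
(.node (.node (.node (.node (.leaf 0x1daa2b5)
(.leaf 0x20452acf))
(.node (.leaf 0x1068c5eb)
(.leaf 0)))
(.node (.node (.leaf 0xa2ca572)
(.leaf 0x2a40f7a3))
(.node (.leaf 0x193686fe)
(.leaf 0))))
(.node (.node (.node (.leaf 0x69b2230)
(.leaf 0x231ae612))
(.node (.leaf 0x12d52f02)
(.leaf 0)))
(.node (.node (.leaf 0xccf1106)
(.leaf 0x2ead35ec))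
(.node (.leaf 0x1dc48b9e)
(.leaf 0))))))
(.node (.node (.node (.node (.node (.leaf 0x19ee409)
(.leaf 0x1fd4c6d9))
(.node (.leaf 0x10070fcd)
(.leaf 0)))
(.node (.node (.leaf 0x974c4d7)
(.leaf 0x2996d4f7))
(.node (.leaf 0x18c505d7)
(.leaf 0))))
(.node (.node (.node (.leaf 0x572a23d)
(.leaf 0x21df33fc))
(.node (.leaf 0x11dd0729)
(.leaf 0)))
(.node (.node (.leaf 0xbfeaa7f)
(.leaf 0x2bb3351d))
(.node (.leaf 0x1d2b1209)
(.leaf 0)))))
(.node (.node (.node (.node (.leaf 0x2432193)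
(.leaf 0x20c04cf8))
(.node (.leaf 0x10d6a81e)
(.leaf 0)))
(.node (.node (.leaf 0xb212a4d)
(.leaf 0x2a89165d))
(.node (.leaf 0x19ea6c99)
(.leaf 0))))
(.node (.node (.node (.leaf 0x7446479)
(.leaf 0x2472ad7d))
(.node (.leaf 0x1443058c)
(.leaf 0)))
(.node (.node (.leaf 0xf86859b)
(.leaf 0x2f473756))
(.node (.leaf 0x1f4e8ef9)
(.leaf 0))))))))
(.node (.node (.node (.node (.node (.node (.node (.leaf 0x2c825d)
(.leaf 0x1f7929af))
(.node (.leaf 0xfac44fe)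
(.leaf 0x300337f0)))
(.node (.node (.leaf 0x794430f)
(.leaf 0x28633040))
(.node (.leaf 0x16dee829)
(.leaf 0))))
(.node (.node (.node (.leaf 0x30321fd)
(.leaf 0x211ef1e7))
(.node (.leaf 0x112aec89)
(.leaf 0)))
(.node (.node (.leaf 0xb5b0d74)
(.leaf 0x2acf1853))
(.node (.leaf 0x1ab70e70)
(.leaf 0)))))
(.node (.node (.node (.node (.leaf 0x1c86439)
(.leaf 0x20231006))
(.node (.leaf 0x104e8dd2)
(.leaf 0)))
(.node (.node (.leaf 0xa0ee48f)
(.leaf 0x2a351527))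
(.node (.leaf 0x190eef4a)
(.leaf 0))))
(.node (.node (.node (.leaf 0x639035a)
(.leaf 0x228d0a16))
(.node (.leaf 0x128f0f94)
(.leaf 0)))
(.node (.node (.leaf 0xc8ccf0e)
(.leaf 0x2cc93606))
(.node (.leaf 0x1d8113e6)
(.leaf 0))))))
(.node (.node (.node (.node (.node (.leaf 0xc44135)
(.leaf 0x1fbae64d))
(.node (.leaf 0xfecc97e)
(.leaf 0)))
(.node (.node (.leaf 0x9572518)
(.leaf 0x29171100))
(.node (.leaf 0x18b06fc2)
(.leaf 0))))
(.node (.node (.node (.leaf 0x561233e)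
(.leaf 0x21a910e8))
(.node (.leaf 0x11b5332a)
(.leaf 0)))
(.node (.node (.leaf 0xbd2a7d6)
(.leaf 0x2b7cb5d9))
(.node (.leaf 0x1d152646)
(.leaf 0)))))
(.node (.node (.node (.node (.leaf 0x222e065)
(.leaf 0x20a3323a))
(.node (.leaf 0x10b72cc3)
(.leaf 0)))
(.node (.node (.leaf 0xb10f494)
(.leaf 0x2a76f57f))
(.node (.leaf 0x19b73436)
(.leaf 0))))
(.node (.node (.node (.leaf 0x73043ea)
(.leaf 0x242d346d))
(.node (.leaf 0x13b73462)
(.leaf 0)))
(.node (.node (.leaf 0xe6caffe)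
(.leaf 0x2efe96e0))
(.node (.leaf 0x1f446b62)
(.leaf 0)))))))
(.node (.node (.node (.node (.node (.node (.leaf 0x56a136)
(.leaf 0x1f9ad06c))
(.node (.leaf 0xfcd0e2d)
(.leaf 0x30a737de)))
(.node (.node (.leaf 0x8c6c37c)
(.leaf 0x288cf1b4))
(.node (.leaf 0x1890ce72)
(.leaf 0))))
(.node (.node (.node (.leaf 0x4af20c1)
(.leaf 0x21532d3d))
(.node (.leaf 0x115d2fac)
(.leaf 0)))
(.node (.node (.leaf 0xb90742b)
(.leaf 0x2b24d6f9))
(.node (.leaf 0x1c08c74b)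
(.leaf 0)))))
(.node (.node (.node (.node (.leaf 0x1f30268)
(.leaf 0x206ad003))
(.node (.leaf 0x1082acb7)
(.leaf 0)))
(.node (.node (.leaf 0xa64edab)
(.leaf 0x2a5097cd))
(.node (.leaf 0x19592ac4)
(.leaf 0))))
(.node (.node (.node (.leaf 0x6c70213)
(.leaf 0x236f324b))
(.node (.leaf 0x1314ea85)
(.leaf 0)))
(.node (.node (.leaf 0xd1cd3d0)
(.leaf 0x2ec2561a))
(.node (.leaf 0x1e030abc)
(.leaf 0))))))
(.node (.node (.node (.node (.node (.leaf 0x1aaa256)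
(.leaf 0x1fecccb1))
(.node (.leaf 0x101aae1b)
(.leaf 0)))
(.node (.node (.leaf 0x9e0a5d6)
(.leaf 0x29d2b50d))
(.node (.leaf 0x18d6cf05)
(.leaf 0))))
(.node (.node (.node (.leaf 0x594a0e3)
(.leaf 0x2218e921))
(.node (.leaf 0x1208f442)
(.leaf 0)))
(.node (.node (.leaf 0xc311344)
(.leaf 0x2bdf170f))
(.node (.leaf 0x1d430557)
(.leaf 0)))))
(.node (.node (.node (.node (.leaf 0x25ea0af)
(.leaf 0x20df0ba4))
(.node (.leaf 0x10f30e7e)
(.leaf 0)))
(.node (.node (.leaf 0xb351085)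
(.leaf 0x2a9a7752))
(.node (.leaf 0x1a1cc800)
(.leaf 0))))
(.node (.node (.node (.leaf 0x7592371)
(.leaf 0x24d8ce0d))
(.node (.leaf 0x14990846)
(.leaf 0)))
(.node (.node (.leaf 0xf90aeec)
(.leaf 0x2fd8d87d))
(.node (.leaf 0x1f5b3069)
(.leaf 0)))))))))))
(.node (.node (.node (.node (.node (.node (.node (.node (.node (.node (.leaf 188444)
(.leaf 0x1f60ed60))
(.node (.leaf 0xf9512d4)
(.leaf 0x2fde5891)))
(.node (.node (.leaf 0x7632457)
(.leaf 0x250912d7))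
(.node (.leaf 0x14b2ebe2)
(.leaf 0))))
(.node (.node (.node (.leaf 0x2790303)
(.leaf 0x20e68a4f))
(.node (.leaf 0x10ff08d8)
(.leaf 0)))
(.node (.node (.leaf 0xb3cca0d)
(.leaf 0x2aa31621))
(.node (.leaf 0x1a292e3f)
(.leaf 0)))))
(.node (.node (.node (.node (.leaf 0x1b0a115)
(.leaf 0x1ffd10df))
(.node (.leaf 0x10250e48)
(.leaf 0)))
(.node (.node (.leaf 0x9e6e695)
(.leaf 0x29e4d4d4))
(.node (.leaf 0x18e30f60)
(.leaf 0))))
(.node (.node (.node (.leaf 0x5a0e012)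
(.leaf 0x2226ce4f))
(.node (.leaf 0x1216cf66)
(.leaf 0)))
(.node (.node (.leaf 0xc3f0ba2)
(.leaf 0x2bf8757e))
(.node (.leaf 0x1d4b3391)
(.leaf 0))))))
(.node (.node (.node (.node (.node (.leaf 0x5e8194)
(.leaf 0x1fa0b171))
(.node (.leaf 0xfd26c6e)
(.leaf 0x30f937e9)))
(.node (.node (.leaf 0x906c4a5)
(.leaf 0x2899309c))
(.node (.leaf 0x1896a8d4)
(.leaf 0))))
(.node (.node (.node (.leaf 0x4b6610f)
(.leaf 0x215ed07d))
(.node (.leaf 0x116ac6f5)
(.leaf 0)))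
(.node (.node (.leaf 0xb9f0d99)
(.leaf 0x2b33362f))
(.node (.leaf 0x1cfe6bd6)
(.leaf 0)))))
(.node (.node (.node (.node (.leaf 0x1f901f1)
(.leaf 0x2076649f))
(.node (.leaf 0x108cc888)
(.leaf 0)))
(.node (.node (.leaf 0xafeaaaa)
(.leaf 0x2a58f5dd))
(.node (.leaf 0x196ecdb4)
(.leaf 0))))
(.node (.node (.node (.leaf 0x6fae39e)
(.leaf 0x23831324))
(.node (.leaf 0x1328cf92)
(.leaf 0)))
(.node (.node (.leaf 0xd4cd26e)
(.leaf 0x2ecd1741))
(.node (.leaf 0x1e1912d8)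
(.leaf 0)))))))
(.node (.node (.node (.node (.node (.node (.leaf 0x30c186)
(.leaf 0x1f808ad2))
(.node (.leaf 0xfb3284c)
(.leaf 0x301537b8)))
(.node (.node (.leaf 0x7b0e374)
(.leaf 0x2866d2ec))
(.node (.leaf 0x187f2aea)
(.leaf 0))))
(.node (.node (.node (.leaf 0x330e363)
(.leaf 0x2126ca12))
(.node (.leaf 0x11386a45)
(.leaf 0)))
(.node (.node (.leaf 0xb6131a9)
(.leaf 0x2add3717))
(.node (.leaf 0x1b04cbe6)
(.leaf 0)))))
(.node (.node (.node (.node (.leaf 0x1d08292)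
(.leaf 0x202cb480))
(.node (.leaf 0x10572a79)
(.leaf 0)))
(.node (.node (.leaf 0xa16e7c7)
(.leaf 0x2a3af5c5))
(.node (.leaf 0x191cce94)
(.leaf 0))))
(.node (.node (.node (.leaf 0x67e8235)
(.leaf 0x22b724f4))
(.node (.leaf 0x12af331c)
(.leaf 0)))
(.node (.node (.leaf 0xc9cd2d2)
(.leaf 0x2d52d531))
(.node (.leaf 0x1d98e901)
(.leaf 0))))))
(.node (.node (.node (.node (.node (.leaf 0xdae191)
(.leaf 0x1fc0f073))
(.node (.leaf 0xff4efa2)
(.leaf 0)))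
(.node (.node (.leaf 0x96124b8)
(.leaf 0x2982b534))
(.node (.leaf 0x18b8af32)
(.leaf 0))))
(.node (.node (.node (.leaf 0x566e335)
(.leaf 0x21bc6502))
(.node (.leaf 0x11c52c81)
(.leaf 0)))
(.node (.node (.leaf 0xbdf099b)
(.leaf 0x2b92b558))
(.node (.leaf 0x1d1a7396)
(.leaf 0)))))
(.node (.node (.node (.node (.leaf 0x23101dd)
(.leaf 0x20b0d01c))
(.node (.leaf 0x10c2b2a6)
(.leaf 0)))
(.node (.node (.leaf 0xb16acd3)
(.leaf 0x2a7d3739))
(.node (.leaf 0x19cacf58)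
(.leaf 0))))
(.node (.node (.node (.leaf 0x7352407)
(.leaf 0x243ed261))
(.node (.leaf 0x13e50d72)
(.leaf 0)))
(.node (.node (.leaf 0xf7e6c19)
(.leaf 0x2f14d5bc))
(.node (.leaf 0x1f48b0bf)
(.leaf 0))))))))
(.node (.node (.node (.node (.node (.node (.node (.leaf 0x2480d7)
(.leaf 0x1f6f32db))
(.node (.leaf 0xfa2ec10)
(.leaf 0x2ff3374e)))
(.node (.node (.leaf 0x784a449)
(.leaf 0x2840e55b))
(.node (.leaf 0x1572af63)
(.leaf 0))))
(.node (.node (.node (.leaf 0x2b723e5)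
(.leaf 0x210f2681))
(.node (.leaf 0x111ca71a)
(.leaf 0)))
(.node (.node (.leaf 0xb4eaae0)
(.leaf 0x2abe95cb))
(.node (.leaf 0x1a891343)
(.leaf 0)))))
(.node (.node (.node (.node (.leaf 0x1be83a4)
(.leaf 0x200e7445))
(.node (.leaf 0x103e8c39)
(.leaf 0)))
(.node (.node (.leaf 0x9fea4cf)
(.leaf 0x2a2cf705))
(.node (.leaf 0x18faa6f2)
(.leaf 0))))
(.node (.node (.node (.leaf 0x6270131)
(.leaf 0x2252f260))
(.node (.leaf 0x125331c7)
(.leaf 0)))
(.node (.node (.leaf 0xc6ef383)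
(.leaf 0x2c58f50a))
(.node (.leaf 0x1d6d0789)
(.leaf 0))))))
(.node (.node (.node (.node (.node (.leaf 0x8ce204)
(.leaf 0x1fae89ee))
(.node (.leaf 0xfe4e840)
(.leaf 0)))
(.node (.node (.leaf 0x92f04a7)
(.leaf 0x28d5144c))
(.node (.leaf 0x18a4ea9f)
(.leaf 0))))
(.node (.node (.node (.leaf 0x4e2c18e)
(.leaf 0x2186f0fb))
(.node (.leaf 0x11930743)
(.leaf 0)))
(.node (.node (.leaf 0xbb911a4)
(.leaf 0x2b54d782))
(.node (.leaf 0x1d0b0bc7)
(.leaf 0)))))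
(.node (.node (.node (.node (.leaf 0x20aa2ee)
(.leaf 0x20912d1e))
(.node (.leaf 0x10a4eb84)
(.leaf 0)))
(.node (.node (.leaf 0xb0853cd)
(.leaf 0x2a6af709))
(.node (.leaf 0x1992e878)
(.leaf 0))))
(.node (.node (.node (.leaf 0x72ae276)
(.leaf 0x23fad17f))
(.node (.leaf 0x136d2713)
(.leaf 0)))
(.node (.node (.leaf 0xe2c728c)
(.leaf 0x2eef3790))
(.node (.leaf 0x1f3e8d15)
(.leaf 0)))))))
(.node (.node (.node (.node (.node (.node (.leaf 0x47010b)
(.leaf 0x1f90d21d))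
(.node (.leaf 0xfc2ede6)
(.leaf 0x303ed7b2)))
(.node (.node (.leaf 0x8ac8325)
(.leaf 0x287852bf))
(.node (.leaf 0x188aeb65)
(.leaf 0))))
(.node (.node (.node (.leaf 0x4a521ff)
(.leaf 0x2144ca7c))
(.node (.leaf 0x114f1350)
(.leaf 0)))
(.node (.node (.leaf 0xb7f0a65)
(.leaf 0x2b0cd74f))
(.node (.leaf 0x1b8cc82d)
(.leaf 0)))))
(.node (.node (.node (.node (.leaf 0x1e4e0bb)
(.leaf 0x204cd117))
(.node (.leaf 0x106f1310)
(.leaf 0)))
(.node (.node (.leaf 0xa43268a)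
(.leaf 0x2a46d6ff))
(.node (.leaf 0x194088ec)
(.leaf 0))))
(.node (.node (.node (.leaf 0x6a5221f)
(.leaf 0x2334d0e5))
(.node (.leaf 0x12eb08dd)
(.leaf 0)))
(.node (.node (.leaf 0xcec53af)
(.leaf 0x2eb914e0))
(.node (.leaf 0x1dd6b2e5)
(.leaf 0))))))
(.node (.node (.node (.node (.node (.leaf 0x1a52200)
(.leaf 0x1fdaca67))
(.node (.leaf 0x100f0a33)
(.leaf 0)))
(.node (.node (.leaf 0x9a9056d)
(.leaf 0x29bf156f))
(.node (.leaf 0x18caecd8)
(.leaf 0))))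
(.node (.node (.node (.leaf 0x57d20e2)
(.leaf 0x21ff07b5))
(.node (.leaf 0x11ef0803)
(.leaf 0)))
(.node (.node (.leaf 0xc15265b)
(.leaf 0x2bbef649))
(.node (.leaf 0x1d32d147)
(.leaf 0)))))
(.node (.node (.node (.node (.leaf 0x24b21cc)
(.leaf 0x20cc4b07))
(.node (.leaf 0x10e2ee85)
(.leaf 0)))
(.node (.node (.leaf 0xb28911a)
(.leaf 0x2a8e5687))
(.node (.leaf 0x19ff2e3e)
(.leaf 0))))
(.node (.node (.node (.leaf 0x74c82a9)
(.leaf 0x24970987))
(.node (.leaf 0x146648e5)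
(.leaf 0)))
(.node (.node (.leaf 0xf8aa706)
(.leaf 0x2f69181d))
(.node (.leaf 0x1f52b347)
(.leaf 0)))))))))
(.node (.node (.node (.node (.node (.node (.node (.node (.leaf 0x1ea13e)
(.leaf 0x1f68e784))
(.node (.leaf 0xf9c4dae)
(.leaf 0x2fe73870)))
(.node (.node (.leaf 0x7772456)
(.leaf 0x25bec677))
(.node (.leaf 0x14dcec3a)
(.leaf 0))))
(.node (.node (.node (.leaf 0x29f21ba)
(.leaf 0x20fed122))
(.node (.leaf 0x11108ce8)
(.leaf 0)))
(.node (.node (.leaf 0xb46eb60)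
(.leaf 0x2ab31536))
(.node (.leaf 0x1a532eaf)
(.leaf 0)))))
(.node (.node (.node (.node (.leaf 0x1b902e1)
(.leaf 0x2006e4c0))
(.node (.leaf 0x102eea99)
(.leaf 0)))
(.node (.node (.leaf 0x9f0c690)
(.leaf 0x2a04d4fa))
(.node (.leaf 0x18f10e74)
(.leaf 0))))
(.node (.node (.node (.leaf 0x61ee158)
(.leaf 0x2238f0d2))
(.node (.leaf 0x122ee6ee)
(.leaf 0)))
(.node (.node (.leaf 0xc5d2d23)
(.leaf 0x2c2877e6))
(.node (.leaf 0x1d593428)
(.leaf 0))))))
(.node (.node (.node (.node (.node (.leaf 0x74c081)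
(.leaf 0x1fa88fa5))
(.node (.leaf 0xfdce6d6)
(.leaf 0x3108f7f4)))
(.node (.node (.leaf 0x9130505)
(.leaf 0x28ac70d3))
(.node (.leaf 0x189ec823)
(.leaf 0))))
(.node (.node (.node (.leaf 0x4c2c1fb)
(.leaf 0x21704a59))
(.node (.leaf 0x117d0cc8)
(.leaf 0)))
(.node (.node (.leaf 0xba910e2)
(.leaf 0x2b4117aa))
(.node (.leaf 0x1d04ad8c)
(.leaf 0)))))
(.node (.node (.node (.node (.leaf 0x20323f8)
(.leaf 0x20832d0e))
(.node (.leaf 0x109ceb87)
(.leaf 0)))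
(.node (.node (.leaf 0xb02d376)
(.leaf 0x2a611695))
(.node (.leaf 0x1982cbe4)
(.leaf 0))))
(.node (.node (.node (.leaf 0x72681d5)
(.leaf 0x23b11170))
(.node (.leaf 0x1356c8d5)
(.leaf 0)))
(.node (.node (.leaf 0xd8d2fbc)
(.leaf 0x2edb1548))
(.node (.leaf 0x1e50aa47)
(.leaf 0)))))))
(.node (.node (.node (.node (.node (.node (.leaf 0x3ce2a1)
(.leaf 0x1f86b095))
(.node (.leaf 0xfba4dc8)
(.leaf 0x301f376a)))
(.node (.node (.leaf 0x8a6e1ca)
(.leaf 0x2870857b))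
(.node (.leaf 0x1882af76)
(.leaf 0))))
(.node (.node (.node (.leaf 0x49f2126)
(.leaf 0x213b0b3c))
(.node (.leaf 0x114508be)
(.leaf 0)))
(.node (.node (.leaf 0xb6d2a48)
(.leaf 0x2af2b5e1))
(.node (.leaf 0x1b532e3a)
(.leaf 0)))))
(.node (.node (.node (.node (.leaf 0x1d8e138)
(.leaf 0x203ead32))
(.node (.leaf 0x1064af3a)
(.leaf 0)))
(.node (.node (.leaf 0xa2aa493)
(.leaf 0x2a40751f))
(.node (.leaf 0x19326c8b)
(.leaf 0))))
(.node (.node (.node (.leaf 0x6984227)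
(.leaf 0x230c89c7))
(.node (.leaf 0x12d0c59c)
(.leaf 0)))
(.node (.node (.leaf 0xcc10ad6)
(.leaf 0x2e0914d2))
(.node (.leaf 0x1db6d2dd)
(.leaf 0))))))
(.node (.node (.node (.node (.node (.leaf 0x19f005f)
(.leaf 0x1fd130e6))
(.node (.leaf 0x10024e63)
(.leaf 0)))
(.node (.node (.leaf 0x970c7be)
(.leaf 0x29911586))
(.node (.leaf 0x18c1270c)
(.leaf 0))))
(.node (.node (.node (.leaf 0x570e0d5)
(.leaf 0x21d93169))
(.node (.leaf 0x11d8e816)
(.leaf 0)))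
(.node (.node (.leaf 0xbfb30e7)
(.leaf 0x2baad5ae))
(.node (.leaf 0x1d2734ac)
(.leaf 0)))))
(.node (.node (.node (.node (.leaf 0x23ea119)
(.leaf 0x20bef1a0))
(.node (.leaf 0x10d32c4f)
(.leaf 0)))
(.node (.node (.leaf 0xb1f2b4a)
(.leaf 0x2a84b85f))
(.node (.leaf 0x19e51303)
(.leaf 0))))
(.node (.node (.node (.leaf 0x742634d)
(.leaf 0x246b0610))
(.node (.leaf 0x14232f4b)
(.leaf 0)))
(.node (.node (.leaf 0xf850704)
(.leaf 0x2f3f1555))
(.node (.leaf 0x1f4e4786)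
(.leaf 0))))))))
(.node (.node (.node (.node (.node (.node (.node (.leaf 0x2a42c3)
(.leaf 0x1f764b41))
(.node (.leaf 0xfaaeb58)
(.leaf 0x2ffe9888)))
(.node (.node (.leaf 0x792c3b7)
(.leaf 0x286266d5))
(.node (.leaf 0x16192e5e)
(.leaf 0))))
(.node (.node (.node (.leaf 0x2fca25a)
(.leaf 0x211c4bd5))
(.node (.leaf 0x11284e79)
(.leaf 0)))
(.node (.node (.leaf 0xb58c969)
(.leaf 0x2ac916a2))
(.node (.leaf 0x1aacc6ff)
(.leaf 0)))))
(.node (.node (.node (.node (.leaf 0x1c6a330)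
(.leaf 0x2020b16d))
(.node (.leaf 0x104af29b)
(.leaf 0)))
(.node (.node (.leaf 0xa0ac50f)
(.leaf 0x2a32f714))
(.node (.leaf 0x190af27f)
(.leaf 0))))
(.node (.node (.node (.leaf 0x633015f)
(.leaf 0x2280d499))
(.node (.leaf 0x128726c9)
(.leaf 0)))
(.node (.node (.leaf 0xc87268f)
(.leaf 0x2c9316ba))
(.node (.leaf 0x1d7b341b)
(.leaf 0))))))
(.node (.node (.node (.node (.node (.leaf 0xbaa021)
(.leaf 0x1fb88b4f))
(.node (.leaf 0xfeacc0a)
(.leaf 0)))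
(.node (.node (.leaf 0x954e489)
(.leaf 0x290f0d30))
(.node (.leaf 0x18af0db8)
(.leaf 0))))
(.node (.node (.node (.leaf 0x55ee307)
(.leaf 0x21a4d38d))
(.node (.leaf 0x11b0eee8)
(.leaf 0)))
(.node (.node (.leaf 0xbcd2a00)
(.leaf 0x2b76b54f))
(.node (.leaf 0x1d132767)
(.leaf 0)))))
(.node (.node (.node (.node (.leaf 0x21aa0f4)
(.leaf 0x20a10564))
(.node (.leaf 0x10b504db)
(.leaf 0)))
(.node (.node (.leaf 0xb1107ab)
(.leaf 0x2a753612))
(.node (.leaf 0x19b289ec)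
(.leaf 0))))
(.node (.node (.node (.leaf 0x72e6474)
(.leaf 0x24290d8d))
(.node (.leaf 0x13a729de)
(.leaf 0)))
(.node (.node (.leaf 0xe630b37)
(.leaf 0x2efaf7ba))
(.node (.leaf 0x1f42b1c5)
(.leaf 0)))))))
(.node (.node (.node (.node (.node (.node (.leaf 0x53210e)
(.leaf 0x1f986f45))
(.node (.leaf 0xfca6dc7)
(.leaf 0x309eb65b)))
(.node (.node (.leaf 0x8b7041a)
(.leaf 0x288929ba))
(.node (.leaf 0x188ed339)
(.leaf 0))))
(.node (.node (.node (.leaf 0x4acc15c)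
(.leaf 0x214f06e5))
(.node (.leaf 0x115ab046)
(.leaf 0)))
(.node (.node (.leaf 0xb8e8ca9)
(.leaf 0x2b1f1802))
(.node (.leaf 0x1bf32ead)
(.leaf 0)))))
(.node (.node (.node (.node (.leaf 0x1f0826c)
(.leaf 0x2062c937))
(.node (.leaf 0x107d274e)
(.leaf 0)))
(.node (.node (.leaf 0xa5d05bb)
(.leaf 0x2a4f386b))
(.node (.leaf 0x1952cc2c)
(.leaf 0))))
(.node (.node (.node (.leaf 0x6ba612d)
(.leaf 0x2368c4f7))
(.node (.leaf 0x130d267b)
(.leaf 0)))
(.node (.node (.leaf 0xd1513a9)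
(.leaf 0x2ec1152d))
(.node (.leaf 0x1dfd2fb2)
(.leaf 0))))))
(.node (.node (.node (.node (.node (.leaf 0x1aa609c)
(.leaf 0x1fe86c60))
(.node (.leaf 0x1018cc3f)
(.leaf 0)))
(.node (.node (.leaf 0x9dee6b5)
(.leaf 0x29d0d541))
(.node (.leaf 0x18d48534)
(.leaf 0))))
(.node (.node (.node (.leaf 0x590a03f)
(.leaf 0x22110deb))
(.node (.leaf 0x1204c86d)
(.leaf 0)))
(.node (.node (.leaf 0xc2ccb0e)
(.leaf 0x2bd93602))
(.node (.leaf 0x1d3f2a44)
(.leaf 0)))))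
(.node (.node (.node (.node (.leaf 0x25a4110)
(.leaf 0x20dca7b1))
(.node (.leaf 0x10eed31f)
(.leaf 0)))
(.node (.node (.leaf 0xb30ca09)
(.leaf 0x2a98f5b2))
(.node (.leaf 0x1a152a86)
(.leaf 0))))
(.node (.node (.node (.leaf 0x75501be)
(.leaf 0x24d2aade))
(.node (.leaf 0x1492e8eb)
(.leaf 0)))
(.node (.node (.leaf 0xf8ef443)
(.leaf 0x2fd8b771))
(.node (.leaf 0x1f591422)
(.leaf 0))))))))))
(.node (.node (.node (.node (.node (.node (.node (.node (.node (.leaf 0x13201a)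
(.leaf 0x1f64c6af))
(.node (.leaf 0xf990687)
(.leaf 0x2fe51626)))
(.node (.node (.leaf 0x76c8410)
(.leaf 0x25310b4c))
(.node (.leaf 0x14c8ec0c)
(.leaf 0))))
(.node (.node (.node (.leaf 0x28b01ea)
(.leaf 0x20f0f17e))
(.node (.leaf 0x110aed50)
(.leaf 0)))
(.node (.node (.leaf 0xb40acec)
(.leaf 0x2aab35a8))
(.node (.leaf 0x1a38c806)
(.leaf 0)))))
(.node (.node (.node (.node (.leaf 0x1b2a177)
(.leaf 0x2000ca25))
(.node (.leaf 0x10293332)
(.leaf 0)))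
(.node (.node (.leaf 0x9ece507)
(.leaf 0x29f2d567))
(.node (.leaf 0x18eccca7)
(.leaf 0))))
(.node (.node (.node (.leaf 0x5f0e400)
(.leaf 0x222f325e))
(.node (.leaf 0x1220caf8)
(.leaf 0)))
(.node (.node (.leaf 0xc4cf22d)
(.leaf 0x2c133578))
(.node (.leaf 0x1d52a9ff)
(.leaf 0))))))
(.node (.node (.node (.node (.node (.leaf 0x6b2364)
(.leaf 0x1fa4a93b))
(.node (.leaf 0xfd6b1b9)
(.leaf 0x31013664)))
(.node (.node (.leaf 0x90ce579)
(.leaf 0x28a689b3))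
(.node (.leaf 0x189b2c45)
(.leaf 0))))
(.node (.node (.node (.leaf 0x4bce2dc)
(.leaf 0x2168d2f6))
(.node (.leaf 0x11732c54)
(.leaf 0)))
(.node (.node (.leaf 0xba46b2d)
(.leaf 0x2b38b4ee))
(.node (.leaf 0x1d0093db)
(.leaf 0)))))
(.node (.node (.node (.node (.leaf 0x1fee184)
(.leaf 0x207af349))
(.node (.leaf 0x1092c730)
(.leaf 0)))
(.node (.node (.leaf 0xb01305a)
(.leaf 0x2a5c9816))
(.node (.leaf 0x1974f1fb)
(.leaf 0))))
(.node (.node (.node (.leaf 0x7006214)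
(.leaf 0x239d127e))
(.node (.leaf 0x1341258a)
(.leaf 0)))
(.node (.node (.leaf 0xd66ad3a)
(.leaf 0x2ed2f71e))
(.node (.leaf 0x1e24b128)
(.leaf 0)))))))
(.node (.node (.node (.node (.node (.node (.leaf 0x3a803c)
(.leaf 0x1f82724a))
(.node (.leaf 0xfb6e8bc)
(.leaf 0x3019386e)))
(.node (.node (.leaf 0x7dd235e)
(.leaf 0x286a9149))
(.node (.leaf 0x18812877)
(.leaf 0))))
(.node (.node (.node (.leaf 0x3930306)
(.leaf 0x2132d1fd))
(.node (.leaf 0x113e8731)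
(.leaf 0)))
(.node (.node (.leaf 0xb66b0c3)
(.leaf 0x2ae735cc))
(.node (.leaf 0x1b1d291d)
(.leaf 0)))))
(.node (.node (.node (.node (.leaf 0x1d50089)
(.leaf 0x20390b0f))
(.node (.leaf 0x105d2d07)
(.leaf 0)))
(.node (.node (.leaf 0xa20e4bf)
(.leaf 0x2a3cb67e))
(.node (.leaf 0x192924aa)
(.leaf 0))))
(.node (.node (.node (.leaf 0x69620d2)
(.leaf 0x22fb133a))
(.node (.leaf 0x12bce80c)
(.leaf 0)))
(.node (.node (.leaf 0xcab3081)
(.leaf 0x2db114d6))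
(.node (.leaf 0x1d9f13ab)
(.leaf 0))))))
(.node (.node (.node (.node (.node (.leaf 0x126c071)
(.leaf 0x1fc92634))
(.node (.leaf 0xffd2bfe)
(.leaf 0)))
(.node (.node (.leaf 0x96cc4a9)
(.leaf 0x298735f7))
(.node (.leaf 0x18bc6daa)
(.leaf 0))))
(.node (.node (.node (.leaf 0x56ac20d)
(.leaf 0x21cc6d25))
(.node (.leaf 0x11cf2e6d)
(.leaf 0)))
(.node (.node (.leaf 0xbed13b2)
(.leaf 0x2b9d366b))
(.node (.leaf 0x1d20a9fa)
(.leaf 0)))))
(.node (.node (.node (.node (.leaf 0x2372279)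
(.leaf 0x20b93374))
(.node (.leaf 0x10caa821)
(.leaf 0)))
(.node (.node (.leaf 0xb1b28dc)
(.leaf 0x2a80f83a))
(.node (.leaf 0x19d70bf3)
(.leaf 0))))
(.node (.node (.node (.leaf 0x736c46b)
(.leaf 0x245533a3))
(.node (.leaf 0x1406ebf7)
(.leaf 0)))
(.node (.node (.leaf 0xf808c1a)
(.leaf 0x2f293733))
(.node (.leaf 0x1f4b14ad)
(.leaf 0))))))))
(.node (.node (.node (.node (.node (.node (.node (.leaf 0x268331)
(.leaf 0x1f729446))
(.node (.leaf 0xfa72e57)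
(.leaf 0x2ff6b60e)))
(.node (.node (.leaf 0x78ca30e)
(.leaf 0x284925c6))
(.node (.leaf 0x15a904c4)
(.leaf 0))))
(.node (.node (.node (.leaf 0x2f30170)
(.leaf 0x21152935))
(.node (.leaf 0x1123289f)
(.leaf 0)))
(.node (.node (.leaf 0xb54e75f)
(.leaf 0x2ac316f8))
(.node (.leaf 0x1aa0c586)
(.leaf 0)))))
(.node (.node (.node (.node (.leaf 0x1c520ee)
(.leaf 0x201931e8))
(.node (.leaf 0x10468772)
(.leaf 0)))
(.node (.node (.leaf 0xa04e79b)
(.leaf 0x2a3075c0))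
(.node (.leaf 0x18ff2733)
(.leaf 0))))
(.node (.node (.node (.leaf 0x62cc2ce)
(.leaf 0x226af12b))
(.node (.leaf 0x126509e4)
(.leaf 0)))
(.node (.node (.leaf 0xc78b257)
(.leaf 0x2c7936e4))
(.node (.leaf 0x1d76efb0)
(.leaf 0))))))
(.node (.node (.node (.node (.node (.leaf 0xaf21e7)
(.leaf 0x1fb50621))
(.node (.leaf 0xfe86d33)
(.leaf 0)))
(.node (.node (.leaf 0x94eca78)
(.leaf 0x28fd148e))
(.node (.leaf 0x18aaabea)
(.leaf 0))))
(.node (.node (.node (.leaf 0x4fae40b)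
(.leaf 0x2192aa50))
(.node (.leaf 0x11a0cfb4)
(.leaf 0)))
(.node (.node (.leaf 0xbc0d485)
(.leaf 0x2b63357c))
(.node (.leaf 0x1d0ea93f)
(.leaf 0)))))
(.node (.node (.node (.node (.leaf 0x210c2d8)
(.leaf 0x209b1020))
(.node (.leaf 0x10aaef24)
(.leaf 0)))
(.node (.node (.leaf 0xb0d2bac)
(.leaf 0x2a6ed744))
(.node (.leaf 0x19a10815)
(.leaf 0))))
(.node (.node (.node (.leaf 0x72c63e1)
(.leaf 0x2410eb22))
(.node (.leaf 0x138128c8)
(.leaf 0)))
(.node (.node (.leaf 0xe53306b)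
(.leaf 0x2ef51530))
(.node (.leaf 0x1f40f038)
(.leaf 0)))))))
(.node (.node (.node (.node (.node (.node (.leaf 0x4c40f7)
(.leaf 0x1f950ab0))
(.node (.leaf 0xfc7073f)
(.leaf 0x3060f7f3)))
(.node (.node (.leaf 0x8b303f4)
(.leaf 0x287ed235))
(.node (.leaf 0x188d0d6f)
(.leaf 0))))
(.node (.node (.node (.leaf 0x4a8e16b)
(.leaf 0x214909ef))
(.node (.leaf 0x1156cc91)
(.leaf 0)))
(.node (.node (.leaf 0xb873233)
(.leaf 0x2b1b16a4))
(.node (.leaf 0x1bb3134c)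
(.leaf 0)))))
(.node (.node (.node (.node (.leaf 0x1ed01f3)
(.leaf 0x205a5259))
(.node (.leaf 0x10770bdd)
(.leaf 0)))
(.node (.node (.leaf 0xa4ea662)
(.leaf 0x2a4a97bb))
(.node (.leaf 0x19470bee)
(.leaf 0))))
(.node (.node (.node (.leaf 0x6ad233a)
(.leaf 0x2350f380))
(.node (.leaf 0x12fd1382)
(.leaf 0)))
(.node (.node (.leaf 0xcfb2928)
(.leaf 0x2ebd15e2))
(.node (.leaf 0x1de4aaee)
(.leaf 0))))))
(.node (.node (.node (.node (.node (.leaf 0x1a72270)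
(.leaf 0x1fe2c63f))
(.node (.leaf 0x1012c744)
(.leaf 0)))
(.node (.node (.leaf 0x9bce4d6)
(.leaf 0x29cd14ce))
(.node (.leaf 0x18d1258f)
(.leaf 0))))
(.node (.node (.node (.leaf 0x584e212)
(.leaf 0x220acac8))
(.node (.leaf 0x11f8a8e3)
(.leaf 0)))
(.node (.node (.leaf 0xc20b45d)
(.leaf 0x2bcd1826))
(.node (.leaf 0x1d391447)
(.leaf 0)))))
(.node (.node (.node (.node (.leaf 0x254a064)
(.leaf 0x20d7329f))
(.node (.leaf 0x10eb07d1)
(.leaf 0)))
(.node (.node (.leaf 0xb2ce94f)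
(.leaf 0x2a931710))
(.node (.leaf 0x1a0e6fd4)
(.leaf 0))))
(.node (.node (.node (.leaf 0x74f2402)
(.leaf 0x24c0d4be))
(.node (.leaf 0x1480a5df)
(.leaf 0)))
(.node (.node (.leaf 0xf8c694e)
(.leaf 0x2fd63565))
(.node (.leaf 0x1f564929)
(.leaf 0)))))))))
(.node (.node (.node (.node (.node (.node (.node (.node (.leaf 0x228019)
(.leaf 0x1f6ce6b4))
(.node (.leaf 0xfa04eee)
(.leaf 0x2fed3665)))
(.node (.node (.leaf 0x77ec327)
(.leaf 0x2624b42a))
(.node (.leaf 0x1506a594)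
(.leaf 0))))
(.node (.node (.node (.leaf 0x2aa62b2)
(.leaf 0x2104d4b2))
(.node (.leaf 0x1116cc40)
(.leaf 0)))
(.node (.node (.leaf 0xb489126)
(.leaf 0x2ab87571))
(.node (.leaf 0x1a6132e4)
(.leaf 0)))))
(.node (.node (.node (.node (.leaf 0x1bd21a1)
(.leaf 0x200b103b))
(.node (.leaf 0x103725d3)
(.leaf 0)))
(.node (.node (.leaf 0x9f729c2)
(.leaf 0x2a2a76fb))
(.node (.leaf 0x18f6f29c)
(.leaf 0))))
(.node (.node (.node (.leaf 0x6208313)
(.leaf 0x22472ae9))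
(.node (.leaf 0x124304ac)
(.leaf 0)))
(.node (.node (.leaf 0xc69096b)
(.leaf 0x2c491813))
(.node (.leaf 0x1d62f28d)
(.leaf 0))))))
(.node (.node (.node (.node (.node (.leaf 0x7a8074)
(.leaf 0x1fad0d88))
(.node (.leaf 0xfe10e2e)
(.leaf 0x311f376b)))
(.node (.node (.leaf 0x91f054d)
(.leaf 0x28be8d14))
(.node (.leaf 0x18a0ef6a)
(.leaf 0))))
(.node (.node (.node (.leaf 0x4ce8290)
(.leaf 0x217b31a6))
(.node (.leaf 0x1189087b)
(.leaf 0)))
(.node (.node (.leaf 0xbb0ace2)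
(.leaf 0x2b4ef58f))
(.node (.leaf 0x1d06d159)
(.leaf 0)))))
(.node (.node (.node (.node (.leaf 0x20701c4)
(.leaf 0x208aaff6))
(.node (.leaf 0x10a10f5f)
(.leaf 0)))
(.node (.node (.leaf 0xb066bcd)
(.leaf 0x2a653601))
(.node (.leaf 0x198ac5e2)
(.leaf 0))))
(.node (.node (.node (.leaf 0x727246f)
(.leaf 0x23d32f18))
(.node (.leaf 0x135f0c79)
(.leaf 0)))
(.node (.node (.leaf 0xddeb0cd)
(.leaf 0x2ee317d0))
(.node (.leaf 0x1e7cad2e)
(.leaf 0)))))))
(.node (.node (.node (.node (.node (.node (.leaf 0x42a143)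
(.leaf 0x1f8ad00c))
(.node (.leaf 0xfbed299)
(.leaf 0x302d189b)))
(.node (.node (.leaf 0x8a8c169)
(.leaf 0x28728bba))
(.node (.leaf 0x18870a9c)
(.leaf 0))))
(.node (.node (.node (.leaf 0x4a122a7)
(.leaf 0x213f32cf))
(.node (.leaf 0x1148cb68)
(.leaf 0)))
(.node (.node (.leaf 0xb711364)
(.leaf 0x2b011500))
(.node (.leaf 0x1b7aa845)
(.leaf 0)))))
(.node (.node (.node (.node (.leaf 0x1dce2a6)
(.leaf 0x20473467))
(.node (.leaf 0x106b0e34)
(.leaf 0)))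
(.node (.node (.leaf 0xa30c548)
(.leaf 0x2a42f67d))
(.node (.leaf 0x19371319)
(.leaf 0))))
(.node (.node (.node (.leaf 0x69d017f)
(.leaf 0x2324c9b9))
(.node (.leaf 0x12d8ccb2)
(.leaf 0)))
(.node (.node (.leaf 0xcd4b0b8)
(.leaf 0x2eb63520))
(.node (.leaf 0x1dcd0ab1)
(.leaf 0))))))
(.node (.node (.node (.node (.node (.leaf 0x1a0c348)
(.leaf 0x1fd668cc))
(.node (.leaf 0x1008f008)
(.leaf 0)))
(.node (.node (.leaf 0x97ca4cd)
(.leaf 0x299d15fd))
(.node (.leaf 0x18c4f2ff)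
(.leaf 0))))
(.node (.node (.node (.leaf 0x576a277)
(.leaf 0x21ed2b2b))
(.node (.leaf 0x11e312d3)
(.leaf 0)))
(.node (.node (.leaf 0xc0906a8)
(.leaf 0x2bbb353e))
(.node (.leaf 0x1d2ecd40)
(.leaf 0)))))
(.node (.node (.node (.node (.leaf 0x244a299)
(.leaf 0x20c6ea6f))
(.node (.leaf 0x10da67df)
(.leaf 0)))
(.node (.node (.leaf 0xb22aa14)
(.leaf 0x2a8ad6e9))
(.node (.leaf 0x19ef2bbf)
(.leaf 0))))
(.node (.node (.node (.leaf 0x74703bd)
(.leaf 0x247ecc5d))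
(.node (.leaf 0x144f2844)
(.leaf 0)))
(.node (.node (.leaf 0xf872ec0)
(.leaf 0x2f53378b))
(.node (.leaf 0x1f5130ab)
(.leaf 0))))))))
(.node (.node (.node (.node (.node (.node (.node (.leaf 0x2f20e7)
(.leaf 0x1f7ac9b0))
(.node (.leaf 0xfaf0911)
(.leaf 0x30091889)))
(.node (.node (.leaf 0x7968208)
(.leaf 0x2864eba9))
(.node (.leaf 0x173929dd)
(.leaf 0))))
(.node (.node (.node (.leaf 0x30d2401)
(.leaf 0x2120b1f1))
(.node (.leaf 0x112d2f7b)
(.leaf 0)))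
(.node (.node (.leaf 0xb5d2611)
(.leaf 0x2ad2b696))
(.node (.leaf 0x1abb25e7)
(.leaf 0)))))
(.node (.node (.node (.node (.leaf 0x1cb22be)
(.leaf 0x20272e00))
(.node (.leaf 0x1050e66a)
(.leaf 0)))
(.node (.node (.leaf 0xa11276a)
(.leaf 0x2a373599))
(.node (.leaf 0x19130ba8)
(.leaf 0))))
(.node (.node (.node (.leaf 0x644630a)
(.leaf 0x22970ba5))
(.node (.leaf 0x12a109e5)
(.leaf 0)))
(.node (.node (.leaf 0xc930a8d)
(.leaf 0x2cd8d61d))
(.node (.leaf 0x1d84d2ce)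
(.leaf 0))))))
(.node (.node (.node (.node (.node (.leaf 0xc8c16a)
(.leaf 0x1fbd0d4c))
(.node (.leaf 0xfef2fc1)
(.leaf 0)))
(.node (.node (.leaf 0x958e5a2)
(.leaf 0x292a4d4f))
(.node (.leaf 0x18b4cfe0)
(.leaf 0))))
(.node (.node (.node (.leaf 0x5632397)
(.leaf 0x21b1312f))
(.node (.leaf 0x11bd0b6c)
(.leaf 0)))
(.node (.node (.leaf 0xbd73453)
(.leaf 0x2b81171f))
(.node (.leaf 0x1d168989)
(.leaf 0)))))
(.node (.node (.node (.node (.leaf 0x22b2157)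
(.leaf 0x20aae961))
(.node (.leaf 0x10bad056)
(.leaf 0)))
(.node (.node (.leaf 0xb12ad8e)
(.leaf 0x2a78b61b))
(.node (.leaf 0x19beef8e)
(.leaf 0))))
(.node (.node (.node (.leaf 0x733237e)
(.leaf 0x243313f0))
(.node (.leaf 0x13d6e597)
(.leaf 0)))
(.node (.node (.leaf 0xe7ea68d)
(.leaf 0x2f0935fa))
(.node (.leaf 0x1f4645f3)
(.leaf 0)))))))
(.node (.node (.node (.node (.node (.node (.leaf 0x58c223)
(.leaf 0x1f9cd477))
(.node (.leaf 0xfcf0e50)
(.leaf 0x30f65659)))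
(.node (.node (.leaf 0x8cac311)
(.leaf 0x2890b43f))
(.node (.leaf 0x18932709)
(.leaf 0))))
(.node (.node (.node (.leaf 0x4b06405)
(.leaf 0x2154516f))
(.node (.leaf 0x116125e6)
(.leaf 0)))
(.node (.node (.leaf 0xb96cb32)
(.leaf 0x2b2b1532))
(.node (.leaf 0x1c192643)
(.leaf 0)))))
(.node (.node (.node (.node (.leaf 0x1f4625f)
(.leaf 0x206d1225))
(.node (.leaf 0x1088a724)
(.leaf 0)))
(.node (.node (.leaf 0xaa6a65d)
(.leaf 0x2a54d51e))
(.node (.leaf 0x19632ce6)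
(.leaf 0))))
(.node (.node (.node (.leaf 0x6f700db)
(.leaf 0x23751483))
(.node (.leaf 0x131ace2a)
(.leaf 0)))
(.node (.node (.leaf 0xd331469)
(.leaf 0x2ec5187a))
(.node (.leaf 0x1e0b31ef)
(.leaf 0))))))
(.node (.node (.node (.node (.node (.leaf 0x1ad21f2)
(.leaf 0x1ff52a4b))
(.node (.leaf 0x101f0836)
(.leaf 0)))
(.node (.node (.leaf 0x9e2e666)
(.leaf 0x29d6f4cf))
(.node (.leaf 0x18dceee1)
(.leaf 0))))
(.node (.node (.node (.leaf 0x598e22b)
(.leaf 0x221cca71))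
(.node (.leaf 0x120f28c6)
(.leaf 0)))
(.node (.node (.leaf 0xc34c863)
(.leaf 0x2be6f5eb))
(.node (.leaf 0x1d4530d9)
(.leaf 0)))))
(.node (.node (.node (.node (.leaf 0x26520ea)
(.leaf 0x20e0d2fa))
(.node (.leaf 0x10f72540)
(.leaf 0)))
(.node (.node (.leaf 0xb36f134)
(.leaf 0x2a9f366a))
(.node (.leaf 0x1a212a7a)
(.leaf 0))))
(.node (.node (.node (.leaf 0x758e45c)
(.leaf 0x24e2b055))
(.node (.leaf 0x14a70771)
(.leaf 0)))
(.node (.node (.leaf 0xf92ad5d)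
(.leaf 0x2fdad89d))
(.node (.leaf 0x1f5cab19)
(.leaf 0))))))))))))
(.node (.node (.node (.node (.node (.node (.node (.node (.node (.node (.node (.leaf 180228)
(.leaf 0x1f5ef252))
(.node (.leaf 0xf944c57)
(.leaf 0x2fdf374d)))
(.node (.node (.leaf 0x760645b)
(.leaf 0x24fb3132))
(.node (.leaf 0x14b30794)
(.leaf 0))))
(.node (.node (.node (.leaf 0x273014c)
(.leaf 0x20e4efff))
(.node (.leaf 0x10fd2c82)
(.leaf 0)))
(.node (.node (.leaf 0xb3ad3a5)
(.leaf 0x2aa13732))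
(.node (.leaf 0x1a270e67)
(.leaf 0)))))
(.node (.node (.node (.node (.leaf 0x1ae43ef)
(.leaf 0x1ffaf058))
(.node (.leaf 0x1022f21b)
(.leaf 0)))
(.node (.node (.leaf 0x9e72587)
(.leaf 0x29def511))
(.node (.leaf 0x18e0d21e)
(.leaf 0))))
(.node (.node (.node (.leaf 0x59cc233)
(.leaf 0x22250d29))
(.node (.leaf 0x12151423)
(.leaf 0)))
(.node (.node (.leaf 0xc3a948d)
(.leaf 0x2bf7175a))
(.node (.leaf 0x1d4aa89e)
(.leaf 0))))))
(.node (.node (.node (.node (.node (.leaf 0x5d0317)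
(.leaf 0x1fa069f1))
(.node (.leaf 0xfd2c887)
(.leaf 0x30f897af)))
(.node (.node (.leaf 0x8e70458)
(.leaf 0x28966d96))
(.node (.leaf 0x189684d5)
(.leaf 0))))
(.node (.node (.node (.leaf 0x4b6c0a4)
(.leaf 0x215d112d))
(.node (.leaf 0x11688d03)
(.leaf 0)))
(.node (.node (.leaf 0xb9d2b9d)
(.leaf 0x2b30551b))
(.node (.leaf 0x1cff0608)
(.leaf 0)))))
(.node (.node (.node (.node (.leaf 0x1f8e029)
(.leaf 0x2074ea2d))
(.node (.leaf 0x108ad2a7)
(.leaf 0)))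
(.node (.node (.leaf 0xafe69a8)
(.leaf 0x2a56d7a8))
(.node (.leaf 0x196d2db2)
(.leaf 0))))
(.node (.node (.node (.leaf 0x6fb20e1)
(.leaf 0x237f07e0))
(.node (.leaf 0x132929e3)
(.leaf 0)))
(.node (.node (.leaf 0xd410b26)
(.leaf 0x2eccf6fe))
(.node (.leaf 0x1e18cb1c)
(.leaf 0)))))))
(.node (.node (.node (.node (.node (.node (.leaf 0x30a0b6)
(.leaf 0x1f7f26e6))
(.node (.leaf 0xfb0a915)
(.leaf 0x3012b56d)))
(.node (.node (.leaf 0x7ac8362)
(.leaf 0x2866f236))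
(.node (.leaf 0x187e888a)
(.leaf 0))))
(.node (.node (.node (.leaf 0x322a0f5)
(.leaf 0x2124b11e))
(.node (.leaf 0x11370576)
(.leaf 0)))
(.node (.node (.leaf 0xb60ad86)
(.leaf 0x2adb3509))
(.node (.leaf 0x1b00e8d6)
(.leaf 0)))))
(.node (.node (.node (.node (.leaf 0x1cee2ac)
(.leaf 0x202d1173))
(.node (.leaf 0x10552cdc)
(.leaf 0)))
(.node (.node (.leaf 0xa1724e1)
(.leaf 0x2a391818))
(.node (.leaf 0x191b0b6a)
(.leaf 0))))
(.node (.node (.node (.leaf 0x67ee217)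
(.leaf 0x22af2640))
(.node (.leaf 0x12aca97d)
(.leaf 0)))
(.node (.node (.leaf 0xc9b145a)
(.leaf 0x2cf5169e))
(.node (.leaf 0x1d973378)
(.leaf 0))))))
(.node (.node (.node (.node (.node (.leaf 0xd8a0f0)
(.leaf 0x1fc08512))
(.node (.leaf 0xff5084b)
(.leaf 0)))
(.node (.node (.leaf 0x95ea495)
(.leaf 0x298334c7))
(.node (.leaf 0x18b867c4)
(.leaf 0))))
(.node (.node (.node (.leaf 0x5650336)
(.leaf 0x21b8d2f1))
(.node (.leaf 0x11c2abf5)
(.leaf 0)))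
(.node (.node (.leaf 0xbdcb3cc)
(.leaf 0x2b9115a3))
(.node (.leaf 0x1d19123e)
(.leaf 0)))))
(.node (.node (.node (.node (.leaf 0x230a036)
(.leaf 0x20af2503))
(.node (.leaf 0x10c10e8b)
(.leaf 0)))
(.node (.node (.leaf 0xb153448)
(.leaf 0x2a7af661))
(.node (.leaf 0x19c92f78)
(.leaf 0))))
(.node (.node (.node (.leaf 0x734438b)
(.leaf 0x243cd014))
(.node (.leaf 0x13e32979)
(.leaf 0)))
(.node (.node (.leaf 0xf7e876f)
(.leaf 0x2f11357b))
(.node (.leaf 0x1f48cd44)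
(.leaf 0))))))))
(.node (.node (.node (.node (.node (.node (.node (.leaf 0x22e262)
(.leaf 0x1f6e486b))
(.node (.leaf 0xfa28870)
(.leaf 0x2ff1386a)))
(.node (.node (.leaf 0x782845d)
(.leaf 0x283e4580))
(.node (.leaf 0x152f0536)
(.leaf 0))))
(.node (.node (.node (.leaf 0x2b320a6)
(.leaf 0x210c8aa7))
(.node (.leaf 0x111b07f5)
(.leaf 0)))
(.node (.node (.leaf 0xb4c6566)
(.leaf 0x2abd3607))
(.node (.leaf 0x1a83088e)
(.leaf 0)))))
(.node (.node (.node (.node (.leaf 0x1bee108)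
(.leaf 0x200eb1c1))
(.node (.leaf 0x103d1367)
(.leaf 0)))
(.node (.node (.leaf 0x9fec4b1)
(.leaf 0x2a2cd6c4))
(.node (.leaf 0x18f8f1e2)
(.leaf 0))))
(.node (.node (.node (.leaf 0x625024a)
(.leaf 0x224ef1ab))
(.node (.leaf 0x124c6be0)
(.leaf 0)))
(.node (.node (.leaf 0xc6ead49)
(.leaf 0x2c56f69f))
(.node (.leaf 0x1d687498)
(.leaf 0))))))
(.node (.node (.node (.node (.node (.leaf 0x82e2c6)
(.leaf 0x1faf07ae))
(.node (.leaf 0xfe328c0)
(.leaf 0)))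
(.node (.node (.leaf 0x926e757)
(.leaf 0x28cf1215))
(.node (.leaf 0x18a4c6ec)
(.leaf 0))))
(.node (.node (.node (.leaf 0x4df01e1)
(.leaf 0x218529a6))
(.node (.leaf 0x1190a54a)
(.leaf 0)))
(.node (.node (.leaf 0xbb72e95)
(.leaf 0x2b53354a))
(.node (.leaf 0x1d0aaa22)
(.leaf 0)))))
(.node (.node (.node (.node (.leaf 0x20b2132)
(.leaf 0x208eb2cd))
(.node (.leaf 0x10a29239)
(.leaf 0)))
(.node (.node (.leaf 0xb08cff3)
(.leaf 0x2a6917a5))
(.node (.leaf 0x199105ab)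
(.leaf 0))))
(.node (.node (.node (.leaf 0x72b01d9)
(.leaf 0x23f0afa6))
(.node (.leaf 0x1368efc4)
(.leaf 0)))
(.node (.node (.leaf 0xe16ad11)
(.leaf 0x2eeb17b0))
(.node (.leaf 0x1f3f0624)
(.leaf 0)))))))
(.node (.node (.node (.node (.node (.node (.leaf 0x44a27b)
(.leaf 0x1f8eaf9a))
(.node (.leaf 0xfc0d2a5)
(.leaf 0x303b3738)))
(.node (.node (.leaf 0x8ad226f)
(.leaf 0x2876f1fe))
(.node (.leaf 0x1888c954)
(.leaf 0))))
(.node (.node (.node (.leaf 0x4a28404)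
(.leaf 0x2142adff))
(.node (.leaf 0x114ece8a)
(.leaf 0)))
(.node (.node (.leaf 0xb7ca57d)
(.leaf 0x2b08d66f))
(.node (.leaf 0x1b892ce4)
(.leaf 0)))))
(.node (.node (.node (.node (.leaf 0x1e30148)
(.leaf 0x204af27b))
(.node (.leaf 0x106ec825)
(.leaf 0)))
(.node (.node (.leaf 0xa38c769)
(.leaf 0x2a471684))
(.node (.leaf 0x193ee828)
(.leaf 0))))
(.node (.node (.node (.leaf 0x6a2c1e4)
(.leaf 0x23311274))
(.node (.leaf 0x12e52714)
(.leaf 0)))
(.node (.node (.leaf 0xce910b2)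
(.leaf 0x2eb6762d))
(.node (.leaf 0x1dd3339b)
(.leaf 0))))))
(.node (.node (.node (.node (.node (.leaf 0x1a2e345)
(.leaf 0x1fdaa78e))
(.node (.leaf 0x100c8b82)
(.leaf 0)))
(.node (.node (.leaf 0x9a6e562)
(.leaf 0x29b2d4f6))
(.node (.leaf 0x18c8d4bd)
(.leaf 0))))
(.node (.node (.node (.leaf 0x57b23b4)
(.leaf 0x21f8b1b1))
(.node (.leaf 0x11eb0be7)
(.leaf 0)))
(.node (.node (.leaf 0xc12c508)
(.leaf 0x2bbcb6e8))
(.node (.leaf 0x1d30d255)
(.leaf 0)))))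
(.node (.node (.node (.node (.leaf 0x2490323)
(.leaf 0x20cb0b53))
(.node (.leaf 0x10e06eca)
(.leaf 0)))
(.node (.node (.leaf 0xb26e7a8)
(.leaf 0x2a8d37ff))
(.node (.leaf 0x19fd2c8c)
(.leaf 0))))
(.node (.node (.node (.leaf 0x74b2467)
(.leaf 0x248ad0be))
(.node (.leaf 0x14633404)
(.leaf 0)))
(.node (.node (.leaf 0xf88f1da)
(.leaf 0x2f62d672))
(.node (.leaf 0x1f52f16b)
(.leaf 0)))))))))
(.node (.node (.node (.node (.node (.node (.node (.node (.leaf 0x1e405a)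
(.leaf 0x1f665168))
(.node (.leaf 0xf9af387)
(.leaf 0x2fe6d7ed)))
(.node (.node (.leaf 0x776e3cb)
(.leaf 0x25b711b0))
(.node (.leaf 0x14d72ce7)
(.leaf 0))))
(.node (.node (.node (.leaf 0x29d2269)
(.leaf 0x20fcadf9))
(.node (.leaf 0x111127d0)
(.leaf 0)))
(.node (.node (.leaf 0xb444d17)
(.leaf 0x2ab1166c))
(.node (.leaf 0x1a46ce86)
(.leaf 0)))))
(.node (.node (.node (.node (.leaf 0x1b6e3a5)
(.leaf 0x2004cced))
(.node (.leaf 0x102d30b7)
(.leaf 0)))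
(.node (.node (.leaf 0x9f12547)
(.leaf 0x29fb359d))
(.node (.leaf 0x18f0eb67)
(.leaf 0))))
(.node (.node (.node (.leaf 0x61e4072)
(.leaf 0x2237147e))
(.node (.leaf 0x12270c27)
(.leaf 0)))
(.node (.node (.leaf 0xc570b47)
(.leaf 0x2c2334fe))
(.node (.leaf 0x1d572d2b)
(.leaf 0))))))
(.node (.node (.node (.node (.node (.leaf 0x73219b)
(.leaf 0x1fa71342))
(.node (.leaf 0xfdb0e1a)
(.leaf 0x3102d878)))
(.node (.node (.leaf 0x910c577)
(.leaf 0x28ab0b48))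
(.node (.leaf 0x189caeea)
(.leaf 0))))
(.node (.node (.node (.leaf 0x4c32082)
(.leaf 0x216cf438))
(.node (.leaf 0x117b2eb9)
(.leaf 0)))
(.node (.node (.leaf 0xba8aa82)
(.leaf 0x2b3ed7a4))
(.node (.leaf 0x1d029435)
(.leaf 0)))))
(.node (.node (.node (.node (.leaf 0x2012378)
(.leaf 0x2080aa20))
(.node (.leaf 0x109b2cb5)
(.leaf 0)))
(.node (.node (.leaf 0xb033036)
(.leaf 0x2a6055ea))
(.node (.leaf 0x197f060b)
(.leaf 0))))
(.node (.node (.node (.leaf 0x718c464)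
(.leaf 0x23aad1bf))
(.node (.leaf 0x13513049)
(.leaf 0)))
(.node (.node (.leaf 0xd78b076)
(.leaf 0x2ed8f5e6))
(.node (.leaf 0x1e412de0)
(.leaf 0)))))))
(.node (.node (.node (.node (.node (.node (.leaf 0x3d0211)
(.leaf 0x1f86ebb7))
(.node (.leaf 0xfbaaa6d)
(.leaf 0x301cb851)))
(.node (.node (.leaf 0x87b2387)
(.leaf 0x286e53a2))
(.node (.leaf 0x18832bdb)
(.leaf 0))))
(.node (.node (.node (.leaf 0x49e604a)
(.leaf 0x2138eece))
(.node (.leaf 0x1140d356)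
(.leaf 0)))
(.node (.node (.leaf 0xb6b2f6d)
(.leaf 0x2af0f575))
(.node (.leaf 0x1b4928b2)
(.leaf 0)))))
(.node (.node (.node (.node (.leaf 0x1d8c067)
(.leaf 0x203cf1e9))
(.node (.leaf 0x1063273d)
(.leaf 0)))
(.node (.node (.leaf 0xa2927c0)
(.leaf 0x2a3ed644))
(.node (.leaf 0x19310f64)
(.leaf 0))))
(.node (.node (.node (.leaf 0x698a095)
(.leaf 0x230712f2))
(.node (.leaf 0x12caa718)
(.leaf 0)))
(.node (.node (.leaf 0xcb93475)
(.leaf 0x2def15e9))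
(.node (.leaf 0x1db6aff2)
(.leaf 0))))))
(.node (.node (.node (.node (.node (.leaf 0x19ea02c)
(.leaf 0x1fcd3490))
(.node (.leaf 0x1002ecba)
(.leaf 0)))
(.node (.node (.leaf 0x970a668)
(.leaf 0x298eb4da))
(.node (.leaf 0x18bf1141)
(.leaf 0))))
(.node (.node (.node (.leaf 0x56f0316)
(.leaf 0x21d52a5d))
(.node (.leaf 0x11d6eedf)
(.leaf 0)))
(.node (.node (.leaf 0xbf91440)
(.leaf 0x2ba737c8))
(.node (.leaf 0x1d22914b)
(.leaf 0)))))
(.node (.node (.node (.node (.leaf 0x23d02f7)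
(.leaf 0x20bd33c5))
(.node (.leaf 0x10ced40c)
(.leaf 0)))
(.node (.node (.leaf 0xb1d33b0)
(.leaf 0x2a85358a))
(.node (.leaf 0x19dd2c7b)
(.leaf 0))))
(.node (.node (.node (.leaf 0x73ea373)
(.leaf 0x245ef400))
(.node (.leaf 0x141ec913)
(.leaf 0)))
(.node (.node (.leaf 0xf82d1e3)
(.leaf 0x2f36f803))
(.node (.leaf 0x1f4cf3b8)
(.leaf 0))))))))
(.node (.node (.node (.node (.node (.node (.node (.leaf 0x2a8023)
(.leaf 0x1f76c77c))
(.node (.leaf 0xfa93148)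
(.leaf 0x2ffcb7f6)))
(.node (.node (.leaf 0x790e3bc)
(.leaf 0x28622670))
(.node (.leaf 0x15fb2c2a)
(.leaf 0))))
(.node (.node (.node (.leaf 0x2fb218c)
(.leaf 0x211ad26f))
(.node (.leaf 0x1126af5d)
(.leaf 0)))
(.node (.node (.leaf 0xb56f3de)
(.leaf 0x2ac717a6))
(.node (.leaf 0x1aaaedcd)
(.leaf 0)))))
(.node (.node (.node (.node (.leaf 0x1c6628a)
(.leaf 0x2020e8f0))
(.node (.leaf 0x1048cb01)
(.leaf 0)))
(.node (.node (.leaf 0xa08a699)
(.leaf 0x2a32b62b))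
(.node (.leaf 0x190908d2)
(.leaf 0))))
(.node (.node (.node (.leaf 0x6312261)
(.leaf 0x227af14e))
(.node (.leaf 0x127671dc)
(.leaf 0)))
(.node (.node (.leaf 0xc8134a5)
(.leaf 0x2c8eb736))
(.node (.leaf 0x1d7b0fe6)
(.leaf 0))))))
(.node (.node (.node (.node (.node (.leaf 0xb502e3)
(.leaf 0x1fb6d152))
(.node (.leaf 0xfeae700)
(.leaf 0)))
(.node (.node (.leaf 0x952c5f0)
(.leaf 0x2909116c))
(.node (.leaf 0x18ae4738)
(.leaf 0))))
(.node (.node (.node (.leaf 0x55f2199)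
(.leaf 0x219d2aa6))
(.node (.leaf 0x11aece59)
(.leaf 0)))
(.node (.node (.leaf 0xbcaaadf)
(.leaf 0x2b731671))
(.node (.leaf 0x1d108eda)
(.leaf 0)))))
(.node (.node (.node (.node (.leaf 0x21920fe)
(.leaf 0x209eb219))
(.node (.leaf 0x10b2a87e)
(.leaf 0)))
(.node (.node (.leaf 0xb0e522f)
(.leaf 0x2a731557))
(.node (.leaf 0x19ad3282)
(.leaf 0))))
(.node (.node (.node (.leaf 0x72e841c)
(.leaf 0x2420f3c4))
(.node (.leaf 0x139b2dce)
(.leaf 0)))
(.node (.node (.leaf 0xe60aec5)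
(.leaf 0x2efa550e))
(.node (.leaf 0x1f430a2f)
(.leaf 0)))))))
(.node (.node (.node (.node (.node (.node (.leaf 0x50c080)
(.leaf 0x1f992df3))
(.node (.leaf 0xfc850f5)
(.leaf 0x309cb7c5)))
(.node (.node (.leaf 0x8b723f3)
(.leaf 0x28852d0f))
(.node (.leaf 0x188eacb3)
(.leaf 0))))
(.node (.node (.node (.leaf 0x4ab02ca)
(.leaf 0x214ec655))
(.node (.leaf 0x115b0db6)
(.leaf 0)))
(.node (.node (.leaf 0xb8f05f6)
(.leaf 0x2b1cd809))
(.node (.leaf 0x1bd72f44)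
(.leaf 0)))))
(.node (.node (.node (.node (.leaf 0x1f1208d)
(.leaf 0x20611123))
(.node (.leaf 0x107b0c86)
(.leaf 0)))
(.node (.node (.leaf 0xa572925)
(.leaf 0x2a4f15e5))
(.node (.leaf 0x19512f47)
(.leaf 0))))
(.node (.node (.node (.leaf 0x6b8a1e6)
(.leaf 0x236332e8))
(.node (.leaf 0x13092b23)
(.leaf 0)))
(.node (.node (.leaf 0xd0f30eb)
(.leaf 0x2ebe75da))
(.node (.leaf 0x1dfb2cc1)
(.leaf 0))))))
(.node (.node (.node (.node (.node (.leaf 0x1a8c2db)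
(.leaf 0x1fe926e3))
(.node (.leaf 0x10170dba)
(.leaf 0)))
(.node (.node (.leaf 0x9dea4e2)
(.leaf 0x29cef598))
(.node (.leaf 0x18d2ce76)
(.leaf 0))))
(.node (.node (.node (.leaf 0x58ee112)
(.leaf 0x220ea9b6))
(.node (.leaf 0x1202ac71)
(.leaf 0)))
(.node (.node (.leaf 0xc2b13b6)
(.leaf 0x2bd5172b))
(.node (.leaf 0x1d3d31c2)
(.leaf 0)))))
(.node (.node (.node (.node (.leaf 0x258c3ff)
(.leaf 0x20db2f53))
(.node (.leaf 0x10ef259f)
(.leaf 0)))
(.node (.node (.leaf 0xb2f145b)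
(.leaf 0x2a96d7cf))
(.node (.leaf 0x1a12932f)
(.leaf 0))))
(.node (.node (.node (.leaf 0x7530433)
(.leaf 0x24cc54a4))
(.node (.leaf 0x148ae53b)
(.leaf 0)))
(.node (.node (.leaf 0xf8e5389)
(.leaf 0x2fd6788c))
(.node (.leaf 0x1f5931aa)
(.leaf 0))))))))))
(.node (.node (.node (.node (.node (.node (.node (.node (.node (.leaf 0x130008)
(.leaf 0x1f6310fc))
(.node (.leaf 0xf96eed1)
(.leaf 0x2fe2d83e)))
(.node (.node (.leaf 0x76aa350)
(.leaf 0x252aaa6e))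
(.node (.leaf 0x14c50c2e)
(.leaf 0))))
(.node (.node (.node (.leaf 0x28280a3)
(.leaf 0x20eec66f))
(.node (.leaf 0x110712a1)
(.leaf 0)))
(.node (.node (.leaf 0xb4067b3)
(.leaf 0x2aa6b6c9))
(.node (.leaf 0x1a34e8c2)
(.leaf 0)))))
(.node (.node (.node (.node (.leaf 0x1b2c11d)
(.leaf 0x1ffed124))
(.node (.leaf 0x1026714a)
(.leaf 0)))
(.node (.node (.leaf 0x9eae4ce)
(.leaf 0x29f0d504))
(.node (.leaf 0x18eaec21)
(.leaf 0))))
(.node (.node (.node (.leaf 0x5b5039f)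
(.leaf 0x222eca19))
(.node (.leaf 0x121c73e1)
(.leaf 0)))
(.node (.node (.leaf 0xc4b0b0a)
(.leaf 0x2c0f375d))
(.node (.leaf 0x1d513434)
(.leaf 0))))))
(.node (.node (.node (.node (.node (.leaf 0x64a19a)
(.leaf 0x1fa50791))
(.node (.leaf 0xfd6cf67)
(.leaf 0x30fef893)))
(.node (.node (.leaf 0x90b2552)
(.leaf 0x28a129bd))
(.node (.leaf 0x189b07cb)
(.leaf 0))))
(.node (.node (.node (.leaf 0x4bac454)
(.leaf 0x2166d388))
(.node (.leaf 0x117110ef)
(.leaf 0)))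
(.node (.node (.leaf 0xba4a9cd)
(.leaf 0x2b3675e3))
(.node (.leaf 0x1d00eda5)
(.leaf 0)))))
(.node (.node (.node (.node (.leaf 0x1fce1c1)
(.leaf 0x20791283))
(.node (.leaf 0x1090c609)
(.leaf 0)))
(.node (.node (.leaf 0xb0069cc)
(.leaf 0x2a5cf72e))
(.node (.leaf 0x19732acc)
(.leaf 0))))
(.node (.node (.node (.leaf 0x6ff0461)
(.leaf 0x23990e19))
(.node (.leaf 0x133caacd)
(.leaf 0)))
(.node (.node (.leaf 0xd612776)
(.leaf 0x2ed27669))
(.node (.leaf 0x1e22e78d)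
(.leaf 0)))))))
(.node (.node (.node (.node (.node (.node (.leaf 0x37025e)
(.leaf 0x1f832dd8))
(.node (.leaf 0xfb4d0ee)
(.leaf 0x3018f817)))
(.node (.node (.leaf 0x7cd21b2)
(.leaf 0x286a4bc9))
(.node (.leaf 0x1880a809)
(.leaf 0))))
(.node (.node (.node (.leaf 0x351204b)
(.leaf 0x2130efe4))
(.node (.leaf 0x113d0fd1)
(.leaf 0)))
(.node (.node (.leaf 0xb668de9)
(.leaf 0x2ae116d7))
(.node (.leaf 0x1b170fa1)
(.leaf 0)))))
(.node (.node (.node (.node (.leaf 0x1d2c30c)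
(.leaf 0x2036e4eb))
(.node (.leaf 0x105aa97b)
(.leaf 0)))
(.node (.node (.leaf 0xa1f048e)
(.leaf 0x2a3c7675))
(.node (.leaf 0x1926e707)
(.leaf 0))))
(.node (.node (.node (.leaf 0x688e3df)
(.leaf 0x22ed0ff5))
(.node (.leaf 0x12bae72c)
(.leaf 0)))
(.node (.node (.leaf 0xca7262d)
(.leaf 0x2daad521))
(.node (.leaf 0x1d9a7468)
(.leaf 0))))))
(.node (.node (.node (.node (.node (.leaf 0x11ea045)
(.leaf 0x1fc6ade5))
(.node (.leaf 0xffd090a)
(.leaf 0)))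
(.node (.node (.leaf 0x96904a4)
(.leaf 0x2986f4ec))
(.node (.leaf 0x18ba7163)
(.leaf 0))))
(.node (.node (.node (.leaf 0x56ae181)
(.leaf 0x21c71099))
(.node (.leaf 0x11cd08ca)
(.leaf 0)))
(.node (.node (.leaf 0xbe70b42)
(.leaf 0x2b99172f))
(.node (.leaf 0x1d1eca61)
(.leaf 0)))))
(.node (.node (.node (.node (.leaf 0x235236a)
(.leaf 0x20b67042))
(.node (.leaf 0x10c8cef6)
(.leaf 0)))
(.node (.node (.leaf 0xb188d43)
(.leaf 0x2a80d6a3))
(.node (.leaf 0x19d2ef4d)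
(.leaf 0))))
(.node (.node (.node (.leaf 0x736e450)
(.leaf 0x2452d0b3))
(.node (.leaf 0x14049328)
(.leaf 0)))
(.node (.node (.leaf 0xf80e717)
(.leaf 0x2f2535bb))
(.node (.leaf 0x1f4acaaf)
(.leaf 0))))))))
(.node (.node (.node (.node (.node (.node (.node (.leaf 0x266185)
(.leaf 0x1f732a0b))
(.node (.leaf 0xfa668a1)
(.leaf 0x2ff49890)))
(.node (.node (.leaf 0x78cc228)
(.leaf 0x284507ee))
(.node (.leaf 0x159ca904)
(.leaf 0))))
(.node (.node (.node (.leaf 0x2e32018)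
(.leaf 0x2112cd0c))
(.node (.leaf 0x1120acf1)
(.leaf 0)))
(.node (.node (.leaf 0xb52699a)
(.leaf 0x2ac117c4))
(.node (.leaf 0x1a9d2857)
(.leaf 0)))))
(.node (.node (.node (.node (.leaf 0x1c2e173)
(.leaf 0x2016b0b9))
(.node (.leaf 0x10450ea5)
(.leaf 0)))
(.node (.node (.leaf 0xa04c486)
(.leaf 0x2a2e7866))
(.node (.leaf 0x18fcebed)
(.leaf 0))))
(.node (.node (.node (.leaf 0x62843ac)
(.leaf 0x226acacb))
(.node (.leaf 0x125ec914)
(.leaf 0)))
(.node (.node (.leaf 0xc78c9a9)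
(.leaf 0x2c6d36c8))
(.node (.leaf 0x1d72d3b5)
(.leaf 0))))))
(.node (.node (.node (.node (.node (.leaf 0xa90349)
(.leaf 0x1fb2d0ea))
(.node (.leaf 0xfe92a95)
(.leaf 0)))
(.node (.node (.leaf 0x94f2684)
(.leaf 0x28f309c3))
(.node (.leaf 0x18ab279d)
(.leaf 0))))
(.node (.node (.node (.leaf 0x4eea1b6)
(.leaf 0x218eb1ca))
(.node (.leaf 0x119f089c)
(.leaf 0)))
(.node (.node (.leaf 0xbc0b102)
(.leaf 0x2b5cb591))
(.node (.leaf 0x1d0cd0bd)
(.leaf 0)))))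
(.node (.node (.node (.node (.leaf 0x2110145)
(.leaf 0x2098a63c))
(.node (.leaf 0x10a8ad9d)
(.leaf 0)))
(.node (.node (.leaf 0xb0aada4)
(.leaf 0x2a6f15f1))
(.node (.leaf 0x199b2905)
(.leaf 0))))
(.node (.node (.node (.leaf 0x72ca263)
(.leaf 0x240af398))
(.node (.leaf 0x137d290b)
(.leaf 0)))
(.node (.node (.leaf 0xe46d441)
(.leaf 0x2ef2d63a))
(.node (.leaf 0x1f40664e)
(.leaf 0)))))))
(.node (.node (.node (.node (.node (.node (.leaf 0x4aa083)
(.leaf 0x1f94e57e))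
(.node (.leaf 0xfc4735e)
(.leaf 0x305f17e1)))
(.node (.node (.leaf 0x8b10452)
(.leaf 0x287d34af))
(.node (.leaf 0x188cc737)
(.leaf 0))))
(.node (.node (.node (.leaf 0x4a66320)
(.leaf 0x214713dc))
(.node (.leaf 0x11530a9b)
(.leaf 0)))
(.node (.node (.leaf 0xb85113a)
(.leaf 0x2b1a95db))
(.node (.leaf 0x1ba4c8f4)
(.leaf 0)))))
(.node (.node (.node (.node (.leaf 0x1eac271)
(.leaf 0x205b2639))
(.node (.leaf 0x1074ae4d)
(.leaf 0)))
(.node (.node (.leaf 0xa4ca75a)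
(.leaf 0x2a4b355a))
(.node (.leaf 0x19452f74)
(.leaf 0))))
(.node (.node (.node (.leaf 0x6a8a3e7)
(.leaf 0x234309f9))
(.node (.leaf 0x12f8ce60)
(.leaf 0)))
(.node (.node (.leaf 0xcf6b25b)
(.leaf 0x2ebad639))
(.node (.leaf 0x1de0aa1b)
(.leaf 0))))))
(.node (.node (.node (.node (.node (.leaf 0x1a6a08a)
(.leaf 0x1fe0ca57))
(.node (.leaf 0x10112f3f)
(.leaf 0)))
(.node (.node (.leaf 0x9b4c5bc)
(.leaf 0x29cad583))
(.node (.leaf 0x18cf0b8a)
(.leaf 0))))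
(.node (.node (.node (.leaf 0x582e3d1)
(.leaf 0x2206f3ef))
(.node (.leaf 0x11f72916)
(.leaf 0)))
(.node (.node (.leaf 0xc20cd70)
(.leaf 0x2bc5177f))
(.node (.leaf 0x1d388782)
(.leaf 0)))))
(.node (.node (.node (.node (.leaf 0x250c443)
(.leaf 0x20d48d64))
(.node (.leaf 0x10e8eb51)
(.leaf 0)))
(.node (.node (.leaf 0xb2b109d)
(.leaf 0x2a92952c))
(.node (.leaf 0x1a08ecc4)
(.leaf 0))))
(.node (.node (.node (.leaf 0x74ea34e)
(.leaf 0x24b2c6e8))
(.node (.leaf 0x147aec22)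
(.leaf 0)))
(.node (.node (.leaf 0xf8cc5be)
(.leaf 0x2f84d58d))
(.node (.leaf 0x1f553019)
(.leaf 0)))))))))
(.node (.node (.node (.node (.node (.node (.node (.node (.leaf 0x20c265)
(.leaf 0x1f6a701a))
(.node (.leaf 0xf9eb0f4)
(.leaf 0x2feab7df)))
(.node (.node (.leaf 0x77d037d)
(.leaf 0x25f31059))
(.node (.leaf 0x14f51105)
(.leaf 0))))
(.node (.node (.node (.leaf 0x2a8a432)
(.leaf 0x2102cef3))
(.node (.leaf 0x111725da)
(.leaf 0)))
(.node (.node (.leaf 0xb490d2a)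
(.leaf 0x2ab715df))
(.node (.leaf 0x1a5f0ce5)
(.leaf 0)))))
(.node (.node (.node (.node (.leaf 0x1bae3f9)
(.leaf 0x2008ab9f))
(.node (.leaf 0x10350627)
(.leaf 0)))
(.node (.node (.leaf 0x9f4a56b)
(.leaf 0x2a2ab685))
(.node (.leaf 0x18f6c8a6)
(.leaf 0))))
(.node (.node (.node (.leaf 0x62121a5)
(.leaf 0x2242b02d))
(.node (.leaf 0x123d0583)
(.leaf 0)))
(.node (.node (.leaf 0xc670604)
(.leaf 0x2c3ed745))
(.node (.leaf 0x1d62a62e)
(.leaf 0))))))
(.node (.node (.node (.node (.node (.leaf 0x790257)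
(.leaf 0x1faab3bb))
(.node (.leaf 0xfdeaec8)
(.leaf 0x311d169b)))
(.node (.node (.leaf 0x91ae5cf)
(.leaf 0x28b51287))
(.node (.leaf 0x18a08722)
(.leaf 0))))
(.node (.node (.node (.leaf 0x4cc616f)
(.leaf 0x21748ff8))
(.node (.leaf 0x1184f2ad)
(.leaf 0)))
(.node (.node (.leaf 0xbaf32cb)
(.leaf 0x2b4b17c9))
(.node (.leaf 0x1d06f0ad)
(.leaf 0)))))
(.node (.node (.node (.node (.leaf 0x20660f2)
(.leaf 0x2088f032))
(.node (.leaf 0x10a08759)
(.leaf 0)))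
(.node (.node (.leaf 0xb04d175)
(.leaf 0x2a6277fd))
(.node (.leaf 0x1986f34d)
(.leaf 0))))
(.node (.node (.node (.leaf 0x726c424)
(.leaf 0x23c2b265))
(.node (.leaf 0x135aae5b)
(.leaf 0)))
(.node (.node (.leaf 0xdd0b070)
(.leaf 0x2ee0f682))
(.node (.leaf 0x1e792b5e)
(.leaf 0)))))))
(.node (.node (.node (.node (.node (.node (.leaf 0x408376)
(.leaf 0x1f8b27e9))
(.node (.leaf 0xfbf285f)
(.leaf 0x302ad82d)))
(.node (.node (.leaf 0x8a70428)
(.leaf 0x287327e6))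
(.node (.leaf 0x1884f414)
(.leaf 0))))
(.node (.node (.node (.leaf 0x4a08249)
(.leaf 0x213c72cc))
(.node (.leaf 0x114691ba)
(.leaf 0)))
(.node (.node (.leaf 0xb7130dc)
(.leaf 0x2afd378d))
(.node (.leaf 0x1b7924ab)
(.leaf 0)))))
(.node (.node (.node (.node (.leaf 0x1dc815b)
(.leaf 0x2046692f))
(.node (.leaf 0x106b2b56)
(.leaf 0)))
(.node (.node (.leaf 0xa2ec685)
(.leaf 0x2a4315cf))
(.node (.leaf 0x19366b59)
(.leaf 0))))
(.node (.node (.node (.leaf 0x69b03dc)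
(.leaf 0x231f132d))
(.node (.leaf 0x12d8e5dd)
(.leaf 0)))
(.node (.node (.leaf 0xcd30fbf)
(.leaf 0x2eb33516))
(.node (.leaf 0x1dc4545c)
(.leaf 0))))))
(.node (.node (.node (.node (.node (.leaf 0x1a0e1eb)
(.leaf 0x1fd4b08f))
(.node (.leaf 0x100867cc)
(.leaf 0)))
(.node (.node (.leaf 0x97704ca)
(.leaf 0x299b34d0))
(.node (.leaf 0x18c44e71)
(.leaf 0))))
(.node (.node (.node (.leaf 0x57523b3)
(.leaf 0x21e65199))
(.node (.leaf 0x11e131c8)
(.leaf 0)))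
(.node (.node (.leaf 0xc005346)
(.leaf 0x2bb715de))
(.node (.leaf 0x1d2cb02a)
(.leaf 0)))))
(.node (.node (.node (.node (.leaf 0x242e281)
(.leaf 0x20c32f35))
(.node (.leaf 0x10d92aed)
(.leaf 0)))
(.node (.node (.leaf 0xb20ae03)
(.leaf 0x2a88d723))
(.node (.leaf 0x19ed0c85)
(.leaf 0))))
(.node (.node (.node (.leaf 0x746e2f6)
(.leaf 0x2477100e))
(.node (.leaf 0x144926cb)
(.leaf 0)))
(.node (.node (.leaf 0xf870b05)
(.leaf 0x2f4d3811))
(.node (.leaf 0x1f50ca53)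
(.leaf 0))))))))
(.node (.node (.node (.node (.node (.node (.node (.leaf 0x2d0352)
(.leaf 0x1f78d1f6))
(.node (.leaf 0xface990)
(.leaf 0x30073775)))
(.node (.node (.leaf 0x7950447)
(.leaf 0x2864caca))
(.node (.leaf 0x1704a5e1)
(.leaf 0))))
(.node (.node (.node (.leaf 0x3072342)
(.leaf 0x21210b35))
(.node (.leaf 0x112c48ee)
(.leaf 0)))
(.node (.node (.leaf 0xb5ad478)
(.leaf 0x2ad1368b))
(.node (.leaf 0x1ab8701e)
(.leaf 0)))))
(.node (.node (.node (.node (.leaf 0x1cac1c0)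
(.leaf 0x2024e981))
(.node (.leaf 0x104eb19b)
(.leaf 0)))
(.node (.node (.leaf 0xa10c49d)
(.leaf 0x2a34f746))
(.node (.leaf 0x19112a90)
(.leaf 0))))
(.node (.node (.node (.leaf 0x640839a)
(.leaf 0x22910cf7))
(.node (.leaf 0x129b051e)
(.leaf 0)))
(.node (.node (.leaf 0xc8f3111)
(.leaf 0x2cced694))
(.node (.leaf 0x1d82b10d)
(.leaf 0))))))
(.node (.node (.node (.node (.node (.leaf 0xc6a1d4)
(.leaf 0x1fbb2bbe))
(.node (.leaf 0xfecefda)
(.leaf 0)))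
(.node (.node (.leaf 0x95707c9)
(.leaf 0x291f13ae))
(.node (.leaf 0x18b2c71d)
(.leaf 0))))
(.node (.node (.node (.leaf 0x56063c9)
(.leaf 0x21ab0b85))
(.node (.leaf 0x11b92702)
(.leaf 0)))
(.node (.node (.leaf 0xbd4ebef)
(.leaf 0x2b7ef678))
(.node (.leaf 0x1d144bcf)
(.leaf 0)))))
(.node (.node (.node (.node (.leaf 0x22501a6)
(.leaf 0x20a52bcc))
(.node (.leaf 0x10b92e14)
(.leaf 0)))
(.node (.node (.leaf 0xb132985)
(.leaf 0x2a7717fc))
(.node (.leaf 0x19bce585)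
(.leaf 0))))
(.node (.node (.node (.leaf 0x7312460)
(.leaf 0x24312a5c))
(.node (.leaf 0x13bd338c)
(.leaf 0)))
(.node (.node (.leaf 0xe792939)
(.leaf 0x2f071737))
(.node (.leaf 0x1f452df4)
(.leaf 0)))))))
(.node (.node (.node (.node (.node (.node (.leaf 0x5721e2)
(.leaf 0x1f9c8d85))
(.node (.leaf 0xfcea7f9)
(.leaf 0x30acf862)))
(.node (.node (.leaf 0x8c66470)
(.leaf 0x2890e9d0))
(.node (.leaf 0x1890ef54)
(.leaf 0))))
(.node (.node (.node (.leaf 0x4b0a050)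
(.leaf 0x215530dd))
(.node (.leaf 0x115f2f07)
(.leaf 0)))
(.node (.node (.leaf 0xb9312a0)
(.leaf 0x2b27357d))
(.node (.leaf 0x1c0f2cd4)
(.leaf 0)))))
(.node (.node (.node (.node (.leaf 0x1f520ba)
(.leaf 0x206cc78f))
(.node (.leaf 0x10872596)
(.leaf 0)))
(.node (.node (.leaf 0xa8104a2)
(.leaf 0x2a52b655))
(.node (.leaf 0x195d28af)
(.leaf 0))))
(.node (.node (.node (.leaf 0x6d90220)
(.leaf 0x23711238))
(.node (.leaf 0x13192dd0)
(.leaf 0)))
(.node (.node (.leaf 0xd28cd24)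
(.leaf 0x2ec4d585))
(.node (.leaf 0x1e07274f)
(.leaf 0))))))
(.node (.node (.node (.node (.node (.leaf 0x1ace078)
(.leaf 0x1ff0f13e))
(.node (.leaf 0x101cafca)
(.leaf 0)))
(.node (.node (.leaf 0x9e1276e)
(.leaf 0x29d514e7))
(.node (.leaf 0x18d8d32e)
(.leaf 0))))
(.node (.node (.node (.leaf 0x596a1f8)
(.leaf 0x221b2615))
(.node (.leaf 0x120d072d)
(.leaf 0)))
(.node (.node (.leaf 0xc332a28)
(.leaf 0x2be334dd))
(.node (.leaf 0x1d433222)
(.leaf 0)))))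
(.node (.node (.node (.node (.leaf 0x260e206)
(.leaf 0x20e12ddb))
(.node (.leaf 0x10f4cc9a)
(.leaf 0)))
(.node (.node (.leaf 0xb3704e3)
(.leaf 0x2a9c7725))
(.node (.leaf 0x1a1eee41)
(.leaf 0))))
(.node (.node (.node (.leaf 0x758a419)
(.leaf 0x24db0679))
(.node (.leaf 0x14a109b4)
(.leaf 0)))
(.node (.node (.leaf 0xf932c0b)
(.leaf 0x2fdaf899))
(.node (.leaf 0x1f5ab1c6)
(.leaf 0)))))))))))
(.node (.node (.node (.node (.node (.node (.node (.node (.node (.node (.leaf 458767)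
(.leaf 0x1f60b1a2))
(.node (.leaf 0xf96c894)
(.leaf 0x2fe11842)))
(.node (.node (.leaf 0x7666365)
(.leaf 0x251ab11d))
(.node (.leaf 0x14b6edd4)
(.leaf 0))))
(.node (.node (.node (.leaf 0x27ae2d6)
(.leaf 0x20e6f0ae))
(.node (.leaf 0x11030b80)
(.leaf 0)))
(.node (.node (.leaf 0xb3cb28e)
(.leaf 0x2aa4f712))
(.node (.leaf 0x1a2cd2ae)
(.leaf 0)))))
(.node (.node (.node (.node (.leaf 0x1b102d7)
(.leaf 0x1ffe6ae3))
(.node (.leaf 0x1026e7d2)
(.leaf 0)))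
(.node (.node (.leaf 0x9e8c4bb)
(.leaf 0x29e8f4c4))
(.node (.leaf 0x18e6c91e)
(.leaf 0))))
(.node (.node (.node (.leaf 0x5a8c2da)
(.leaf 0x222aa7b4))
(.node (.leaf 0x1218b00f)
(.leaf 0)))
(.node (.node (.leaf 0xc426938)
(.leaf 0x2bf917fe))
(.node (.leaf 0x1d4d2d62)
(.leaf 0))))))
(.node (.node (.node (.node (.node (.leaf 0x612031)
(.leaf 0x1fa2cb99))
(.node (.leaf 0xfd506c3)
(.leaf 0x30fcf793)))
(.node (.node (.leaf 0x9066527)
(.leaf 0x289b277f))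
(.node (.leaf 0x18972ee0)
(.leaf 0))))
(.node (.node (.node (.leaf 0x4b88111)
(.leaf 0x2160d2b5))
(.node (.leaf 0x116cce6c)
(.leaf 0)))
(.node (.node (.leaf 0xba12dd7)
(.leaf 0x2b32f751))
(.node (.leaf 0x1cfe91cc)
(.leaf 0)))))
(.node (.node (.node (.node (.leaf 0x1f8c2b4)
(.leaf 0x2076f2b1))
(.node (.leaf 0x108cb1be)
(.leaf 0)))
(.node (.node (.leaf 0xafe900b)
(.leaf 0x2a5b1650))
(.node (.leaf 0x196eefcb)
(.leaf 0))))
(.node (.node (.node (.leaf 0x6fce2b8)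
(.leaf 0x2389317c))
(.node (.leaf 0x13310cde)
(.leaf 0)))
(.node (.node (.leaf 0xd50d015)
(.leaf 0x2ecf17a2))
(.node (.leaf 0x1e1ccd12)
(.leaf 0)))))))
(.node (.node (.node (.node (.node (.node (.leaf 0x32c1ad)
(.leaf 0x1f805262))
(.node (.leaf 0xfb2eebe)
(.leaf 0x3014f877)))
(.node (.node (.leaf 0x7ba420a)
(.leaf 0x2868cac3))
(.node (.leaf 0x187eae42)
(.leaf 0))))
(.node (.node (.node (.leaf 0x33cc00d)
(.leaf 0x212b0f6f))
(.node (.leaf 0x1138ef9b)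
(.leaf 0)))
(.node (.node (.leaf 0xb6334a3)
(.leaf 0x2adf1689))
(.node (.leaf 0x1b0acecf)
(.leaf 0)))))
(.node (.node (.node (.node (.leaf 0x1d0639b)
(.leaf 0x202f339e))
(.node (.leaf 0x1058a6c8)
(.leaf 0)))
(.node (.node (.leaf 0xa18a87a)
(.leaf 0x2a3b17b6))
(.node (.leaf 0x191ed2e2)
(.leaf 0))))
(.node (.node (.node (.leaf 0x68320d0)
(.leaf 0x22bd13ac))
(.node (.leaf 0x12b32dd5)
(.leaf 0)))
(.node (.node (.leaf 0xc9cb458)
(.leaf 0x2d5eb539))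
(.node (.leaf 0x1d992d92)
(.leaf 0))))))
(.node (.node (.node (.node (.node (.leaf 0xdce283)
(.leaf 0x1fc30df5))
(.node (.leaf 0xff90b96)
(.leaf 0)))
(.node (.node (.leaf 0x96306b9)
(.leaf 0x2982d663))
(.node (.leaf 0x18ba8539)
(.leaf 0))))
(.node (.node (.node (.leaf 0x5692039)
(.leaf 0x21bf2b27))
(.node (.leaf 0x11c6b1de)
(.leaf 0)))
(.node (.node (.leaf 0xbe1069b)
(.leaf 0x2b92f7cb))
(.node (.leaf 0x1d1c9087)
(.leaf 0)))))
(.node (.node (.node (.node (.leaf 0x232e12a)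
(.leaf 0x20b332f3))
(.node (.leaf 0x10c531fc)
(.leaf 0)))
(.node (.node (.leaf 0xb1731ae)
(.leaf 0x2a7f34f4))
(.node (.leaf 0x19cd331a)
(.leaf 0))))
(.node (.node (.node (.leaf 0x73702ef)
(.leaf 0x24452f7c))
(.node (.leaf 0x13eaaab4)
(.leaf 0)))
(.node (.node (.leaf 0xf7f2ccf)
(.leaf 0x2f1ad6ec))
(.node (.leaf 0x1f493348)
(.leaf 0))))))))
(.node (.node (.node (.node (.node (.node (.node (.leaf 0x24e1b1)
(.leaf 0x1f71322b))
(.node (.leaf 0xfa4ef4f)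
(.leaf 0x2ff2d884)))
(.node (.node (.leaf 0x7872360)
(.leaf 0x2841275c))
(.node (.leaf 0x157b2e1c)
(.leaf 0))))
(.node (.node (.node (.leaf 0x2b90309)
(.leaf 0x2110a797))
(.node (.leaf 0x111d2ea6)
(.leaf 0)))
(.node (.node (.leaf 0xb4f13d3)
(.leaf 0x2abf367c))
(.node (.leaf 0x1a913162)
(.leaf 0)))))
(.node (.node (.node (.node (.leaf 0x1c08146)
(.leaf 0x201113eb))
(.node (.leaf 0x1040ee52)
(.leaf 0)))
(.node (.node (.leaf 0xa01256e)
(.leaf 0x2a2c97d5))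
(.node (.leaf 0x18fa68f8)
(.leaf 0))))
(.node (.node (.node (.leaf 0x626e2bc)
(.leaf 0x2258e656))
(.node (.leaf 0x1258b2d5)
(.leaf 0)))
(.node (.node (.leaf 0xc732a3a)
(.leaf 0x2c58b72c))
(.node (.leaf 0x1d6f3077)
(.leaf 0))))))
(.node (.node (.node (.node (.node (.leaf 0x97007c)
(.leaf 0x1faed226))
(.node (.leaf 0xfe48fd9)
(.leaf 0)))
(.node (.node (.leaf 0x94105b9)
(.leaf 0x28e066a6))
(.node (.leaf 0x18a4944e)
(.leaf 0))))
(.node (.node (.node (.leaf 0x4e52291)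
(.leaf 0x218692d0))
(.node (.leaf 0x11970694)
(.leaf 0)))
(.node (.node (.leaf 0xbbd0b25)
(.leaf 0x2b57160b))
(.node (.leaf 0x1d0a6d90)
(.leaf 0)))))
(.node (.node (.node (.node (.leaf 0x20d22cc)
(.leaf 0x2092a630))
(.node (.leaf 0x10a6459e)
(.leaf 0)))
(.node (.node (.leaf 0xb0a477a)
(.leaf 0x2a6a9767))
(.node (.leaf 0x19932cef)
(.leaf 0))))
(.node (.node (.node (.leaf 0x72a42f5)
(.leaf 0x2401324d))
(.node (.leaf 0x137113c0)
(.leaf 0)))
(.node (.node (.leaf 0xe38d3fb)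
(.leaf 0x2eef17ca))
(.node (.leaf 0x1f3e5065)
(.leaf 0)))))))
(.node (.node (.node (.node (.node (.node (.leaf 0x46c35b)
(.leaf 0x1f92c5f1))
(.node (.leaf 0xfc4c976)
(.leaf 0x30433897)))
(.node (.node (.leaf 0x8ac441b)
(.leaf 0x287a8788))
(.node (.leaf 0x188aae40)
(.leaf 0))))
(.node (.node (.node (.leaf 0x4a4e357)
(.leaf 0x2144f12c))
(.node (.leaf 0x1150ae8e)
(.leaf 0)))
(.node (.node (.leaf 0xb80e649)
(.leaf 0x2b12b728))
(.node (.leaf 0x1b9cac84)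
(.leaf 0)))))
(.node (.node (.node (.node (.leaf 0x1e8c15d)
(.leaf 0x20550a0c))
(.node (.leaf 0x1072a710)
(.leaf 0)))
(.node (.node (.leaf 0xa470574)
(.leaf 0x2a4936dd))
(.node (.leaf 0x1942cf8d)
(.leaf 0))))
(.node (.node (.node (.leaf 0x6a4e3c8)
(.leaf 0x233ac568))
(.node (.leaf 0x12f2eaf9)
(.leaf 0)))
(.node (.node (.leaf 0xcf2eb4e)
(.leaf 0x2eb8d653))
(.node (.leaf 0x1ddd27d8)
(.leaf 0))))))
(.node (.node (.node (.node (.node (.leaf 0x1a44314)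
(.leaf 0x1fdd316a))
(.node (.leaf 0x100ed41e)
(.leaf 0)))
(.node (.node (.leaf 0x9af05a9)
(.leaf 0x29ca34cc))
(.node (.leaf 0x18cd05d8)
(.leaf 0))))
(.node (.node (.node (.leaf 0x57f21c2)
(.leaf 0x220307a6))
(.node (.leaf 0x11f10caf)
(.leaf 0)))
(.node (.node (.leaf 0xc1b117d)
(.leaf 0x2bc13700))
(.node (.leaf 0x1d329493)
(.leaf 0)))))
(.node (.node (.node (.node (.leaf 0x24f23c5)
(.leaf 0x20d10d1c))
(.node (.leaf 0x10e4e8d1)
(.leaf 0)))
(.node (.node (.leaf 0xb2913f4)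
(.leaf 0x2a8f3789))
(.node (.leaf 0x1a032e56)
(.leaf 0))))
(.node (.node (.node (.leaf 0x74d0421)
(.leaf 0x249d30b6))
(.node (.leaf 0x146eac53)
(.leaf 0)))
(.node (.node (.leaf 0xf8a6c9e)
(.leaf 0x2f6b380c))
(.node (.leaf 0x1f54aa75)
(.leaf 0)))))))))
(.node (.node (.node (.node (.node (.node (.node (.node (.leaf 0x1e619c)
(.leaf 0x1f6930c8))
(.node (.leaf 0xf9c8fdd)
(.leaf 0x2fe8f80d)))
(.node (.node (.leaf 0x778a3e3)
(.leaf 0x25cf0bc2))
(.node (.leaf 0x14e12875)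
(.leaf 0))))
(.node (.node (.node (.leaf 0x2a1010c)
(.leaf 0x2100a61d))
(.node (.leaf 0x11128983)
(.leaf 0)))
(.node (.node (.leaf 0xb4713ff)
(.leaf 0x2ab2771b))
(.node (.leaf 0x1a56e848)
(.leaf 0)))))
(.node (.node (.node (.node (.leaf 0x1ba812b)
(.leaf 0x20068fc7))
(.node (.leaf 0x1030cb78)
(.leaf 0)))
(.node (.node (.leaf 0x9f324c9)
(.leaf 0x2a2a34e1))
(.node (.leaf 0x18f52ed3)
(.leaf 0))))
(.node (.node (.node (.leaf 0x61e83fd)
(.leaf 0x223ac8f5))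
(.node (.leaf 0x1230d2fe)
(.leaf 0)))
(.node (.node (.leaf 0xc5f0d27)
(.leaf 0x2c2d17bf))
(.node (.leaf 0x1d5b146b)
(.leaf 0))))))
(.node (.node (.node (.node (.node (.leaf 0x76c123)
(.leaf 0x1fa8b275))
(.node (.leaf 0xfdcc903)
(.leaf 0x3114d838)))
(.node (.node (.leaf 0x9150777)
(.leaf 0x28ae8994))
(.node (.leaf 0x189eafc9)
(.leaf 0))))
(.node (.node (.node (.leaf 0x4c50435)
(.leaf 0x2173267e))
(.node (.leaf 0x11810c36)
(.leaf 0)))
(.node (.node (.leaf 0xbaaf176)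
(.leaf 0x2b42d83f))
(.node (.leaf 0x1d0473d7)
(.leaf 0)))))
(.node (.node (.node (.node (.leaf 0x20502f0)
(.leaf 0x2084a948))
(.node (.leaf 0x109cb38b)
(.leaf 0)))
(.node (.node (.leaf 0xb04aca6)
(.leaf 0x2a62b552))
(.node (.leaf 0x1984cc67)
(.leaf 0))))
(.node (.node (.node (.leaf 0x72702e4)
(.leaf 0x23b8a9d1))
(.node (.leaf 0x1356ec90)
(.leaf 0)))
(.node (.node (.leaf 0xd90f160)
(.leaf 0x2edcd6d8))
(.node (.leaf 0x1e6711f5)
(.leaf 0)))))))
(.node (.node (.node (.node (.node (.node (.leaf 0x3f0267)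
(.leaf 0x1f892da3))
(.node (.leaf 0xfbb330c)
(.leaf 0x3020b773)))
(.node (.node (.leaf 0x8a622af)
(.leaf 0x28711390))
(.node (.leaf 0x18852711)
(.leaf 0))))
(.node (.node (.node (.leaf 0x49e83c1)
(.leaf 0x213ad127))
(.node (.leaf 0x1144ab75)
(.leaf 0)))
(.node (.node (.leaf 0xb6ee6bd)
(.leaf 0x2af51656))
(.node (.leaf 0x1b5b2f52)
(.leaf 0)))))
(.node (.node (.node (.node (.leaf 0x1db206a)
(.leaf 0x20433084))
(.node (.leaf 0x10672f46)
(.leaf 0)))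
(.node (.node (.leaf 0xa2b04fa)
(.leaf 0x2a4135ac))
(.node (.leaf 0x19332fa7)
(.leaf 0))))
(.node (.node (.node (.leaf 0x698e3ed)
(.leaf 0x231532c0))
(.node (.leaf 0x12d2f051)
(.leaf 0)))
(.node (.node (.leaf 0xcc9294a)
(.leaf 0x2eab14eb))
(.node (.leaf 0x1dc26bcb)
(.leaf 0))))))
(.node (.node (.node (.node (.node (.leaf 0x19e620b)
(.leaf 0x1fd2c9ab))
(.node (.leaf 0x10050f79)
(.leaf 0)))
(.node (.node (.leaf 0x972ad66)
(.leaf 0x2996f4c2))
(.node (.leaf 0x18c30af2)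
(.leaf 0))))
(.node (.node (.node (.leaf 0x571020e)
(.leaf 0x21dea9c8))
(.node (.leaf 0x11daac0e)
(.leaf 0)))
(.node (.node (.leaf 0xbfcf115)
(.leaf 0x2baf1643))
(.node (.leaf 0x1d2932bd)
(.leaf 0)))))
(.node (.node (.node (.node (.leaf 0x23ec412)
(.leaf 0x20c109d9))
(.node (.leaf 0x10d4b1db)
(.leaf 0)))
(.node (.node (.leaf 0xb1eeed6)
(.leaf 0x2a873764))
(.node (.leaf 0x19e932a9)
(.leaf 0))))
(.node (.node (.node (.leaf 0x744a310)
(.leaf 0x246eb3b7))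
(.node (.leaf 0x1434eeaa)
(.leaf 0)))
(.node (.node (.leaf 0xf84a7c5)
(.leaf 0x2f43179c))
(.node (.leaf 0x1f4eeb08)
(.leaf 0))))))))
(.node (.node (.node (.node (.node (.node (.node (.leaf 0x2ce099)
(.leaf 0x1f7734b3))
(.node (.leaf 0xfab0fd2)
(.leaf 0x3001187f)))
(.node (.node (.leaf 0x79283f1)
(.leaf 0x28628b3d))
(.node (.leaf 0x1698a599)
(.leaf 0))))
(.node (.node (.node (.leaf 0x301014f)
(.leaf 0x211e89c4))
(.node (.leaf 0x11289248)
(.leaf 0)))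
(.node (.node (.leaf 0xb58f1cd)
(.leaf 0x2acd15ce))
(.node (.leaf 0x1ab106fd)
(.leaf 0)))))
(.node (.node (.node (.node (.leaf 0x1c8a0c3)
(.leaf 0x2022a622))
(.node (.leaf 0x104d30c6)
(.leaf 0)))
(.node (.node (.leaf 0xa0d04b9)
(.leaf 0x2a327787))
(.node (.leaf 0x190cef14)
(.leaf 0))))
(.node (.node (.node (.leaf 0x63660ef)
(.leaf 0x22872d3b))
(.node (.leaf 0x128ae9ce)
(.leaf 0)))
(.node (.node (.leaf 0xc8913a0)
(.leaf 0x2c94b84b))
(.node (.leaf 0x1d7eb273)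
(.leaf 0))))))
(.node (.node (.node (.node (.node (.leaf 0xc102d0)
(.leaf 0x1fb910d7))
(.node (.leaf 0xfea8efc)
(.leaf 0)))
(.node (.node (.leaf 0x9550664)
(.leaf 0x2913149e))
(.node (.leaf 0x18b0e71f)
(.leaf 0))))
(.node (.node (.node (.leaf 0x560a0dc)
(.leaf 0x21a8c6a2))
(.node (.leaf 0x11b32da7)
(.leaf 0)))
(.node (.node (.leaf 0xbd0c616)
(.leaf 0x2b79357a))
(.node (.leaf 0x1d14c62c)
(.leaf 0)))))
(.node (.node (.node (.node (.leaf 0x21ac28c)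
(.leaf 0x20a0d2eb))
(.node (.leaf 0x10b4cc93)
(.leaf 0)))
(.node (.node (.leaf 0xb109129)
(.leaf 0x2a74d73c))
(.node (.leaf 0x19b4f12a)
(.leaf 0))))
(.node (.node (.node (.leaf 0x730c1d6)
(.leaf 0x242aac97))
(.node (.leaf 0x13ab24c6)
(.leaf 0)))
(.node (.node (.leaf 0xe6b118f)
(.leaf 0x2efd368a))
(.node (.leaf 0x1f43346f)
(.leaf 0)))))))
(.node (.node (.node (.node (.node (.node (.leaf 0x54a07e)
(.leaf 0x1f9b0a39))
(.node (.leaf 0xfcd2b71)
(.leaf 0x30a13885)))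
(.node (.node (.leaf 0x8c24453)
(.leaf 0x288b33bf))
(.node (.leaf 0x1890acdf)
(.leaf 0))))
(.node (.node (.node (.leaf 0x4ace2a4)
(.leaf 0x21512bb5))
(.node (.leaf 0x115ccdc1)
(.leaf 0)))
(.node (.node (.leaf 0xb90ad87)
(.leaf 0x2b231526))
(.node (.leaf 0x1c03253f)
(.leaf 0)))))
(.node (.node (.node (.node (.leaf 0x1f2c183)
(.leaf 0x20652aa4))
(.node (.leaf 0x107ee7da)
(.leaf 0)))
(.node (.node (.leaf 0xa64c5ad)
(.leaf 0x2a513780))
(.node (.leaf 0x19548fd8)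
(.leaf 0))))
(.node (.node (.node (.leaf 0x6c300de)
(.leaf 0x2368f403))
(.node (.leaf 0x130eec66)
(.leaf 0)))
(.node (.node (.leaf 0xd1909b1)
(.leaf 0x2ec335e0))
(.node (.leaf 0x1e00c6ae)
(.leaf 0))))))
(.node (.node (.node (.node (.node (.leaf 0x1aa81e8)
(.leaf 0x1feab07b))
(.node (.leaf 0x101b0c61)
(.leaf 0)))
(.node (.node (.leaf 0x9e10492)
(.leaf 0x29d2d4d3))
(.node (.leaf 0x18d52891)
(.leaf 0))))
(.node (.node (.node (.leaf 0x592e218)
(.leaf 0x22130df8))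
(.node (.leaf 0x12050be8)
(.leaf 0)))
(.node (.node (.leaf 0xc2cf131)
(.leaf 0x2bd8d6b0))
(.node (.leaf 0x1d4130e1)
(.leaf 0)))))
(.node (.node (.node (.node (.leaf 0x25ca0a7)
(.leaf 0x20dc7466))
(.node (.leaf 0x10f12861)
(.leaf 0)))
(.node (.node (.leaf 0xb3332f4)
(.leaf 0x2a993800))
(.node (.leaf 0x1a18f1c9)
(.leaf 0))))
(.node (.node (.node (.leaf 0x7548390)
(.leaf 0x24d4c963))
(.node (.leaf 0x1494e87d)
(.leaf 0)))
(.node (.node (.leaf 0xf90682b)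
(.leaf 0x2fd8f7fb))
(.node (.leaf 0x1f5aed56)
(.leaf 0))))))))))
(.node (.node (.node (.node (.node (.node (.node (.node (.node (.leaf 0x16c013)
(.leaf 0x1f652dda))
(.node (.leaf 0xf9b07f6)
(.leaf 0x2fe53861)))
(.node (.node (.leaf 0x76ec324)
(.leaf 0x25430d89))
(.node (.leaf 0x14ccc8ab)
(.leaf 0))))
(.node (.node (.node (.leaf 0x28e81ed)
(.leaf 0x20f2d24c))
(.node (.leaf 0x110ca8b6)
(.leaf 0)))
(.node (.node (.leaf 0xb42c7aa)
(.leaf 0x2aad17d7))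
(.node (.leaf 0x1a3e8764)
(.leaf 0)))))
(.node (.node (.node (.node (.leaf 0x1b4a16d)
(.leaf 0x20032ae2))
(.node (.leaf 0x102b10ca)
(.leaf 0)))
(.node (.node (.leaf 0x9eca6cc)
(.leaf 0x29f4d4e5))
(.node (.leaf 0x18eee85c)
(.leaf 0))))
(.node (.node (.node (.leaf 0x600a32e)
(.leaf 0x22313140))
(.node (.leaf 0x12210d69)
(.leaf 0)))
(.node (.node (.leaf 0xc5129fc)
(.leaf 0x2c1cb58e))
(.node (.leaf 0x1d5313ed)
(.leaf 0))))))
(.node (.node (.node (.node (.node (.leaf 0x6d01ee)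
(.leaf 0x1fa4ca0f))
(.node (.leaf 0xfd9083d)
(.leaf 0x3100d79a)))
(.node (.node (.leaf 0x90d26bc)
(.leaf 0x28a6d0ba))
(.node (.leaf 0x189c659d)
(.leaf 0))))
(.node (.node (.node (.leaf 0x4bf011e)
(.leaf 0x216a546e))
(.node (.leaf 0x1178e826)
(.leaf 0)))
(.node (.node (.leaf 0xba514b6)
(.leaf 0x2b3d16e6))
(.node (.leaf 0x1d02ac58)
(.leaf 0)))))
(.node (.node (.node (.node (.leaf 0x200604d)
(.leaf 0x207cad36))
(.node (.leaf 0x1094e7c2)
(.leaf 0)))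
(.node (.node (.leaf 0xb00d395)
(.leaf 0x2a5f1657))
(.node (.leaf 0x197905ec)
(.leaf 0))))
(.node (.node (.node (.leaf 0x704e3ec)
(.leaf 0x239f2f69))
(.node (.leaf 0x1346ac3e)
(.leaf 0)))
(.node (.node (.leaf 0xd68d06a)
(.leaf 0x2ed536cf))
(.node (.leaf 0x1e2b0b0d)
(.leaf 0)))))))
(.node (.node (.node (.node (.node (.node (.leaf 0x3aa14b)
(.leaf 0x1f844a36))
(.node (.leaf 0xfb90a9a)
(.leaf 0x301af7b7)))
(.node (.node (.leaf 0x7e4a47f)
(.leaf 0x286d3193))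
(.node (.leaf 0x1880ecb0)
(.leaf 0))))
(.node (.node (.node (.leaf 0x3d8c06d)
(.leaf 0x21344d5f))
(.node (.leaf 0x113f0ea9)
(.leaf 0)))
(.node (.node (.leaf 0xb671482)
(.leaf 0x2aeaf5a0))
(.node (.leaf 0x1b252e1e)
(.leaf 0)))))
(.node (.node (.node (.node (.leaf 0x1d4e305)
(.leaf 0x203b0d48))
(.node (.leaf 0x105f10ec)
(.leaf 0)))
(.node (.node (.leaf 0xa22c4c1)
(.leaf 0x2a3c57e8))
(.node (.leaf 0x19291416)
(.leaf 0))))
(.node (.node (.node (.leaf 0x696a1a0)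
(.leaf 0x22fee99c))
(.node (.leaf 0x12c0a8ad)
(.leaf 0)))
(.node (.node (.leaf 0xcaf1495)
(.leaf 0x2dd8d50b))
(.node (.leaf 0x1db0ead5)
(.leaf 0))))))
(.node (.node (.node (.node (.node (.leaf 0x12f2393)
(.leaf 0x1fcac880))
(.node (.leaf 0xfff0871)
(.leaf 0)))
(.node (.node (.leaf 0x96ca5b0)
(.leaf 0x29893564))
(.node (.leaf 0x18bd341c)
(.leaf 0))))
(.node (.node (.node (.leaf 0x56d02c8)
(.leaf 0x21cea932))
(.node (.leaf 0x11d12fd7)
(.leaf 0)))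
(.node (.node (.leaf 0xbf12abb)
(.leaf 0x2ba2b5a7))
(.node (.leaf 0x1d20f0bb)
(.leaf 0)))))
(.node (.node (.node (.node (.leaf 0x239010a)
(.leaf 0x20bacd79))
(.node (.leaf 0x10cacc6a)
(.leaf 0)))
(.node (.node (.leaf 0xb1aad7f)
(.leaf 0x2a82d6ac))
(.node (.leaf 0x19d90e58)
(.leaf 0))))
(.node (.node (.node (.leaf 0x738e455)
(.leaf 0x2458ede3))
(.node (.leaf 0x140d2eed)
(.leaf 0)))
(.node (.node (.leaf 0xf80b1d3)
(.leaf 0x2f2b1852))
(.node (.leaf 0x1f4c6bd7)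
(.leaf 0))))))))
(.node (.node (.node (.node (.node (.node (.node (.leaf 0x288160)
(.leaf 0x1f748f0c))
(.node (.leaf 0xfa6931d)
(.leaf 0x2ff8f67a)))
(.node (.node (.leaf 0x78c6408)
(.leaf 0x284f251c))
(.node (.leaf 0x15d727cd)
(.leaf 0))))
(.node (.node (.node (.leaf 0x2f6c153)
(.leaf 0x2116a57c))
(.node (.leaf 0x11253245)
(.leaf 0)))
(.node (.node (.leaf 0xb5487e8)
(.leaf 0x2ac4b631))
(.node (.leaf 0x1aa4ec95)
(.leaf 0)))))
(.node (.node (.node (.node (.leaf 0x1c441a2)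
(.leaf 0x201cc69a))
(.node (.leaf 0x1046ece3)
(.leaf 0)))
(.node (.node (.leaf 0xa06a5b2)
(.leaf 0x2a30b6a0))
(.node (.leaf 0x1900e4e7)
(.leaf 0))))
(.node (.node (.node (.leaf 0x62ce372)
(.leaf 0x2270f4a1))
(.node (.leaf 0x12730590)
(.leaf 0)))
(.node (.node (.leaf 0xc7b3107)
(.leaf 0x2c7eb636))
(.node (.leaf 0x1d76d463)
(.leaf 0))))))
(.node (.node (.node (.node (.node (.leaf 0xb062dd)
(.leaf 0x1fb533ec))
(.node (.leaf 0xfe8af30)
(.leaf 0)))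
(.node (.node (.leaf 0x950c494)
(.leaf 0x29010d3e))
(.node (.leaf 0x18aace46)
(.leaf 0))))
(.node (.node (.node (.leaf 0x508c429)
(.leaf 0x2196efef))
(.node (.leaf 0x11aceefb)
(.leaf 0)))
(.node (.node (.leaf 0xbc3140e)
(.leaf 0x2b67169a))
(.node (.leaf 0x1d0e6d9b)
(.leaf 0)))))
(.node (.node (.node (.node (.leaf 0x212e1a3)
(.leaf 0x209ad12e))
(.node (.leaf 0x10aca7f0)
(.leaf 0)))
(.node (.node (.leaf 0xb0cf0a8)
(.leaf 0x2a7136f2))
(.node (.leaf 0x19a5272a)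
(.leaf 0))))
(.node (.node (.node (.leaf 0x72ce477)
(.leaf 0x2415306f))
(.node (.leaf 0x13852dbb)
(.leaf 0)))
(.node (.node (.leaf 0xe59086e)
(.leaf 0x2ef4f693))
(.node (.leaf 0x1f40914c)
(.leaf 0)))))))
(.node (.node (.node (.node (.node (.node (.leaf 0x4d0377)
(.leaf 0x1f952fe9))
(.node (.leaf 0xfc928ed)
(.leaf 0x3076f874)))
(.node (.node (.leaf 0x8b2e472)
(.leaf 0x2880f15f))
(.node (.leaf 0x188c540f)
(.leaf 0))))
(.node (.node (.node (.leaf 0x4aa60a5)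
(.leaf 0x214ab27a))
(.node (.leaf 0x11571064)
(.leaf 0)))
(.node (.node (.leaf 0xb890d77)
(.leaf 0x2b1af6ea))
(.node (.leaf 0x1bbae74a)
(.leaf 0)))))
(.node (.node (.node (.node (.leaf 0x1eca379)
(.leaf 0x205cd1bc))
(.node (.leaf 0x1076ae75)
(.leaf 0)))
(.node (.node (.leaf 0xa532688)
(.leaf 0x2a4d16d9))
(.node (.leaf 0x194ac8c1)
(.leaf 0))))
(.node (.node (.node (.leaf 0x6b3203e)
(.leaf 0x235730da))
(.node (.leaf 0x12fee8f2)
(.leaf 0)))
(.node (.node (.leaf 0xcfea7ba)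
(.leaf 0x2ebc77d1))
(.node (.leaf 0x1de91202)
(.leaf 0))))))
(.node (.node (.node (.node (.node (.leaf 0x1a6c2f1)
(.leaf 0x1fe4c940))
(.node (.leaf 0x1012aedc)
(.leaf 0)))
(.node (.node (.leaf 0x9bf07f1)
(.leaf 0x29ccf4ea))
(.node (.leaf 0x18d10aa0)
(.leaf 0))))
(.node (.node (.node (.leaf 0x586e0d8)
(.leaf 0x220d075b))
(.node (.leaf 0x11fd0f8c)
(.leaf 0)))
(.node (.node (.leaf 0xc22abd3)
(.leaf 0x2bcf36ca))
(.node (.leaf 0x1d3b0cf9)
(.leaf 0)))))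
(.node (.node (.node (.node (.leaf 0x25700bc)
(.leaf 0x20d92b1b))
(.node (.leaf 0x10ea6c25)
(.leaf 0)))
(.node (.node (.leaf 0xb2d0d3f)
(.leaf 0x2a94b824))
(.node (.leaf 0x1a12e528)
(.leaf 0))))
(.node (.node (.node (.leaf 0x752c118)
(.leaf 0x24c6ea4c))
(.node (.leaf 0x14852c4b)
(.leaf 0)))
(.node (.node (.leaf 0xf8d0f91)
(.leaf 0x2fd7165c))
(.node (.leaf 0x1f56d2d6)
(.leaf 0)))))))))
(.node (.node (.node (.node (.node (.node (.node (.node (.leaf 0x22a063)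
(.leaf 0x1f6ccba0))
(.node (.leaf 0xfa13357)
(.leaf 0x2fed1869)))
(.node (.node (.leaf 0x780641e)
(.leaf 0x263d04f9))
(.node (.leaf 0x15110cae)
(.leaf 0))))
(.node (.node (.node (.leaf 0x2aac446)
(.leaf 0x210730c2))
(.node (.leaf 0x11190abe)
(.leaf 0)))
(.node (.node (.leaf 0xb4a8aac)
(.leaf 0x2abab5ab))
(.node (.leaf 0x1a692e87)
(.leaf 0)))))
(.node (.node (.node (.node (.leaf 0x1bce1f4)
(.leaf 0x200cc923))
(.node (.leaf 0x10392e27)
(.leaf 0)))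
(.node (.node (.leaf 0x9f8aaf7)
(.leaf 0x2a2af759))
(.node (.leaf 0x18f906eb)
(.leaf 0))))
(.node (.node (.node (.leaf 0x6226347)
(.leaf 0x224ae7d7))
(.node (.leaf 0x12446d67)
(.leaf 0)))
(.node (.node (.leaf 0xc6aa9a3)
(.leaf 0x2c4e76ed))
(.node (.leaf 0x1d66c957)
(.leaf 0))))))
(.node (.node (.node (.node (.node (.leaf 0x7ea0ae)
(.leaf 0x1fad3083))
(.node (.leaf 0xfe071a1)
(.leaf 0x31273863)))
(.node (.node (.leaf 0x920a5ac)
(.leaf 0x28c0ed51))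
(.node (.leaf 0x18a286d2)
(.leaf 0))))
(.node (.node (.node (.leaf 0x4d4a36d)
(.leaf 0x217f2f98))
(.node (.leaf 0x118b0e38)
(.leaf 0)))
(.node (.node (.leaf 0xbb0d157)
(.leaf 0x2b4eb6ef))
(.node (.leaf 0x1d090bd0)
(.leaf 0)))))
(.node (.node (.node (.node (.leaf 0x2084052)
(.leaf 0x208d33be))
(.node (.leaf 0x10a2e8c3)
(.leaf 0)))
(.node (.node (.leaf 0xb06f186)
(.leaf 0x2a64970c))
(.node (.leaf 0x198a88de)
(.leaf 0))))
(.node (.node (.node (.leaf 0x728c250)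
(.leaf 0x23d710b1))
(.node (.leaf 0x1360ecda)
(.leaf 0)))
(.node (.node (.leaf 0xe02e67a)
(.leaf 0x2ee8f5ff))
(.node (.leaf 0x1edec785)
(.leaf 0)))))))
(.node (.node (.node (.node (.node (.node (.leaf 0x42826a)
(.leaf 0x1f8d0ab6))
(.node (.leaf 0xfc10595)
(.leaf 0x3030f80f)))
(.node (.node (.leaf 0x8ab039c)
(.leaf 0x28749227))
(.node (.leaf 0x1886ee32)
(.leaf 0))))
(.node (.node (.node (.leaf 0x4a2a057)
(.leaf 0x21410783))
(.node (.leaf 0x114b2c02)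
(.leaf 0)))
(.node (.node (.leaf 0xb7909ed)
(.leaf 0x2b02d5d4))
(.node (.leaf 0x1b8328f6)
(.leaf 0)))))
(.node (.node (.node (.node (.leaf 0x1dee2ea)
(.leaf 0x2048e9f0))
(.node (.leaf 0x106d2c16)
(.leaf 0)))
(.node (.node (.leaf 0xa330554)
(.leaf 0x2a4517b1))
(.node (.leaf 0x193873e0)
(.leaf 0))))
(.node (.node (.node (.leaf 0x69ea0dd)
(.leaf 0x23271096))
(.node (.leaf 0x12dcee3c)
(.leaf 0)))
(.node (.node (.leaf 0xcdb1305)
(.leaf 0x2eb6552b))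
(.node (.leaf 0x1dd0f07f)
(.leaf 0))))))
(.node (.node (.node (.node (.node (.leaf 0x1a24015)
(.leaf 0x1fd71061))
(.node (.leaf 0x100a8b44)
(.leaf 0)))
(.node (.node (.leaf 0x97d0588)
(.leaf 0x29a11506))
(.node (.leaf 0x18c6c830)
(.leaf 0))))
(.node (.node (.node (.leaf 0x576c3e9)
(.leaf 0x21f506aa))
(.node (.leaf 0x11e6afb7)
(.leaf 0)))
(.node (.node (.leaf 0xc0b2bb3)
(.leaf 0x2bbb16ae))
(.node (.leaf 0x1d30a511)
(.leaf 0)))))
(.node (.node (.node (.node (.leaf 0x247002b)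
(.leaf 0x20c6ae11))
(.node (.leaf 0x10dd06cf)
(.leaf 0)))
(.node (.node (.leaf 0xb24a606)
(.leaf 0x2a8b184c))
(.node (.leaf 0x19f52eb0)
(.leaf 0))))
(.node (.node (.node (.leaf 0x7486380)
(.leaf 0x2480ac75))
(.node (.leaf 0x145c6e7b)
(.leaf 0)))
(.node (.node (.leaf 0xf88870a)
(.leaf 0x2f56b6f3))
(.node (.leaf 0x1f50548a)
(.leaf 0))))))))
(.node (.node (.node (.node (.node (.node (.node (.leaf 0x2e81a7)
(.leaf 0x1f7a6d81))
(.node (.leaf 0xfaecc92)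
(.leaf 0x300b17da)))
(.node (.node (.leaf 0x79883fc)
(.leaf 0x28649276))
(.node (.leaf 0x176aa87f)
(.leaf 0))))
(.node (.node (.node (.leaf 0x31322e7)
(.leaf 0x2122eac0))
(.node (.leaf 0x112e538a)
(.leaf 0)))
(.node (.node (.leaf 0xb5d10a9)
(.leaf 0x2ad4b523))
(.node (.leaf 0x1aca853a)
(.leaf 0)))))
(.node (.node (.node (.node (.leaf 0x1ccc174)
(.leaf 0x2028a884))
(.node (.leaf 0x10528808)
(.leaf 0)))
(.node (.node (.leaf 0xa132872)
(.leaf 0x2a3717ae))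
(.node (.leaf 0x19171340)
(.leaf 0))))
(.node (.node (.node (.leaf 0x64f03fa)
(.leaf 0x22a2aaa5))
(.node (.leaf 0x12a70ec9)
(.leaf 0)))
(.node (.node (.leaf 0xc96a67c)
(.leaf 0x2ce2f6f0))
(.node (.leaf 0x1d910f0d)
(.leaf 0))))))
(.node (.node (.node (.node (.node (.leaf 0xcce117)
(.leaf 0x1fbf29cb))
(.node (.leaf 0xff08c24)
(.leaf 0)))
(.node (.node (.leaf 0x95b2517)
(.leaf 0x29370a3e))
(.node (.leaf 0x18b5144a)
(.leaf 0))))
(.node (.node (.node (.leaf 0x562c3b6)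
(.leaf 0x21b4d0d6))
(.node (.leaf 0x11c13290)
(.leaf 0)))
(.node (.node (.leaf 0xbd8aa07)
(.leaf 0x2b86b849))
(.node (.leaf 0x1d16eeae)
(.leaf 0)))))
(.node (.node (.node (.node (.leaf 0x22ac1bd)
(.leaf 0x20ad05ed))
(.node (.leaf 0x10bcc747)
(.leaf 0)))
(.node (.node (.leaf 0xb14e9bb)
(.leaf 0x2a787708))
(.node (.leaf 0x19c0cf49)
(.leaf 0))))
(.node (.node (.node (.leaf 0x732e448)
(.leaf 0x24370d9a))
(.node (.leaf 0x13d8af84)
(.leaf 0)))
(.node (.node (.leaf 0xeeca956)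
(.leaf 0x2f0b36f5))
(.node (.leaf 0x1f470b72)
(.leaf 0)))))))
(.node (.node (.node (.node (.node (.node (.leaf 0x5b21c8)
(.leaf 0x1f9e892c))
(.node (.leaf 0xfd10866)
(.leaf 0x30f73825)))
(.node (.node (.leaf 0x8cce3ce)
(.leaf 0x28933198))
(.node (.leaf 0x1892d242)
(.leaf 0))))
(.node (.node (.node (.leaf 0x4b2e1c9)
(.leaf 0x2156b3c9))
(.node (.leaf 0x1162870d)
(.leaf 0)))
(.node (.node (.leaf 0xb96b48b)
(.leaf 0x2b2a581e))
(.node (.leaf 0x1c30e4f3)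
(.leaf 0)))))
(.node (.node (.node (.node (.leaf 0x1f700bf)
(.leaf 0x2070d09e))
(.node (.leaf 0x1088ecfb)
(.leaf 0)))
(.node (.node (.leaf 0xaa8c874)
(.leaf 0x2a54b611))
(.node (.leaf 0x19670eb3)
(.leaf 0))))
(.node (.node (.node (.leaf 0x6f7223c)
(.leaf 0x2376c602))
(.node (.leaf 0x131ead68)
(.leaf 0)))
(.node (.node (.leaf 0xd3913f2)
(.leaf 0x2ec71715))
(.node (.leaf 0x1e112d2f)
(.leaf 0))))))
(.node (.node (.node (.node (.node (.leaf 0x1acc293)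
(.leaf 0x1ff6b3a6))
(.node (.leaf 0x101eac1d)
(.leaf 0)))
(.node (.node (.leaf 0x9e524b0)
(.leaf 0x29d8d4f9))
(.node (.leaf 0x18dd132c)
(.leaf 0))))
(.node (.node (.node (.leaf 0x59ae20f)
(.leaf 0x221f2efe))
(.node (.leaf 0x12130c88)
(.leaf 0)))
(.node (.node (.leaf 0xc34b4b8)
(.leaf 0x2beb35f3))
(.node (.leaf 0x1d4451b8)
(.leaf 0)))))
(.node (.node (.node (.node (.leaf 0x26641bb)
(.leaf 0x20e2a95a))
(.node (.leaf 0x10f929e0)
(.leaf 0)))
(.node (.node (.leaf 0xb38a601)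
(.leaf 0x2a9e57c0))
(.node (.leaf 0x1a23052d)
(.leaf 0))))
(.node (.node (.node (.leaf 0x75a63bb)
(.leaf 0x24e8f4b5))
(.node (.leaf 0x14a8e849)
(.leaf 0)))
(.node (.node (.leaf 0xf92f385)
(.leaf 0x2fdcf79d))
(.node (.leaf 0x1f5d31ff)
(.leaf 0)))))))))))))
(.node (.node (.node (.node (.node (.node (.node (.node (.node (.node (.node (.node (.leaf 1)
(.leaf 0x1f5e8dee))
(.node (.leaf 0xf94ab3f)
(.leaf 0x2fdeb69d)))
(.node (.node (.leaf 0x76122d3)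
(.leaf 0x24fa709b))
(.node (.leaf 0x14af144f)
(.leaf 0))))
(.node (.node (.node (.leaf 0x270a12c)
(.leaf 0x20e332b9))
(.node (.leaf 0x10fca8c4)
(.leaf 0)))
(.node (.node (.leaf 0xb3b3118)
(.leaf 0x2aa05658))
(.node (.leaf 0x1a250b69)
(.leaf 0)))))
(.node (.node (.node (.node (.leaf 0x1af0399)
(.leaf 0x1ffb27a5))
(.node (.leaf 0x10232ec3)
(.leaf 0)))
(.node (.node (.leaf 0x9e506c7)
(.leaf 0x29df34f5))
(.node (.leaf 0x18e10745)
(.leaf 0))))
(.node (.node (.node (.leaf 0x59d21f6)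
(.leaf 0x222070db))
(.node (.leaf 0x1214aeb6)
(.leaf 0)))
(.node (.node (.leaf 0xc3b10d8)
(.leaf 0x2bf2f5f9))
(.node (.leaf 0x1d493179)
(.leaf 0))))))
(.node (.node (.node (.node (.node (.leaf 0x5cc093)
(.leaf 0x1fa127e1))
(.node (.leaf 0xfd08fa3)
(.leaf 0x30f8f64b)))
(.node (.node (.leaf 0x8d862f2)
(.leaf 0x28968d84))
(.node (.leaf 0x1894f041)
(.leaf 0))))
(.node (.node (.node (.leaf 0x4b50340)
(.leaf 0x215c8b91))
(.node (.leaf 0x11692ccb)
(.leaf 0)))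
(.node (.node (.leaf 0xb9c47a3)
(.leaf 0x2b2e983b))
(.node (.leaf 0x1cfe44f5)
(.leaf 0)))))
(.node (.node (.node (.node (.leaf 0x1f6c2b9)
(.leaf 0x2072d174))
(.node (.leaf 0x108b2e49)
(.leaf 0)))
(.node (.node (.leaf 0xafe4930)
(.leaf 0x2a5676a7))
(.node (.leaf 0x196b1161)
(.leaf 0))))
(.node (.node (.node (.leaf 0x6f8647e)
(.leaf 0x237cd234))
(.node (.leaf 0x1323260a)
(.leaf 0)))
(.node (.node (.leaf 0xd3d0b46)
(.leaf 0x2ecc96a9))
(.node (.leaf 0x1e170945)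
(.leaf 0)))))))
(.node (.node (.node (.node (.node (.node (.leaf 0x2f036c)
(.leaf 0x1f7cccaa))
(.node (.leaf 0xfb1075e)
(.leaf 0x3010f806)))
(.node (.node (.leaf 0x7ad0338)
(.leaf 0x2867296e))
(.node (.leaf 0x187f05e9)
(.leaf 0))))
(.node (.node (.node (.leaf 0x31ee1b4)
(.leaf 0x2124cae8))
(.node (.leaf 0x11333052)
(.leaf 0)))
(.node (.node (.leaf 0xb5e5221)
(.leaf 0x2ad937a9))
(.node (.leaf 0x1b012532)
(.leaf 0)))))
(.node (.node (.node (.node (.leaf 0x1cf2086)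
(.leaf 0x202b3094))
(.node (.leaf 0x1054ac1c)
(.leaf 0)))
(.node (.node (.leaf 0xa15055e)
(.leaf 0x2a38f70b))
(.node (.leaf 0x191b2847)
(.leaf 0))))
(.node (.node (.node (.leaf 0x67e40d4)
(.leaf 0x22aaf2f8))
(.node (.leaf 0x12aab0f1)
(.leaf 0)))
(.node (.node (.leaf 0xc9ab13f)
(.leaf 0x2cecf7b5))
(.node (.leaf 0x1d96f337)
(.leaf 0))))))
(.node (.node (.node (.node (.node (.leaf 0xd6c414)
(.leaf 0x1fbf11af))
(.node (.leaf 0xff12f87)
(.leaf 0)))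
(.node (.node (.leaf 0x95d248a)
(.leaf 5313))
(.node (.leaf 0x18b70bf8)
(.leaf 0))))
(.node (.node (.node (.leaf 0x564a22c)
(.leaf 0x21b911d7))
(.node (.leaf 0x11c325dc)
(.leaf 0)))
(.node (.node (.leaf 0xbdd2b12)
(.leaf 0x2b8d14f3))
(.node (.leaf 0x1d193137)
(.leaf 0)))))
(.node (.node (.node (.node (.leaf 0x22f02ec)
(.leaf 0x20acd3c2))
(.node (.leaf 0x10bf08a7)
(.leaf 0)))
(.node (.node (.leaf 0xb151072)
(.leaf 0x2a7b1638))
(.node (.leaf 0x19c50ebd)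
(.leaf 0))))
(.node (.node (.node (.leaf 0x734e1a8)
(.leaf 0x243ceafc))
(.node (.leaf 0x13e10f3c)
(.leaf 0)))
(.node (.node (.leaf 0xf7f053d)
(.leaf 0x2f0ef7c7))
(.node (.leaf 0x1f46f229)
(.leaf 0))))))))
(.node (.node (.node (.node (.node (.node (.node (.leaf 0x2261ac)
(.leaf 0x1f6e86ab))
(.node (.leaf 0xfa26701)
(.leaf 0x2ff117eb)))
(.node (.node (.leaf 0x7826451)
(.leaf 0x283ee570))
(.node (.leaf 0x1522b40b)
(.leaf 0))))
(.node (.node (.node (.leaf 0x2b0e259)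
(.leaf 0x210ce4ea))
(.node (.leaf 0x111ae58e)
(.leaf 0)))
(.node (.node (.leaf 0xb4b1426)
(.leaf 0x2aba7822))
(.node (.leaf 0x1a7ad3e4)
(.leaf 0)))))
(.node (.node (.node (.node (.leaf 0x1bea0f8)
(.leaf 0x200ee924))
(.node (.leaf 0x103cc728)
(.leaf 0)))
(.node (.node (.leaf 0x9fcc793)
(.leaf 0x2a2cb577))
(.node (.leaf 0x18f8adb5)
(.leaf 0))))
(.node (.node (.node (.leaf 0x624620c)
(.leaf 0x224ec4e9))
(.node (.leaf 0x1248d0f7)
(.leaf 0)))
(.node (.node (.leaf 0xc6d1139)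
(.leaf 0x2c54b823))
(.node (.leaf 0x1d68d28a)
(.leaf 0))))))
(.node (.node (.node (.node (.node (.leaf 0x8320ad)
(.leaf 0x1fae67a2))
(.node (.leaf 0xfe2a73e)
(.leaf 0)))
(.node (.node (.leaf 0x927055a)
(.leaf 0x28cd07db))
(.node (.leaf 0x18a5052f)
(.leaf 0))))
(.node (.node (.node (.leaf 0x4de8048)
(.leaf 0x21813071))
(.node (.leaf 0x118f1188)
(.leaf 0)))
(.node (.node (.leaf 0xbb4ed00)
(.leaf 0x2b5116a5))
(.node (.leaf 0x1d0ac9f4)
(.leaf 0)))))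
(.node (.node (.node (.node (.leaf 0x2092150)
(.leaf 0x208e71cb))
(.node (.leaf 0x10a2cff7)
(.leaf 0)))
(.node (.node (.leaf 0xb088dfd)
(.leaf 0x2a66b791))
(.node (.leaf 0x198f1027)
(.leaf 0))))
(.node (.node (.node (.leaf 0x7290385)
(.leaf 0x23ef065c))
(.node (.leaf 0x1366ea9e)
(.leaf 0)))
(.node (.node (.leaf 0xe0ef0af)
(.leaf 0x2eea973a))
(.node (.leaf 0x1f3e64f6)
(.leaf 0)))))))
(.node (.node (.node (.node (.node (.node (.leaf 0x444106)
(.leaf 0x1f8f0a83))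
(.node (.leaf 0xfc06ca1)
(.leaf 0x30371895)))
(.node (.node (.leaf 0x8aac481)
(.leaf 0x28769177))
(.node (.leaf 0x1888e6db)
(.leaf 0))))
(.node (.node (.node (.leaf 0x4a2e27c)
(.leaf 0x2142cbb0))
(.node (.leaf 0x114eedad)
(.leaf 0)))
(.node (.node (.leaf 0xb7b2883)
(.leaf 0x2b073841))
(.node (.leaf 0x1b88ea7b)
(.leaf 0)))))
(.node (.node (.node (.node (.leaf 0x1e2a07b)
(.leaf 0x204b318e))
(.node (.leaf 0x106ee537)
(.leaf 0)))
(.node (.node (.leaf 0xa38e51d)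
(.leaf 0x2a46761c))
(.node (.leaf 0x193ec7d4)
(.leaf 0))))
(.node (.node (.node (.leaf 0x6a060e0)
(.leaf 0x232f2d1f))
(.node (.leaf 0x12e2af31)
(.leaf 0)))
(.node (.node (.leaf 0xce4d256)
(.leaf 0x2eb6d610))
(.node (.leaf 0x1dd2afe8)
(.leaf 0))))))
(.node (.node (.node (.node (.node (.leaf 0x1a262df)
(.leaf 0x1fd93090))
(.node (.leaf 0x100d051a)
(.leaf 0)))
(.node (.node (.leaf 0x9a6c488)
(.leaf 0x29ab14dc))
(.node (.leaf 0x18c93311)
(.leaf 0))))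
(.node (.node (.node (.leaf 0x57b0221)
(.leaf 0x21f8ccb6))
(.node (.leaf 0x11eb25d0)
(.leaf 0)))
(.node (.node (.leaf 0xc111214)
(.leaf 0x2bbcd6c5))
(.node (.leaf 0x1d30f1d2)
(.leaf 0)))))
(.node (.node (.node (.node (.leaf 0x248a1fe)
(.leaf 0x20c910e0))
(.node (.leaf 0x10df2f5b)
(.leaf 0)))
(.node (.node (.leaf 0xb24ed63)
(.leaf 0x2a8cb6d5))
(.node (.leaf 0x19fb3370)
(.leaf 0))))
(.node (.node (.node (.leaf 0x74a83a6)
(.leaf 0x24891228))
(.node (.leaf 0x1460ece9)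
(.leaf 0)))
(.node (.node (.leaf 0xf88afcf)
(.leaf 0x2f5d1645))
(.node (.leaf 0x1f532a2b)
(.leaf 0)))))))))
(.node (.node (.node (.node (.node (.node (.node (.node (.leaf 0x1e200e)
(.leaf 0x1f66e9f6))
(.node (.leaf 0xf9aacfc)
(.leaf 0x2fe6b69c)))
(.node (.node (.leaf 0x7750370)
(.leaf 0x25a51167))
(.node (.leaf 0x14d52fa0)
(.leaf 0))))
(.node (.node (.node (.leaf 0x29ae061)
(.leaf 0x20faa9d4))
(.node (.leaf 0x110f0f6b)
(.leaf 0)))
(.node (.node (.leaf 0xb4524f1)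
(.leaf 0x2ab0d590))
(.node (.leaf 0x1a42c762)
(.leaf 0)))))
(.node (.node (.node (.node (.leaf 0x1b721c5)
(.leaf 0x200529a5))
(.node (.leaf 0x102ab444)
(.leaf 0)))
(.node (.node (.leaf 0x9eea6c5)
(.leaf 0x29f8d510))
(.node (.leaf 0x18f1252b)
(.leaf 0))))
(.node (.node (.node (.leaf 0x61f006b)
(.leaf 0x2236ef10))
(.node (.leaf 0x1226a8c9)
(.leaf 0)))
(.node (.node (.leaf 0xc5510b0)
(.leaf 0x2c2115cd))
(.node (.leaf 0x1d56cceb)
(.leaf 0))))))
(.node (.node (.node (.node (.node (.leaf 0x72c16e)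
(.leaf 0x1fa6ad6d))
(.node (.leaf 0xfda86c2)
(.leaf 0x310317c6)))
(.node (.node (.leaf 0x910e4d1)
(.leaf 0x28aac78b))
(.node (.leaf 0x189c4db3)
(.leaf 0))))
(.node (.node (.node (.leaf 0x4c06445)
(.leaf 0x216cd0fd))
(.node (.leaf 0x11790e7c)
(.leaf 0)))
(.node (.node (.leaf 0xba6b086)
(.leaf 0x2b3ef6cc))
(.node (.leaf 0x1d0272fc)
(.leaf 0)))))
(.node (.node (.node (.node (.leaf 0x20082cd)
(.leaf 0x20810525))
(.node (.leaf 0x109912fd)
(.leaf 0)))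
(.node (.node (.leaf 0xb028bd9)
(.leaf 0x2a613524))
(.node (.leaf 0x197d2fc5)
(.leaf 0))))
(.node (.node (.node (.leaf 0x712c255)
(.leaf 0x23a91263))
(.node (.leaf 0x13506bf6)
(.leaf 0)))
(.node (.node (.leaf 0xd790feb)
(.leaf 0x2ed93501))
(.node (.leaf 0x1e3b0965)
(.leaf 0)))))))
(.node (.node (.node (.node (.node (.node (.leaf 0x3c816c)
(.leaf 0x1f86ca01))
(.node (.leaf 0xfb8b37a)
(.leaf 0x301b188a)))
(.node (.node (.leaf 0x878c43f)
(.leaf 0x286e92e6))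
(.node (.leaf 0x1882caf1)
(.leaf 0))))
(.node (.node (.node (.leaf 0x49e4034)
(.leaf 0x21373439))
(.node (.leaf 0x1140b316)
(.leaf 0)))
(.node (.node (.leaf 0xb6ae9a2)
(.leaf 0x2aef36db))
(.node (.leaf 0x1b452cd2)
(.leaf 0)))))
(.node (.node (.node (.node (.leaf 0x1d6c355)
(.leaf 0x203d2d2c))
(.node (.leaf 0x1060aed9)
(.leaf 0)))
(.node (.node (.leaf 0xa26a86c)
(.leaf 0x2a3f359e))
(.node (.leaf 0x192f2c98)
(.leaf 0))))
(.node (.node (.node (.leaf 0x696e44b)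
(.leaf 0x2304c7af))
(.node (.leaf 0x12c2b08c)
(.leaf 0)))
(.node (.node (.leaf 0xcb86a42)
(.leaf 0x2de0d7cc))
(.node (.leaf 0x1db514ab)
(.leaf 0))))))
(.node (.node (.node (.node (.node (.leaf 0x19e2022)
(.leaf 0x1fccd1eb))
(.node (.leaf 0x10032b89)
(.leaf 0)))
(.node (.node (.leaf 0x96f2889)
(.leaf 0x298d35f2))
(.node (.leaf 0x18beeb70)
(.leaf 0))))
(.node (.node (.node (.leaf 0x56ee1f9)
(.leaf 0x21d292b2))
(.node (.leaf 0x11d4ed02)
(.leaf 0)))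
(.node (.node (.leaf 0xbf6cbbc)
(.leaf 0x2ba5158b))
(.node (.leaf 0x1d230ae7)
(.leaf 0)))))
(.node (.node (.node (.node (.leaf 0x23d2020)
(.leaf 0x20bce9fd))
(.node (.leaf 0x10cee864)
(.leaf 0)))
(.node (.node (.leaf 0xb1d11b6)
(.leaf 0x2a84755f))
(.node (.leaf 0x19dcc715)
(.leaf 0))))
(.node (.node (.node (.leaf 0x73d0423)
(.leaf 0x245f2f83))
(.node (.leaf 0x141ea739)
(.leaf 0)))
(.node (.node (.leaf 0xf832c07)
(.leaf 0x2f36d6bb))
(.node (.leaf 0x1f4cb1bb)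
(.leaf 0))))))))
(.node (.node (.node (.node (.node (.node (.node (.leaf 0x28e436)
(.leaf 0x1f751155))
(.node (.leaf 0xfa86f3b)
(.leaf 0x2ffb1829)))
(.node (.node (.leaf 0x790a35c)
(.leaf 1279))
(.node (.leaf 0x15f530ed)
(.leaf 0))))
(.node (.node (.node (.leaf 0x2fae06f)
(.leaf 0x2118c9d5))
(.node (.leaf 0x11270cd7)
(.leaf 0)))
(.node (.node (.leaf 0xb566ff1)
(.leaf 0x2ac4d7db))
(.node (.leaf 0x1aaa8cc7)
(.leaf 0)))))
(.node (.node (.node (.node (.leaf 0x1c72166)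
(.leaf 0x202064ba))
(.node (.leaf 0x104908b9)
(.leaf 0)))
(.node (.node (.leaf 0xa09255f)
(.leaf 0x2a3315e4))
(.node (.leaf 0x1902ceab)
(.leaf 0))))
(.node (.node (.node (.leaf 0x63100df)
(.leaf 0x22790e01))
(.node (.leaf 0x1276c6f6)
(.leaf 0)))
(.node (.node (.leaf 0xc7eb11f)
(.leaf 0x2c8f16eb))
(.node (.leaf 0x1d78ad52)
(.leaf 0))))))
(.node (.node (.node (.node (.node (.leaf 0xb3013d)
(.leaf 0x1fb7111b))
(.node (.leaf 0xfeaa6f1)
(.leaf 0)))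
(.node (.node (.leaf 0x95325b1)
(.leaf 0x2906aa80))
(.node (.leaf 0x18acceb7)
(.leaf 0))))
(.node (.node (.node (.leaf 0x55ea18f)
(.leaf 0x2198f1ce))
(.node (.leaf 0x11af0984)
(.leaf 0)))
(.node (.node (.leaf 0xbc90633)
(.leaf 0x2b6f3812))
(.node (.leaf 0x1d112a8b)
(.leaf 0)))))
(.node (.node (.node (.node (.leaf 0x2170165)
(.leaf 0x209ecffb))
(.node (.leaf 0x10b0c972)
(.leaf 0)))
(.node (.node (.leaf 0xb0f1146)
(.leaf 0x2a70b835))
(.node (.leaf 0x19ab2c7e)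
(.leaf 0))))
(.node (.node (.node (.leaf 0x72ec38d)
(.leaf 0x24213288))
(.node (.leaf 0x1396ec9c)
(.leaf 0)))
(.node (.node (.leaf 0xe5ea996)
(.leaf 0x2ef937d6))
(.node (.leaf 0x1f4287a7)
(.leaf 0)))))))
(.node (.node (.node (.node (.node (.node (.leaf 0x4f02fa)
(.leaf 0x1f98e9c0))
(.node (.leaf 0xfc8cc8e)
(.leaf 0x309cd747)))
(.node (.node (.leaf 0x8b52391)
(.leaf 0x28844ac5))
(.node (.leaf 0x188e4858)
(.leaf 0))))
(.node (.node (.node (.leaf 0x4aa81fc)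
(.leaf 0x214d0b2f))
(.node (.leaf 0x11591302)
(.leaf 0)))
(.node (.node (.leaf 0xb8d12c3)
(.leaf 0x2b1c777c))
(.node (.leaf 0x1bc4cc38)
(.leaf 0)))))
(.node (.node (.node (.node (.leaf 0x1eee40e)
(.leaf 0x205eb42e))
(.node (.leaf 0x10792cb8)
(.leaf 0)))
(.node (.node (.leaf 0xa56e898)
(.leaf 0x2a4e9512))
(.node (.leaf 0x194ed320)
(.leaf 0))))
(.node (.node (.node (.leaf 0x6b6e1aa)
(.leaf 0x2362f089))
(.node (.leaf 0x13052e22)
(.leaf 0)))
(.node (.node (.leaf 0xd0d1191)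
(.leaf 0x2ebed5a6))
(.node (.leaf 0x1df491bd)
(.leaf 0))))))
(.node (.node (.node (.node (.node (.leaf 0x1a921b3)
(.leaf 0x1fe710b5))
(.node (.leaf 0x1017283e)
(.leaf 0)))
(.node (.node (.leaf 0x9df04c3)
(.leaf 0x29ced566))
(.node (.leaf 0x18d30909)
(.leaf 0))))
(.node (.node (.node (.leaf 0x58b23d6)
(.leaf 0x220e656a))
(.node (.leaf 0x1202c721)
(.leaf 0)))
(.node (.node (.leaf 0xc290b61)
(.leaf 0x2bd0f843))
(.node (.leaf 0x1d3ad3f6)
(.leaf 0)))))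
(.node (.node (.node (.node (.leaf 0x25900ac)
(.leaf 0x20da8bbd))
(.node (.leaf 0x10ed0758)
(.leaf 0)))
(.node (.node (.leaf 0xb2e710e)
(.leaf 0x2a96b7ac))
(.node (.leaf 0x1a12b298)
(.leaf 0))))
(.node (.node (.node (.leaf 0x752e3c7)
(.leaf 0x24cc917a))
(.node (.leaf 0x14892e28)
(.leaf 0)))
(.node (.node (.leaf 0xf8f133d)
(.leaf 0x2fd73879))
(.node (.leaf 0x1f587172)
(.leaf 0))))))))))
(.node (.node (.node (.node (.node (.node (.node (.node (.node (.leaf 2)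
(.leaf 0x1f632ed0))
(.node (.leaf 0xf966c62)
(.leaf 0x2fe2f7f5)))
(.node (.node (.leaf 0x76901ce)
(.leaf 0x2524a49b))
(.node (.leaf 0x14c3129a)
(.leaf 0))))
(.node (.node (.node (.leaf 0x280a33c)
(.leaf 0x20ecabe1))
(.node (.leaf 0x1106f079)
(.leaf 0)))
(.node (.node (.leaf 0xb3f121f)
(.leaf 0x2aa6d5bf))
(.node (.leaf 0x1a333210)
(.leaf 0)))))
(.node (.node (.node (.node (.leaf 0x1b3009e)
(.leaf 0x1ffef0c1))
(.node (.leaf 0x1026cfc3)
(.leaf 0)))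
(.node (.node (.leaf 0x9eac4b4)
(.leaf 0x29ed3507))
(.node (.leaf 0x18eb2813)
(.leaf 0))))
(.node (.node (.node (.leaf 0x5b12084)
(.leaf 0x222d3432))
(.node (.leaf 0x121cee54)
(.leaf 0)))
(.node (.node (.leaf 0xc4912f0)
(.leaf 0x2c0b1561))
(.node (.leaf 0x1d50d166)
(.leaf 0))))))
(.node (.node (.node (.node (.node (.leaf 0x630315)
(.leaf 0x1fa33145))
(.node (.leaf 0xfd52e6a)
(.leaf 0x30ff175b)))
(.node (.node (.leaf 0x909254f)
(.leaf 0x289f2a54))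
(.node (.leaf 0x1898eba7)
(.leaf 0))))
(.node (.node (.node (.leaf 0x4bae2f9)
(.leaf 0x21670d65))
(.node (.leaf 0x11712912)
(.leaf 0)))
(.node (.node (.leaf 0xba487dc)
(.leaf 0x2b34f622))
(.node (.leaf 0x1d006afa)
(.leaf 0)))))
(.node (.node (.node (.node (.leaf 0x1fd0176)
(.leaf 0x20789270))
(.node (.leaf 0x108f08bf)
(.leaf 0)))
(.node (.node (.leaf 0xb00495c)
(.leaf 0x2a5d35f5))
(.node (.leaf 0x1972e978)
(.leaf 0))))
(.node (.node (.node (.leaf 0x6fee3de)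
(.leaf 0x23910fe5))
(.node (.leaf 0x133b06b7)
(.leaf 0)))
(.node (.node (.leaf 0xd5b0e93)
(.leaf 0x2ed295af))
(.node (.leaf 0x1e210d47)
(.leaf 0)))))))
(.node (.node (.node (.node (.node (.node (.leaf 0x36a0f3)
(.leaf 0x1f824d53))
(.node (.leaf 0xfb5304e)
(.leaf 0x3016d860)))
(.node (.node (.leaf 0x7c6a37b)
(.leaf 0x2868f1c4))
(.node (.leaf 0x188104df)
(.leaf 0))))
(.node (.node (.node (.leaf 0x34f0092)
(.leaf 0x21308cb9))
(.node (.leaf 0x113caca0)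
(.leaf 0)))
(.node (.node (.leaf 0xb66ccf5)
(.leaf 0x2ae0b62e))
(.node (.leaf 0x1b14c720)
(.leaf 0)))))
(.node (.node (.node (.node (.leaf 0x1d26171)
(.leaf 0x2032c9c1))
(.node (.leaf 0x10589412)
(.leaf 0)))
(.node (.node (.leaf 0xa1d0515)
(.leaf 0x2a3d35aa))
(.node (.leaf 0x1924c804)
(.leaf 0))))
(.node (.node (.node (.leaf 0x68903dd)
(.leaf 0x22df07bd))
(.node (.leaf 0x12b92bf4)
(.leaf 0)))
(.node (.node (.leaf 0xca50c72)
(.leaf 0x2da11502))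
(.node (.leaf 0x1d9af0d4)
(.leaf 0))))))
(.node (.node (.node (.node (.node (.leaf 0x11120b1)
(.leaf 0x1fc53488))
(.node (.leaf 0xffaaf51)
(.leaf 0)))
(.node (.node (.leaf 0x96728a2)
(.leaf 0x2986d4c9))
(.node (.leaf 0x18bb0e7d)
(.leaf 0))))
(.node (.node (.node (.leaf 0x56903c3)
(.leaf 0x21c31002))
(.node (.leaf 0x11cb1207)
(.leaf 0)))
(.node (.node (.leaf 0xbe4b07a)
(.leaf 0x2b96b727))
(.node (.leaf 0x1d1e479f)
(.leaf 0)))))
(.node (.node (.node (.node (.leaf 0x2346359)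
(.leaf 0x20b6ed82))
(.node (.leaf 0x10c8ae37)
(.leaf 0)))
(.node (.node (.leaf 0xb186ac1)
(.leaf 0x2a81163f))
(.node (.leaf 0x19d32ee7)
(.leaf 0))))
(.node (.node (.node (.leaf 0x7366422)
(.leaf 0x244f13f1))
(.node (.leaf 0x14032fce)
(.leaf 0)))
(.node (.node (.leaf 0xf8046bb)
(.leaf 0x2f22d6af))
(.node (.leaf 0x1f4aaa5f)
(.leaf 0))))))))
(.node (.node (.node (.node (.node (.node (.node (.leaf 0x26a15e)
(.leaf 0x1f724727))
(.node (.leaf 0xfa6a708)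
(.leaf 0x2ff51820)))
(.node (.node (.leaf 0x78aa471)
(.leaf 0x2844e696))
(.node (.leaf 0x159b284a)
(.leaf 0))))
(.node (.node (.node (.leaf 0x2d8e162)
(.leaf 0x2112aa66))
(.node (.leaf 0x1120c9e6)
(.leaf 0)))
(.node (.node (.leaf 0xb5306a9)
(.leaf 0x2ac0b729))
(.node (.leaf 0x1a9906fa)
(.leaf 0)))))
(.node (.node (.node (.node (.leaf 0x1c2c12e)
(.leaf 0x2016ca64))
(.node (.leaf 0x1044cbec)
(.leaf 0)))
(.node (.node (.leaf 0xa02c76b)
(.leaf 0x2a2f36c7))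
(.node (.leaf 0x18fc87f2)
(.leaf 0))))
(.node (.node (.node (.leaf 0x628830d)
(.leaf 0x2269135f))
(.node (.leaf 0x125ea831)
(.leaf 0)))
(.node (.node (.leaf 0xc7713d9)
(.leaf 0x2c653514))
(.node (.leaf 0x1d72a4f0)
(.leaf 0))))))
(.node (.node (.node (.node (.node (.leaf 0xa7032f)
(.leaf 0x1fb24aa8))
(.node (.leaf 0xfe6eee9)
(.leaf 0)))
(.node (.node (.leaf 0x94ee54e)
(.leaf 0x28ef0ec7))
(.node (.leaf 0x18a92f7d)
(.leaf 0))))
(.node (.node (.node (.leaf 0x4ed2444)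
(.leaf 0x218f0d20))
(.node (.leaf 0x119d29e9)
(.leaf 0)))
(.node (.node (.leaf 0xbbef1f9)
(.leaf 0x2b5b1801))
(.node (.leaf 0x1d0d2a1d)
(.leaf 0)))))
(.node (.node (.node (.node (.leaf 0x210a02f)
(.leaf 0x20972d58))
(.node (.leaf 0x10a8c4c8)
(.leaf 0)))
(.node (.node (.leaf 0xb0b2d5e)
(.leaf 0x2a6eb556))
(.node (.leaf 0x19970531)
(.leaf 0))))
(.node (.node (.node (.leaf 0x72a6480)
(.leaf 0x2408e558))
(.node (.leaf 0x137aebe3)
(.leaf 0)))
(.node (.node (.leaf 0xe432618)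
(.leaf 0x2ef27608))
(.node (.leaf 0x1f4104ee)
(.leaf 0)))))))
(.node (.node (.node (.node (.node (.node (.leaf 0x4ac049)
(.leaf 0x1f928d78))
(.node (.leaf 0xfc510a1)
(.leaf 0x3058f827)))
(.node (.node (.leaf 0x8b0443e)
(.leaf 0x287cd05e))
(.node (.leaf 0x188a7451)
(.leaf 0))))
(.node (.node (.node (.leaf 0x4a6c1cf)
(.leaf 0x2146f103))
(.node (.leaf 0x1152a974)
(.leaf 0)))
(.node (.node (.leaf 0xb84cfbe)
(.leaf 0x2b16b5fe))
(.node (.leaf 0x1ba2ebfc)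
(.leaf 0)))))
(.node (.node (.node (.node (.leaf 0x1eae244)
(.leaf 0x2058e651))
(.node (.leaf 0x107509e7)
(.leaf 0)))
(.node (.node (.leaf 0xa4b25ef)
(.leaf 0x2a487807))
(.node (.leaf 0x19444f06)
(.leaf 0))))
(.node (.node (.node (.leaf 0x6a8e33d)
(.leaf 0x23406b2c))
(.node (.leaf 0x12f8e70f)
(.leaf 0)))
(.node (.node (.leaf 0xcf6c68e)
(.leaf 0x2ebb3592))
(.node (.leaf 0x1ddf1223)
(.leaf 0))))))
(.node (.node (.node (.node (.node (.leaf 0x1a70037)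
(.leaf 0x1fdf3028))
(.node (.leaf 0x1010ae6f)
(.leaf 0)))
(.node (.node (.leaf 0x9b4e4a6)
(.leaf 0x29caf53d))
(.node (.leaf 0x18cec822)
(.leaf 0))))
(.node (.node (.node (.leaf 0x580a3c2)
(.leaf 0x22070eef))
(.node (.leaf 0x11f52fdc)
(.leaf 0)))
(.node (.node (.leaf 0xc1f0672)
(.leaf 0x2bc4b753))
(.node (.leaf 0x1d3713d4)
(.leaf 0)))))
(.node (.node (.node (.node (.leaf 0x250e2e5)
(.leaf 0x20d5057f))
(.node (.leaf 0x10e72c18)
(.leaf 0)))
(.node (.node (.leaf 0xb2a6a55)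
(.leaf 0x2a911840))
(.node (.leaf 0x1a092a32)
(.leaf 0))))
(.node (.node (.node (.leaf 0x74f01d3)
(.leaf 0x24b2a4f2))
(.node (.leaf 0x1478b384)
(.leaf 0)))
(.node (.node (.leaf 0xf8a4f72)
(.leaf 0x2f7296e5))
(.node (.leaf 0x1f54f012)
(.leaf 0)))))))))
(.node (.node (.node (.node (.node (.node (.node (.node (.leaf 0x20a23f)
(.leaf 0x1f6aab98))
(.node (.leaf 0xf9eef9d)
(.leaf 0x2feb1796)))
(.node (.node (.leaf 0x77cc2de)
(.leaf 0x25e2f182))
(.node (.leaf 0x14f32c83)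
(.leaf 0))))
(.node (.node (.node (.leaf 0x2a8c253)
(.leaf 0x21013457))
(.node (.leaf 0x1115335c)
(.leaf 0)))
(.node (.node (.leaf 0xb48c946)
(.leaf 0x2ab476b5))
(.node (.leaf 0x1a5d0982)
(.leaf 0)))))
(.node (.node (.node (.node (.leaf 0x1bac392)
(.leaf 0x2009088d))
(.node (.leaf 0x1032a843)
(.leaf 0)))
(.node (.node (.leaf 0x9f4c48d)
(.leaf 0x2a2b3632))
(.node (.leaf 0x18f51407)
(.leaf 0))))
(.node (.node (.node (.leaf 0x62040f1)
(.leaf 0x2242cafd))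
(.node (.leaf 0x123905d4)
(.leaf 0)))
(.node (.node (.leaf 0xc633062)
(.leaf 0x2c371554))
(.node (.leaf 0x1d5f34bc)
(.leaf 0))))))
(.node (.node (.node (.node (.node (.leaf 0x7662fe)
(.leaf 0x1faa725c))
(.node (.leaf 0xfdf0cad)
(.leaf 0x311ad88e)))
(.node (.node (.leaf 0x91ac4fb)
(.leaf 0x28b3284e))
(.node (.leaf 0x18a1066c)
(.leaf 0))))
(.node (.node (.node (.leaf 0x4cb02fc)
(.leaf 0x21750bc0))
(.node (.leaf 0x1184af39)
(.leaf 0)))
(.node (.node (.leaf 0xbad30bc)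
(.leaf 0x2b49177d))
(.node (.leaf 0x1d06b067)
(.leaf 0)))))
(.node (.node (.node (.node (.leaf 0x2068073)
(.leaf 0x2089293a))
(.node (.leaf 0x109eb053)
(.leaf 0)))
(.node (.node (.leaf 0xb04914f)
(.leaf 0x2a62d7ab))
(.node (.leaf 0x19872f70)
(.leaf 0))))
(.node (.node (.node (.leaf 0x72663eb)
(.leaf 0x23c2c6df))
(.node (.leaf 0x135b2c3b)
(.leaf 0)))
(.node (.node (.leaf 0xd9f2d0a)
(.leaf 0x2edf1848))
(.node (.leaf 0x1e750bbb)
(.leaf 0)))))))
(.node (.node (.node (.node (.node (.node (.leaf 0x4062fd)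
(.leaf 0x1f8aa6d3))
(.node (.leaf 0xfbe6805)
(.leaf 0x302ab7b9)))
(.node (.node (.leaf 0x8a643f5)
(.leaf 0x2872c678))
(.node (.leaf 0x1884ae45)
(.leaf 0))))
(.node (.node (.node (.leaf 0x4a040b7)
(.leaf 0x213d0ef0))
(.node (.leaf 0x11472e4a)
(.leaf 0)))
(.node (.node (.leaf 0xb6eb220)
(.leaf 0x2afd161e))
(.node (.leaf 0x1b5eebfb)
(.leaf 0)))))
(.node (.node (.node (.node (.leaf 0x1db033f)
(.leaf 0x2044f02e))
(.node (.leaf 0x106908fa)
(.leaf 0)))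
(.node (.node (.leaf 0xa2ea55c)
(.leaf 0x2a433589))
(.node (.leaf 0x1936c879)
(.leaf 0))))
(.node (.node (.node (.leaf 0x69aa29f)
(.leaf 0x231cd06d))
(.node (.leaf 0x12d725ca)
(.leaf 0)))
(.node (.node (.leaf 0xcd127ec)
(.leaf 0x2eaf1544))
(.node (.leaf 0x1dc532b8)
(.leaf 0))))))
(.node (.node (.node (.node (.node (.leaf 0x1a12101)
(.leaf 0x1fd46f97))
(.node (.leaf 0x1006d418)
(.leaf 0)))
(.node (.node (.leaf 0x975254b)
(.leaf 0x2999153b))
(.node (.leaf 0x18c52cc6)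
(.leaf 0))))
(.node (.node (.node (.leaf 0x574a22d)
(.leaf 0x21e512e1))
(.node (.leaf 0x11dceef8)
(.leaf 0)))
(.node (.node (.leaf 0xc0129d8)
(.leaf 0x2bb2f760))
(.node (.leaf 0x1d2cc9a7)
(.leaf 0)))))
(.node (.node (.node (.node (.leaf 0x242c274)
(.leaf 0x20c2e83f))
(.node (.leaf 0x10d72e3b)
(.leaf 0)))
(.node (.node (.leaf 0xb204d73)
(.leaf 0x2a88b662))
(.node (.leaf 0x19ec8964)
(.leaf 0))))
(.node (.node (.node (.leaf 0x746823e)
(.leaf 0x2474f26c))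
(.node (.leaf 0x14472b7f)
(.leaf 0)))
(.node (.node (.leaf 0xf86aa96)
(.leaf 0x2f4915f8))
(.node (.leaf 0x1f50a66e)
(.leaf 0))))))))
(.node (.node (.node (.node (.node (.node (.node (.leaf 0x2ca264)
(.leaf 0x1f78eb17))
(.node (.leaf 0xfad07c6)
(.leaf 0x3004d88f)))
(.node (.node (.leaf 0x794a425)
(.leaf 0x28646522))
(.node (.leaf 0x16fb0c6d)
(.leaf 0))))
(.node (.node (.node (.leaf 0x3050197)
(.leaf 0x211f33da))
(.node (.leaf 0x112a942d)
(.leaf 0)))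
(.node (.node (.leaf 0xb5a4d9e)
(.leaf 0x2ad05679))
(.node (.leaf 0x1ab92761)
(.leaf 0)))))
(.node (.node (.node (.node (.leaf 0x1cae14d)
(.leaf 0x202332d9))
(.node (.leaf 0x104eee77)
(.leaf 0)))
(.node (.node (.leaf 0xa0f250a)
(.leaf 0x2a3456b4))
(.node (.leaf 0x190f3379)
(.leaf 0))))
(.node (.node (.node (.leaf 0x63ec42d)
(.leaf 0x228ef02b))
(.node (.leaf 0x1298c716)
(.leaf 0)))
(.node (.node (.leaf 0xc8c9116)
(.leaf 0x2ccef5a5))
(.node (.leaf 0x1d82cde2)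
(.leaf 0))))))
(.node (.node (.node (.node (.node (.leaf 0xc7019d)
(.leaf 0x1fba6b49))
(.node (.leaf 0xfeca9e8)
(.leaf 0)))
(.node (.node (.leaf 0x956e571)
(.leaf 0x291d13d2))
(.node (.leaf 0x18b0d2a3)
(.leaf 0))))
(.node (.node (.node (.leaf 0x560e3c6)
(.leaf 0x21aaca68))
(.node (.leaf 0x11b70dd1)
(.leaf 0)))
(.node (.node (.leaf 0xbd52bc4)
(.leaf 0x2b7ed5e7))
(.node (.leaf 0x1d1467b8)
(.leaf 0)))))
(.node (.node (.node (.node (.leaf 0x222a128)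
(.leaf 0x20a4c93d))
(.node (.leaf 0x10b8e79c)
(.leaf 0)))
(.node (.node (.leaf 0xb1286ea)
(.leaf 0x2a7735d6))
(.node (.leaf 0x19b90dd6)
(.leaf 0))))
(.node (.node (.node (.leaf 0x73083f2)
(.leaf 0x242cd49f))
(.node (.leaf 0x13bc6b8b)
(.leaf 0)))
(.node (.node (.leaf 0xe710da8)
(.leaf 0x2efed7fa))
(.node (.leaf 0x1f44ac78)
(.leaf 0)))))))
(.node (.node (.node (.node (.node (.node (.leaf 0x56c18d)
(.leaf 0x1f9ce96f))
(.node (.leaf 0xfcccf62)
(.leaf 0x30a6d7ec)))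
(.node (.node (.leaf 0x8c72438)
(.leaf 0x288f2b2a))
(.node (.leaf 0x18908eb1)
(.leaf 0))))
(.node (.node (.node (.leaf 0x4af00fd)
(.leaf 0x2152d19a))
(.node (.leaf 0x115e6daf)
(.leaf 0)))
(.node (.node (.leaf 0xb92a4e5)
(.leaf 0x2b26f570))
(.node (.leaf 0x1c0b3292)
(.leaf 0)))))
(.node (.node (.node (.node (.leaf 0x1f4c0ab)
(.leaf 0x206b32f7))
(.node (.leaf 0x1082d333)
(.leaf 0)))
(.node (.node (.leaf 0xa7ac498)
(.leaf 0x2a531568))
(.node (.leaf 0x195b27c3)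
(.leaf 0))))
(.node (.node (.node (.leaf 0x6c6c3d5)
(.leaf 0x2370e6a1))
(.node (.leaf 0x1316cefd)
(.leaf 0)))
(.node (.node (.leaf 0xd270ef7)
(.leaf 0x2ec317d3))
(.node (.leaf 0x1e05301f)
(.leaf 0))))))
(.node (.node (.node (.node (.node (.leaf 0x1aae266)
(.leaf 0x1fed0d54))
(.node (.leaf 0x101d25a0)
(.leaf 0)))
(.node (.node (.leaf 0x9e0c663)
(.leaf 0x29d4f4d8))
(.node (.leaf 0x18d92c96)
(.leaf 0))))
(.node (.node (.node (.leaf 0x5950180)
(.leaf 0x22192b5f))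
(.node (.leaf 0x120b2741)
(.leaf 0)))
(.node (.node (.leaf 0xc30f456)
(.leaf 0x2be11730))
(.node (.leaf 0x1d424f9e)
(.leaf 0)))))
(.node (.node (.node (.node (.leaf 0x2612141)
(.leaf 0x20e0e514))
(.node (.leaf 0x10f52c1b)
(.leaf 0)))
(.node (.node (.leaf 0xb3452f9)
(.leaf 0x2a9cb580))
(.node (.leaf 0x1a1d0e1d)
(.leaf 0))))
(.node (.node (.node (.leaf 0x75903b5)
(.leaf 0x24d8f3d6))
(.node (.leaf 0x149d313b)
(.leaf 0)))
(.node (.node (.leaf 0xf928693)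
(.leaf 0x2fdb174b))
(.node (.leaf 0x1f5a70a7)
(.leaf 0)))))))))))
(.node (.node (.node (.node (.node (.node (.node (.node (.node (.node (.leaf 466949)
(.leaf 0x1f60703a))
(.node (.leaf 0xf96a7f4)
(.leaf 0x2fe097dd)))
(.node (.node (.leaf 0x76501d7)
(.leaf 0x25190b9a))
(.node (.leaf 0x14b527f8)
(.leaf 0))))
(.node (.node (.node (.leaf 0x27aa243)
(.leaf 0x20e64a81))
(.node (.leaf 0x110105c2)
(.leaf 0)))
(.node (.node (.leaf 0xb3d0b38)
(.leaf 0x2aa2b6d0))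
(.node (.leaf 0x1a2d0e88)
(.leaf 0)))))
(.node (.node (.node (.node (.leaf 0x1b081da)
(.leaf 0x1ffe862a))
(.node (.leaf 0x1024d048)
(.leaf 0)))
(.node (.node (.leaf 0x9e924b7)
(.leaf 0x29e6d535))
(.node (.leaf 0x18e4cc23)
(.leaf 0))))
(.node (.node (.node (.leaf 0x5a72337)
(.leaf 0x222907ea))
(.node (.leaf 0x12190e47)
(.leaf 0)))
(.node (.node (.leaf 0xc4113f9)
(.leaf 0x2bf89680))
(.node (.leaf 0x1d4ca636)
(.leaf 0))))))
(.node (.node (.node (.node (.node (.leaf 0x5f031f)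
(.leaf 0x1fa0f2b4))
(.node (.leaf 0xfd30fdb)
(.leaf 0x30fa76fd)))
(.node (.node (.leaf 0x906e4be)
(.leaf 0x289a46de))
(.node (.leaf 0x18970a98)
(.leaf 0))))
(.node (.node (.node (.leaf 0x4b6442c)
(.leaf 0x21612de7))
(.node (.leaf 0x116cad5a)
(.leaf 0)))
(.node (.node (.leaf 0xba10a10)
(.leaf 0x2b329646))
(.node (.leaf 0x1cfef0a3)
(.leaf 0)))))
(.node (.node (.node (.node (.leaf 0x1f86294)
(.leaf 0x2076d20b))
(.node (.leaf 0x108d2918)
(.leaf 0)))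
(.node (.node (.leaf 0xafeed19)
(.leaf 0x2a589716))
(.node (.leaf 0x196f0e68)
(.leaf 0))))
(.node (.node (.node (.leaf 0x6fa83d3)
(.leaf 0x2384d22e))
(.node (.leaf 0x132ae750)
(.leaf 0)))
(.node (.node (.leaf 0xd4f10d5)
(.leaf 0x2eced562))
(.node (.leaf 0x1e1cec7c)
(.leaf 0)))))))
(.node (.node (.node (.node (.node (.node (.leaf 0x3300f9)
(.leaf 0x1f80ef29))
(.node (.leaf 0xfb3088c)
(.leaf 0x30149845)))
(.node (.node (.leaf 0x7b0a45e)
(.leaf 0x286906d7))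
(.node (.leaf 0x187e4c0d)
(.leaf 0))))
(.node (.node (.node (.leaf 0x3330201)
(.leaf 0x21270d94))
(.node (.leaf 0x11392c04)
(.leaf 0)))
(.node (.node (.leaf 0xb626a1f)
(.leaf 0x2adcb798))
(.node (.leaf 0x1b0724dd)
(.leaf 0)))))
(.node (.node (.node (.node (.leaf 0x1d04334)
(.leaf 0x202f0617))
(.node (.leaf 0x105905d1)
(.leaf 0)))
(.node (.node (.leaf 0xa18c50c)
(.leaf 0x2a3b3788))
(.node (.leaf 0x191f053e)
(.leaf 0))))
(.node (.node (.node (.leaf 0x6806344)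
(.leaf 0x22ba705f))
(.node (.leaf 0x12b10fde)
(.leaf 0)))
(.node (.node (.leaf 0xc9c735b)
(.leaf 0x2d5cd600))
(.node (.leaf 0x1d988d4a)
(.leaf 0))))))
(.node (.node (.node (.node (.node (.leaf 0xdd2054)
(.leaf 0x1fc2c513))
(.node (.leaf 0xff92b95)
(.leaf 0)))
(.node (.node (.leaf 0x96107bc)
(.leaf 0x2982f545))
(.node (.leaf 0x18b93417)
(.leaf 0))))
(.node (.node (.node (.leaf 0x56703cd)
(.leaf 0x21bcf196))
(.node (.leaf 0x11c66f25)
(.leaf 0)))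
(.node (.node (.leaf 0xbdf325f)
(.leaf 0x2b92d6d3))
(.node (.leaf 0x1d1cf075)
(.leaf 0)))))
(.node (.node (.node (.node (.leaf 0x23062a8)
(.leaf 0x20b2d007))
(.node (.leaf 0x10c50e25)
(.leaf 0)))
(.node (.node (.leaf 0xb16cfaf)
(.leaf 0x2a7c7808))
(.node (.leaf 0x19cab355)
(.leaf 0))))
(.node (.node (.node (.leaf 0x7350416)
(.leaf 0x2442d1a5))
(.node (.leaf 0x13e72f61)
(.leaf 0)))
(.node (.node (.leaf 0xf7eec55)
(.leaf 0x2f1695b7))
(.node (.leaf 0x1f48f345)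
(.leaf 0))))))))
(.node (.node (.node (.node (.node (.node (.node (.leaf 0x25217b)
(.leaf 0x1f70cb06))
(.node (.leaf 0xfa48be9)
(.leaf 0x2ff277a1)))
(.node (.node (.leaf 0x786a0c4)
(.leaf 0x2840c578))
(.node (.leaf 0x15750a38)
(.leaf 0))))
(.node (.node (.node (.leaf 0x2b8a2e0)
(.leaf 0x210ecb92))
(.node (.leaf 0x111cedcc)
(.leaf 0)))
(.node (.node (.leaf 0xb4f2b0c)
(.leaf 0x2abef5f6))
(.node (.leaf 0x1a8b2814)
(.leaf 0)))))
(.node (.node (.node (.node (.leaf 0x1c0e120)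
(.leaf 0x2010cba3))
(.node (.leaf 0x103f2ea8)
(.leaf 0)))
(.node (.node (.leaf 0x9ff065f)
(.leaf 0x2a2c7707))
(.node (.leaf 0x18fac80b)
(.leaf 0))))
(.node (.node (.node (.leaf 0x627226d)
(.leaf 0x22572b3e))
(.node (.leaf 0x1254ea94)
(.leaf 0)))
(.node (.node (.leaf 0xc7131d0)
(.leaf 0x2c58d6c2))
(.node (.leaf 0x1d6ee7ac)
(.leaf 0))))))
(.node (.node (.node (.node (.node (.leaf 0x92e087)
(.leaf 0x1faeeb93))
(.node (.leaf 0xfe50ede)
(.leaf 0)))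
(.node (.node (.leaf 0x936c80a)
(.leaf 0x28df0790))
(.node (.leaf 0x18a4abf2)
(.leaf 0))))
(.node (.node (.node (.leaf 0x4e323f7)
(.leaf 0x2186d206))
(.node (.leaf 0x1194e89a)
(.leaf 0)))
(.node (.node (.leaf 0xbbd2a13)
(.leaf 0x2b5477ea))
(.node (.leaf 0x1d0a8d7c)
(.leaf 0)))))
(.node (.node (.node (.node (.leaf 0x20ce0c5)
(.leaf 0x2090d2c7))
(.node (.leaf 0x10a4ce64)
(.leaf 0)))
(.node (.node (.leaf 0xb08f459)
(.leaf 0x2a6a5743))
(.node (.leaf 0x19926a8a)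
(.leaf 0))))
(.node (.node (.node (.leaf 0x72ac285)
(.leaf 0x23fc49be))
(.node (.leaf 0x136d0f41)
(.leaf 0)))
(.node (.node (.leaf 0xe370ebf)
(.leaf 0x2eeef7c1))
(.node (.leaf 0x1f3f303f)
(.leaf 0)))))))
(.node (.node (.node (.node (.node (.node (.leaf 0x468245)
(.leaf 0x1f90b2ee))
(.node (.leaf 0xfc332b3)
(.leaf 0x3040d837)))
(.node (.node (.leaf 0x8ace375)
(.leaf 0x287932ef))
(.node (.leaf 0x188b0e13)
(.leaf 0))))
(.node (.node (.node (.leaf 0x4a482c0)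
(.leaf 0x2144abca))
(.node (.leaf 0x1150caf6)
(.leaf 0)))
(.node (.node (.leaf 0xb7f2ab7)
(.leaf 0x2b12f5a1))
(.node (.leaf 0x1b910f08)
(.leaf 0)))))
(.node (.node (.node (.node (.leaf 0x1e9009a)
(.leaf 0x20532f40))
(.node (.leaf 0x1071283a)
(.leaf 0)))
(.node (.node (.leaf 0xa45250d)
(.leaf 0x2a48565f))
(.node (.leaf 0x19412b5d)
(.leaf 0))))
(.node (.node (.node (.leaf 0x6a50328)
(.leaf 0x23392951))
(.node (.leaf 0x12eaae5d)
(.leaf 0)))
(.node (.node (.leaf 0xcf306a4)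
(.leaf 0x2eb8f522))
(.node (.leaf 0x1ddb3473)
(.leaf 0))))))
(.node (.node (.node (.node (.node (.leaf 0x1a482b3)
(.leaf 0x1fda7284))
(.node (.leaf 0x100eab77)
(.leaf 0)))
(.node (.node (.leaf 0x9ad25bd)
(.leaf 5315))
(.node (.leaf 0x18cb2eeb)
(.leaf 0))))
(.node (.node (.node (.leaf 0x57ce3cf)
(.leaf 0x2200d2be))
(.node (.leaf 0x11f0e72b)
(.leaf 0)))
(.node (.node (.leaf 0xc17110b)
(.leaf 0x2bbf378a))
(.node (.leaf 0x1d333286)
(.leaf 0)))))
(.node (.node (.node (.node (.leaf 0x24aa31e)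
(.leaf 0x20cecf99))
(.node (.leaf 0x10e4c4ed)
(.leaf 0)))
(.node (.node (.leaf 0xb293133)
(.leaf 0x2a8f172d))
(.node (.leaf 0x1a010c70)
(.leaf 0))))
(.node (.node (.node (.leaf 0x74ca389)
(.leaf 0x24992bab))
(.node (.leaf 0x146e6bb9)
(.leaf 0)))
(.node (.node (.leaf 0xf8b0c56)
(.leaf 0x2f6ad6e2))
(.node (.leaf 0x1f550650)
(.leaf 0)))))))))
(.node (.node (.node (.node (.node (.node (.node (.node (.leaf 0x1ec161)
(.leaf 0x1f68caa9))
(.node (.leaf 0xf9cef6e)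
(.leaf 0x2fe91772)))
(.node (.node (.leaf 0x7786284)
(.leaf 0x25ccc654))
(.node (.leaf 0x14df2819)
(.leaf 0))))
(.node (.node (.node (.leaf 0x29ee2b7)
(.leaf 0x20ff11a3))
(.node (.leaf 0x1112689b)
(.leaf 0)))
(.node (.node (.leaf 0xb4673b4)
(.leaf 0x2ab2f628))
(.node (.leaf 0x1a56c6ed)
(.leaf 0)))))
(.node (.node (.node (.node (.leaf 0x1bb009f)
(.leaf 0x20072927))
(.node (.leaf 0x102f104f)
(.leaf 0)))
(.node (.node (.leaf 0x9f0e868)
(.leaf 5320))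
(.node (.leaf 0x18f30d6b)
(.leaf 0))))
(.node (.node (.node (.leaf 0x61f2167)
(.leaf 0x2238b401))
(.node (.leaf 0x12310e6b)
(.leaf 0)))
(.node (.node (.leaf 0xc5ea60e)
(.leaf 0x2c2cb55d))
(.node (.leaf 0x1d5aaa6a)
(.leaf 0))))))
(.node (.node (.node (.node (.node (.leaf 0x752437)
(.leaf 0x1fa8f10a))
(.node (.leaf 0xfdd28b0)
(.leaf 0x3108d854)))
(.node (.node (.leaf 0x912a79a)
(.leaf 0x28acd3b1))
(.node (.leaf 0x189e8cd5)
(.leaf 0))))
(.node (.node (.node (.leaf 0x4c2a203)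
(.leaf 0x217134a6))
(.node (.leaf 0x118127fc)
(.leaf 0)))
(.node (.node (.leaf 0xbab26b2)
(.leaf 0x2b43178f))
(.node (.leaf 0x1d053024)
(.leaf 0)))))
(.node (.node (.node (.node (.leaf 0x202c40d)
(.leaf 0x208504a8))
(.node (.leaf 0x109c71e1)
(.leaf 0)))
(.node (.node (.leaf 0xb04e61c)
(.leaf 0x2a60d6b3))
(.node (.leaf 0x19832e8d)
(.leaf 0))))
(.node (.node (.node (.leaf 0x72621d8)
(.leaf 0x23b6f3d5))
(.node (.leaf 0x13566977)
(.leaf 0)))
(.node (.node (.leaf 0xd8f0bc3)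
(.leaf 0x2edb3821))
(.node (.leaf 0x1e5334ae)
(.leaf 0)))))))
(.node (.node (.node (.node (.node (.node (.leaf 0x3e8077)
(.leaf 0x1f88c6d4))
(.node (.leaf 0xfbb0fc6)
(.leaf 0x301f176c)))
(.node (.node (.leaf 0x8a68248)
(.leaf 0x2870f2d1))
(.node (.leaf 0x1882f313)
(.leaf 0))))
(.node (.node (.node (.leaf 0x49ee1bc)
(.leaf 0x213b2f90))
(.node (.leaf 0x1144c9c9)
(.leaf 0)))
(.node (.node (.leaf 0xb6d10f8)
(.leaf 0x2af2f647))
(.node (.leaf 0x1b550907)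
(.leaf 0)))))
(.node (.node (.node (.node (.leaf 0x1d90241)
(.leaf 0x203ecee6))
(.node (.leaf 0x10651309)
(.leaf 0)))
(.node (.node (.leaf 0xa2ac4d3)
(.leaf 0x2a41153f))
(.node (.leaf 0x1932cf23)
(.leaf 0))))
(.node (.node (.node (.leaf 0x699223b)
(.leaf 0x2313149d))
(.node (.leaf 0x12d10e5f)
(.leaf 0)))
(.node (.node (.leaf 0xcc31183)
(.leaf 5335))
(.node (.leaf 0x1dbb092e)
(.leaf 0))))))
(.node (.node (.node (.node (.node (.leaf 0x19f208c)
(.leaf 0x1fd0f0ff))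
(.node (.leaf 0x1004af68)
(.leaf 0)))
(.node (.node (.leaf 0x972c86a)
(.leaf 0x29933518))
(.node (.leaf 0x18c0e723)
(.leaf 0))))
(.node (.node (.node (.leaf 0x570a0d9)
(.leaf 0x21dd093e))
(.node (.leaf 0x11dac9b8)
(.leaf 0)))
(.node (.node (.leaf 0xbfd0603)
(.leaf 0x2bad17d8))
(.node (.leaf 0x1d288719)
(.leaf 0)))))
(.node (.node (.node (.node (.leaf 0x23e6121)
(.leaf 0x20bf11ee))
(.node (.leaf 0x10d2ef26)
(.leaf 0)))
(.node (.node (.leaf 0xb1e8da0)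
(.leaf 0x2a8716b7))
(.node (.leaf 0x19e8ee83)
(.leaf 0))))
(.node (.node (.node (.leaf 0x742a440)
(.leaf 0x246ecac7))
(.node (.leaf 0x142f25de)
(.leaf 0)))
(.node (.node (.leaf 0xf85271c)
(.leaf 0x2f4115b1))
(.node (.leaf 0x1f4f0a73)
(.leaf 0))))))))
(.node (.node (.node (.node (.node (.node (.node (.leaf 0x2b02e2)
(.leaf 0x1f768b94))
(.node (.leaf 0xfaace36)
(.leaf 0x3000f7e4)))
(.node (.node (.leaf 0x792e3c0)
(.leaf 0x2862c6e7))
(.node (.leaf 0x168513e3)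
(.leaf 0))))
(.node (.node (.node (.leaf 0x2fea055)
(.leaf 0x211d3063))
(.node (.leaf 0x11286fa9)
(.leaf 0)))
(.node (.node (.leaf 0xb5911ad)
(.leaf 0x2acab699))
(.node (.leaf 0x1aaf0d06)
(.leaf 0)))))
(.node (.node (.node (.node (.leaf 0x1c8e075)
(.leaf 0x202113ee))
(.node (.leaf 0x104c6d6a)
(.leaf 0)))
(.node (.node (.leaf 0xa0b05b4)
(.leaf 0x2a32d726))
(.node (.leaf 0x190d0850)
(.leaf 0))))
(.node (.node (.node (.leaf 0x632831b)
(.leaf 0x228307d9))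
(.node (.leaf 0x1289080d)
(.leaf 0)))
(.node (.node (.leaf 0xc88a832)
(.leaf 0x2c92f7ce))
(.node (.leaf 0x1d7d142f)
(.leaf 0))))))
(.node (.node (.node (.node (.node (.leaf 0xbb0103)
(.leaf 0x1fb8d009))
(.node (.leaf 0xfea6c14)
(.leaf 0)))
(.node (.node (.leaf 0x954c5ae)
(.leaf 0x2910c9b5))
(.node (.leaf 0x18aef44b)
(.leaf 0))))
(.node (.node (.node (.leaf 0x55e63a1)
(.leaf 0x21a51491))
(.node (.leaf 0x11b30a8f)
(.leaf 0)))
(.node (.node (.leaf 0xbcef47d)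
(.leaf 0x2b771697))
(.node (.leaf 0x1d131097)
(.leaf 0)))))
(.node (.node (.node (.node (.leaf 0x21b00ff)
(.leaf 0x20a0f18d))
(.node (.leaf 0x10b4a667)
(.leaf 0)))
(.node (.node (.leaf 0xb104d93)
(.leaf 0x2a747673))
(.node (.leaf 0x19b52e20)
(.leaf 0))))
(.node (.node (.node (.leaf 0x730e15a)
(.leaf 0x242ae98f))
(.node (.leaf 0x13a90c4d)
(.leaf 0)))
(.node (.node (.leaf 0xe670fe7)
(.leaf 0x2efcf64d))
(.node (.leaf 0x1f42f21a)
(.leaf 0)))))))
(.node (.node (.node (.node (.node (.node (.leaf 0x52e302)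
(.leaf 0x1f98b2e9))
(.node (.leaf 0xfcb3293)
(.leaf 0x30a0f871)))
(.node (.node (.leaf 0x8b6e427)
(.leaf 0x28888bb2))
(.node (.leaf 0x188f136b)
(.leaf 0))))
(.node (.node (.node (.leaf 0x4ad21cd)
(.leaf 0x214eee9a))
(.node (.leaf 0x115c87fd)
(.leaf 0)))
(.node (.node (.leaf 0xb8ef0aa)
(.leaf 0x2b21175f))
(.node (.leaf 0x1bfd2973)
(.leaf 0)))))
(.node (.node (.node (.node (.leaf 0x1f0e298)
(.leaf 0x2062f2bc))
(.node (.leaf 0x107f273c)
(.leaf 0)))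
(.node (.node (.leaf 0xa60e506)
(.leaf 0x2a505706))
(.node (.leaf 0x1954c770)
(.leaf 0))))
(.node (.node (.node (.leaf 0x6bb2466)
(.leaf 0x2368b098))
(.node (.leaf 0x130f2944)
(.leaf 0)))
(.node (.node (.leaf 0xd1711d8)
(.leaf 0x2ec2f5c4))
(.node (.leaf 0x1dff05fd)
(.leaf 0))))))
(.node (.node (.node (.node (.node (.leaf 0x1ab0107)
(.leaf 0x1feb2df1))
(.node (.leaf 0x1018adca)
(.leaf 0)))
(.node (.node (.leaf 0x9df26ba)
(.leaf 0x29d314ca))
(.node (.leaf 0x18d4e60c)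
(.leaf 0))))
(.node (.node (.node (.leaf 0x590c3d2)
(.leaf 0x2210f3f7))
(.node (.leaf 0x1204ab63)
(.leaf 0)))
(.node (.node (.leaf 0xc2c700a)
(.leaf 0x2bd8b637))
(.node (.leaf 0x1d3e6d71)
(.leaf 0)))))
(.node (.node (.node (.node (.leaf 0x25ae25c)
(.leaf 0x20dc91b5))
(.node (.leaf 0x10f0e85e)
(.leaf 0)))
(.node (.node (.leaf 0xb313074)
(.leaf 0x2a98968f))
(.node (.leaf 0x1a16ce4e)
(.leaf 0))))
(.node (.node (.node (.leaf 0x7544318)
(.leaf 0x24d3113d))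
(.node (.leaf 0x1494c85b)
(.leaf 0)))
(.node (.node (.leaf 0xf9126fc)
(.leaf 0x2fd87797))
(.node (.leaf 0x1f5b0a74)
(.leaf 0))))))))))
(.node (.node (.node (.node (.node (.node (.node (.node (.node (.leaf 0x172009)
(.leaf 0x1f64ecbe))
(.node (.leaf 0xf992c5f)
(.leaf 0x2fe4b65a)))
(.node (.node (.leaf 0x76c4426)
(.leaf 0x253b3181))
(.node (.leaf 0x14c8cf56)
(.leaf 0))))
(.node (.node (.node (.leaf 0x28d01b0)
(.leaf 0x20f30970))
(.node (.leaf 0x110b343c)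
(.leaf 0)))
(.node (.node (.leaf 0xb432792)
(.leaf 0x2aacb641))
(.node (.leaf 0x1a3acdc2)
(.leaf 0)))))
(.node (.node (.node (.node (.leaf 0x1b5205d)
(.leaf 0x2000b18b))
(.node (.leaf 0x102b2ccc)
(.leaf 0)))
(.node (.node (.leaf 0x9ecc5b8)
(.leaf 0x29f3159f))
(.node (.leaf 0x18ed0e31)
(.leaf 0))))
(.node (.node (.node (.leaf 0x6012215)
(.leaf 0x223106a3))
(.node (.leaf 0x1220ab8e)
(.leaf 0)))
(.node (.node (.leaf 0xc4f0995)
(.leaf 0x2c1b1588))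
(.node (.leaf 0x1d52cd22)
(.leaf 0))))))
(.node (.node (.node (.node (.node (.leaf 0x6ca070)
(.leaf 0x1fa44949))
(.node (.leaf 0xfd8c7f7)
(.leaf 0x31007774)))
(.node (.node (.leaf 0x90ca5c4)
(.leaf 0x28a70d4b))
(.node (.leaf 0x189ace92)
(.leaf 0))))
(.node (.node (.node (.leaf 0x4bc8341)
(.leaf 0x216b05fa))
(.node (.leaf 0x117725e8)
(.leaf 0)))
(.node (.node (.leaf 0xba4eff9)
(.leaf 0x2b38768d))
(.node (.leaf 0x1d030a46)
(.leaf 0)))))
(.node (.node (.node (.node (.leaf 0x1fea36b)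
(.leaf 0x207d0a8c))
(.node (.leaf 0x1092a763)
(.leaf 0)))
(.node (.node (.leaf 0xb00f230)
(.leaf 0x2a5eb62a))
(.node (.leaf 0x1976d321)
(.leaf 0))))
(.node (.node (.node (.leaf 0x701221c)
(.leaf 0x239ee4b5))
(.node (.leaf 0x1340cfe1)
(.leaf 0)))
(.node (.node (.leaf 0xd66d213)
(.leaf 0x2ed2b7f8))
(.node (.leaf 0x1e2513a7)
(.leaf 0)))))))
(.node (.node (.node (.node (.node (.node (.leaf 0x3b207d)
(.leaf 0x1f84e986))
(.node (.leaf 0xfb70f7e)
(.leaf 0x3018b88b)))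
(.node (.node (.leaf 0x7e302cb)
(.leaf 0x286ccadb))
(.node (.leaf 0x18808a35)
(.leaf 0))))
(.node (.node (.node (.leaf 0x39ca134)
(.leaf 0x2135299e))
(.node (.leaf 0x113e4e26)
(.leaf 0)))
(.node (.node (.leaf 0xb66f36f)
(.leaf 0x2ae71761))
(.node (.leaf 0x1b22cc68)
(.leaf 0)))))
(.node (.node (.node (.node (.leaf 0x1d52280)
(.leaf 0x2038cbd4))
(.node (.leaf 0x105f28bb)
(.leaf 0)))
(.node (.node (.leaf 0xa2125c8)
(.leaf 0x2a3d168e))
(.node (.leaf 0x1928e6c1)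
(.leaf 0))))
(.node (.node (.node (.leaf 0x69640d6)
(.leaf 0x22fd0d4e))
(.node (.leaf 0x12bf2a77)
(.leaf 0)))
(.node (.node (.leaf 0xcad1268)
(.leaf 0x2dbf164e))
(.node (.leaf 0x1daf1178)
(.leaf 0))))))
(.node (.node (.node (.node (.node (.leaf 0x12d233b)
(.leaf 0x1fc89022))
(.node (.leaf 0xfff25db)
(.leaf 0)))
(.node (.node (.leaf 0x96ce546)
(.leaf 0x2988d54e))
(.node (.leaf 0x18bd11d6)
(.leaf 0))))
(.node (.node (.node (.leaf 0x56aa237)
(.leaf 0x21cd1397))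
(.node (.leaf 0x11d0a8e9)
(.leaf 0)))
(.node (.node (.leaf 0xbef0cfa)
(.leaf 0x2ba0b56a))
(.node (.leaf 0x1d210af0)
(.leaf 0)))))
(.node (.node (.node (.node (.leaf 0x236e354)
(.leaf 0x20bb0b11))
(.node (.leaf 0x10cb0917)
(.leaf 0)))
(.node (.node (.leaf 0xb1a4d16)
(.leaf 0x2a8334f0))
(.node (.leaf 0x19d6d358)
(.leaf 0))))
(.node (.node (.node (.leaf 0x73862b6)
(.leaf 0x2456e779))
(.node (.leaf 0x140b2f20)
(.leaf 0)))
(.node (.node (.leaf 0xf806c2f)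
(.leaf 0x2f28d784))
(.node (.leaf 0x1f4c8a3b)
(.leaf 0))))))))
(.node (.node (.node (.node (.node (.node (.node (.leaf 0x2900ca)
(.leaf 0x1f74c4a3))
(.node (.leaf 0xfa64f6c)
(.leaf 0x2ff717b4)))
(.node (.node (.leaf 0x78d235f)
(.leaf 0x284b25ce))
(.node (.leaf 0x15b4aaa1)
(.leaf 0))))
(.node (.node (.node (.leaf 0x2f5024f)
(.leaf 0x2114e9d3))
(.node (.leaf 0x11231280)
(.leaf 0)))
(.node (.node (.leaf 0xb5447b7)
(.leaf 0x2ac53519))
(.node (.leaf 0x1aa2c7ca)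
(.leaf 0)))))
(.node (.node (.node (.node (.leaf 0x1c4a125)
(.leaf 0x201ac87c))
(.node (.leaf 0x104648e2)
(.leaf 0)))
(.node (.node (.leaf 0xa06c519)
(.leaf 0x2a309651))
(.node (.leaf 0x18fecf57)
(.leaf 0))))
(.node (.node (.node (.leaf 0x62d034a)
(.leaf 0x226cd394))
(.node (.leaf 0x126c8ebc)
(.leaf 0)))
(.node (.node (.leaf 0xc7ae637)
(.leaf 0x2c7d16cb))
(.node (.leaf 0x1d773023)
(.leaf 0))))))
(.node (.node (.node (.node (.node (.leaf 0xb0a127)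
(.leaf 0x1fb44aeb))
(.node (.leaf 0xfe88f2a)
(.leaf 0)))
(.node (.node (.leaf 0x94eaa84)
(.leaf 0x28ff0962))
(.node (.leaf 0x18aa8c63)
(.leaf 0))))
(.node (.node (.node (.leaf 0x4fd2062)
(.leaf 0x219314b4))
(.node (.leaf 0x11a13322)
(.leaf 0)))
(.node (.node (.leaf 0xbc2ca52)
(.leaf 0x2b66b629))
(.node (.leaf 0x1d0f2b55)
(.leaf 0)))))
(.node (.node (.node (.node (.leaf 0x212a033)
(.leaf 0x209b304a))
(.node (.leaf 0x10ad06f9)
(.leaf 0)))
(.node (.node (.leaf 0xb0caf8b)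
(.leaf 0x2a6e779f))
(.node (.leaf 0x19a30755)
(.leaf 0))))
(.node (.node (.node (.leaf 0x72d2434)
(.leaf 0x2411308a))
(.node (.leaf 0x1383304b)
(.leaf 0)))
(.node (.node (.leaf 0xe55067f)
(.leaf 0x2ef535be))
(.node (.leaf 0x1f40506e)
(.leaf 0)))))))
(.node (.node (.node (.node (.node (.node (.leaf 0x4ca168)
(.leaf 0x1f944bf1))
(.node (.leaf 0xfc728df)
(.leaf 0x30627868)))
(.node (.node (.leaf 0x8b2845f)
(.leaf 0x2880cae4))
(.node (.leaf 0x188d2f96)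
(.leaf 0))))
(.node (.node (.node (.leaf 0x4a862aa)
(.leaf 0x2148d20e))
(.node (.leaf 0x1156ae16)
(.leaf 0)))
(.node (.node (.leaf 0xb892b4d)
(.leaf 0x2b1ad6be))
(.node (.leaf 0x1bb72fba)
(.leaf 0)))))
(.node (.node (.node (.node (.leaf 0x1ecc24e)
(.leaf 0x205d0ecb))
(.node (.leaf 0x1076cc8f)
(.leaf 0)))
(.node (.node (.leaf 0xa4ec7b9)
(.leaf 0x2a4b185e))
(.node (.leaf 0x1948c665)
(.leaf 0))))
(.node (.node (.node (.leaf 0x6aec3d7)
(.leaf 0x235272c8))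
(.node (.leaf 0x12fec74c)
(.leaf 0)))
(.node (.node (.leaf 0xcff26ad)
(.leaf 0x2ebcd781))
(.node (.leaf 0x1de5103c)
(.leaf 0))))))
(.node (.node (.node (.node (.node (.leaf 0x1a6e289)
(.leaf 0x1fe3139d))
(.node (.leaf 0x10130db1)
(.leaf 0)))
(.node (.node (.leaf 0x9bcc8b7)
(.leaf 0x29ccb4e4))
(.node (.leaf 0x18d0e6c4)
(.leaf 0))))
(.node (.node (.node (.leaf 0x584c3e6)
(.leaf 0x220b10fa))
(.node (.leaf 0x11f928fb)
(.leaf 0)))
(.node (.node (.leaf 0xc230510)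
(.leaf 0x2bccb84e))
(.node (.leaf 0x1d3aaa62)
(.leaf 0)))))
(.node (.node (.node (.node (.leaf 0x254c1c3)
(.leaf 0x20d71464))
(.node (.leaf 0x10ea897f)
(.leaf 0)))
(.node (.node (.leaf 0xb2d29fb)
(.leaf 0x2a94d810))
(.node (.leaf 0x1a110834)
(.leaf 0))))
(.node (.node (.node (.leaf 0x75063a8)
(.leaf 0x24c30baf))
(.node (.leaf 0x1482aa91)
(.leaf 0)))
(.node (.node (.leaf 0xf8cae18)
(.leaf 0x2fd6b60d))
(.node (.leaf 0x1f56f08d)
(.leaf 0)))))))))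
(.node (.node (.node (.node (.node (.node (.node (.node (.leaf 0x224042)
(.leaf 0x1f6ca9ae))
(.node (.leaf 0xfa112df)
(.leaf 0x2fecb82c)))
(.node (.node (.leaf 0x780a3e8)
(.leaf 0x2628cada))
(.node (.leaf 0x150d08e8)
(.leaf 0))))
(.node (.node (.node (.leaf 0x2aaa2bb)
(.leaf 0x2106e95b))
(.node (.leaf 0x1116f20c)
(.leaf 0)))
(.node (.node (.leaf 0xb4b29d7)
(.leaf 0x2abad593))
(.node (.leaf 0x1a66ecf4)
(.leaf 0)))))
(.node (.node (.node (.node (.leaf 0x1bc61dc)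
(.leaf 0x200d064f))
(.node (.leaf 0x10370760)
(.leaf 0)))
(.node (.node (.leaf 0x9f8c698)
(.leaf 0x2a2a9755))
(.node (.leaf 0x18f73359)
(.leaf 0))))
(.node (.node (.node (.leaf 0x62322c1)
(.leaf 0x2246f3bc))
(.node (.leaf 0x124249eb)
(.leaf 0)))
(.node (.node (.leaf 0xc68eca3)
(.leaf 0x2c4f3652))
(.node (.leaf 0x1d672882)
(.leaf 0))))))
(.node (.node (.node (.node (.node (.leaf 0x7ae100)
(.leaf 0x1fac6e0e))
(.node (.leaf 0xfe0ae9e)
(.leaf 0x3122f7e3)))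
(.node (.node (.leaf 0x920c5a7)
(.leaf 0x28bf1461))
(.node (.leaf 0x18a246c0)
(.leaf 0))))
(.node (.node (.node (.leaf 0x4d0a39d)
(.leaf 0x217d069c))
(.node (.leaf 0x118aa736)
(.leaf 0)))
(.node (.node (.leaf 0xbb10ef4)
(.leaf 0x2b4ed59b))
(.node (.leaf 0x1d09254c)
(.leaf 0)))))
(.node (.node (.node (.node (.leaf 0x206c254)
(.leaf 0x208cf156))
(.node (.leaf 0x10a0f0f2)
(.leaf 0)))
(.node (.node (.leaf 0xb071043)
(.leaf 0x2a64f690))
(.node (.leaf 0x198a674d)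
(.leaf 0))))
(.node (.node (.node (.leaf 0x728a207)
(.leaf 0x23d50f22))
(.node (.leaf 0x1360c818)
(.leaf 0)))
(.node (.node (.leaf 0xde32600)
(.leaf 0x2ee93579))
(.node (.leaf 0x1e94e98c)
(.leaf 0)))))))
(.node (.node (.node (.node (.node (.node (.leaf 0x42e1a4)
(.leaf 0x1f8cea51))
(.node (.leaf 0xfbef363)
(.leaf 0x302eb776)))
(.node (.node (.leaf 0x8a8a44c)
(.leaf 0x2872f241))
(.node (.leaf 0x18872c28)
(.leaf 0))))
(.node (.node (.node (.leaf 0x4a32030)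
(.leaf 0x213ed392))
(.node (.leaf 0x1148ae2b)
(.leaf 0)))
(.node (.node (.leaf 0xb74eec1)
(.leaf 0x2b013785))
(.node (.leaf 0x1b7aec29)
(.leaf 0)))))
(.node (.node (.node (.node (.leaf 0x1dec154)
(.leaf 0x2049098b))
(.node (.leaf 0x106ccb73)
(.leaf 0)))
(.node (.node (.leaf 0xa30a5b7)
(.leaf 0x2a4536c1))
(.node (.leaf 0x1939133b)
(.leaf 0))))
(.node (.node (.node (.leaf 0x69ce3d9)
(.leaf 0x2327277e))
(.node (.leaf 0x12db059a)
(.leaf 0)))
(.node (.node (.leaf 0xcd71195)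
(.leaf 0x2eb71525))
(.node (.leaf 0x1dd10b43)
(.leaf 0))))))
(.node (.node (.node (.node (.node (.leaf 0x1a2a00c)
(.leaf 0x1fd6ad46))
(.node (.leaf 0x100b2842)
(.leaf 0)))
(.node (.node (.leaf 0x97ce4f8)
(.leaf 0x299f3627))
(.node (.leaf 0x18c705cd)
(.leaf 0))))
(.node (.node (.node (.leaf 0x57663cc)
(.leaf 0x21ef0f11))
(.node (.leaf 0x11e6cbf9)
(.leaf 0)))
(.node (.node (.leaf 0xc0aeab8)
(.leaf 0x2bbad5b9))
(.node (.leaf 0x1d2eaf50)
(.leaf 0)))))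
(.node (.node (.node (.node (.leaf 0x244c32d)
(.leaf 0x20c72d6e))
(.node (.leaf 0x10da924f)
(.leaf 0)))
(.node (.node (.leaf 0xb22d13c)
(.leaf 0x2a8ab71c))
(.node (.leaf 0x19f2cd8f)
(.leaf 0))))
(.node (.node (.node (.leaf 0x748a366)
(.leaf 0x2480cabd))
(.node (.leaf 0x1450ae44)
(.leaf 0)))
(.node (.node (.leaf 0xf86efc8)
(.leaf 0x2f567676))
(.node (.leaf 0x1f511285)
(.leaf 0))))))))
(.node (.node (.node (.node (.node (.node (.node (.leaf 0x2ea139)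
(.leaf 0x1f7aad34))
(.node (.leaf 0xfaf2b8d)
(.leaf 0x300b37d9)))
(.node (.node (.leaf 0x796c43b)
(.leaf 0x28652d45))
(.node (.leaf 0x175aae17)
(.leaf 0))))
(.node (.node (.node (.leaf 0x30f029e)
(.leaf 0x2122ca03))
(.node (.leaf 0x112f281b)
(.leaf 0)))
(.node (.node (.leaf 0xb5caddf)
(.leaf 0x2ad2d763))
(.node (.leaf 0x1ac92eb2)
(.leaf 0)))))
(.node (.node (.node (.node (.leaf 0x1cd2147)
(.leaf 0x2026cf33))
(.node (.leaf 0x105128d9)
(.leaf 0)))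
(.node (.node (.leaf 0xa1304b6)
(.leaf 0x2a3656f4))
(.node (.leaf 0x1915285d)
(.leaf 0))))
(.node (.node (.node (.leaf 0x647036f)
(.leaf 0x229b0b40))
(.node (.leaf 0x12a0cc52)
(.leaf 0)))
(.node (.node (.leaf 0xc950dea)
(.leaf 0x2cdd1762))
(.node (.leaf 0x1d86acdb)
(.leaf 0))))))
(.node (.node (.node (.node (.node (.leaf 0xcd2114)
(.leaf 0x1fbcd240))
(.node (.leaf 0xfeef3e2)
(.leaf 0)))
(.node (.node (.leaf 0x9590865)
(.leaf 0x2933102c))
(.node (.leaf 0x18b4b249)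
(.leaf 0))))
(.node (.node (.node (.leaf 0x562e3b1)
(.leaf 0x21b0f1e6))
(.node (.leaf 0x11bf0cc0)
(.leaf 0)))
(.node (.node (.leaf 0xbd9094d)
(.leaf 0x2b8716a1))
(.node (.leaf 0x1d16ab3b)
(.leaf 0)))))
(.node (.node (.node (.node (.leaf 0x22aa18a)
(.leaf 0x20ab3000))
(.node (.leaf 0x10bd25e5)
(.leaf 0)))
(.node (.node (.leaf 0xb12f0cf)
(.leaf 0x2a78d6b8))
(.node (.leaf 0x19bf304d)
(.leaf 0))))
(.node (.node (.node (.leaf 0x732843a)
(.leaf 0x2436a9ca))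
(.node (.leaf 0x13d6b366)
(.leaf 0)))
(.node (.node (.leaf 0xe8066e4)
(.leaf 0x2f0b1537))
(.node (.leaf 0x1f47298d)
(.leaf 0)))))))
(.node (.node (.node (.node (.node (.node (.leaf 0x590358)
(.leaf 0x1f9f0556))
(.node (.leaf 0xfcf32a2)
(.leaf 0x30f7176d)))
(.node (.node (.leaf 0x8cc8312)
(.leaf 0x28926aba))
(.node (.leaf 0x1892eca4)
(.leaf 0))))
(.node (.node (.node (.leaf 0x4b320aa)
(.leaf 0x21570ac2))
(.node (.leaf 0x116306ef)
(.leaf 0)))
(.node (.node (.leaf 0xb971113)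
(.leaf 0x2b2b3573))
(.node (.leaf 0x1c1aec6b)
(.leaf 0)))))
(.node (.node (.node (.node (.leaf 0x1f50321)
(.leaf 0x2070eaae))
(.node (.leaf 0x1088cb5c)
(.leaf 0)))
(.node (.node (.leaf 0xaa6c7b0)
(.leaf 0x2a5515d5))
(.node (.leaf 0x1962ef01)
(.leaf 0))))
(.node (.node (.node (.leaf 0x6f640e4)
(.leaf 0x2374d4bf))
(.node (.leaf 0x131d2e82)
(.leaf 0)))
(.node (.node (.leaf 0xd34a955)
(.leaf 0x2ec6d6a6))
(.node (.leaf 0x1e0d1205)
(.leaf 0))))))
(.node (.node (.node (.node (.node (.leaf 0x1ac828b)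
(.leaf 0x1ff6c632))
(.node (.leaf 0x101e6a5a)
(.leaf 0)))
(.node (.node (.leaf 0x9e2a6b8)
(.leaf 0x29d6d4e8))
(.node (.leaf 0x18dcd24e)
(.leaf 0))))
(.node (.node (.node (.leaf 0x59ac07f)
(.leaf 0x221ecc7f))
(.node (.leaf 0x120ee902)
(.leaf 0)))
(.node (.node (.leaf 0xc3529f7)
(.leaf 0x2be737a7))
(.node (.leaf 0x1d4491b7)
(.leaf 0)))))
(.node (.node (.node (.node (.leaf 0x264a295)
(.leaf 0x20e2462f))
(.node (.leaf 0x10f70732)
(.leaf 0)))
(.node (.node (.leaf 0xb369216)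
(.leaf 0x2a9f16e3))
(.node (.leaf 0x1a20cee3)
(.leaf 0))))
(.node (.node (.node (.leaf 0x75ae3ad)
(.leaf 0x24e8d2c5))
(.node (.leaf 0x14a6c9e2)
(.leaf 0)))
(.node (.node (.leaf 0xf9311d9)
(.leaf 0x2fdcb795))
(.node (.leaf 0x1f5ccc1f)
(.leaf 0))))))))))))
(.node (.node (.node (.node (.node (.node (.node (.node (.node (.node (.node (.leaf 172038)
(.leaf 0x1f60c673))
(.node (.leaf 0xf946e6e)
(.leaf 0x2fdf1873)))
(.node (.node (.leaf 0x762440f)
(.leaf 0x25011044))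
(.node (.leaf 0x14b28b7c)
(.leaf 0))))
(.node (.node (.node (.leaf 0x276a2e6)
(.leaf 0x20e72682))
(.node (.leaf 0x10fccfab)
(.leaf 0)))
(.node (.node (.leaf 0xb3a745f)
(.leaf 0x2aa295fc))
(.node (.leaf 0x1a28cc9d)
(.leaf 0)))))
(.node (.node (.node (.node (.leaf 0x1b12044)
(.leaf 0x1ffccaab))
(.node (.leaf 0x1024a6ca)
(.leaf 0)))
(.node (.node (.leaf 0x9e705d5)
(.leaf 0x29e2f4d5))
(.node (.leaf 0x18e2c91b)
(.leaf 0))))
(.node (.node (.node (.leaf 0x59f01f5)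
(.leaf 0x2227093c))
(.node (.leaf 0x12170ea3)
(.leaf 0)))
(.node (.node (.leaf 0xc3d0966)
(.leaf 0x2bf73804))
(.node (.leaf 0x1d4ad33f)
(.leaf 0))))))
(.node (.node (.node (.node (.node (.leaf 0x5ec178)
(.leaf 0x1fa0cef5))
(.node (.leaf 0xfd2a8cb)
(.leaf 0x30f917dc)))
(.node (.node (.leaf 1155)
(.leaf 0x28971476))
(.node (.leaf 0x1896e895)
(.leaf 0))))
(.node (.node (.node (.leaf 0x4b720b5)
(.leaf 0x215f0e08))
(.node (.leaf 0x11690e53)
(.leaf 0)))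
(.node (.node (.leaf 0xb9eabc6)
(.leaf 0x2b307757))
(.node (.leaf 0x1cff299f)
(.leaf 0)))))
(.node (.node (.node (.node (.leaf 0x1f8a1af)
(.leaf 0x20753066))
(.node (.leaf 0x108c8835)
(.leaf 0)))
(.node (.node (.leaf 0xaff2a06)
(.leaf 0x2a5915c1))
(.node (.leaf 0x196cd450)
(.leaf 0))))
(.node (.node (.node (.leaf 0x6fb0236)
(.leaf 0x2380d0a5))
(.node (.leaf 0x1328af43)
(.leaf 0)))
(.node (.node (.leaf 0xd44b026)
(.leaf 0x2ecd3735))
(.node (.leaf 0x1e192c5a)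
(.leaf 0)))))))
(.node (.node (.node (.node (.node (.node (.leaf 0x310179)
(.leaf 0x1f7ecaa3))
(.node (.leaf 0xfb2866d)
(.leaf 0x3012d886)))
(.node (.node (.leaf 0x7ae6465)
(.leaf 0x286692ca))
(.node (.leaf 0x187eca9d)
(.leaf 0))))
(.node (.node (.node (.leaf 0x32d22ff)
(.leaf 0x21247331))
(.node (.leaf 0x1138c8a0)
(.leaf 0)))
(.node (.node (.leaf 0xb611120)
(.leaf 0x2adcd6c0))
(.node (.leaf 0x1b0325e3)
(.leaf 0)))))
(.node (.node (.node (.node (.leaf 0x1d1024d)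
(.leaf 0x202cd201))
(.node (.leaf 0x1054d335)
(.leaf 0)))
(.node (.node (.leaf 0xa1705c1)
(.leaf 0x2a38982e))
(.node (.leaf 0x191af449)
(.leaf 0))))
(.node (.node (.node (.leaf 0x67f2226)
(.leaf 0x22b529ac))
(.node (.leaf 0x12ad0e2f)
(.leaf 0)))
(.node (.node (.leaf 0xc9d3112)
(.leaf 0x2cfb1574))
(.node (.leaf 0x1d9906d8)
(.leaf 0))))))
(.node (.node (.node (.node (.node (.leaf 0xdb2130)
(.leaf 0x1fc1305d))
(.node (.leaf 0xff4ae33)
(.leaf 0)))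
(.node (.node (.leaf 0x95f0691)
(.leaf 0x298274fc))
(.node (.leaf 0x18b8cc3c)
(.leaf 0))))
(.node (.node (.node (.leaf 0x56680c7)
(.leaf 0x21bacb8f))
(.node (.leaf 0x11c508ce)
(.leaf 0)))
(.node (.node (.leaf 0xbdee6b3)
(.leaf 0x2b9135e8))
(.node (.leaf 0x1d1b2952)
(.leaf 0)))))
(.node (.node (.node (.node (.leaf 0x230e041)
(.leaf 0x20b0a4ef))
(.node (.leaf 0x10c12f2b)
(.leaf 0)))
(.node (.node (.leaf 0xb149460)
(.leaf 0x2a7b36fc))
(.node (.leaf 0x19cae908)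
(.leaf 0))))
(.node (.node (.node (.leaf 0x73483fb)
(.leaf 0x243eee0c))
(.node (.leaf 0x13e4a807)
(.leaf 0)))
(.node (.node (.leaf 0xf7e4a8e)
(.leaf 0x2f12d6ee))
(.node (.leaf 0x1f490d95)
(.leaf 0))))))))
(.node (.node (.node (.node (.node (.node (.node (.leaf 0x24a068)
(.leaf 0x1f6eea3d))
(.node (.leaf 0xfa2ca88)
(.leaf 0x2ff2b740)))
(.node (.node (.leaf 0x785227f)
(.leaf 0x283ec65e))
(.node (.leaf 0x15553224)
(.leaf 0))))
(.node (.node (.node (.leaf 0x2b2e2f4)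
(.leaf 0x210d3217))
(.node (.leaf 0x111cc6d0)
(.leaf 0)))
(.node (.node (.leaf 0xb4ca79e)
(.leaf 0x2abc778c))
(.node (.leaf 0x1a84d2aa)
(.leaf 0)))))
(.node (.node (.node (.node (.leaf 0x1be61a9)
(.leaf 0x200ed23f))
(.node (.leaf 0x103f0529)
(.leaf 0)))
(.node (.node (.leaf 0x9ff24b3)
(.leaf 0x2a2d36dc))
(.node (.leaf 0x18f89420)
(.leaf 0))))
(.node (.node (.node (.leaf 0x624828e)
(.leaf 0x22532de1))
(.node (.leaf 0x125308fe)
(.leaf 0)))
(.node (.node (.leaf 0xc6f1289)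
(.leaf 0x2c5716cd))
(.node (.leaf 0x1d6b2ea2)
(.leaf 0))))))
(.node (.node (.node (.node (.node (.leaf 0x826319)
(.leaf 0x1faea7dd))
(.node (.leaf 0xfe2d151)
(.leaf 0)))
(.node (.node (.leaf 0x92b0751)
(.leaf 0x28d32555))
(.node (.leaf 0x18a467ff)
(.leaf 0))))
(.node (.node (.node (.leaf 0x4e0428d)
(.leaf 0x2187105c))
(.node (.leaf 0x1193258d)
(.leaf 0)))
(.node (.node (.leaf 0xbb6f154)
(.leaf 0x2b54f56e))
(.node (.leaf 0x1d0b2a40)
(.leaf 0)))))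
(.node (.node (.node (.node (.leaf 0x20ac1d0)
(.leaf 0x209086ac))
(.node (.leaf 0x10a52b31)
(.leaf 0)))
(.node (.node (.leaf 0xb093114)
(.leaf 0x2a6b1616))
(.node (.leaf 0x1992c802)
(.leaf 0))))
(.node (.node (.node (.leaf 0x72aa234)
(.leaf 0x23f2c6dd))
(.node (.leaf 0x136b0a87)
(.leaf 0)))
(.node (.node (.leaf 0xe270524)
(.leaf 0x2eed1720))
(.node (.leaf 0x1f3eaa30)
(.leaf 0)))))))
(.node (.node (.node (.node (.node (.node (.leaf 0x446369)
(.leaf 0x1f910f88))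
(.node (.leaf 0xfc30dcb)
(.leaf 0x303d37e0)))
(.node (.node (.leaf 0x8ad02b0)
(.leaf 0x28786bae))
(.node (.leaf 0x188a85cc)
(.leaf 0))))
(.node (.node (.node (.leaf 0x4a5004c)
(.leaf 0x214467b6))
(.node (.leaf 0x114eb0c4)
(.leaf 0)))
(.node (.node (.leaf 0xb7d09bc)
(.leaf 0x2b0cb54b))
(.node (.leaf 0x1b8aca92)
(.leaf 0)))))
(.node (.node (.node (.node (.leaf 0x1e28431)
(.leaf 0x204d0a11))
(.node (.leaf 0x106f2f15)
(.leaf 0)))
(.node (.node (.leaf 0xa40c551)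
(.leaf 0x2a46f6a8))
(.node (.leaf 0x193f0dc5)
(.leaf 0))))
(.node (.node (.node (.leaf 0x6a322c4)
(.leaf 0x23330dfb))
(.node (.leaf 0x12e73033)
(.leaf 0)))
(.node (.node (.leaf 0xceb126d)
(.leaf 0x2eb69640))
(.node (.leaf 0x1dd711f7)
(.leaf 0))))))
(.node (.node (.node (.node (.node (.leaf 0x1a5002e)
(.leaf 0x1fdb27d5))
(.node (.leaf 0x100d332b)
(.leaf 0)))
(.node (.node (.leaf 0x9a6a692)
(.leaf 0x29b514db))
(.node (.leaf 0x18ca6910)
(.leaf 0))))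
(.node (.node (.node (.leaf 0x57a83c4)
(.leaf 0x21faf030))
(.node (.leaf 0x11ecaf86)
(.leaf 0)))
(.node (.node (.leaf 0xc12b1d1)
(.leaf 0x2bbd3855))
(.node (.leaf 0x1d330922)
(.leaf 0)))))
(.node (.node (.node (.node (.leaf 0x24a6104)
(.leaf 0x20cad212))
(.node (.leaf 0x10e24628)
(.leaf 0)))
(.node (.node (.leaf 0xb26d3cb)
(.leaf 0x2a8ef569))
(.node (.leaf 0x19feecbb)
(.leaf 0))))
(.node (.node (.node (.leaf 0x74b0473)
(.leaf 0x248ab180))
(.node (.leaf 0x1467283c)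
(.leaf 0)))
(.node (.node (.leaf 0xf8ac5a8)
(.leaf 0x2f6735d0))
(.node (.leaf 0x1f527297)
(.leaf 0)))))))))
(.node (.node (.node (.node (.node (.node (.node (.node (.leaf 0x1f20fb)
(.leaf 0x1f67133c))
(.node (.leaf 0xf9d29df)
(.leaf 0x2fe6f857)))
(.node (.node (.leaf 0x7764442)
(.leaf 0x25b8d0ce))
(.node (.leaf 0x14d6ae78)
(.leaf 0))))
(.node (.node (.node (.leaf 0x29d0304)
(.leaf 0x20feeace))
(.node (.leaf 0x11110c47)
(.leaf 0)))
(.node (.node (.leaf 0xb44f372)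
(.leaf 0x2ab2b4f1))
(.node (.leaf 0x1a4b25cb)
(.leaf 0)))))
(.node (.node (.node (.node (.leaf 0x1b8e09d)
(.leaf 0x200471cf))
(.node (.leaf 0x102f25ea)
(.leaf 0)))
(.node (.node (.leaf 0x9f105f4)
(.leaf 0x29ff350c))
(.node (.leaf 0x18f04e5c)
(.leaf 0))))
(.node (.node (.node (.leaf 0x61e607a)
(.leaf 0x2238c7eb))
(.node (.leaf 0x122d0e55)
(.leaf 0)))
(.node (.node (.leaf 0xc56cbb4)
(.leaf 0x2c28f60f))
(.node (.leaf 0x1d588c59)
(.leaf 0))))))
(.node (.node (.node (.node (.node (.leaf 0x73029a)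
(.leaf 0x1fa92a60))
(.node (.leaf 0xfdaefb5)
(.leaf 0x3106d882)))
(.node (.node (.leaf 0x91125b5)
(.leaf 0x28acb0ac))
(.node (.leaf 0x189d10f0)
(.leaf 0))))
(.node (.node (.node (.leaf 0x4c2413f)
(.leaf 0x216f13e7))
(.node (.leaf 0x117d24d9)
(.leaf 0)))
(.node (.node (.leaf 0xba8eb13)
(.leaf 0x2b3eb856))
(.node (.leaf 0x1d04ca24)
(.leaf 0)))))
(.node (.node (.node (.node (.leaf 0x20261ae)
(.leaf 0x2080d3df))
(.node (.leaf 0x109cc5e0)
(.leaf 0)))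
(.node (.node (.leaf 0xb02714d)
(.leaf 0x2a60b67b))
(.node (.leaf 0x19810774)
(.leaf 0))))
(.node (.node (.node (.leaf 178)
(.leaf 0x23aab454))
(.node (.leaf 0x135304c7)
(.leaf 0)))
(.node (.node (.leaf 0xd870f12)
(.leaf 0x2ed8763b))
(.node (.leaf 0x1e40d21c)
(.leaf 0)))))))
(.node (.node (.node (.node (.node (.node (.leaf 0x3c4252)
(.leaf 0x1f867021))
(.node (.leaf 0xfbacb03)
(.leaf 0x301d186d)))
(.node (.node (.leaf 297)
(.leaf 0x286f33dd))
(.node (.leaf 0x18826e61)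
(.leaf 0))))
(.node (.node (.node (.leaf 0x49f0085)
(.leaf 0x2138716e))
(.node (.leaf 0x1143280e)
(.leaf 0)))
(.node (.node (.leaf 0xb6b1158)
(.leaf 0x2af137f7))
(.node (.leaf 0x1b4c8998)
(.leaf 0)))))
(.node (.node (.node (.node (.leaf 0x1d8a0a8)
(.leaf 0x203eea1c))
(.node (.leaf 0x1064c6f8)
(.leaf 0)))
(.node (.node (.leaf 0xa28e7ef)
(.leaf 0x2a3e7718))
(.node (.leaf 0x1930cfd6)
(.leaf 0))))
(.node (.node (.node (.leaf 0x69900d3)
(.leaf 0x2308f0b4))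
(.node (.leaf 0x12cf2afe)
(.leaf 0)))
(.node (.node (.leaf 0xcbb0faa)
(.leaf 0x2dfe75f4))
(.node (.leaf 0x1db6f253)
(.leaf 0))))))
(.node (.node (.node (.node (.node (.leaf 0x19e4046)
(.leaf 0x1fcf3258))
(.node (.leaf 0x1002cdc0)
(.leaf 0)))
(.node (.node (.leaf 0x97106be)
(.leaf 0x298ed54d))
(.node (.leaf 0x18beb31b)
(.leaf 0))))
(.node (.node (.node (.leaf 0x570c0c9)
(.leaf 0x21d8f092))
(.node (.leaf 0x11d90582)
(.leaf 0)))
(.node (.node (.leaf 0xbfb09c6)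
(.leaf 0x2ba9370d))
(.node (.leaf 0x1d2512f5)
(.leaf 0)))))
(.node (.node (.node (.node (.leaf 0x23ee0ed)
(.leaf 0x20bf2d41))
(.node (.leaf 0x10d105d9)
(.leaf 0)))
(.node (.node (.leaf 0xb1f08ea)
(.leaf 0x2a84d79e))
(.node (.leaf 0x19e3330d)
(.leaf 0))))
(.node (.node (.node (.leaf 0x73f038f)
(.leaf 0x24610a3f))
(.node (.leaf 0x141e8f37)
(.leaf 0)))
(.node (.node (.leaf 0xf82f37f)
(.leaf 0x2f3d35b3))
(.node (.leaf 0x1f4d3481)
(.leaf 0))))))))
(.node (.node (.node (.node (.node (.node (.node (.leaf 0x2b2195)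
(.leaf 0x1f766ad0))
(.node (.leaf 0xfa8d307)
(.leaf 0x2ffc5887)))
(.node (.node (.leaf 0x791047a)
(.leaf 0x2862467d))
(.node (.leaf 0x16111246)
(.leaf 0))))
(.node (.node (.node (.leaf 0x2fd2032)
(.leaf 0x211d0a0e))
(.node (.leaf 0x1128a8aa)
(.leaf 0)))
(.node (.node (.leaf 0xb58a647)
(.leaf 0x2ac89617))
(.node (.leaf 0x1aab2e90)
(.leaf 0)))))
(.node (.node (.node (.node (.leaf 0x1c6c2a5)
(.leaf 0x2020cb1d))
(.node (.leaf 0x104b2573)
(.leaf 0)))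
(.node (.node (.leaf 0xa0aa4bd)
(.leaf 0x2a32964a))
(.node (.leaf 0x190b2c35)
(.leaf 0))))
(.node (.node (.node (.leaf 0x6332097)
(.leaf 0x227f326a))
(.node (.leaf 0x1276b2ab)
(.leaf 0)))
(.node (.node (.leaf 0xc85345e)
(.leaf 0x2c9115d2))
(.node (.leaf 0x1d7a90d1)
(.leaf 0))))))
(.node (.node (.node (.node (.node (.leaf 0xb9040a)
(.leaf 0x1fb8655d))
(.node (.leaf 0xfeb08a8)
(.leaf 0)))
(.node (.node (.leaf 0x952aa76)
(.leaf 0x290d0781))
(.node (.leaf 0x18af2890)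
(.leaf 0))))
(.node (.node (.node (.leaf 0x55ec238)
(.leaf 0x21a329b2))
(.node (.leaf 0x11b1281c)
(.leaf 0)))
(.node (.node (.leaf 0xbcb1377)
(.leaf 0x2b72b704))
(.node (.leaf 0x1d10f3c6)
(.leaf 0)))))
(.node (.node (.node (.node (.leaf 0x218e1ec)
(.leaf 0x20a0a500))
(.node (.leaf 0x10b2cc4c)
(.leaf 0)))
(.node (.node (.leaf 0xb0f3452)
(.leaf 0x2a7335b5))
(.node (.leaf 0x19af0742)
(.leaf 0))))
(.node (.node (.node (.leaf 0x72e444d)
(.leaf 0x24270c65))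
(.node (.leaf 0x13a13050)
(.leaf 0)))
(.node (.node (.leaf 0xe60cfbd)
(.leaf 0x2efb1587))
(.node (.leaf 0x1f42cf38)
(.leaf 0)))))))
(.node (.node (.node (.node (.node (.node (.leaf 0x50e29c)
(.leaf 0x1f98ce65))
(.node (.leaf 0xfcaec13)
(.leaf 0x309d183d)))
(.node (.node (.leaf 0x8b683f6)
(.leaf 0x2886c98a))
(.node (.leaf 0x188e92a4)
(.leaf 0))))
(.node (.node (.node (.leaf 0x4aa43a7)
(.leaf 0x214ea6da))
(.node (.leaf 0x115acdb9)
(.leaf 0)))
(.node (.node (.leaf 0xb8f2a70)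
(.leaf 0x2b1eb61f))
(.node (.leaf 0x1be0470e)
(.leaf 0)))))
(.node (.node (.node (.node (.leaf 0x1f0c10d)
(.leaf 0x2060d1e5))
(.node (.leaf 0x107d070b)
(.leaf 0)))
(.node (.node (.leaf 0xa5ae5a3)
(.leaf 0x2a4e5654))
(.node (.leaf 0x1952e66b)
(.leaf 0))))
(.node (.node (.node (.leaf 0x6bac0cc)
(.leaf 0x23670ab5))
(.node (.leaf 0x130b091a)
(.leaf 0)))
(.node (.node (.leaf 0xd131025)
(.leaf 0x2ebe578e))
(.node (.leaf 0x1dfcedf6)
(.leaf 0))))))
(.node (.node (.node (.node (.node (.leaf 0x1a8642b)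
(.leaf 0x1fe8ea56))
(.node (.leaf 0x10192c00)
(.leaf 0)))
(.node (.node (.leaf 0x9dec5ee)
(.leaf 0x29d0f538))
(.node (.leaf 0x18d29362)
(.leaf 0))))
(.node (.node (.node (.leaf 0x58f2187)
(.leaf 0x220ed088))
(.node (.leaf 0x12030f8f)
(.leaf 0)))
(.node (.node (.leaf 0xc2d29f8)
(.leaf 0x2bd71553))
(.node (.leaf 0x1d3c72fb)
(.leaf 0)))))
(.node (.node (.node (.node (.leaf 0x25b206c)
(.leaf 0x20db11fa))
(.node (.leaf 0x10ef1057)
(.leaf 0)))
(.node (.node (.leaf 0xb2eb496)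
(.leaf 0x2a985572))
(.node (.leaf 0x1a127437)
(.leaf 0))))
(.node (.node (.node (.leaf 0x752a463)
(.leaf 0x24d10676))
(.node (.leaf 0x148d2b00)
(.leaf 0)))
(.node (.node (.leaf 0xf8e942c)
(.leaf 0x2fd91582))
(.node (.leaf 0x1f5853b3)
(.leaf 0))))))))))
(.node (.node (.node (.node (.node (.node (.node (.node (.node (.leaf 0x12e011)
(.leaf 0x1f646644))
(.node (.leaf 0xf98a56f)
(.leaf 0x2fe31876)))
(.node (.node (.leaf 0x76ce2ed)
(.leaf 0x252b14b7))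
(.node (.leaf 0x14c6c8b1)
(.leaf 0))))
(.node (.node (.node (.leaf 0x2850059)
(.leaf 0x20f12569))
(.node (.leaf 0x1108cfdf)
(.leaf 0)))
(.node (.node (.leaf 0xb412a1a)
(.leaf 0x2aaab576))
(.node (.leaf 0x1a352ffc)
(.leaf 0)))))
(.node (.node (.node (.node (.leaf 0x1b2e163)
(.leaf 0x20012936))
(.node (.leaf 0x1028eb86)
(.leaf 0)))
(.node (.node (.leaf 0x9eaa5c3)
(.leaf 0x29f2b4ed))
(.node (.leaf 0x18ecec12)
(.leaf 0))))
(.node (.node (.node (.leaf 0x5bb20cf)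
(.leaf 0x222eb200))
(.node (.leaf 0x121f2900)
(.leaf 0)))
(.node (.node (.leaf 0xc4d28ac)
(.leaf 0x2c1095d3))
(.node (.leaf 0x1d52e4e4)
(.leaf 0))))))
(.node (.node (.node (.node (.node (.leaf 0x6a61cb)
(.leaf 0x1fa52885))
(.node (.leaf 0xfd70fc0)
(.leaf 0x30ff3896)))
(.node (.node (.leaf 0x90cc504)
(.leaf 0x28a33192))
(.node (.leaf 0x189aa97c)
(.leaf 0))))
(.node (.node (.node (.leaf 0x4bd01de)
(.leaf 0x2169118c))
(.node (.leaf 0x1170f1dd)
(.leaf 0)))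
(.node (.node (.leaf 0xba4caef)
(.leaf 0x2b3737d2))
(.node (.leaf 0x1d01307e)
(.leaf 0)))))
(.node (.node (.node (.node (.leaf 0x1fc42bf)
(.leaf 0x207ad2b0))
(.node (.leaf 0x1092e6fb)
(.leaf 0)))
(.node (.node (.leaf 0xb008b20)
(.leaf 0x2a5d17ad))
(.node (.leaf 0x19752e98)
(.leaf 0))))
(.node (.node (.node (.leaf 0x700c091)
(.leaf 0x239aee9b))
(.node (.leaf 0x133d0f2c)
(.leaf 0)))
(.node (.node (.leaf 0xd650add)
(.leaf 0x2ed2d691))
(.node (.leaf 0x1e233294)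
(.leaf 0)))))))
(.node (.node (.node (.node (.node (.node (.leaf 0x3921b8)
(.leaf 0x1f82d1b3))
(.node (.leaf 0xfb684c5)
(.leaf 0x3018d85c)))
(.node (.node (.leaf 0x7d0a46e)
(.leaf 0x286b307c))
(.node (.leaf 0x18804869)
(.leaf 0))))
(.node (.node (.node (.leaf 0x352e36e)
(.leaf 0x21313295))
(.node (.leaf 0x113cd0f6)
(.leaf 0)))
(.node (.node (.leaf 0xb667093)
(.leaf 0x2ae3381a))
(.node (.leaf 0x1b1b2b5a)
(.leaf 0)))))
(.node (.node (.node (.node (.leaf 0x1d48058)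
(.leaf 0x20372523))
(.node (.leaf 0x105ca855)
(.leaf 0)))
(.node (.node (.leaf 0xa1f2775)
(.leaf 0x2a3c9677))
(.node (.leaf 0x19272dc6)
(.leaf 0))))
(.node (.node (.node (.leaf 58)
(.leaf 0x22f2d4b0))
(.node (.leaf 0x12bb2ee4)
(.leaf 0)))
(.node (.node (.leaf 0xca90d59)
(.leaf 0x2daaf5bd))
(.node (.leaf 0x1d9d1479)
(.leaf 0))))))
(.node (.node (.node (.node (.node (.leaf 0x122e0c2)
(.leaf 0x1fc6d250))
(.node (.leaf 0xffccb64)
(.leaf 0)))
(.node (.node (.leaf 0x96b07d3)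
(.leaf 0x2986b5ee))
(.node (.leaf 0x18bc87f3)
(.leaf 0))))
(.node (.node (.node (.leaf 0x56b21f7)
(.leaf 0x21c933b9))
(.node (.leaf 0x11cd2c9b)
(.leaf 0)))
(.node (.node (.leaf 0xbe73060)
(.leaf 0x2b9b1630))
(.node (.leaf 0x1d1eaa6b)
(.leaf 0)))))
(.node (.node (.node (.node (.leaf 0x2370027)
(.leaf 0x20b90a29))
(.node (.leaf 0x10c91301)
(.leaf 0)))
(.node (.node (.leaf 0xb18ee07)
(.leaf 0x2a807819))
(.node (.leaf 0x19d4ce39)
(.leaf 0))))
(.node (.node (.node (.leaf 0x736a462)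
(.leaf 0x245508fc))
(.node (.leaf 0x140727fa)
(.leaf 0)))
(.node (.node (.leaf 0xf8128f1)
(.leaf 0x2f24d703))
(.node (.leaf 0x1f4a9472)
(.leaf 0))))))))
(.node (.node (.node (.node (.node (.node (.node (.leaf 0x270258)
(.leaf 0x1f730c77))
(.node (.leaf 0xfa6cc20)
(.leaf 0x2ff6f5ed)))
(.node (.node (.leaf 0x78ce2c5)
(.leaf 0x28470575))
(.node (.leaf 0x159ee84f)
(.leaf 0))))
(.node (.node (.node (.leaf 0x2e921e9)
(.leaf 0x2113101d))
(.node (.leaf 0x11207317)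
(.leaf 0)))
(.node (.node (.leaf 0xb528f0f)
(.leaf 0x2ac2b63c))
(.node (.leaf 0x1a9cd308)
(.leaf 0)))))
(.node (.node (.node (.node (.leaf 0x1c32356)
(.leaf 0x2018e5f5))
(.node (.leaf 0x1044b211)
(.leaf 0)))
(.node (.node (.leaf 0xa04a545)
(.leaf 0x2a3114e9))
(.node (.leaf 0x18fd2f85)
(.leaf 0))))
(.node (.node (.node (.leaf 0x62d229b)
(.leaf 0x226aaae5))
(.node (.leaf 0x12608ba6)
(.leaf 0)))
(.node (.node (.leaf 0xc791068)
(.leaf 0x2c6cb71d))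
(.node (.leaf 0x1d76a6a5)
(.leaf 0))))))
(.node (.node (.node (.node (.node (.leaf 0xad21b5)
(.leaf 0x1fb33232))
(.node (.leaf 0xfe84c80)
(.leaf 0)))
(.node (.node (.leaf 0x94e8686)
(.leaf 0x28f510a2))
(.node (.leaf 0x18aa68db)
(.leaf 0))))
(.node (.node (.node (.leaf 0x4f8a394)
(.leaf 0x2192c559))
(.node (.leaf 0x11a0a5d2)
(.leaf 0)))
(.node (.node (.leaf 0xbc071e0)
(.leaf 0x2b5d15c8))
(.node (.leaf 0x1d0d1237)
(.leaf 0)))))
(.node (.node (.node (.node (.leaf 0x2106155)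
(.leaf 0x2098c812))
(.node (.leaf 0x10ab2e0f)
(.leaf 0)))
(.node (.node (.leaf 0xb0b1016)
(.leaf 0x2a6ef681))
(.node (.leaf 0x199d1419)
(.leaf 0))))
(.node (.node (.node (.leaf 0x72cc34f)
(.leaf 0x240c7470))
(.node (.leaf 0x137f2eac)
(.leaf 0)))
(.node (.node (.leaf 0xe490e43)
(.leaf 0x2ef3375e))
(.node (.leaf 0x1f40a8cd)
(.leaf 0)))))))
(.node (.node (.node (.node (.node (.node (.leaf 0x4b0175)
(.leaf 0x1f948a5b))
(.node (.leaf 0xfc64705)
(.leaf 0x30613777)))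
(.node (.node (.leaf 0x8b262ae)
(.leaf 0x287eefd5))
(.node (.leaf 0x188ce9f5)
(.leaf 0))))
(.node (.node (.node (.leaf 0x4a88053)
(.leaf 0x2148a8e1))
(.node (.leaf 0x11551338)
(.leaf 0)))
(.node (.node (.leaf 0xb84b27d)
(.leaf 0x2b1b364f))
(.node (.leaf 0x1ba93047)
(.leaf 0)))))
(.node (.node (.node (.node (.leaf 0x1ea629d)
(.leaf 0x205b06b1))
(.node (.leaf 0x1074d353)
(.leaf 0)))
(.node (.node (.leaf 0xa4f05a4)
(.leaf 0x2a4af66d))
(.node (.leaf 0x1946c8bd)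
(.leaf 0))))
(.node (.node (.node (.leaf 0x6aae1e5)
(.leaf 0x234f34b1))
(.node (.leaf 0x12fb0b5b)
(.leaf 0)))
(.node (.node (.leaf 0xcf90b30)
(.leaf 0x2ebc95ca))
(.node (.leaf 0x1de313f5)
(.leaf 0))))))
(.node (.node (.node (.node (.node (.leaf 0x1a680c6)
(.leaf 0x1fe12b33))
(.node (.leaf 0x10107336)
(.leaf 0)))
(.node (.node (.leaf 0x9bb065a)
(.leaf 0x29cb35ad))
(.node (.leaf 0x18ceecbf)
(.leaf 0))))
(.node (.node (.node (.leaf 0x584a0d1)
(.leaf 0x2208a5fc))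
(.node (.leaf 0x11f8c8a5)
(.leaf 0)))
(.node (.node (.leaf 0xc213119)
(.leaf 0x2bccf513))
(.node (.leaf 0x1d385361)
(.leaf 0)))))
(.node (.node (.node (.node (.leaf 0x252e0a9)
(.leaf 0x20d6e897))
(.node (.leaf 0x10e9340a)
(.leaf 0)))
(.node (.node (.leaf 0xb2cc92d)
(.leaf 0x2a927551))
(.node (.leaf 0x1a0d091c)
(.leaf 0))))
(.node (.node (.node (.leaf 0x74ec3be)
(.leaf 0x24c0e971))
(.node (.leaf 0x147d2dbc)
(.leaf 0)))
(.node (.node (.leaf 0xf8c8641)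
(.leaf 5446))
(.node (.leaf 0x1f57260f)
(.leaf 0)))))))))
(.node (.node (.node (.node (.node (.node (.node (.node (.leaf 0x20e34b)
(.leaf 0x1f6b134b))
(.node (.leaf 0xfa08b1f)
(.leaf 0x2feb385b)))
(.node (.node (.leaf 0x77c63ba)
(.leaf 0x2618cbc1))
(.node (.leaf 0x14f864dc)
(.leaf 0))))
(.node (.node (.node (.leaf 0x2aae069)
(.leaf 0x2102f2c9))
(.node (.leaf 0x1116a6f4)
(.leaf 0)))
(.node (.node (.leaf 0xb48ef2e)
(.leaf 0x2ab93547))
(.node (.leaf 0x1a60ef48)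
(.leaf 0)))))
(.node (.node (.node (.node (.leaf 0x1bca190)
(.leaf 0x200acad7))
(.node (.leaf 0x103527fb)
(.leaf 0)))
(.node (.node (.leaf 0x9f6e49e)
(.leaf 0x2a2ad6d2))
(.node (.leaf 0x18f668b3)
(.leaf 0))))
(.node (.node (.node (.leaf 0x620e247)
(.leaf 0x22444ac6))
(.node (.leaf 0x123cc73b)
(.leaf 0)))
(.node (.node (.leaf 0xc66f109)
(.leaf 0x2c4116f6))
(.node (.leaf 0x1d631013)
(.leaf 0))))))
(.node (.node (.node (.node (.node (.leaf 0x7a405e)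
(.leaf 0x1faca77b))
(.node (.leaf 0xfe0e8ef)
(.leaf 0x311d382f)))
(.node (.node (.leaf 0x91d0aff)
(.leaf 0x28bd318a))
(.node (.leaf 0x18a12827)
(.leaf 0))))
(.node (.node (.node (.leaf 0x4cd21e3)
(.leaf 0x2176d142))
(.node (.leaf 0x11870cca)
(.leaf 0)))
(.node (.node (.leaf 0xbaef3e8)
(.leaf 0x2b4d173b))
(.node (.leaf 0x1d067135)
(.leaf 0)))))
(.node (.node (.node (.node (.leaf 0x206a13a)
(.leaf 0x208acd31))
(.node (.leaf 0x10a12dcf)
(.leaf 0)))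
(.node (.node (.leaf 0xb06a934)
(.leaf 0x2a65158c))
(.node (.leaf 0x19892e96)
(.leaf 0))))
(.node (.node (.node (.leaf 0x726445a)
(.leaf 0x23ccf20f))
(.node (.leaf 0x135d0cac)
(.leaf 0)))
(.node (.node (.leaf 0xdda65ff)
(.leaf 0x2ee136df))
(.node (.leaf 0x1e7b06e9)
(.leaf 0)))))))
(.node (.node (.node (.node (.node (.node (.leaf 0x42c047)
(.leaf 0x1f8b0a0a))
(.node (.leaf 0xfbeae8c)
(.leaf 0x302cb86f)))
(.node (.node (.leaf 0x8a6647d)
(.leaf 0x28730b88))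
(.node (.leaf 0x18868535)
(.leaf 0))))
(.node (.node (.node (.leaf 0x4a0e275)
(.leaf 0x213f10e4))
(.node (.leaf 0x11490a97)
(.leaf 0)))
(.node (.node (.leaf 0xb7072bb)
(.leaf 0x2afeb56b))
(.node (.leaf 0x1b7ac735)
(.leaf 0)))))
(.node (.node (.node (.node (.leaf 0x1dd023a)
(.leaf 0x20469381))
(.node (.leaf 0x106aeca5)
(.leaf 0)))
(.node (.node (.leaf 0xa31050b)
(.leaf 0x2a4255d1))
(.node (.leaf 0x1936ef89)
(.leaf 0))))
(.node (.node (.node (.leaf 0x69d20e5)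
(.leaf 0x2322e9b7))
(.node (.leaf 0x12d92817)
(.leaf 0)))
(.node (.node (.leaf 0xcd4c6bf)
(.leaf 5342))
(.node (.leaf 0x1dc72fb6)
(.leaf 0))))))
(.node (.node (.node (.node (.node (.leaf 0x1a0a242)
(.leaf 0x1fd513ea))
(.node (.leaf 0x10092c41)
(.leaf 0)))
(.node (.node (.leaf 0x976a5b6)
(.leaf 0x299cf4e3))
(.node (.leaf 0x18c48eba)
(.leaf 0))))
(.node (.node (.node (.leaf 0x5772225)
(.leaf 0x21e734ba))
(.node (.leaf 0x11e2ae7f)
(.leaf 0)))
(.node (.node (.leaf 0xc04915c)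
(.leaf 0x2bb91529))
(.node (.leaf 0x1d2f09f2)
(.leaf 0)))))
(.node (.node (.node (.node (.leaf 0x24501c6)
(.leaf 0x20c6ca58))
(.node (.leaf 0x10d86eff)
(.leaf 0)))
(.node (.node (.leaf 0xb211492)
(.leaf 0x2a8af5dc))
(.node (.leaf 0x19eee8b5)
(.leaf 0))))
(.node (.node (.node (.leaf 0x746c38c)
(.leaf 0x247d0ec4))
(.node (.leaf 0x144aad5b)
(.leaf 0)))
(.node (.node (.leaf 0xf866d01)
(.leaf 0x2f511850))
(.node (.leaf 0x1f508c76)
(.leaf 0))))))))
(.node (.node (.node (.node (.node (.node (.node (.leaf 0x2d23db)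
(.leaf 0x1f7b098e))
(.node (.leaf 0xfad2ea0)
(.leaf 0x3008b7e5)))
(.node (.node (.leaf 0x794c469)
(.leaf 0x28644ad3))
(.node (.leaf 0x17372c69)
(.leaf 0))))
(.node (.node (.node (.leaf 0x308c0a2)
(.leaf 0x2120d010))
(.node (.leaf 0x112c89aa)
(.leaf 0)))
(.node (.node (.leaf 0xb5af49a)
(.leaf 0x2ad0f6e1))
(.node (.leaf 0x1ab8b43e)
(.leaf 0)))))
(.node (.node (.node (.node (.leaf 0x1cb02b1)
(.leaf 0x2026ad61))
(.node (.leaf 0x104f134e)
(.leaf 0)))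
(.node (.node (.leaf 0xa10e5a5)
(.leaf 0x2a34977e))
(.node (.leaf 0x1912cb6f)
(.leaf 0))))
(.node (.node (.node (.leaf 0x64281df)
(.leaf 0x22953004))
(.node (.leaf 0x129ace51)
(.leaf 0)))
(.node (.node (.leaf 0xc9110c9)
(.leaf 0x2cd1185d))
(.node (.leaf 0x1d831138)
(.leaf 0))))))
(.node (.node (.node (.node (.node (.leaf 0xc8a08b)
(.leaf 0x1fbc6607))
(.node (.leaf 0xfee8e2c)
(.leaf 0)))
(.node (.node (.leaf 0x95924af)
(.leaf 0x29252ee2))
(.node (.leaf 0x18b30ea4)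
(.leaf 0))))
(.node (.node (.node (.leaf 0x563013b)
(.leaf 0x21ad2d2d))
(.node (.leaf 0x11b849ea)
(.leaf 0)))
(.node (.node (.leaf 0xbd6edf7)
(.leaf 0x2b7f36c3))
(.node (.leaf 0x1d1707ed)
(.leaf 0)))))
(.node (.node (.node (.node (.leaf 0x22a6124)
(.leaf 0x20a9349c))
(.node (.leaf 0x10baa5a1)
(.leaf 0)))
(.node (.node (.leaf 0xb126a27)
(.leaf 0x2a78960a))
(.node (.leaf 0x19bd2660)
(.leaf 0))))
(.node (.node (.node (.leaf 0x732c287)
(.leaf 0x2430f360))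
(.node (.leaf 0x13d308ae)
(.leaf 0)))
(.node (.node (.leaf 0xe78ab34)
(.leaf 0x2f087542))
(.node (.leaf 0x1f44f28b)
(.leaf 0)))))))
(.node (.node (.node (.node (.node (.node (.leaf 0x566300)
(.leaf 0x1f9d125d))
(.node (.leaf 0xfcecc32)
(.leaf 5644)))
(.node (.node (.leaf 0x8c9027a)
(.leaf 0x28910dfc))
(.node (.leaf 0x1891137b)
(.leaf 0))))
(.node (.node (.node (.leaf 0x4b0c116)
(.leaf 0x2154f15a))
(.node (.leaf 0x115ef1ea)
(.leaf 0)))
(.node (.node (.leaf 0xb9514a7)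
(.leaf 0x2b2934d9))
(.node (.leaf 0x1c12c899)
(.leaf 0)))))
(.node (.node (.node (.node (.leaf 0x1f4a140)
(.leaf 0x206cb189))
(.node (.leaf 0x1086ee97)
(.leaf 0)))
(.node (.node (.leaf 0xa84c756)
(.leaf 0x2a5296ce))
(.node (.leaf 0x196126f3)
(.leaf 0))))
(.node (.node (.node (.leaf 61)
(.leaf 0x2374b197))
(.node (.leaf 0x131b0669)
(.leaf 0)))
(.node (.node (.leaf 0xd2f30a4)
(.leaf 0x2ec496f7))
(.node (.leaf 0x1e0912e7)
(.leaf 0))))))
(.node (.node (.node (.node (.node (.leaf 0x1aca0bd)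
(.leaf 0x1ff11277))
(.node (.leaf 0x101cd08b)
(.leaf 0)))
(.node (.node (.leaf 0x9e2c4d0)
(.leaf 0x29d5354c))
(.node (.leaf 0x18dae6d1)
(.leaf 0))))
(.node (.node (.node (.leaf 0x59703ee)
(.leaf 0x221d0561))
(.node (.leaf 0x120e683b)
(.leaf 0)))
(.node (.node (.leaf 0xc32f296)
(.leaf 0x2be534fb))
(.node (.leaf 0x1d44ed8a)
(.leaf 0)))))
(.node (.node (.node (.node (.leaf 0x2630159)
(.leaf 0x20e0b1b2))
(.node (.leaf 0x10f5134a)
(.leaf 0)))
(.node (.node (.leaf 0xb3728a3)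
(.leaf 0x2a9cd75c))
(.node (.leaf 0x1a1f2f1f)
(.leaf 0))))
(.node (.node (.node (.leaf 0x758c43d)
(.leaf 0x24df319f))
(.node (.leaf 0x14a52b76)
(.leaf 0)))
(.node (.node (.leaf 0xf926c73)
(.leaf 0x2fdb389a))
(.node (.leaf 0x1f5d0b18)
(.leaf 0)))))))))))
(.node (.node (.node (.node (.node (.node (.node (.node (.node (.node (.leaf 442397)
(.leaf 0x1f6113fa))
(.node (.leaf 0xf968a31)
(.leaf 0x2fe1388d)))
(.node (.node (.leaf 0x76703b0)
(.leaf 0x251d0943))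
(.node (.leaf 0x14b92b74)
(.leaf 0))))
(.node (.node (.node (.leaf 0x27ce156)
(.leaf 0x20ea520d))
(.node (.leaf 0x1105052e)
(.leaf 0)))
(.node (.node (.leaf 0xb3eaad1)
(.leaf 0x2aa49799))
(.node (.leaf 0x1a2f090e)
(.leaf 0)))))
(.node (.node (.node (.node (.leaf 0x1b062eb)
(.leaf 0x1fff0d91))
(.node (.leaf 0x102707fe)
(.leaf 0)))
(.node (.node (.leaf 0x9e90697)
(.leaf 0x29e93596))
(.node (.leaf 0x18e9071b)
(.leaf 0))))
(.node (.node (.node (.leaf 0x5ace0cd)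
(.leaf 0x222a6fea))
(.node (.leaf 0x121b0e7a)
(.leaf 0)))
(.node (.node (.leaf 0xc433327)
(.leaf 0x2bfd3778))
(.node (.leaf 0x1d4cd486)
(.leaf 0))))))
(.node (.node (.node (.node (.node (.leaf 0x60e2ab)
(.leaf 0x1fa28fa4))
(.node (.leaf 0xfd486cd)
(.leaf 0x30fcd7ee)))
(.node (.node (.leaf 0x9072541)
(.leaf 0x289ce61a))
(.node (.leaf 0x1898c725)
(.leaf 0))))
(.node (.node (.node (.leaf 0x4b8e142)
(.leaf 0x21650941))
(.node (.leaf 0x116ec81f)
(.leaf 0)))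
(.node (.node (.leaf 0xba26ad8)
(.leaf 0x2b325779))
(.node (.leaf 0x1d0104e8)
(.leaf 0)))))
(.node (.node (.node (.node (.leaf 0x1fb2308)
(.leaf 0x20784da6))
(.node (.leaf 0x108d11df)
(.leaf 0)))
(.node (.node (.leaf 0xafed3a8)
(.leaf 0x2a5ab734))
(.node (.leaf 0x196eb1d5)
(.leaf 0))))
(.node (.node (.node (.leaf 0x6fc63af)
(.leaf 0x238d0bce))
(.node (.leaf 0x13350f04)
(.leaf 0)))
(.node (.node (.leaf 0xd530fb9)
(.leaf 0x2ed0d5ef))
(.node (.leaf 0x1e1d2dfa)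
(.leaf 0)))))))
(.node (.node (.node (.node (.node (.node (.leaf 0x3242c2)
(.leaf 0x1f8133ce))
(.node (.leaf 0xfb4ab9c)
(.leaf 0x30173770)))
(.node (.node (.leaf 0x7bd037f)
(.leaf 0x28688cab))
(.node (.leaf 0x187eeedd)
(.leaf 0))))
(.node (.node (.node (.leaf 0x342a0a0)
(.leaf 0x212ad3ca))
(.node (.leaf 0x113ae8e4)
(.leaf 0)))
(.node (.node (.leaf 0xb65139a)
(.leaf 0x2adf3722))
(.node (.leaf 0x1b0eccf2)
(.leaf 0)))))
(.node (.node (.node (.node (.leaf 0x1d123aa)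
(.leaf 0x20310799))
(.node (.leaf 0x1058cc30)
(.leaf 0)))
(.node (.node (.leaf 0xa1ae4fd)
(.leaf 0x2a3ab81b))
(.node (.leaf 0x19210c5c)
(.leaf 0))))
(.node (.node (.node (.leaf 0x683021e)
(.leaf 0x22cac999))
(.node (.leaf 0x12b70689)
(.leaf 0)))
(.node (.node (.leaf 0xca12a7d)
(.leaf 0x2d745713))
(.node (.leaf 0x1d9aab9b)
(.leaf 0))))))
(.node (.node (.node (.node (.node (.leaf 0xe32272)
(.leaf 0x1fc2f0f3))
(.node (.leaf 0xff8f37d)
(.leaf 0)))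
(.node (.node (.leaf 0x96524d8)
(.leaf 0x298514c5))
(.node (.leaf 0x18bae8e6)
(.leaf 0))))
(.node (.node (.node (.leaf 0x568a0e6)
(.leaf 0x21bf1031))
(.node (.leaf 0x11c8c852)
(.leaf 0)))
(.node (.node (.leaf 0xbe0cbc5)
(.leaf 0x2b933815))
(.node (.leaf 0x1d1d123d)
(.leaf 0)))))
(.node (.node (.node (.node (.leaf 0x2332188)
(.leaf 0x20b50ce1))
(.node (.leaf 0x10c6a862)
(.leaf 0)))
(.node (.node (.leaf 0xb18a5f8)
(.leaf 0x2a7e75f0))
(.node (.leaf 0x19ceedbf)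
(.leaf 0))))
(.node (.node (.node (.leaf 0x7368326)
(.leaf 0x24470d35))
(.node (.leaf 0x13ecaf75)
(.leaf 0)))
(.node (.node (.leaf 0xf7eb36a)
(.leaf 0x2f1cd80a))
(.node (.leaf 0x1f4ae796)
(.leaf 0))))))))
(.node (.node (.node (.node (.node (.node (.node (.leaf 0x24c2ba)
(.leaf 0x1f71138f))
(.node (.leaf 0xfa52fd0)
(.leaf 0x2ff53667)))
(.node (.node (.leaf 0x786e3d0)
(.leaf 0x284304bc))
(.node (.leaf 0x157f2c8d)
(.leaf 0))))
(.node (.node (.node (.leaf 0x2bae02a)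
(.leaf 0x211127e7))
(.node (.leaf 0x111f0856)
(.leaf 0)))
(.node (.node (.leaf 0xb512993)
(.leaf 0x2abf16ab))
(.node (.leaf 0x1a952f19)
(.leaf 0)))))
(.node (.node (.node (.node (.leaf 0x1c103fe)
(.leaf 0x20131269))
(.node (.leaf 0x1042c52a)
(.leaf 0)))
(.node (.node (.leaf 0xa00e657)
(.leaf 0x2a2eb563))
(.node (.leaf 0x18fb2d6c)
(.leaf 0))))
(.node (.node (.node (.leaf 0x626844a)
(.leaf 0x22590c11))
(.node (.leaf 0x125912e3)
(.leaf 0)))
(.node (.node (.leaf 0xc752a69)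
(.leaf 0x2c5c583c))
(.node (.leaf 0x1d6e50f9)
(.leaf 0))))))
(.node (.node (.node (.node (.node (.leaf 0x9d00fc)
(.leaf 0x1fb127a1))
(.node (.leaf 0xfe53314)
(.leaf 0)))
(.node (.node (.leaf 1156)
(.leaf 0x28e50d10))
(.node (.leaf 0x18a72efa)
(.leaf 0))))
(.node (.node (.node (.leaf 0x4eae024)
(.leaf 0x21893035))
(.node (.leaf 0x11990bfd)
(.leaf 0)))
(.node (.node (.leaf 0xbbcf2b7)
(.leaf 0x2b591833))
(.node (.leaf 0x1d0a5184)
(.leaf 0)))))
(.node (.node (.node (.node (.leaf 0x20f2090)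
(.leaf 0x2092c94c))
(.node (.leaf 0x10a72933)
(.leaf 0)))
(.node (.node (.leaf 0xb0a67b2)
(.leaf 0x2a6d1624))
(.node (.leaf 0x1992b30b)
(.leaf 0))))
(.node (.node (.node (.leaf 0x72a8388)
(.leaf 0x2404d2ed))
(.node (.leaf 0x1373295f)
(.leaf 0)))
(.node (.node (.leaf 0xe3b0c34)
(.leaf 0x2ef11618))
(.node (.leaf 0x1f3ed15b)
(.leaf 0)))))))
(.node (.node (.node (.node (.node (.node (.leaf 0x48a08e)
(.leaf 0x1f930a5e))
(.node (.leaf 0xfc4ab7a)
(.leaf 0x304b3666)))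
(.node (.node (.leaf 0x8ae6478)
(.leaf 0x287aed18))
(.node (.leaf 0x188b2ecc)
(.leaf 0))))
(.node (.node (.node (.leaf 0x4a6a088)
(.leaf 0x214534b9))
(.node (.leaf 0x11511402)
(.leaf 0)))
(.node (.node (.leaf 0xb812c49)
(.leaf 0x2b131805))
(.node (.leaf 0x1ba13386)
(.leaf 0)))))
(.node (.node (.node (.node (.leaf 0x1e8a19f)
(.leaf 0x2054cbeb))
(.node (.leaf 0x1072ccd1)
(.leaf 0)))
(.node (.node (.leaf 0xa48c754)
(.leaf 0x2a48d721))
(.node (.leaf 0x19448734)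
(.leaf 0))))
(.node (.node (.node (.leaf 0x6a7242a)
(.leaf 0x233d147f))
(.node (.leaf 0x12f32dc3)
(.leaf 0)))
(.node (.node (.leaf 0xcf4ab14)
(.leaf 0x2eb877a0))
(.node (.leaf 0x1ddceebb)
(.leaf 0))))))
(.node (.node (.node (.node (.node (.leaf 0x1a4c3a9)
(.leaf 0x1fdcf2ea))
(.node (.leaf 0x1010c8c7)
(.leaf 0)))
(.node (.node (.leaf 0x9b124a0)
(.leaf 0x29cb14ef))
(.node (.leaf 0x18ccce80)
(.leaf 0))))
(.node (.node (.node (.leaf 0x580c14a)
(.leaf 0x2202cd57))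
(.node (.leaf 0x11f2aa93)
(.leaf 0)))
(.node (.node (.leaf 0xc1ced7a)
(.leaf 0x2bc336f1))
(.node (.leaf 0x1d351424)
(.leaf 0)))))
(.node (.node (.node (.node (.leaf 0x25101db)
(.leaf 0x20d0b393))
(.node (.leaf 0x10e52f55)
(.leaf 0)))
(.node (.node (.leaf 0xb2aa7e4)
(.leaf 0x2a90f698))
(.node (.leaf 0x1a045291)
(.leaf 0))))
(.node (.node (.node (.leaf 0x74c6468)
(.leaf 0x24aecb54))
(.node (.leaf 0x1470b37c)
(.leaf 0)))
(.node (.node (.leaf 0xf8a8cee)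
(.leaf 0x2f6cd51a))
(.node (.leaf 0x1f548d83)
(.leaf 0)))))))))
(.node (.node (.node (.node (.node (.node (.node (.node (.leaf 0x1ee406)
(.leaf 0x1f6ac619))
(.node (.leaf 0xf9ece73)
(.leaf 0x2fe93832)))
(.node (.node (.leaf 0x77b0441)
(.leaf 0x25d2ca72))
(.node (.leaf 0x14e3330a)
(.leaf 0))))
(.node (.node (.node (.leaf 0x2a521b9)
(.leaf 0x2100d3a1))
(.node (.leaf 0x1112ae35)
(.leaf 0)))
(.node (.node (.leaf 0xb46b48c)
(.leaf 0x2ab2d748))
(.node (.leaf 0x1a58c8c5)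
(.leaf 0)))))
(.node (.node (.node (.node (.leaf 0x1ba422a)
(.leaf 0x200711f4))
(.node (.leaf 0x10310ed7)
(.leaf 0)))
(.node (.node (.leaf 0x9f304e0)
(.leaf 0x2a2b152f))
(.node (.leaf 0x18f4cf1a)
(.leaf 0))))
(.node (.node (.node (.leaf 0x621002d)
(.leaf 0x223f077d))
(.node (.leaf 0x1236c833)
(.leaf 0)))
(.node (.node (.leaf 0xc61063b)
(.leaf 0x2c30b6b2))
(.node (.leaf 0x1d5cc7c1)
(.leaf 0))))))
(.node (.node (.node (.node (.node (.leaf 0x76a27e)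
(.leaf 0x1fab25f7))
(.node (.leaf 0xfdcac01)
(.leaf 0x3116d86c)))
(.node (.node (.leaf 0x9172521)
(.leaf 0x28af135d))
(.node (.leaf 0x189f0fcc)
(.leaf 0))))
(.node (.node (.node (.leaf 0x4c8e251)
(.leaf 0x2174c991))
(.node (.leaf 0x1182c538)
(.leaf 0)))
(.node (.node (.leaf 0xbad0ab2)
(.leaf 0x2b4535a9))
(.node (.leaf 0x1d06894b)
(.leaf 0)))))
(.node (.node (.node (.node (.leaf 0x204e37a)
(.leaf 0x2084d2c1))
(.node (.leaf 0x109f0f09)
(.leaf 0)))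
(.node (.node (.leaf 0xb052f5c)
(.leaf 0x2a6335b4))
(.node (.leaf 0x19852dc9)
(.leaf 0))))
(.node (.node (.node (.leaf 0x726e351)
(.leaf 0x23b8cac9))
(.node (.leaf 0x1356af71)
(.leaf 0)))
(.node (.node (.leaf 0xd98cd0b)
(.leaf 0x2edd1786))
(.node (.leaf 0x1e6ee683)
(.leaf 0)))))))
(.node (.node (.node (.node (.node (.node (.leaf 0x40a079)
(.leaf 0x1f88508e))
(.node (.leaf 0xfbd2f9c)
(.leaf 0x30211880)))
(.node (.node (.leaf 0x8a72367)
(.leaf 0x2870d3ad))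
(.node (.leaf 0x1884cca8)
(.leaf 0))))
(.node (.node (.node (.leaf 0x4a06016)
(.leaf 0x213ab3c7))
(.node (.leaf 0x114471e4)
(.leaf 0)))
(.node (.node (.leaf 0xb6e6d4d)
(.leaf 0x2af7153c))
(.node (.leaf 0x1b5cc749)
(.leaf 0)))))
(.node (.node (.node (.node (.leaf 0x1da4105)
(.leaf 0x2042f264))
(.node (.leaf 0x1066f354)
(.leaf 0)))
(.node (.node (.leaf 0xa2cc496)
(.leaf 0x2a4096c6))
(.node (.leaf 0x19352550)
(.leaf 0))))
(.node (.node (.node (.leaf 0x69ae198)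
(.leaf 0x23168d13))
(.node (.leaf 0x12d3330f)
(.leaf 0)))
(.node (.node (.leaf 0xccd05fe)
(.leaf 0x2eaa5581))
(.node (.leaf 0x1dc24f16)
(.leaf 0))))))
(.node (.node (.node (.node (.node (.leaf 0x19ec2cf)
(.leaf 0x1fd3111c))
(.node (.leaf 0x1006ac94)
(.leaf 0)))
(.node (.node (.leaf 0x974a4cb)
(.leaf 0x299734c6))
(.node (.leaf 0x18c2cb66)
(.leaf 0))))
(.node (.node (.node (.leaf 0x57320ce)
(.leaf 0x21ded30e))
(.node (.leaf 0x11daedf0)
(.leaf 0)))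
(.node (.node (.leaf 0xbfec9db)
(.leaf 0x2bb1373f))
(.node (.leaf 0x1d2aaab9)
(.leaf 0)))))
(.node (.node (.node (.node (.leaf 0x24122e8)
(.leaf 0x20c12a21))
(.node (.leaf 0x10d70703)
(.leaf 0)))
(.node (.node (.leaf 0xb1ed0d0)
(.leaf 0x2a893642))
(.node (.leaf 0x19eb060d)
(.leaf 0))))
(.node (.node (.node (.leaf 0x74523b2)
(.leaf 0x24710931))
(.node (.leaf 0x14392839)
(.leaf 0)))
(.node (.node (.leaf 0xf84ec03)
(.leaf 0x2f4537e7))
(.node (.leaf 0x1f4f2d75)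
(.leaf 0))))))))
(.node (.node (.node (.node (.node (.node (.node (.leaf 0x2cc0f6)
(.leaf 0x1f78892a))
(.node (.leaf 0xfaab369)
(.leaf 0x3002f63e)))
(.node (.node (.leaf 0x7930403)
(.leaf 0x2862ef34))
(.node (.leaf 0x16c925af)
(.leaf 0))))
(.node (.node (.node (.leaf 0x302e0b3)
(.leaf 0x211f0c6f))
(.node (.leaf 0x11293281)
(.leaf 0)))
(.node (.node (.leaf 0xb5b2c9f)
(.leaf 0x2acf3670))
(.node (.leaf 0x1ab50cdd)
(.leaf 0)))))
(.node (.node (.node (.node (.leaf 0x1c90339)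
(.leaf 0x2022ca26))
(.node (.leaf 0x104c93ba)
(.leaf 0)))
(.node (.node (.leaf 0xa0d25a6)
(.leaf 0x2a353508))
(.node (.leaf 0x190f08cf)
(.leaf 0))))
(.node (.node (.node (.leaf 0x63643ae)
(.leaf 0x2288c959))
(.node (.leaf 0x128d0b6e)
(.leaf 0)))
(.node (.node (.leaf 0xc8b3203)
(.leaf 0x2cb71517))
(.node (.leaf 0x1d7f1487)
(.leaf 0))))))
(.node (.node (.node (.node (.node (.leaf 0xc2a17d)
(.leaf 0x1fb8b1c0))
(.node (.leaf 0xfed2854)
(.leaf 0)))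
(.node (.node (.leaf 0x954a795)
(.leaf 0x291510cb))
(.node (.leaf 0x18b12ee5)
(.leaf 0))))
(.node (.node (.node (.leaf 0x560c22e)
(.leaf 0x21a8b0e3))
(.node (.leaf 0x11b4eed4)
(.leaf 0)))
(.node (.node (.leaf 0xbd10b10)
(.leaf 0x2b7b16b9))
(.node (.leaf 0x1d14a63d)
(.leaf 0)))))
(.node (.node (.node (.node (.leaf 0x21f2205)
(.leaf 0x20a2e95e))
(.node (.leaf 0x10b70cbc)
(.leaf 0)))
(.node (.node (.leaf 0xb113430)
(.leaf 0x2a74b7be))
(.node (.leaf 0x19b6ea7e)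
(.leaf 0))))
(.node (.node (.node (.leaf 0x73103e2)
(.leaf 0x242acff4))
(.node (.leaf 0x13af3334)
(.leaf 0)))
(.node (.node (.leaf 0xe6cc953)
(.leaf 0x2efef5d8))
(.node (.leaf 0x1f44c69d)
(.leaf 0)))))))
(.node (.node (.node (.node (.node (.node (.leaf 0x55017c)
(.leaf 0x1f9aafed))
(.node (.leaf 0xfccabda)
(.leaf 0x30a33794)))
(.node (.node (.leaf 0x8c463b8)
(.leaf 0x288d2ec6))
(.node (.leaf 0x18912e3d)
(.leaf 0))))
(.node (.node (.node (.leaf 0x4ad032b)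
(.leaf 0x2150cd1b))
(.node (.leaf 0x115c4ed2)
(.leaf 0)))
(.node (.node (.leaf 0xb90d3cf)
(.leaf 0x2b24b660))
(.node (.leaf 0x1c0532a8)
(.leaf 0)))))
(.node (.node (.node (.node (.leaf 0x1f2a1ab)
(.leaf 0x2068cb1e))
(.node (.leaf 0x107ece84)
(.leaf 0)))
(.node (.node (.leaf 0xa6527bf)
(.leaf 0x2a50f7c3))
(.node (.leaf 0x1956c980)
(.leaf 0))))
(.node (.node (.node (.leaf 0x6c5009b)
(.leaf 0x236d1125))
(.node (.leaf 0x1310cbdf)
(.leaf 0)))
(.node (.node (.leaf 0xd1cb365)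
(.leaf 0x2ec29613))
(.node (.leaf 0x1e00ab09)
(.leaf 0))))))
(.node (.node (.node (.node (.node (.leaf 0x1aac21d)
(.leaf 0x1fed25b3))
(.node (.leaf 0x101accc9)
(.leaf 0)))
(.node (.node (.leaf 0x9e0e516)
(.leaf 0x29d334f8))
(.node (.leaf 0x18d70d38)
(.leaf 0))))
(.node (.node (.node (.leaf 0x5932231)
(.leaf 0x22150adc))
(.node (.leaf 0x1206cf1d)
(.leaf 0)))
(.node (.node (.leaf 0xc2ee988)
(.leaf 0x2bdd35b6))
(.node (.leaf 0x1d41135a)
(.leaf 0)))))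
(.node (.node (.node (.node (.leaf 0x25d02d5)
(.leaf 0x20dee57a))
(.node (.leaf 0x10f3282e)
(.leaf 0)))
(.node (.node (.leaf 0xb352675)
(.leaf 0x2a9b3560))
(.node (.leaf 0x1a193431)
(.leaf 0))))
(.node (.node (.node (.leaf 0x7564383)
(.leaf 0x24d70ad9))
(.node (.leaf 0x1497076c)
(.leaf 0)))
(.node (.node (.leaf 0xf90cdb7)
(.leaf 0x2fd9384d))
(.node (.leaf 0x1f5a8d97)
(.leaf 0))))))))))
(.node (.node (.node (.node (.node (.node (.node (.node (.node (.leaf 3)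
(.leaf 0x1f64b471))
(.node (.leaf 0xf9b2838)
(.leaf 0x2fe4d87b)))
(.node (.node (.leaf 0x770c47b)
(.leaf 0x25670de4))
(.node (.leaf 0x14cf3373)
(.leaf 0))))
(.node (.node (.node (.leaf 0x2910051)
(.leaf 0x20f8eb16))
(.node (.leaf 0x110d28e0)
(.leaf 0)))
(.node (.node (.leaf 0xb42eb28)
(.leaf 0x2aacf84f))
(.node (.leaf 0x1a3f28d7)
(.leaf 0)))))
(.node (.node (.node (.node (.leaf 0x1b700da)
(.leaf 0x2004a553))
(.node (.leaf 0x102ad29d)
(.leaf 0)))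
(.node (.node (.leaf 0x9eec565)
(.leaf 0x29f6d4d1))
(.node (.leaf 0x18eece21)
(.leaf 0))))
(.node (.node (.node (.leaf 31)
(.leaf 0x223328a9))
(.node (.leaf 0x1224a82f)
(.leaf 0)))
(.node (.node (.leaf 0xc532a2a)
(.leaf 0x2c1cf594))
(.node (.leaf 0x1d553497)
(.leaf 0))))))
(.node (.node (.node (.node (.node (.leaf 0x6c61f0)
(.leaf 0x1fa6cab3))
(.node (.leaf 0xfd8aa08)
(.leaf 0x3101189c)))
(.node (.node (.leaf 0x90ee4b2)
(.leaf 0x28a67194))
(.node (.leaf 0x189d2c05)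
(.leaf 0))))
(.node (.node (.node (.leaf 0x4bee2d2)
(.leaf 0x216ca620))
(.node (.leaf 0x1178890c)
(.leaf 0)))
(.node (.node (.leaf 0xba6ce05)
(.leaf 0x2b3cd858))
(.node (.leaf 0x1d02ed80)
(.leaf 0)))))
(.node (.node (.node (.node (.leaf 0x200a172)
(.leaf 0x207ccdf2))
(.node (.leaf 0x10952f7a)
(.leaf 0)))
(.node (.node (.leaf 0xb02a7ad)
(.leaf 0x2a5ef6da))
(.node (.leaf 0x197ad04c)
(.leaf 0))))
(.node (.node (.node (.leaf 0x70920c8)
(.leaf 0x23a2a61b))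
(.node (.leaf 0x13470cd6)
(.leaf 0)))
(.node (.node (.leaf 0xd6d0501)
(.leaf 0x2ed6d59c))
(.node (.leaf 0x1e36eae6)
(.leaf 0)))))))
(.node (.node (.node (.node (.node (.node (.leaf 0x3a61d1)
(.leaf 0x1f850d42))
(.node (.leaf 0xfb8eaf4)
(.leaf 0x301b380e)))
(.node (.node (.leaf 0x7e6c430)
(.leaf 0x286cf427))
(.node (.leaf 0x18806cd0)
(.leaf 0))))
(.node (.node (.node (.leaf 11)
(.leaf 0x2136cd21))
(.node (.leaf 0x113f3247)
(.leaf 0)))
(.node (.node (.leaf 0xb6929fe)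
(.leaf 0x2aeb3615))
(.node (.leaf 0x1b2ac5e4)
(.leaf 0)))))
(.node (.node (.node (.node (.leaf 0x1d4c40c)
(.leaf 0x203acf13))
(.node (.leaf 0x1060cb79)
(.leaf 0)))
(.node (.node (.leaf 0xa24c7ce)
(.leaf 0x2a3cd846))
(.node (.leaf 0x192d0801)
(.leaf 0))))
(.node (.node (.node (.leaf 0x697021a)
(.leaf 0x22fed208))
(.node (.leaf 0x12c0c8ff)
(.leaf 0)))
(.node (.node (.leaf 0xcb06b52)
(.leaf 0x2dd8f865))
(.node (.leaf 0x1db0b43a)
(.leaf 0))))))
(.node (.node (.node (.node (.node (.leaf 10)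
(.leaf 0x1fcb336c))
(.node (.leaf 0x1000a89d)
(.leaf 0)))
(.node (.node (.leaf 0x96ec563)
(.leaf 0x2988f56c))
(.node (.leaf 0x18be8726)
(.leaf 0))))
(.node (.node (.node (.leaf 0x56ce3da)
(.leaf 0x21cecfec))
(.node (.leaf 0x11d32e62)
(.leaf 0)))
(.node (.node (.leaf 0xbf30dac)
(.leaf 0x2ba2d6fa))
(.node (.leaf 0x1d20d455)
(.leaf 0)))))
(.node (.node (.node (.node (.leaf 0x238e11f)
(.leaf 0x20bcc64b))
(.node (.leaf 0x10cd28fd)
(.leaf 0)))
(.node (.node (.leaf 0xb1a6d98)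
(.leaf 0x2a82b731))
(.node (.leaf 0x19d8f429)
(.leaf 0))))
(.node (.node (.node (.leaf 0x73ac2ad)
(.leaf 0x245d0def))
(.node (.leaf 0x14152f5e)
(.leaf 0)))
(.node (.node (.leaf 0xf826593)
(.leaf 0x2f2f368c))
(.node (.leaf 0x1f4cccd9)
(.leaf 0))))))))
(.node (.node (.node (.node (.node (.node (.node (.leaf 0x28424b)
(.leaf 0x1f74f05b))
(.node (.leaf 0xfa8ad5c)
(.leaf 0x2ff937e2)))
(.node (.node (.leaf 0x78ec202)
(.leaf 0x28552544))
(.node (.leaf 0x15e928ba)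
(.leaf 0))))
(.node (.node (.node (.leaf 0x2f6e398)
(.leaf 0x21170886))
(.node (.leaf 0x1124d425)
(.leaf 0)))
(.node (.node (.leaf 0xb552c4e)
(.leaf 0x2ac4f77b))
(.node (.leaf 0x1aa92e9c)
(.leaf 0)))))
(.node (.node (.node (.node (.leaf 0x1c462f3)
(.leaf 0x201d0e02))
(.node (.leaf 0x10470e30)
(.leaf 0)))
(.node (.node (.leaf 0xa08c4d4)
(.leaf 0x2a3136de))
(.node (.leaf 0x19012f0a)
(.leaf 0))))
(.node (.node (.node (.leaf 0x62f22f8)
(.leaf 0x22731474))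
(.node (.leaf 0x1274e626)
(.leaf 0)))
(.node (.node (.leaf 0xc7d2653)
(.leaf 0x2c7f387c))
(.node (.leaf 0x1d76748f)
(.leaf 0))))))
(.node (.node (.node (.node (.node (.leaf 0xb0c332)
(.leaf 0x1fb72881))
(.node (.leaf 0xfe9129e)
(.leaf 0)))
(.node (.node (.leaf 0x951251f)
(.leaf 0x29030958))
(.node (.leaf 0x18aa4f80)
(.leaf 0))))
(.node (.node (.node (.leaf 16)
(.leaf 0x2197322a))
(.node (.leaf 0x11ad2f00)
(.leaf 0)))
(.node (.node (.leaf 0xbc2b4bb)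
(.leaf 0x2b691614))
(.node (.leaf 0x1d0ed144)
(.leaf 0)))))
(.node (.node (.node (.node (.leaf 0x2152151)
(.leaf 0x209ab3c8))
(.node (.leaf 0x10acc90d)
(.leaf 0)))
(.node (.node (.leaf 0xb0cd39c)
(.leaf 0x2a70d7f9))
(.node (.leaf 0x19a4cc50)
(.leaf 0))))
(.node (.node (.node (.leaf 0x72ea2e9)
(.leaf 0x2416d19e))
(.node (.leaf 0x138b2d04)
(.leaf 0)))
(.node (.node (.leaf 0xe5d0f17)
(.leaf 0x2ef71648))
(.node (.leaf 0x1f40d1c3)
(.leaf 0)))))))
(.node (.node (.node (.node (.node (.node (.leaf 0x4e80b4)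
(.leaf 0x1f96cfe2))
(.node (.leaf 0xfc88b7e)
(.leaf 0x30991892)))
(.node (.node (.leaf 0x8b4c35d)
(.leaf 0x2882e7e2))
(.node (.leaf 0x188e65c7)
(.leaf 0))))
(.node (.node (.node (.leaf 0x4ab211b)
(.leaf 0x214b13f3))
(.node (.leaf 0x1158c68b)
(.leaf 0)))
(.node (.node (.leaf 0xb8b2dfe)
(.leaf 0x2b1cb6ad))
(.node (.leaf 0x1bbce642)
(.leaf 0)))))
(.node (.node (.node (.node (.leaf 0x1ee4149)
(.leaf 0x205ec6b0))
(.node (.leaf 0x10786bde)
(.leaf 0)))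
(.node (.node (.leaf 0xa5504da)
(.leaf 0x2a4cb750))
(.node (.leaf 0x194cc82a)
(.leaf 0))))
(.node (.node (.node (.leaf 0x6b2e05b)
(.leaf 0x235b071e))
(.node (.leaf 0x13030f4c)
(.leaf 0)))
(.node (.node (.leaf 0xd0929ad)
(.leaf 0x2ebcb831))
(.node (.leaf 0x1ded14c0)
(.leaf 0))))))
(.node (.node (.node (.node (.node (.leaf 0x1a66395)
(.leaf 0x1fe509d6))
(.node (.leaf 0x1014af93)
(.leaf 0)))
(.node (.node (.leaf 1157)
(.leaf 0x29ccd505))
(.node (.leaf 0x18d08c74)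
(.leaf 0))))
(.node (.node (.node (.leaf 0x58900be)
(.leaf 0x220ca91f))
(.node (.leaf 0x11ff0b7d)
(.leaf 0)))
(.node (.node (.leaf 0xc25263e)
(.leaf 0x2bd0b5c9))
(.node (.leaf 0x1d3aee06)
(.leaf 0)))))
(.node (.node (.node (.node (.leaf 0x256a1e0)
(.leaf 0x20d8aea7))
(.node (.leaf 0x10eaae66)
(.leaf 0)))
(.node (.node (.leaf 0xb2ec906)
(.leaf 0x2a953864))
(.node (.leaf 0x1a130811)
(.leaf 0))))
(.node (.node (.node (.leaf 0x7528386)
(.leaf 0x24c88bd8))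
(.node (.leaf 0x14872d08)
(.leaf 0)))
(.node (.node (.leaf 0xf8cf405)
(.leaf 0x2fd6f72a))
(.node (.leaf 0x1f58c9cf)
(.leaf 0)))))))))
(.node (.node (.node (.node (.node (.node (.node (.node (.leaf 0x22c14e)
(.leaf 0x1f6d0de8))
(.node (.leaf 0xfa2a592)
(.leaf 0x2feef76e)))
(.node (.node (.leaf 0x781244f)
(.leaf 1185))
(.node (.leaf 0x151d0824)
(.leaf 0))))
(.node (.node (.node (.leaf 0x2aca01e)
(.leaf 0x21093267))
(.node (.leaf 0x1118ce89)
(.leaf 0)))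
(.node (.node (.leaf 0xb4a72dc)
(.leaf 0x2abb1605))
(.node (.leaf 0x1a6d0740)
(.leaf 0)))))
(.node (.node (.node (.node (.leaf 0x1bf004e)
(.leaf 0x200cef59))
(.node (.leaf 0x10391325)
(.leaf 0)))
(.node (.node (.leaf 0x9fb06b6)
(.leaf 0x2a2d14e2))
(.node (.leaf 0x18f8c8b8)
(.leaf 0))))
(.node (.node (.node (.leaf 0x6252133)
(.leaf 0x224ccbd1))
(.node (.leaf 0x124666f7)
(.leaf 0)))
(.node (.node (.leaf 0xc6ad165)
(.leaf 0x2c511742))
(.node (.leaf 0x1d68a6a7)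
(.leaf 0))))))
(.node (.node (.node (.node (.node (.leaf 0x81026b)
(.leaf 0x1fac9101))
(.node (.leaf 0xfe0d34f)
(.leaf 0)))
(.node (.node (.leaf 0x923269f)
(.leaf 0x28c1103d))
(.node (.leaf 0x18a32c3d)
(.leaf 0))))
(.node (.node (.node (.leaf 0x4dd22c7)
(.leaf 0x217ef150))
(.node (.leaf 0x118d3017)
(.leaf 0)))
(.node (.node (.leaf 0xbb2addc)
(.leaf 0x2b4f3867))
(.node (.leaf 0x1d08f0cc)
(.leaf 0)))))
(.node (.node (.node (.node (.leaf 0x208e102)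
(.leaf 0x208e900d))
(.node (.leaf 0x10a32c42)
(.leaf 0)))
(.node (.node (.leaf 0xb0693aa)
(.leaf 0x2a67164c))
(.node (.leaf 0x198b0c37)
(.leaf 0))))
(.node (.node (.node (.leaf 0x728e27d)
(.leaf 0x23dca997))
(.node (.leaf 0x1362f1d4)
(.leaf 0)))
(.node (.node (.leaf 0xe02b254)
(.leaf 0x2eead51c))
(.node (.leaf 1178)
(.leaf 0)))))))
(.node (.node (.node (.node (.node (.node (.leaf 0x430282)
(.leaf 0x1f8cd1ed))
(.node (.leaf 0xfc0e6c6)
(.leaf 0x3033389e)))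
(.node (.node (.leaf 0x8aae411)
(.leaf 0x2875338e))
(.node (.leaf 0x18864e81)
(.leaf 0))))
(.node (.node (.node (.leaf 0x4a2611c)
(.leaf 0x21404a18))
(.node (.leaf 0x114aaf03)
(.leaf 0)))
(.node (.node (.leaf 0xb793108)
(.leaf 0x2b04f668))
(.node (.leaf 0x1b84c659)
(.leaf 0)))))
(.node (.node (.node (.node (.leaf 0x1de831c)
(.leaf 0x2048cabf))
(.node (.leaf 0x106cae8f)
(.leaf 0)))
(.node (.node (.leaf 0xa32e5c0)
(.leaf 0x2a46b550))
(.node (.leaf 0x193aec33)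
(.leaf 0))))
(.node (.node (.node (.leaf 0x69f2329)
(.leaf 0x23290f42))
(.node (.leaf 0x12dccecd)
(.leaf 0)))
(.node (.node (.leaf 0xcdf0fb1)
(.leaf 0x2eb6f5c3))
(.node (.leaf 0x1dd2caad)
(.leaf 0))))))
(.node (.node (.node (.node (.node (.leaf 0x1a32192)
(.leaf 0x1fd6d091))
(.node (.leaf 0x100af27c)
(.leaf 0)))
(.node (.node (.leaf 0x97f2581)
(.leaf 0x29a2b4fd))
(.node (.leaf 0x18c90b57)
(.leaf 0))))
(.node (.node (.node (.leaf 0x578e040)
(.leaf 0x21f6e631))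
(.node (.leaf 0x11e92f2d)
(.leaf 0)))
(.node (.node (.leaf 0xc0f1187)
(.leaf 0x2bbaf844))
(.node (.leaf 0x1d312d26)
(.leaf 0)))))
(.node (.node (.node (.node (.leaf 0x246a096)
(.leaf 0x20c8ef21))
(.node (.leaf 0x10dca97a)
(.leaf 0)))
(.node (.node (.leaf 0xb24c960)
(.leaf 0x2a8cd597))
(.node (.leaf 0x19f8c584)
(.leaf 0))))
(.node (.node (.node (.leaf 0x74903a0)
(.leaf 0x2482f018))
(.node (.leaf 0x145f2b81)
(.leaf 0)))
(.node (.node (.leaf 0xf890e1f)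
(.leaf 0x2f569711))
(.node (.leaf 0x1f5074a8)
(.leaf 0))))))))
(.node (.node (.node (.node (.node (.node (.node (.leaf 0x2e4260)
(.leaf 0x1f7af2de))
(.node (.leaf 0xfaeae23)
(.leaf 0x300d3894)))
(.node (.node (.leaf 0x799241f)
(.leaf 0x2866a6e2))
(.node (.leaf 1175)
(.leaf 0))))
(.node (.node (.node (.leaf 0x314a182)
(.leaf 0x21231121))
(.node (.leaf 0x11312841)
(.leaf 0)))
(.node (.node (.leaf 0xb5f2ded)
(.leaf 0x2ad5155b))
(.node (.leaf 0x1afd2e4c)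
(.leaf 0)))))
(.node (.node (.node (.node (.leaf 0x1cce17a)
(.leaf 0x2028ca15))
(.node (.leaf 0x10524876)
(.leaf 0)))
(.node (.node (.leaf 0xa12e896)
(.leaf 0x2a36f81f))
(.node (.leaf 0x1918cbfa)
(.leaf 0))))
(.node (.node (.node (.leaf 56)
(.leaf 0x22a50b21))
(.node (.leaf 0x12a6f43d)
(.leaf 0)))
(.node (.node (.leaf 0xc970d0d)
(.leaf 0x2ce8f549))
(.node (.leaf 0x1d951029)
(.leaf 0))))))
(.node (.node (.node (.node (.node (.leaf 0xcf022f)
(.leaf 0x1fbeca2c))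
(.node (.leaf 0xff10d8b)
(.leaf 0)))
(.node (.node (.leaf 0x95ae76d)
(.leaf 0x29411164))
(.node (.leaf 0x18b6e712)
(.leaf 0))))
(.node (.node (.node (.leaf 0x564c210)
(.leaf 0x21b6a787))
(.node (.leaf 0x11c0d368)
(.leaf 0)))
(.node (.node (.leaf 0xbdb0cf6)
(.leaf 0x2b89159a))
(.node (.leaf 0x1d1672da)
(.leaf 0)))))
(.node (.node (.node (.node (.leaf 0x22d242f)
(.leaf 0x20ace7de))
(.node (.leaf 0x10bcecc2)
(.leaf 0)))
(.node (.node (.leaf 0xb14cd28)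
(.leaf 0x2a791765))
(.node (.leaf 0x19c2c80f)
(.leaf 0))))
(.node (.node (.node (.leaf 0x732a476)
(.leaf 0x2436d218))
(.node (.leaf 0x13df0893)
(.leaf 0)))
(.node (.node (.leaf 1163)
(.leaf 0x2f0d367f))
(.node (.leaf 0x1f468da1)
(.leaf 0)))))))
(.node (.node (.node (.node (.node (.node (.leaf 0x5aa25b)
(.leaf 0x1f9f2bc8))
(.node (.leaf 0xfd068da)
(.leaf 0x30f69875)))
(.node (.node (.leaf 0x8cd0415)
(.leaf 0x289529a4))
(.node (.leaf 0x1895099d)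
(.leaf 0))))
(.node (.node (.node (.leaf 0x4b28420)
(.leaf 0x215b346a))
(.node (.leaf 0x11650cc5)
(.leaf 0)))
(.node (.node (.leaf 0xb990a04)
(.leaf 0x2b2d36d6))
(.node (.leaf 1177)
(.leaf 0)))))
(.node (.node (.node (.node (.leaf 0x1f72113)
(.leaf 0x2071146c))
(.node (.leaf 0x10890dd3)
(.leaf 0)))
(.node (.node (.leaf 1159)
(.leaf 0x2a5735b0))
(.node (.leaf 0x19692f7f)
(.leaf 0))))
(.node (.node (.node (.leaf 0x6f683ab)
(.leaf 0x237b1001))
(.node (.leaf 0x131eef73)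
(.leaf 0)))
(.node (.node (.leaf 0xd3b2fae)
(.leaf 0x2ec936b6))
(.node (.leaf 0x1e10ed9f)
(.leaf 0))))))
(.node (.node (.node (.node (.node (.leaf 0x1ae8066)
(.leaf 0x1ff92920))
(.node (.leaf 0x101ed409)
(.leaf 0)))
(.node (.node (.leaf 0x9e4e661)
(.leaf 0x29dad604))
(.node (.leaf 0x18df0853)
(.leaf 0))))
(.node (.node (.node (.leaf 0x59b221b)
(.leaf 0x221e5272))
(.node (.leaf 0x12133433)
(.leaf 0)))
(.node (.node (.leaf 0xc370614)
(.leaf 0x2bed181c))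
(.node (.leaf 0x1d4685fb)
(.leaf 0)))))
(.node (.node (.node (.node (.leaf 0x26682a3)
(.leaf 0x20e26d1d))
(.node (.leaf 0x10f8f36e)
(.leaf 0)))
(.node (.node (.leaf 0xb39120a)
(.leaf 0x2aa11543))
(.node (.leaf 0x1a226a89)
(.leaf 0))))
(.node (.node (.node (.leaf 0x75e43bf)
(.leaf 0x24ed13d1))
(.node (.leaf 0x14ab08f3)
(.leaf 0)))
(.node (.node (.leaf 0xf94c53c)
(.leaf 0x2fdcd847))
(.node (.leaf 0x1f5f27a0)
(.leaf 0))))))))))))))

/-- The root of an index. -/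
def posTree2 : Tree :=
(.node (.node (.node (.node (.node (.node (.node (.node (.node (.node (.node (.node (.node (.leaf 0)
(.leaf 1178))
(.node (.leaf 1175)
(.leaf 5320)))
(.node (.node (.leaf 16)
(.leaf 1178))
(.node (.leaf 1163)
(.leaf 0))))
(.node (.node (.node (.leaf 10)
(.leaf 1178))
(.node (.leaf 1159)
(.leaf 0)))
(.node (.node (.leaf 1159)
(.leaf 5320))
(.node (.leaf 1178)
(.leaf 0)))))
(.node (.node (.node (.node (.leaf 3)
(.leaf 1279))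
(.node (.leaf 1163)
(.leaf 0)))
(.node (.node (.leaf 1178)
(.leaf 5320))
(.node (.leaf 1159)
(.leaf 0))))
(.node (.node (.node (.leaf 3)
(.leaf 1163))
(.node (.leaf 1163)
(.leaf 0)))
(.node (.node (.leaf 1163)
(.leaf 5320))
(.node (.leaf 1163)
(.leaf 0))))))
(.node (.node (.node (.node (.node (.leaf 3)
(.leaf 1159))
(.node (.leaf 1178)
(.leaf 5446)))
(.node (.node (.leaf 178)
(.leaf 1178))
(.node (.leaf 1163)
(.leaf 0))))
(.node (.node (.node (.leaf 10)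
(.leaf 1163))
(.node (.leaf 1279)
(.leaf 0)))
(.node (.node (.leaf 1178)
(.leaf 5320))
(.node (.leaf 1175)
(.leaf 0)))))
(.node (.node (.node (.node (.leaf 16)
(.leaf 1178))
(.node (.leaf 1175)
(.leaf 0)))
(.node (.node (.leaf 1185)
(.leaf 5320))
(.node (.leaf 1177)
(.leaf 0))))
(.node (.node (.node (.leaf 178)
(.leaf 1178))
(.node (.leaf 1163)
(.leaf 0)))
(.node (.node (.leaf 1159)
(.leaf 5320))
(.node (.leaf 1175)
(.leaf 0)))))))
(.node (.node (.node (.node (.node (.node (.leaf 16)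
(.leaf 1279))
(.node (.leaf 1163)
(.leaf 5320)))
(.node (.node (.leaf 178)
(.leaf 1159))
(.node (.leaf 1163)
(.leaf 0))))
(.node (.node (.node (.leaf 10)
(.leaf 1178))
(.node (.leaf 1177)
(.leaf 0)))
(.node (.node (.leaf 1178)
(.leaf 5342))
(.node (.leaf 1175)
(.leaf 0)))))
(.node (.node (.node (.node (.leaf 10)
(.leaf 1178))
(.node (.leaf 1178)
(.leaf 0)))
(.node (.node (.leaf 1163)
(.leaf 5320))
(.node (.leaf 1177)
(.leaf 0))))
(.node (.node (.node (.leaf 11)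
(.leaf 1175))
(.node (.leaf 1178)
(.leaf 0)))
(.node (.node (.leaf 1175)
(.leaf 5446))
(.node (.leaf 1178)
(.leaf 0))))))
(.node (.node (.node (.node (.node (.leaf 10)
(.leaf 1159))
(.node (.leaf 1163)
(.leaf 0)))
(.node (.node (.leaf 1178)
(.leaf 1177))
(.node (.leaf 1163)
(.leaf 0))))
(.node (.node (.node (.leaf 11)
(.leaf 1178))
(.node (.leaf 1178)
(.leaf 0)))
(.node (.node (.leaf 1175)
(.leaf 5320))
(.node (.leaf 1163)
(.leaf 0)))))
(.node (.node (.node (.node (.leaf 10)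
(.leaf 1178))
(.node (.leaf 1178)
(.leaf 0)))
(.node (.node (.leaf 1157)
(.leaf 5320))
(.node (.leaf 1163)
(.leaf 0))))
(.node (.node (.node (.leaf 178)
(.leaf 1163))
(.node (.leaf 1178)
(.leaf 0)))
(.node (.node (.leaf 1157)
(.leaf 5320))
(.node (.leaf 1163)
(.leaf 0))))))))
(.node (.node (.node (.node (.node (.node (.node (.leaf 10)
(.leaf 1178))
(.node (.leaf 1175)
(.leaf 5446)))
(.node (.node (.leaf 11)
(.leaf 1175))
(.node (.leaf 1163)
(.leaf 0))))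
(.node (.node (.node (.leaf 58)
(.leaf 1159))
(.node (.leaf 1178)
(.leaf 0)))
(.node (.node (.leaf 1178)
(.leaf 5342))
(.node (.leaf 1175)
(.leaf 0)))))
(.node (.node (.node (.node (.leaf 10)
(.leaf 1159))
(.node (.leaf 1178)
(.leaf 0)))
(.node (.node (.leaf 1175)
(.leaf 5342))
(.node (.leaf 1178)
(.leaf 0))))
(.node (.node (.node (.leaf 11)
(.leaf 1175))
(.node (.leaf 1159)
(.leaf 0)))
(.node (.node (.leaf 1175)
(.leaf 5342))
(.node (.leaf 1163)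
(.leaf 0))))))
(.node (.node (.node (.node (.node (.leaf 10)
(.leaf 1178))
(.node (.leaf 1163)
(.leaf 0)))
(.node (.node (.leaf 1156)
(.leaf 1279))
(.node (.leaf 1163)
(.leaf 0))))
(.node (.node (.node (.leaf 3)
(.leaf 1159))
(.node (.leaf 1175)
(.leaf 0)))
(.node (.node (.leaf 1178)
(.leaf 5320))
(.node (.leaf 1163)
(.leaf 0)))))
(.node (.node (.node (.node (.leaf 58)
(.leaf 1178))
(.node (.leaf 1178)
(.leaf 0)))
(.node (.node (.leaf 1163)
(.leaf 5320))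
(.node (.leaf 1159)
(.leaf 0))))
(.node (.node (.node (.leaf 178)
(.leaf 1159))
(.node (.leaf 1178)
(.leaf 0)))
(.node (.node (.leaf 1178)
(.leaf 5342))
(.node (.leaf 1163)
(.leaf 0)))))))
(.node (.node (.node (.node (.node (.node (.leaf 10)
(.leaf 1159))
(.node (.leaf 1163)
(.leaf 5446)))
(.node (.node (.leaf 178)
(.leaf 1159))
(.node (.leaf 1178)
(.leaf 0))))
(.node (.node (.node (.leaf 3)
(.leaf 1178))
(.node (.leaf 1178)
(.leaf 0)))
(.node (.node (.leaf 1175)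
(.leaf 5320))
(.node (.leaf 1163)
(.leaf 0)))))
(.node (.node (.node (.node (.leaf 3)
(.leaf 1159))
(.node (.leaf 1159)
(.leaf 0)))
(.node (.node (.leaf 1157)
(.leaf 5320))
(.node (.leaf 1178)
(.leaf 0))))
(.node (.node (.node (.leaf 178)
(.leaf 1178))
(.node (.leaf 1159)
(.leaf 0)))
(.node (.node (.leaf 1163)
(.leaf 5320))
(.node (.leaf 1175)
(.leaf 0))))))
(.node (.node (.node (.node (.node (.leaf 58)
(.leaf 1178))
(.node (.leaf 1163)
(.leaf 0)))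
(.node (.node (.leaf 1157)
(.leaf 5342))
(.node (.leaf 1175)
(.leaf 0))))
(.node (.node (.node (.leaf 10)
(.leaf 1178))
(.node (.leaf 1159)
(.leaf 0)))
(.node (.node (.leaf 1159)
(.leaf 5342))
(.node (.leaf 1175)
(.leaf 0)))))
(.node (.node (.node (.node (.leaf 10)
(.leaf 1159))
(.node (.leaf 1163)
(.leaf 0)))
(.node (.node (.leaf 1163)
(.leaf 5342))
(.node (.leaf 1177)
(.leaf 0))))
(.node (.node (.node (.leaf 178)
(.leaf 1175))
(.node (.leaf 1163)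
(.leaf 0)))
(.node (.node (.leaf 1178)
(.leaf 5446))
(.node (.leaf 1175)
(.leaf 0)))))))))
(.node (.node (.node (.node (.node (.node (.node (.node (.leaf 16)
(.leaf 1178))
(.node (.leaf 1163)
(.leaf 5320)))
(.node (.node (.leaf 178)
(.leaf 1159))
(.node (.leaf 1163)
(.leaf 0))))
(.node (.node (.node (.leaf 16)
(.leaf 1175))
(.node (.leaf 1159)
(.leaf 0)))
(.node (.node (.leaf 1178)
(.leaf 5342))
(.node (.leaf 1159)
(.leaf 0)))))
(.node (.node (.node (.node (.leaf 10)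
(.leaf 1178))
(.node (.leaf 1175)
(.leaf 0)))
(.node (.node (.leaf 1159)
(.leaf 5315))
(.node (.leaf 1279)
(.leaf 0))))
(.node (.node (.node (.leaf 178)
(.leaf 1163))
(.node (.leaf 1159)
(.leaf 0)))
(.node (.node (.leaf 1163)
(.leaf 5320))
(.node (.leaf 1178)
(.leaf 0))))))
(.node (.node (.node (.node (.node (.leaf 10)
(.leaf 1178))
(.node (.leaf 1175)
(.leaf 5446)))
(.node (.node (.leaf 1157)
(.leaf 1178))
(.node (.leaf 1163)
(.leaf 0))))
(.node (.node (.node (.leaf 11)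
(.leaf 1163))
(.node (.leaf 1175)
(.leaf 0)))
(.node (.node (.leaf 1157)
(.leaf 5320))
(.node (.leaf 1175)
(.leaf 0)))))
(.node (.node (.node (.node (.leaf 10)
(.leaf 1178))
(.node (.leaf 1163)
(.leaf 0)))
(.node (.node (.leaf 1163)
(.leaf 5320))
(.node (.leaf 1177)
(.leaf 0))))
(.node (.node (.node (.leaf 178)
(.leaf 1279))
(.node (.leaf 1178)
(.leaf 0)))
(.node (.node (.leaf 1279)
(.leaf 5342))
(.node (.leaf 1178)
(.leaf 0)))))))
(.node (.node (.node (.node (.node (.node (.leaf 11)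
(.leaf 1163))
(.node (.leaf 1175)
(.leaf 5342)))
(.node (.node (.leaf 178)
(.leaf 1175))
(.node (.leaf 1175)
(.leaf 0))))
(.node (.node (.node (.leaf 178)
(.leaf 1178))
(.node (.leaf 1178)
(.leaf 0)))
(.node (.node (.leaf 1178)
(.leaf 5320))
(.node (.leaf 1163)
(.leaf 0)))))
(.node (.node (.node (.node (.leaf 10)
(.leaf 1178))
(.node (.leaf 1178)
(.leaf 0)))
(.node (.node (.leaf 1175)
(.leaf 5320))
(.node (.leaf 1163)
(.leaf 0))))
(.node (.node (.node (.leaf 178)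
(.leaf 1163))
(.node (.leaf 1279)
(.leaf 0)))
(.node (.node (.leaf 1163)
(.leaf 5320))
(.node (.leaf 1177)
(.leaf 0))))))
(.node (.node (.node (.node (.node (.leaf 56)
(.leaf 1159))
(.node (.leaf 1159)
(.leaf 0)))
(.node (.node (.leaf 1157)
(.leaf 5313))
(.node (.leaf 1175)
(.leaf 0))))
(.node (.node (.node (.leaf 3)
(.leaf 1178))
(.node (.leaf 1178)
(.leaf 0)))
(.node (.node (.leaf 1163)
(.leaf 5320))
(.node (.leaf 1178)
(.leaf 0)))))
(.node (.node (.node (.node (.leaf 10)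
(.leaf 1159))
(.node (.leaf 1279)
(.leaf 0)))
(.node (.node (.leaf 1163)
(.leaf 5342))
(.node (.leaf 1163)
(.leaf 0))))
(.node (.node (.node (.leaf 178)
(.leaf 1159))
(.node (.leaf 1177)
(.leaf 0)))
(.node (.node (.leaf 1163)
(.leaf 5342))
(.node (.leaf 1163)
(.leaf 0))))))))
(.node (.node (.node (.node (.node (.node (.node (.leaf 11)
(.leaf 1178))
(.node (.leaf 1175)
(.leaf 5320)))
(.node (.node (.leaf 178)
(.leaf 1159))
(.node (.leaf 1163)
(.leaf 0))))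
(.node (.node (.node (.leaf 58)
(.leaf 1159))
(.node (.leaf 1178)
(.leaf 0)))
(.node (.node (.leaf 1178)
(.leaf 5320))
(.node (.leaf 1163)
(.leaf 0)))))
(.node (.node (.node (.node (.leaf 3)
(.leaf 1178))
(.node (.leaf 1159)
(.leaf 0)))
(.node (.node (.leaf 1175)
(.leaf 5342))
(.node (.leaf 1279)
(.leaf 0))))
(.node (.node (.node (.leaf 10)
(.leaf 1163))
(.node (.leaf 1159)
(.leaf 0)))
(.node (.node (.leaf 1163)
(.leaf 5320))
(.node (.leaf 1163)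
(.leaf 0))))))
(.node (.node (.node (.node (.node (.leaf 11)
(.leaf 1159))
(.node (.leaf 1163)
(.leaf 0)))
(.node (.node (.leaf 1157)
(.leaf 1178))
(.node (.leaf 1175)
(.leaf 0))))
(.node (.node (.node (.leaf 297)
(.leaf 1178))
(.node (.leaf 1178)
(.leaf 0)))
(.node (.node (.leaf 1178)
(.leaf 5320))
(.node (.leaf 1175)
(.leaf 0)))))
(.node (.node (.node (.node (.leaf 10)
(.leaf 1178))
(.node (.leaf 1178)
(.leaf 0)))
(.node (.node (.leaf 1156)
(.leaf 5320))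
(.node (.leaf 1163)
(.leaf 0))))
(.node (.node (.node (.leaf 178)
(.leaf 1159))
(.node (.leaf 1178)
(.leaf 0)))
(.node (.node (.leaf 1157)
(.leaf 5342))
(.node (.leaf 1177)
(.leaf 0)))))))
(.node (.node (.node (.node (.node (.node (.leaf 3)
(.leaf 1159))
(.node (.leaf 1163)
(.leaf 5446)))
(.node (.node (.leaf 297)
(.leaf 1178))
(.node (.leaf 1175)
(.leaf 0))))
(.node (.node (.node (.leaf 10)
(.leaf 1178))
(.node (.leaf 1159)
(.leaf 0)))
(.node (.node (.leaf 1279)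
(.leaf 5320))
(.node (.leaf 1175)
(.leaf 0)))))
(.node (.node (.node (.node (.leaf 10)
(.leaf 1178))
(.node (.leaf 1178)
(.leaf 0)))
(.node (.node (.leaf 1185)
(.leaf 5320))
(.node (.leaf 1159)
(.leaf 0))))
(.node (.node (.node (.leaf 178)
(.leaf 1175))
(.node (.leaf 1175)
(.leaf 0)))
(.node (.node (.leaf 1175)
(.leaf 5446))
(.node (.leaf 1175)
(.leaf 0))))))
(.node (.node (.node (.node (.node (.leaf 3)
(.leaf 1175))
(.node (.leaf 1178)
(.leaf 0)))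
(.node (.node (.leaf 1177)
(.leaf 5320))
(.node (.leaf 1177)
(.leaf 0))))
(.node (.node (.node (.leaf 10)
(.leaf 1159))
(.node (.leaf 1177)
(.leaf 0)))
(.node (.node (.leaf 1175)
(.leaf 5320))
(.node (.leaf 1178)
(.leaf 0)))))
(.node (.node (.node (.node (.leaf 3)
(.leaf 1177))
(.node (.leaf 1178)
(.leaf 0)))
(.node (.node (.leaf 1156)
(.leaf 5320))
(.node (.leaf 1163)
(.leaf 0))))
(.node (.node (.node (.leaf 297)
(.leaf 1178))
(.node (.leaf 1163)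
(.leaf 0)))
(.node (.node (.leaf 1163)
(.leaf 5446))
(.node (.leaf 1178)
(.leaf 0))))))))))
(.node (.node (.node (.node (.node (.node (.node (.node (.node (.leaf 2)
(.leaf 1163))
(.node (.leaf 1163)
(.leaf 5320)))
(.node (.node (.leaf 178)
(.leaf 1163))
(.node (.leaf 1163)
(.leaf 0))))
(.node (.node (.node (.leaf 178)
(.leaf 1178))
(.node (.leaf 1163)
(.leaf 0)))
(.node (.node (.leaf 1177)
(.leaf 5342))
(.node (.leaf 1178)
(.leaf 0)))))
(.node (.node (.node (.node (.leaf 10)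
(.leaf 1159))
(.node (.leaf 1175)
(.leaf 0)))
(.node (.node (.leaf 1159)
(.leaf 5320))
(.node (.leaf 1163)
(.leaf 0))))
(.node (.node (.node (.leaf 10)
(.leaf 1175))
(.node (.leaf 1178)
(.leaf 0)))
(.node (.node (.leaf 1163)
(.leaf 5320))
(.node (.leaf 1175)
(.leaf 0))))))
(.node (.node (.node (.node (.node (.leaf 11)
(.leaf 1178))
(.node (.leaf 1163)
(.leaf 5446)))
(.node (.node (.leaf 1156)
(.leaf 1178))
(.node (.leaf 1163)
(.leaf 0))))
(.node (.node (.node (.leaf 178)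
(.leaf 1178))
(.node (.leaf 1163)
(.leaf 0)))
(.node (.node (.leaf 1157)
(.leaf 5320))
(.node (.leaf 1175)
(.leaf 0)))))
(.node (.node (.node (.node (.leaf 10)
(.leaf 1163))
(.node (.leaf 1159)
(.leaf 0)))
(.node (.node (.leaf 1156)
(.leaf 5320))
(.node (.leaf 1178)
(.leaf 0))))
(.node (.node (.node (.leaf 178)
(.leaf 1178))
(.node (.leaf 1279)
(.leaf 0)))
(.node (.node (.leaf 1279)
(.leaf 5320))
(.node (.leaf 1178)
(.leaf 0)))))))
(.node (.node (.node (.node (.node (.node (.leaf 11)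
(.leaf 1163))
(.node (.leaf 1175)
(.leaf 5342)))
(.node (.node (.leaf 178)
(.leaf 1159))
(.node (.leaf 1175)
(.leaf 0))))
(.node (.node (.node (.leaf 297)
(.leaf 1163))
(.node (.leaf 1159)
(.leaf 0)))
(.node (.node (.leaf 1177)
(.leaf 5342))
(.node (.leaf 1163)
(.leaf 0)))))
(.node (.node (.node (.node (.leaf 10)
(.leaf 1163))
(.node (.leaf 1178)
(.leaf 0)))
(.node (.node (.leaf 1157)
(.leaf 5342))
(.node (.leaf 1178)
(.leaf 0))))
(.node (.node (.node (.leaf 10)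
(.leaf 1178))
(.node (.leaf 1279)
(.leaf 0)))
(.node (.node (.leaf 1163)
(.leaf 5320))
(.node (.leaf 1175)
(.leaf 0))))))
(.node (.node (.node (.node (.node (.leaf 61)
(.leaf 1178))
(.node (.leaf 1163)
(.leaf 0)))
(.node (.node (.leaf 1163)
(.leaf 5320))
(.node (.leaf 1163)
(.leaf 0))))
(.node (.node (.node (.leaf 16)
(.leaf 1178))
(.node (.leaf 1178)
(.leaf 0)))
(.node (.node (.leaf 1163)
(.leaf 5320))
(.node (.leaf 1163)
(.leaf 0)))))
(.node (.node (.node (.node (.leaf 3)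
(.leaf 1163))
(.node (.leaf 1178)
(.leaf 0)))
(.node (.node (.leaf 1157)
(.leaf 5320))
(.node (.leaf 1163)
(.leaf 0))))
(.node (.node (.node (.leaf 58)
(.leaf 1178))
(.node (.leaf 1178)
(.leaf 0)))
(.node (.node (.leaf 1163)
(.leaf 5320))
(.node (.leaf 1163)
(.leaf 0))))))))
(.node (.node (.node (.node (.node (.node (.node (.leaf 11)
(.leaf 1178))
(.node (.leaf 1175)
(.leaf 5446)))
(.node (.node (.leaf 297)
(.leaf 1177))
(.node (.leaf 1175)
(.leaf 0))))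
(.node (.node (.node (.leaf 178)
(.leaf 1178))
(.node (.leaf 1159)
(.leaf 0)))
(.node (.node (.leaf 1163)
(.leaf 5320))
(.node (.leaf 1163)
(.leaf 0)))))
(.node (.node (.node (.node (.leaf 10)
(.leaf 1177))
(.node (.leaf 1159)
(.leaf 0)))
(.node (.node (.leaf 1175)
(.leaf 5342))
(.node (.leaf 1159)
(.leaf 0))))
(.node (.node (.node (.leaf 58)
(.leaf 1163))
(.node (.leaf 1159)
(.leaf 0)))
(.node (.node (.leaf 1163)
(.leaf 5320))
(.node (.leaf 1159)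
(.leaf 0))))))
(.node (.node (.node (.node (.node (.leaf 10)
(.leaf 1159))
(.node (.leaf 1163)
(.leaf 0)))
(.node (.node (.leaf 1178)
(.leaf 1178))
(.node (.leaf 1175)
(.leaf 0))))
(.node (.node (.node (.leaf 10)
(.leaf 1175))
(.node (.leaf 1178)
(.leaf 0)))
(.node (.node (.leaf 1159)
(.leaf 5320))
(.node (.leaf 1163)
(.leaf 0)))))
(.node (.node (.node (.node (.leaf 178)
(.leaf 1178))
(.node (.leaf 1159)
(.leaf 0)))
(.node (.node (.leaf 1163)
(.leaf 5320))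
(.node (.leaf 1159)
(.leaf 0))))
(.node (.node (.node (.leaf 178)
(.leaf 1159))
(.node (.leaf 1175)
(.leaf 0)))
(.node (.node (.leaf 1159)
(.leaf 5320))
(.node (.leaf 1159)
(.leaf 0)))))))
(.node (.node (.node (.node (.node (.node (.leaf 3)
(.leaf 1159))
(.node (.leaf 1157)
(.leaf 5446)))
(.node (.node (.leaf 178)
(.leaf 1177))
(.node (.leaf 1175)
(.leaf 0))))
(.node (.node (.node (.leaf 10)
(.leaf 1159))
(.node (.leaf 1178)
(.leaf 0)))
(.node (.node (.leaf 1156)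
(.leaf 5320))
(.node (.leaf 1175)
(.leaf 0)))))
(.node (.node (.node (.node (.leaf 3)
(.leaf 1178))
(.node (.leaf 1159)
(.leaf 0)))
(.node (.node (.leaf 1178)
(.leaf 5320))
(.node (.leaf 1163)
(.leaf 0))))
(.node (.node (.node (.leaf 178)
(.leaf 1163))
(.node (.leaf 1163)
(.leaf 0)))
(.node (.node (.leaf 1177)
(.leaf 5320))
(.node (.leaf 1163)
(.leaf 0))))))
(.node (.node (.node (.node (.node (.leaf 10)
(.leaf 1178))
(.node (.leaf 1163)
(.leaf 0)))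
(.node (.node (.leaf 1177)
(.leaf 5315))
(.node (.leaf 1163)
(.leaf 0))))
(.node (.node (.node (.leaf 10)
(.leaf 1178))
(.node (.leaf 1178)
(.leaf 0)))
(.node (.node (.leaf 1178)
(.leaf 5320))
(.node (.leaf 1163)
(.leaf 0)))))
(.node (.node (.node (.node (.leaf 10)
(.leaf 1178))
(.node (.leaf 1163)
(.leaf 0)))
(.node (.node (.leaf 1163)
(.leaf 5320))
(.node (.leaf 1178)
(.leaf 0))))
(.node (.node (.node (.leaf 178)
(.leaf 1159))
(.node (.leaf 1163)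
(.leaf 0)))
(.node (.node (.leaf 1159)
(.leaf 5320))
(.node (.leaf 1177)
(.leaf 0)))))))))
(.node (.node (.node (.node (.node (.node (.node (.node (.leaf 10)
(.leaf 1178))
(.node (.leaf 1163)
(.leaf 5320)))
(.node (.node (.leaf 178)
(.leaf 1163))
(.node (.leaf 1163)
(.leaf 0))))
(.node (.node (.node (.leaf 16)
(.leaf 1178))
(.node (.leaf 1178)
(.leaf 0)))
(.node (.node (.leaf 1159)
(.leaf 5342))
(.node (.leaf 1163)
(.leaf 0)))))
(.node (.node (.node (.node (.leaf 178)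
(.leaf 1159))
(.node (.leaf 1163)
(.leaf 0)))
(.node (.node (.leaf 1156)
(.leaf 5313))
(.node (.leaf 1279)
(.leaf 0))))
(.node (.node (.node (.leaf 178)
(.leaf 1163))
(.node (.leaf 1178)
(.leaf 0)))
(.node (.node (.leaf 1163)
(.leaf 5320))
(.node (.leaf 1178)
(.leaf 0))))))
(.node (.node (.node (.node (.node (.leaf 10)
(.leaf 1178))
(.node (.leaf 1157)
(.leaf 5446)))
(.node (.node (.leaf 1157)
(.leaf 1177))
(.node (.leaf 1175)
(.leaf 0))))
(.node (.node (.node (.leaf 10)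
(.leaf 1175))
(.node (.leaf 1175)
(.leaf 0)))
(.node (.node (.leaf 1157)
(.leaf 5320))
(.node (.leaf 1175)
(.leaf 0)))))
(.node (.node (.node (.node (.leaf 58)
(.leaf 1279))
(.node (.leaf 1175)
(.leaf 0)))
(.node (.node (.leaf 1163)
(.leaf 5315))
(.node (.leaf 1159)
(.leaf 0))))
(.node (.node (.node (.leaf 10)
(.leaf 1178))
(.node (.leaf 1178)
(.leaf 0)))
(.node (.node (.leaf 1178)
(.leaf 5320))
(.node (.leaf 1178)
(.leaf 0)))))))
(.node (.node (.node (.node (.node (.node (.leaf 10)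
(.leaf 1178))
(.node (.leaf 1175)
(.leaf 5320)))
(.node (.node (.leaf 297)
(.leaf 1159))
(.node (.leaf 1177)
(.leaf 0))))
(.node (.node (.node (.leaf 3)
(.leaf 1178))
(.node (.leaf 1178)
(.leaf 0)))
(.node (.node (.leaf 1185)
(.leaf 5320))
(.node (.leaf 1175)
(.leaf 0)))))
(.node (.node (.node (.node (.leaf 31)
(.leaf 1159))
(.node (.leaf 1279)
(.leaf 0)))
(.node (.node (.leaf 1178)
(.leaf 5320))
(.node (.leaf 1178)
(.leaf 0))))
(.node (.node (.node (.leaf 3)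
(.leaf 1175))
(.node (.leaf 1163)
(.leaf 0)))
(.node (.node (.leaf 1163)
(.leaf 5446))
(.node (.leaf 1175)
(.leaf 0))))))
(.node (.node (.node (.node (.node (.leaf 16)
(.leaf 1159))
(.node (.leaf 1163)
(.leaf 0)))
(.node (.node (.leaf 1156)
(.leaf 5315))
(.node (.leaf 1175)
(.leaf 0))))
(.node (.node (.node (.leaf 10)
(.leaf 1177))
(.node (.leaf 1159)
(.leaf 0)))
(.node (.node (.leaf 1177)
(.leaf 5342))
(.node (.leaf 1163)
(.leaf 0)))))
(.node (.node (.node (.node (.leaf 178)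
(.leaf 1159))
(.node (.leaf 1159)
(.leaf 0)))
(.node (.node (.leaf 1175)
(.leaf 5342))
(.node (.leaf 1178)
(.leaf 0))))
(.node (.node (.node (.leaf 58)
(.leaf 1279))
(.node (.leaf 1178)
(.leaf 0)))
(.node (.node (.leaf 1177)
(.leaf 5320))
(.node (.leaf 1175)
(.leaf 0))))))))
(.node (.node (.node (.node (.node (.node (.node (.leaf 56)
(.leaf 1178))
(.node (.leaf 1163)
(.leaf 5644)))
(.node (.node (.leaf 297)
(.leaf 1178))
(.node (.leaf 1175)
(.leaf 0))))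
(.node (.node (.node (.leaf 16)
(.leaf 1178))
(.node (.leaf 1163)
(.leaf 0)))
(.node (.node (.leaf 1178)
(.leaf 5320))
(.node (.leaf 1163)
(.leaf 0)))))
(.node (.node (.node (.node (.leaf 10)
(.leaf 1177))
(.node (.leaf 1159)
(.leaf 0)))
(.node (.node (.leaf 1163)
(.leaf 5315))
(.node (.leaf 1175)
(.leaf 0))))
(.node (.node (.node (.leaf 178)
(.leaf 1163))
(.node (.leaf 1159)
(.leaf 0)))
(.node (.node (.leaf 1175)
(.leaf 5446))
(.node (.leaf 1178)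
(.leaf 0))))))
(.node (.node (.node (.node (.node (.leaf 58)
(.leaf 1159))
(.node (.leaf 1175)
(.leaf 0)))
(.node (.node (.leaf 1156)
(.leaf 1159))
(.node (.leaf 1163)
(.leaf 0))))
(.node (.node (.node (.leaf 61)
(.leaf 1177))
(.node (.leaf 1159)
(.leaf 0)))
(.node (.node (.leaf 1157)
(.leaf 5320))
(.node (.leaf 1175)
(.leaf 0)))))
(.node (.node (.node (.node (.leaf 3)
(.leaf 1177))
(.node (.leaf 1163)
(.leaf 0)))
(.node (.node (.leaf 1157)
(.leaf 5320))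
(.node (.leaf 1175)
(.leaf 0))))
(.node (.node (.node (.leaf 297)
(.leaf 1178))
(.node (.leaf 1159)
(.leaf 0)))
(.node (.node (.leaf 1177)
(.leaf 5446))
(.node (.leaf 1163)
(.leaf 0)))))))
(.node (.node (.node (.node (.node (.node (.leaf 10)
(.leaf 1178))
(.node (.leaf 1175)
(.leaf 5644)))
(.node (.node (.leaf 297)
(.leaf 1159))
(.node (.leaf 1178)
(.leaf 0))))
(.node (.node (.node (.leaf 10)
(.leaf 1178))
(.node (.leaf 1156)
(.leaf 0)))
(.node (.node (.leaf 1279)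
(.leaf 5320))
(.node (.leaf 1163)
(.leaf 0)))))
(.node (.node (.node (.node (.leaf 3)
(.leaf 1177))
(.node (.leaf 1175)
(.leaf 0)))
(.node (.node (.leaf 1185)
(.leaf 5320))
(.node (.leaf 1178)
(.leaf 0))))
(.node (.node (.node (.leaf 10)
(.leaf 1177))
(.node (.leaf 1163)
(.leaf 0)))
(.node (.node (.leaf 1279)
(.leaf 5320))
(.node (.leaf 1175)
(.leaf 0))))))
(.node (.node (.node (.node (.node (.leaf 10)
(.leaf 1159))
(.node (.leaf 1175)
(.leaf 0)))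
(.node (.node (.leaf 1156)
(.leaf 5315))
(.node (.leaf 1178)
(.leaf 0))))
(.node (.node (.node (.leaf 31)
(.leaf 1178))
(.node (.leaf 1163)
(.leaf 0)))
(.node (.node (.leaf 1163)
(.leaf 5320))
(.node (.leaf 1163)
(.leaf 0)))))
(.node (.node (.node (.node (.leaf 16)
(.leaf 1159))
(.node (.leaf 1159)
(.leaf 0)))
(.node (.node (.leaf 1159)
(.leaf 5342))
(.node (.leaf 1178)
(.leaf 0))))
(.node (.node (.node (.leaf 10)
(.leaf 1159))
(.node (.leaf 1175)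
(.leaf 0)))
(.node (.node (.leaf 1163)
(.leaf 5342))
(.node (.leaf 1178)
(.leaf 0)))))))))))
(.node (.node (.node (.node (.node (.node (.node (.node (.node (.node (.leaf 1)
(.leaf 1178))
(.node (.leaf 1175)
(.leaf 5320)))
(.node (.node (.leaf 11)
(.leaf 1163))
(.node (.leaf 1163)
(.leaf 0))))
(.node (.node (.node (.leaf 3)
(.leaf 1177))
(.node (.leaf 1159)
(.leaf 0)))
(.node (.node (.leaf 1159)
(.leaf 5315))
(.node (.leaf 1159)
(.leaf 0)))))
(.node (.node (.node (.node (.leaf 10)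
(.leaf 1178))
(.node (.leaf 1163)
(.leaf 0)))
(.node (.node (.leaf 1155)
(.leaf 5315))
(.node (.leaf 1163)
(.leaf 0))))
(.node (.node (.node (.leaf 10)
(.leaf 1159))
(.node (.leaf 1163)
(.leaf 0)))
(.node (.node (.leaf 1163)
(.leaf 5320))
(.node (.leaf 1163)
(.leaf 0))))))
(.node (.node (.node (.node (.node (.leaf 16)
(.leaf 1178))
(.node (.leaf 1178)
(.leaf 5446)))
(.node (.node (.leaf 1156)
(.leaf 1178))
(.node (.leaf 1175)
(.leaf 0))))
(.node (.node (.node (.leaf 178)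
(.leaf 1178))
(.node (.leaf 1156)
(.leaf 0)))
(.node (.node (.leaf 1156)
(.leaf 5320))
(.node (.leaf 1163)
(.leaf 0)))))
(.node (.node (.node (.node (.leaf 10)
(.leaf 1177))
(.node (.leaf 1163)
(.leaf 0)))
(.node (.node (.leaf 1175)
(.leaf 5320))
(.node (.leaf 1279)
(.leaf 0))))
(.node (.node (.node (.leaf 297)
(.leaf 1163))
(.node (.leaf 1163)
(.leaf 0)))
(.node (.node (.leaf 1178)
(.leaf 5342))
(.node (.leaf 1163)
(.leaf 0)))))))
(.node (.node (.node (.node (.node (.node (.leaf 10)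
(.leaf 1178))
(.node (.leaf 1163)
(.leaf 5320)))
(.node (.node (.leaf 11)
(.leaf 1163))
(.node (.leaf 1175)
(.leaf 0))))
(.node (.node (.node (.leaf 10)
(.leaf 1175))
(.node (.leaf 1177)
(.leaf 0)))
(.node (.node (.leaf 1178)
(.leaf 5320))
(.node (.leaf 1163)
(.leaf 0)))))
(.node (.node (.node (.node (.leaf 10)
(.leaf 1177))
(.node (.leaf 1163)
(.leaf 0)))
(.node (.node (.leaf 1185)
(.leaf 5335))
(.node (.leaf 1178)
(.leaf 0))))
(.node (.node (.node (.leaf 56)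
(.leaf 1159))
(.node (.leaf 1163)
(.leaf 0)))
(.node (.node (.leaf 1163)
(.leaf 5320))
(.node (.leaf 1175)
(.leaf 0))))))
(.node (.node (.node (.node (.node (.leaf 178)
(.leaf 1163))
(.node (.leaf 1163)
(.leaf 0)))
(.node (.node (.leaf 1163)
(.leaf 5315))
(.node (.leaf 1175)
(.leaf 0))))
(.node (.node (.node (.leaf 58)
(.leaf 1178))
(.node (.leaf 1175)
(.leaf 0)))
(.node (.node (.leaf 1175)
(.leaf 5320))
(.node (.leaf 1178)
(.leaf 0)))))
(.node (.node (.node (.node (.leaf 10)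
(.leaf 1279))
(.node (.leaf 1178)
(.leaf 0)))
(.node (.node (.leaf 1155)
(.leaf 5342))
(.node (.leaf 1175)
(.leaf 0))))
(.node (.node (.node (.leaf 16)
(.leaf 1178))
(.node (.leaf 1159)
(.leaf 0)))
(.node (.node (.leaf 1175)
(.leaf 5320))
(.node (.leaf 1163)
(.leaf 0))))))))
(.node (.node (.node (.node (.node (.node (.node (.leaf 11)
(.leaf 1177))
(.node (.leaf 1163)
(.leaf 5320)))
(.node (.node (.leaf 178)
(.leaf 1177))
(.node (.leaf 1163)
(.leaf 0))))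
(.node (.node (.node (.leaf 16)
(.leaf 1163))
(.node (.leaf 1177)
(.leaf 0)))
(.node (.node (.leaf 1178)
(.leaf 5320))
(.node (.leaf 1163)
(.leaf 0)))))
(.node (.node (.node (.node (.leaf 10)
(.leaf 1178))
(.node (.leaf 1178)
(.leaf 0)))
(.node (.node (.leaf 1159)
(.leaf 5320))
(.node (.leaf 1159)
(.leaf 0))))
(.node (.node (.node (.leaf 178)
(.leaf 1178))
(.node (.leaf 1178)
(.leaf 0)))
(.node (.node (.leaf 1163)
(.leaf 5342))
(.node (.leaf 1163)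
(.leaf 0))))))
(.node (.node (.node (.node (.node (.leaf 11)
(.leaf 1159))
(.node (.leaf 1175)
(.leaf 0)))
(.node (.node (.leaf 1156)
(.leaf 1178))
(.node (.leaf 1175)
(.leaf 0))))
(.node (.node (.node (.leaf 11)
(.leaf 1175))
(.node (.leaf 1178)
(.leaf 0)))
(.node (.node (.leaf 1159)
(.leaf 5320))
(.node (.leaf 1175)
(.leaf 0)))))
(.node (.node (.node (.node (.leaf 3)
(.leaf 1159))
(.node (.leaf 1279)
(.leaf 0)))
(.node (.node (.leaf 1157)
(.leaf 5320))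
(.node (.leaf 1159)
(.leaf 0))))
(.node (.node (.node (.leaf 10)
(.leaf 1177))
(.node (.leaf 1178)
(.leaf 0)))
(.node (.node (.leaf 1177)
(.leaf 5320))
(.node (.leaf 1178)
(.leaf 0)))))))
(.node (.node (.node (.node (.node (.node (.leaf 10)
(.leaf 1163))
(.node (.leaf 1163)
(.leaf 5320)))
(.node (.node (.leaf 61)
(.leaf 1178))
(.node (.leaf 1178)
(.leaf 0))))
(.node (.node (.node (.leaf 3)
(.leaf 1178))
(.node (.leaf 1178)
(.leaf 0)))
(.node (.node (.leaf 1156)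
(.leaf 5644))
(.node (.leaf 1163)
(.leaf 0)))))
(.node (.node (.node (.node (.leaf 10)
(.leaf 1279))
(.node (.leaf 1175)
(.leaf 0)))
(.node (.node (.leaf 1178)
(.leaf 5313))
(.node (.leaf 1178)
(.leaf 0))))
(.node (.node (.node (.leaf 3)
(.leaf 1159))
(.node (.leaf 1163)
(.leaf 0)))
(.node (.node (.leaf 1175)
(.leaf 5320))
(.node (.leaf 1175)
(.leaf 0))))))
(.node (.node (.node (.node (.node (.leaf 61)
(.leaf 1178))
(.node (.leaf 1163)
(.leaf 0)))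
(.node (.node (.leaf 1177)
(.leaf 5315))
(.node (.leaf 1175)
(.leaf 0))))
(.node (.node (.node (.leaf 178)
(.leaf 1175))
(.node (.leaf 1279)
(.leaf 0)))
(.node (.node (.leaf 1159)
(.leaf 5320))
(.node (.leaf 1163)
(.leaf 0)))))
(.node (.node (.node (.node (.leaf 58)
(.leaf 1163))
(.node (.leaf 1163)
(.leaf 0)))
(.node (.node (.leaf 1175)
(.leaf 5320))
(.node (.leaf 1178)
(.leaf 0))))
(.node (.node (.node (.leaf 16)
(.leaf 1175))
(.node (.leaf 1175)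
(.leaf 0)))
(.node (.node (.leaf 1159)
(.leaf 5446))
(.node (.leaf 1178)
(.leaf 0)))))))))
(.node (.node (.node (.node (.node (.node (.node (.node (.leaf 1)
(.leaf 1178))
(.node (.leaf 1175)
(.leaf 5320)))
(.node (.node (.leaf 3)
(.leaf 1175))
(.node (.leaf 1163)
(.leaf 0))))
(.node (.node (.node (.leaf 61)
(.leaf 1159))
(.node (.leaf 1159)
(.leaf 0)))
(.node (.node (.leaf 1159)
(.leaf 5320))
(.node (.leaf 1163)
(.leaf 0)))))
(.node (.node (.node (.node (.leaf 3)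
(.leaf 1159))
(.node (.leaf 1163)
(.leaf 0)))
(.node (.node (.leaf 1178)
(.leaf 5320))
(.node (.leaf 1279)
(.leaf 0))))
(.node (.node (.node (.leaf 10)
(.leaf 1163))
(.node (.leaf 1159)
(.leaf 0)))
(.node (.node (.leaf 1163)
(.leaf 5320))
(.node (.leaf 1175)
(.leaf 0))))))
(.node (.node (.node (.node (.node (.leaf 10)
(.leaf 1178))
(.node (.leaf 1163)
(.leaf 5446)))
(.node (.node (.leaf 1156)
(.leaf 1159))
(.node (.leaf 1163)
(.leaf 0))))
(.node (.node (.node (.leaf 10)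
(.leaf 1177))
(.node (.leaf 1163)
(.leaf 0)))
(.node (.node (.leaf 1163)
(.leaf 5320))
(.node (.leaf 1175)
(.leaf 0)))))
(.node (.node (.node (.node (.leaf 3)
(.leaf 1279))
(.node (.leaf 1279)
(.leaf 0)))
(.node (.node (.leaf 1163)
(.leaf 5320))
(.node (.leaf 1178)
(.leaf 0))))
(.node (.node (.node (.leaf 11)
(.leaf 1178))
(.node (.leaf 1178)
(.leaf 0)))
(.node (.node (.leaf 1163)
(.leaf 5446))
(.node (.leaf 1163)
(.leaf 0)))))))
(.node (.node (.node (.node (.node (.node (.leaf 3)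
(.leaf 1178))
(.node (.leaf 1163)
(.leaf 5644)))
(.node (.node (.leaf 11)
(.leaf 1178))
(.node (.leaf 1163)
(.leaf 0))))
(.node (.node (.node (.leaf 10)
(.leaf 1159))
(.node (.leaf 1279)
(.leaf 0)))
(.node (.node (.leaf 1178)
(.leaf 5320))
(.node (.leaf 1163)
(.leaf 0)))))
(.node (.node (.node (.node (.leaf 10)
(.leaf 1159))
(.node (.leaf 1175)
(.leaf 0)))
(.node (.node (.leaf 1157)
(.leaf 5320))
(.node (.leaf 1178)
(.leaf 0))))
(.node (.node (.node (.leaf 10)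
(.leaf 1163))
(.node (.leaf 1178)
(.leaf 0)))
(.node (.node (.leaf 1157)
(.leaf 5342))
(.node (.leaf 1175)
(.leaf 0))))))
(.node (.node (.node (.node (.node (.leaf 56)
(.leaf 1177))
(.node (.leaf 1175)
(.leaf 0)))
(.node (.node (.leaf 1157)
(.leaf 5315))
(.node (.leaf 1175)
(.leaf 0))))
(.node (.node (.node (.leaf 10)
(.leaf 1163))
(.node (.leaf 1178)
(.leaf 0)))
(.node (.node (.leaf 1178)
(.leaf 5342))
(.node (.leaf 1163)
(.leaf 0)))))
(.node (.node (.node (.node (.leaf 3)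
(.leaf 1163))
(.node (.leaf 1178)
(.leaf 0)))
(.node (.node (.leaf 1163)
(.leaf 5320))
(.node (.leaf 1163)
(.leaf 0))))
(.node (.node (.node (.leaf 61)
(.leaf 1177))
(.node (.leaf 1178)
(.leaf 0)))
(.node (.node (.leaf 1175)
(.leaf 5320))
(.node (.leaf 1175)
(.leaf 0))))))))
(.node (.node (.node (.node (.node (.node (.node (.leaf 11)
(.leaf 1175))
(.node (.leaf 1175)
(.leaf 5342)))
(.node (.node (.leaf 178)
(.leaf 1177))
(.node (.leaf 1159)
(.leaf 0))))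
(.node (.node (.node (.leaf 178)
(.leaf 1178))
(.node (.leaf 1163)
(.leaf 0)))
(.node (.node (.leaf 1178)
(.leaf 5342))
(.node (.leaf 1163)
(.leaf 0)))))
(.node (.node (.node (.node (.leaf 10)
(.leaf 1159))
(.node (.leaf 1159)
(.leaf 0)))
(.node (.node (.leaf 1175)
(.leaf 5313))
(.node (.leaf 1178)
(.leaf 0))))
(.node (.node (.node (.leaf 10)
(.leaf 1163))
(.node (.leaf 1159)
(.leaf 0)))
(.node (.node (.leaf 1175)
(.leaf 5320))
(.node (.leaf 1279)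
(.leaf 0))))))
(.node (.node (.node (.node (.node (.leaf 3)
(.leaf 1178))
(.node (.leaf 1163)
(.leaf 0)))
(.node (.node (.leaf 1157)
(.leaf 1178))
(.node (.leaf 1163)
(.leaf 0))))
(.node (.node (.node (.leaf 10)
(.leaf 1178))
(.node (.leaf 1163)
(.leaf 0)))
(.node (.node (.leaf 1178)
(.leaf 5320))
(.node (.leaf 1163)
(.leaf 0)))))
(.node (.node (.node (.node (.leaf 10)
(.leaf 1279))
(.node (.leaf 1163)
(.leaf 0)))
(.node (.node (.leaf 1157)
(.leaf 5320))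
(.node (.leaf 1175)
(.leaf 0))))
(.node (.node (.node (.leaf 16)
(.leaf 1159))
(.node (.leaf 1159)
(.leaf 0)))
(.node (.node (.leaf 1178)
(.leaf 5446))
(.node (.leaf 1163)
(.leaf 0)))))))
(.node (.node (.node (.node (.node (.node (.leaf 3)
(.leaf 1159))
(.node (.leaf 1157)
(.leaf 5446)))
(.node (.node (.leaf 178)
(.leaf 1178))
(.node (.leaf 1175)
(.leaf 0))))
(.node (.node (.node (.leaf 10)
(.leaf 1178))
(.node (.leaf 1178)
(.leaf 0)))
(.node (.node (.leaf 1178)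
(.leaf 5342))
(.node (.leaf 1175)
(.leaf 0)))))
(.node (.node (.node (.node (.leaf 10)
(.leaf 1178))
(.node (.leaf 1163)
(.leaf 0)))
(.node (.node (.leaf 1157)
(.leaf 5320))
(.node (.leaf 1159)
(.leaf 0))))
(.node (.node (.node (.leaf 178)
(.leaf 1178))
(.node (.leaf 1163)
(.leaf 0)))
(.node (.node (.leaf 1175)
(.leaf 5644))
(.node (.leaf 1175)
(.leaf 0))))))
(.node (.node (.node (.node (.node (.leaf 10)
(.leaf 1163))
(.node (.leaf 1175)
(.leaf 0)))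
(.node (.node (.leaf 1178)
(.leaf 5320))
(.node (.leaf 1175)
(.leaf 0))))
(.node (.node (.node (.leaf 10)
(.leaf 1159))
(.node (.leaf 1163)
(.leaf 0)))
(.node (.node (.leaf 1163)
(.leaf 5320))
(.node (.leaf 1159)
(.leaf 0)))))
(.node (.node (.node (.node (.leaf 10)
(.leaf 1178))
(.node (.leaf 1177)
(.leaf 0)))
(.node (.node (.leaf 1157)
(.leaf 5320))
(.node (.leaf 1178)
(.leaf 0))))
(.node (.node (.node (.leaf 297)
(.leaf 1159))
(.node (.leaf 1163)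
(.leaf 0)))
(.node (.node (.leaf 1163)
(.leaf 5644))
(.node (.leaf 1178)
(.leaf 0))))))))))
(.node (.node (.node (.node (.node (.node (.node (.node (.node (.leaf 10)
(.leaf 1178))
(.node (.leaf 1163)
(.leaf 5342)))
(.node (.node (.leaf 10)
(.leaf 1163))
(.node (.leaf 1163)
(.leaf 0))))
(.node (.node (.node (.leaf 31)
(.leaf 1163))
(.node (.leaf 1178)
(.leaf 0)))
(.node (.node (.leaf 1175)
(.leaf 5644))
(.node (.leaf 1178)
(.leaf 0)))))
(.node (.node (.node (.node (.leaf 10)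
(.leaf 1178))
(.node (.leaf 1163)
(.leaf 0)))
(.node (.node (.leaf 1157)
(.leaf 5315))
(.node (.leaf 1178)
(.leaf 0))))
(.node (.node (.node (.leaf 10)
(.leaf 1163))
(.node (.leaf 1159)
(.leaf 0)))
(.node (.node (.leaf 1175)
(.leaf 5320))
(.node (.leaf 1178)
(.leaf 0))))))
(.node (.node (.node (.node (.node (.leaf 10)
(.leaf 1163))
(.node (.leaf 1163)
(.leaf 5446)))
(.node (.node (.leaf 1156)
(.leaf 1159))
(.node (.leaf 1175)
(.leaf 0))))
(.node (.node (.node (.leaf 10)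
(.leaf 1159))
(.node (.leaf 1178)
(.leaf 0)))
(.node (.node (.leaf 1157)
(.leaf 5342))
(.node (.leaf 1163)
(.leaf 0)))))
(.node (.node (.node (.node (.leaf 10)
(.leaf 1178))
(.node (.leaf 1177)
(.leaf 0)))
(.node (.node (.leaf 1163)
(.leaf 5320))
(.node (.leaf 1177)
(.leaf 0))))
(.node (.node (.node (.leaf 178)
(.leaf 1163))
(.node (.leaf 1175)
(.leaf 0)))
(.node (.node (.leaf 1178)
(.leaf 5320))
(.node (.leaf 1163)
(.leaf 0)))))))
(.node (.node (.node (.node (.node (.node (.leaf 11)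
(.leaf 1175))
(.node (.leaf 1163)
(.leaf 5320)))
(.node (.node (.leaf 297)
(.leaf 1279))
(.node (.leaf 1163)
(.leaf 0))))
(.node (.node (.node (.leaf 3)
(.leaf 1178))
(.node (.leaf 1178)
(.leaf 0)))
(.node (.node (.leaf 1178)
(.leaf 5320))
(.node (.leaf 1175)
(.leaf 0)))))
(.node (.node (.node (.node (.leaf 10)
(.leaf 1178))
(.node (.leaf 1178)
(.leaf 0)))
(.node (.node (.leaf 1177)
(.leaf 5315))
(.node (.leaf 1178)
(.leaf 0))))
(.node (.node (.node (.leaf 178)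
(.leaf 1175))
(.node (.leaf 1178)
(.leaf 0)))
(.node (.node (.leaf 1163)
(.leaf 5644))
(.node (.leaf 1163)
(.leaf 0))))))
(.node (.node (.node (.node (.node (.leaf 58)
(.leaf 1177))
(.node (.leaf 1178)
(.leaf 0)))
(.node (.node (.leaf 1155)
(.leaf 5315))
(.node (.leaf 1163)
(.leaf 0))))
(.node (.node (.node (.leaf 10)
(.leaf 1178))
(.node (.leaf 1175)
(.leaf 0)))
(.node (.node (.leaf 1157)
(.leaf 5320))
(.node (.leaf 1175)
(.leaf 0)))))
(.node (.node (.node (.node (.leaf 10)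
(.leaf 1177))
(.node (.leaf 1159)
(.leaf 0)))
(.node (.node (.leaf 1175)
(.leaf 5320))
(.node (.leaf 1163)
(.leaf 0))))
(.node (.node (.node (.leaf 16)
(.leaf 1159))
(.node (.leaf 1178)
(.leaf 0)))
(.node (.node (.leaf 1163)
(.leaf 5320))
(.node (.leaf 1175)
(.leaf 0))))))))
(.node (.node (.node (.node (.node (.node (.node (.leaf 10)
(.leaf 1279))
(.node (.leaf 1163)
(.leaf 5446)))
(.node (.node (.leaf 11)
(.leaf 1163))
(.node (.leaf 1175)
(.leaf 0))))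
(.node (.node (.node (.leaf 16)
(.leaf 1163))
(.node (.leaf 1178)
(.leaf 0)))
(.node (.node (.leaf 1177)
(.leaf 5320))
(.node (.leaf 1163)
(.leaf 0)))))
(.node (.node (.node (.node (.leaf 10)
(.leaf 1178))
(.node (.leaf 1178)
(.leaf 0)))
(.node (.node (.leaf 1175)
(.leaf 5320))
(.node (.leaf 1178)
(.leaf 0))))
(.node (.node (.node (.leaf 16)
(.leaf 1175))
(.node (.leaf 1178)
(.leaf 0)))
(.node (.node (.leaf 1163)
(.leaf 5320))
(.node (.leaf 1163)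
(.leaf 0))))))
(.node (.node (.node (.node (.node (.leaf 10)
(.leaf 1279))
(.node (.leaf 1159)
(.leaf 0)))
(.node (.node (.leaf 1163)
(.leaf 1177))
(.node (.leaf 1163)
(.leaf 0))))
(.node (.node (.node (.leaf 10)
(.leaf 1163))
(.node (.leaf 1159)
(.leaf 0)))
(.node (.node (.leaf 1178)
(.leaf 5320))
(.node (.leaf 1163)
(.leaf 0)))))
(.node (.node (.node (.node (.leaf 3)
(.leaf 1178))
(.node (.leaf 1178)
(.leaf 0)))
(.node (.node (.leaf 1155)
(.leaf 5320))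
(.node (.leaf 1159)
(.leaf 0))))
(.node (.node (.node (.leaf 31)
(.leaf 1178))
(.node (.leaf 1159)
(.leaf 0)))
(.node (.node (.leaf 1177)
(.leaf 5320))
(.node (.leaf 1163)
(.leaf 0)))))))
(.node (.node (.node (.node (.node (.node (.leaf 10)
(.leaf 1178))
(.node (.leaf 1157)
(.leaf 5644)))
(.node (.node (.leaf 297)
(.leaf 1178))
(.node (.leaf 1159)
(.leaf 0))))
(.node (.node (.node (.leaf 10)
(.leaf 1178))
(.node (.leaf 1159)
(.leaf 0)))
(.node (.node (.leaf 1175)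
(.leaf 5320))
(.node (.leaf 1163)
(.leaf 0)))))
(.node (.node (.node (.node (.leaf 3)
(.leaf 1279))
(.node (.leaf 1177)
(.leaf 0)))
(.node (.node (.leaf 1157)
(.leaf 5313))
(.node (.leaf 1175)
(.leaf 0))))
(.node (.node (.node (.leaf 3)
(.leaf 1178))
(.node (.leaf 1163)
(.leaf 0)))
(.node (.node (.leaf 1163)
(.leaf 5446))
(.node (.leaf 1163)
(.leaf 0))))))
(.node (.node (.node (.node (.node (.leaf 10)
(.leaf 1163))
(.node (.leaf 1175)
(.leaf 0)))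
(.node (.node (.leaf 1178)
(.leaf 5313))
(.node (.leaf 1159)
(.leaf 0))))
(.node (.node (.node (.leaf 10)
(.leaf 1279))
(.node (.leaf 1177)
(.leaf 0)))
(.node (.node (.leaf 1175)
(.leaf 5342))
(.node (.leaf 1163)
(.leaf 0)))))
(.node (.node (.node (.node (.leaf 10)
(.leaf 1178))
(.node (.leaf 1175)
(.leaf 0)))
(.node (.node (.leaf 1175)
(.leaf 5335))
(.node (.leaf 1159)
(.leaf 0))))
(.node (.node (.node (.leaf 61)
(.leaf 1178))
(.node (.leaf 1163)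
(.leaf 0)))
(.node (.node (.leaf 1159)
(.leaf 5446))
(.node (.leaf 1178)
(.leaf 0)))))))))
(.node (.node (.node (.node (.node (.node (.node (.node (.leaf 1)
(.leaf 1178))
(.node (.leaf 1163)
(.leaf 5320)))
(.node (.node (.leaf 178)
(.leaf 1175))
(.node (.leaf 1163)
(.leaf 0))))
(.node (.node (.node (.leaf 61)
(.leaf 1177))
(.node (.leaf 1178)
(.leaf 0)))
(.node (.node (.leaf 1159)
(.leaf 5320))
(.node (.leaf 1163)
(.leaf 0)))))
(.node (.node (.node (.node (.leaf 11)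
(.leaf 1178))
(.node (.leaf 1175)
(.leaf 0)))
(.node (.node (.leaf 1185)
(.leaf 5342))
(.node (.leaf 1178)
(.leaf 0))))
(.node (.node (.node (.leaf 10)
(.leaf 1163))
(.node (.leaf 1177)
(.leaf 0)))
(.node (.node (.leaf 1163)
(.leaf 5320))
(.node (.leaf 1279)
(.leaf 0))))))
(.node (.node (.node (.node (.node (.leaf 10)
(.leaf 1279))
(.node (.leaf 1163)
(.leaf 5644)))
(.node (.node (.leaf 1159)
(.leaf 1178))
(.node (.leaf 1163)
(.leaf 0))))
(.node (.node (.node (.leaf 3)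
(.leaf 1175))
(.node (.leaf 1175)
(.leaf 0)))
(.node (.node (.leaf 1178)
(.leaf 5446))
(.node (.leaf 1175)
(.leaf 0)))))
(.node (.node (.node (.node (.leaf 3)
(.leaf 1178))
(.node (.leaf 1178)
(.leaf 0)))
(.node (.node (.leaf 1163)
(.leaf 5342))
(.node (.leaf 1159)
(.leaf 0))))
(.node (.node (.node (.leaf 297)
(.leaf 1159))
(.node (.leaf 1163)
(.leaf 0)))
(.node (.node (.leaf 1163)
(.leaf 5342))
(.node (.leaf 1163)
(.leaf 0)))))))
(.node (.node (.node (.node (.node (.node (.leaf 31)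
(.leaf 1178))
(.node (.leaf 1175)
(.leaf 5446)))
(.node (.node (.leaf 178)
(.leaf 1177))
(.node (.leaf 1175)
(.leaf 0))))
(.node (.node (.node (.leaf 10)
(.leaf 1178))
(.node (.leaf 1178)
(.leaf 0)))
(.node (.node (.leaf 1178)
(.leaf 5446))
(.node (.leaf 1175)
(.leaf 0)))))
(.node (.node (.node (.node (.leaf 11)
(.leaf 1159))
(.node (.leaf 1159)
(.leaf 0)))
(.node (.node (.leaf 1157)
(.leaf 5320))
(.node (.leaf 1163)
(.leaf 0))))
(.node (.node (.node (.leaf 178)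
(.leaf 1163))
(.node (.leaf 1163)
(.leaf 0)))
(.node (.node (.leaf 1185)
(.leaf 5320))
(.node (.leaf 1159)
(.leaf 0))))))
(.node (.node (.node (.node (.node (.leaf 16)
(.leaf 1159))
(.node (.leaf 1159)
(.leaf 0)))
(.node (.node (.leaf 1163)
(.leaf 5313))
(.node (.leaf 1163)
(.leaf 0))))
(.node (.node (.node (.leaf 11)
(.leaf 1159))
(.node (.leaf 1178)
(.leaf 0)))
(.node (.node (.leaf 1178)
(.leaf 5320))
(.node (.leaf 1163)
(.leaf 0)))))
(.node (.node (.node (.node (.leaf 10)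
(.leaf 1163))
(.node (.leaf 1177)
(.leaf 0)))
(.node (.node (.leaf 1163)
(.leaf 5320))
(.node (.leaf 1159)
(.leaf 0))))
(.node (.node (.node (.leaf 58)
(.leaf 1178))
(.node (.leaf 1163)
(.leaf 0)))
(.node (.node (.leaf 1159)
(.leaf 5644))
(.node (.leaf 1163)
(.leaf 0))))))))
(.node (.node (.node (.node (.node (.node (.node (.leaf 3)
(.leaf 1177))
(.node (.leaf 1163)
(.leaf 5320)))
(.node (.node (.leaf 178)
(.leaf 1163))
(.node (.leaf 1175)
(.leaf 0))))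
(.node (.node (.node (.leaf 61)
(.leaf 1177))
(.node (.leaf 1178)
(.leaf 0)))
(.node (.node (.leaf 1178)
(.leaf 5320))
(.node (.leaf 1163)
(.leaf 0)))))
(.node (.node (.node (.node (.leaf 11)
(.leaf 1159))
(.node (.leaf 1178)
(.leaf 0)))
(.node (.node (.leaf 1163)
(.leaf 5320))
(.node (.leaf 1279)
(.leaf 0))))
(.node (.node (.node (.leaf 10)
(.leaf 1178))
(.node (.leaf 1178)
(.leaf 0)))
(.node (.node (.leaf 1163)
(.leaf 5320))
(.node (.leaf 1163)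
(.leaf 0))))))
(.node (.node (.node (.node (.node (.leaf 10)
(.leaf 1159))
(.node (.leaf 1163)
(.leaf 0)))
(.node (.node (.leaf 1185)
(.leaf 1177))
(.node (.leaf 1163)
(.leaf 0))))
(.node (.node (.node (.leaf 31)
(.leaf 1178))
(.node (.leaf 1177)
(.leaf 0)))
(.node (.node (.leaf 1155)
(.leaf 5320))
(.node (.leaf 1163)
(.leaf 0)))))
(.node (.node (.node (.node (.leaf 11)
(.leaf 1178))
(.node (.leaf 1159)
(.leaf 0)))
(.node (.node (.leaf 1156)
(.leaf 5342))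
(.node (.leaf 1163)
(.leaf 0))))
(.node (.node (.node (.leaf 178)
(.leaf 1178))
(.node (.leaf 1159)
(.leaf 0)))
(.node (.node (.leaf 1156)
(.leaf 5342))
(.node (.leaf 1159)
(.leaf 0)))))))
(.node (.node (.node (.node (.node (.node (.leaf 3)
(.leaf 1279))
(.node (.leaf 1178)
(.leaf 5320)))
(.node (.node (.leaf 178)
(.leaf 1159))
(.node (.leaf 1177)
(.leaf 0))))
(.node (.node (.node (.leaf 11)
(.leaf 1163))
(.node (.leaf 1178)
(.leaf 0)))
(.node (.node (.leaf 1159)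
(.leaf 5320))
(.node (.leaf 1163)
(.leaf 0)))))
(.node (.node (.node (.node (.leaf 3)
(.leaf 1178))
(.node (.leaf 1175)
(.leaf 0)))
(.node (.node (.leaf 1178)
(.leaf 5320))
(.node (.leaf 1177)
(.leaf 0))))
(.node (.node (.node (.leaf 297)
(.leaf 1163))
(.node (.leaf 1163)
(.leaf 0)))
(.node (.node (.leaf 1178)
(.leaf 5320))
(.node (.leaf 1178)
(.leaf 0))))))
(.node (.node (.node (.node (.node (.leaf 3)
(.leaf 1178))
(.node (.leaf 1178)
(.leaf 0)))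
(.node (.node (.leaf 1156)
(.leaf 5313))
(.node (.leaf 1163)
(.leaf 0))))
(.node (.node (.node (.leaf 11)
(.leaf 1177))
(.node (.leaf 1178)
(.leaf 0)))
(.node (.node (.leaf 1163)
(.leaf 5320))
(.node (.leaf 1163)
(.leaf 0)))))
(.node (.node (.node (.node (.leaf 11)
(.leaf 1163))
(.node (.leaf 1159)
(.leaf 0)))
(.node (.node (.leaf 1178)
(.leaf 5320))
(.node (.leaf 1279)
(.leaf 0))))
(.node (.node (.node (.leaf 178)
(.leaf 1178))
(.node (.leaf 1175)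
(.leaf 0)))
(.node (.node (.leaf 1163)
(.leaf 5320))
(.node (.leaf 1175)
(.leaf 0))))))))))))
(.node (.node (.node (.node (.node (.node (.node (.node (.node (.node (.node (.leaf 2)
(.leaf 1178))
(.node (.leaf 1175)
(.leaf 5320)))
(.node (.node (.leaf 178)
(.leaf 1163))
(.node (.leaf 1163)
(.leaf 0))))
(.node (.node (.node (.leaf 178)
(.leaf 1177))
(.node (.leaf 1178)
(.leaf 0)))
(.node (.node (.leaf 1178)
(.leaf 5320))
(.node (.leaf 1178)
(.leaf 0)))))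
(.node (.node (.node (.node (.leaf 10)
(.leaf 1159))
(.node (.leaf 1163)
(.leaf 0)))
(.node (.node (.leaf 1178)
(.leaf 5320))
(.node (.leaf 1163)
(.leaf 0))))
(.node (.node (.node (.leaf 3)
(.leaf 1163))
(.node (.leaf 1163)
(.leaf 0)))
(.node (.node (.leaf 1163)
(.leaf 5320))
(.node (.leaf 1163)
(.leaf 0))))))
(.node (.node (.node (.node (.node (.leaf 11)
(.leaf 1178))
(.node (.leaf 1177)
(.leaf 5644)))
(.node (.node (.leaf 178)
(.leaf 1159))
(.node (.leaf 1163)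
(.leaf 0))))
(.node (.node (.node (.leaf 3)
(.leaf 1175))
(.node (.leaf 1159)
(.leaf 0)))
(.node (.node (.leaf 1178)
(.leaf 5342))
(.node (.leaf 1163)
(.leaf 0)))))
(.node (.node (.node (.node (.leaf 10)
(.leaf 1178))
(.node (.leaf 1175)
(.leaf 0)))
(.node (.node (.leaf 1163)
(.leaf 5446))
(.node (.leaf 1178)
(.leaf 0))))
(.node (.node (.node (.leaf 3)
(.leaf 1163))
(.node (.leaf 1163)
(.leaf 0)))
(.node (.node (.leaf 1177)
(.leaf 5320))
(.node (.leaf 1175)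
(.leaf 0)))))))
(.node (.node (.node (.node (.node (.node (.leaf 3)
(.leaf 1178))
(.node (.leaf 1163)
(.leaf 5446)))
(.node (.node (.leaf 178)
(.leaf 1163))
(.node (.leaf 1163)
(.leaf 0))))
(.node (.node (.node (.leaf 10)
(.leaf 1175))
(.node (.leaf 1159)
(.leaf 0)))
(.node (.node (.leaf 1175)
(.leaf 5320))
(.node (.leaf 1175)
(.leaf 0)))))
(.node (.node (.node (.node (.leaf 11)
(.leaf 1178))
(.node (.leaf 1279)
(.leaf 0)))
(.node (.node (.leaf 1157)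
(.leaf 5342))
(.node (.leaf 1178)
(.leaf 0))))
(.node (.node (.node (.leaf 10)
(.leaf 1178))
(.node (.leaf 1159)
(.leaf 0)))
(.node (.node (.leaf 1175)
(.leaf 5320))
(.node (.leaf 1178)
(.leaf 0))))))
(.node (.node (.node (.node (.node (.leaf 3)
(.leaf 1178))
(.node (.leaf 1175)
(.leaf 0)))
(.node (.node (.leaf 1175)
(.leaf 5313))
(.node (.leaf 1163)
(.leaf 0))))
(.node (.node (.node (.leaf 3)
(.leaf 1178))
(.node (.leaf 1178)
(.leaf 0)))
(.node (.node (.leaf 1163)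
(.leaf 5320))
(.node (.leaf 1163)
(.leaf 0)))))
(.node (.node (.node (.node (.leaf 16)
(.leaf 1177))
(.node (.leaf 1157)
(.leaf 0)))
(.node (.node (.leaf 1163)
(.leaf 5320))
(.node (.leaf 1175)
(.leaf 0))))
(.node (.node (.node (.leaf 16)
(.leaf 1178))
(.node (.leaf 1178)
(.leaf 0)))
(.node (.node (.leaf 1163)
(.leaf 5320))
(.node (.leaf 1175)
(.leaf 0))))))))
(.node (.node (.node (.node (.node (.node (.node (.leaf 10)
(.leaf 1178))
(.node (.leaf 1175)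
(.leaf 5320)))
(.node (.node (.leaf 178)
(.leaf 1178))
(.node (.leaf 1163)
(.leaf 0))))
(.node (.node (.node (.leaf 16)
(.leaf 1177))
(.node (.leaf 1177)
(.leaf 0)))
(.node (.node (.leaf 1178)
(.leaf 5320))
(.node (.leaf 1163)
(.leaf 0)))))
(.node (.node (.node (.node (.leaf 10)
(.leaf 1178))
(.node (.leaf 1177)
(.leaf 0)))
(.node (.node (.leaf 1279)
(.leaf 5342))
(.node (.leaf 1177)
(.leaf 0))))
(.node (.node (.node (.leaf 3)
(.leaf 1163))
(.node (.leaf 1178)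
(.leaf 0)))
(.node (.node (.leaf 1175)
(.leaf 5320))
(.node (.leaf 1178)
(.leaf 0))))))
(.node (.node (.node (.node (.node (.leaf 10)
(.leaf 1279))
(.node (.leaf 1156)
(.leaf 0)))
(.node (.node (.leaf 1157)
(.leaf 1178))
(.node (.leaf 1175)
(.leaf 0))))
(.node (.node (.node (.leaf 3)
(.leaf 1163))
(.node (.leaf 1178)
(.leaf 0)))
(.node (.node (.leaf 1178)
(.leaf 5320))
(.node (.leaf 1177)
(.leaf 0)))))
(.node (.node (.node (.node (.leaf 10)
(.leaf 1178))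
(.node (.leaf 1159)
(.leaf 0)))
(.node (.node (.leaf 1156)
(.leaf 5320))
(.node (.leaf 1178)
(.leaf 0))))
(.node (.node (.node (.leaf 16)
(.leaf 1279))
(.node (.leaf 1159)
(.leaf 0)))
(.node (.node (.leaf 1178)
(.leaf 5342))
(.node (.leaf 1163)
(.leaf 0)))))))
(.node (.node (.node (.node (.node (.node (.leaf 11)
(.leaf 1159))
(.node (.leaf 1163)
(.leaf 5446)))
(.node (.node (.leaf 178)
(.leaf 1163))
(.node (.leaf 1163)
(.leaf 0))))
(.node (.node (.node (.leaf 3)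
(.leaf 1178))
(.node (.leaf 1177)
(.leaf 0)))
(.node (.node (.leaf 1157)
(.leaf 5320))
(.node (.leaf 1163)
(.leaf 0)))))
(.node (.node (.node (.node (.leaf 10)
(.leaf 1175))
(.node (.leaf 1279)
(.leaf 0)))
(.node (.node (.leaf 1156)
(.leaf 5342))
(.node (.leaf 1177)
(.leaf 0))))
(.node (.node (.node (.leaf 178)
(.leaf 1175))
(.node (.leaf 1178)
(.leaf 0)))
(.node (.node (.leaf 1175)
(.leaf 5320))
(.node (.leaf 1163)
(.leaf 0))))))
(.node (.node (.node (.node (.node (.leaf 16)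
(.leaf 1159))
(.node (.leaf 1163)
(.leaf 0)))
(.node (.node (.leaf 1157)
(.leaf 5320))
(.node (.leaf 1159)
(.leaf 0))))
(.node (.node (.node (.leaf 3)
(.leaf 1175))
(.node (.leaf 1178)
(.leaf 0)))
(.node (.node (.leaf 1279)
(.leaf 5342))
(.node (.leaf 1279)
(.leaf 0)))))
(.node (.node (.node (.node (.leaf 3)
(.leaf 1175))
(.node (.leaf 1163)
(.leaf 0)))
(.node (.node (.leaf 1175)
(.leaf 5342))
(.node (.leaf 1177)
(.leaf 0))))
(.node (.node (.node (.leaf 178)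
(.leaf 1163))
(.node (.leaf 1163)
(.leaf 0)))
(.node (.node (.leaf 1279)
(.leaf 5446))
(.node (.leaf 1178)
(.leaf 0)))))))))
(.node (.node (.node (.node (.node (.node (.node (.node (.leaf 16)
(.leaf 1178))
(.node (.leaf 1178)
(.leaf 5320)))
(.node (.node (.leaf 10)
(.leaf 1163))
(.node (.leaf 1175)
(.leaf 0))))
(.node (.node (.node (.leaf 16)
(.leaf 1178))
(.node (.leaf 1178)
(.leaf 0)))
(.node (.node (.leaf 1178)
(.leaf 5320))
(.node (.leaf 1177)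
(.leaf 0)))))
(.node (.node (.node (.node (.leaf 16)
(.leaf 1159))
(.node (.leaf 1163)
(.leaf 0)))
(.node (.node (.leaf 1178)
(.leaf 5320))
(.node (.leaf 1177)
(.leaf 0))))
(.node (.node (.node (.leaf 297)
(.leaf 1163))
(.node (.leaf 1159)
(.leaf 0)))
(.node (.node (.leaf 1175)
(.leaf 5320))
(.node (.leaf 1159)
(.leaf 0))))))
(.node (.node (.node (.node (.node (.leaf 10)
(.leaf 1178))
(.node (.leaf 1175)
(.leaf 5446)))
(.node (.node (.leaf 1157)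
(.leaf 1159))
(.node (.leaf 1163)
(.leaf 0))))
(.node (.node (.node (.leaf 10)
(.leaf 1175))
(.node (.leaf 1175)
(.leaf 0)))
(.node (.node (.leaf 1156)
(.leaf 5320))
(.node (.leaf 1175)
(.leaf 0)))))
(.node (.node (.node (.node (.leaf 10)
(.leaf 1279))
(.node (.leaf 1159)
(.leaf 0)))
(.node (.node (.leaf 1163)
(.leaf 5342))
(.node (.leaf 1177)
(.leaf 0))))
(.node (.node (.node (.leaf 10)
(.leaf 1178))
(.node (.leaf 1178)
(.leaf 0)))
(.node (.node (.leaf 1159)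
(.leaf 5320))
(.node (.leaf 1163)
(.leaf 0)))))))
(.node (.node (.node (.node (.node (.node (.leaf 10)
(.leaf 1163))
(.node (.leaf 1163)
(.leaf 5342)))
(.node (.node (.leaf 297)
(.leaf 1159))
(.node (.leaf 1163)
(.leaf 0))))
(.node (.node (.node (.leaf 3)
(.leaf 1178))
(.node (.leaf 1159)
(.leaf 0)))
(.node (.node (.leaf 1177)
(.leaf 5320))
(.node (.leaf 1163)
(.leaf 0)))))
(.node (.node (.node (.node (.leaf 10)
(.leaf 1178))
(.node (.leaf 1177)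
(.leaf 0)))
(.node (.node (.leaf 1155)
(.leaf 5320))
(.node (.leaf 1177)
(.leaf 0))))
(.node (.node (.node (.leaf 3)
(.leaf 1163))
(.node (.leaf 1159)
(.leaf 0)))
(.node (.node (.leaf 1175)
(.leaf 5320))
(.node (.leaf 1175)
(.leaf 0))))))
(.node (.node (.node (.node (.node (.leaf 58)
(.leaf 1178))
(.node (.leaf 1175)
(.leaf 0)))
(.node (.node (.leaf 1157)
(.leaf 5320))
(.node (.leaf 1175)
(.leaf 0))))
(.node (.node (.node (.leaf 11)
(.leaf 1159))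
(.node (.leaf 1178)
(.leaf 0)))
(.node (.node (.leaf 1175)
(.leaf 5320))
(.node (.leaf 1163)
(.leaf 0)))))
(.node (.node (.node (.node (.leaf 3)
(.leaf 1177))
(.node (.leaf 1159)
(.leaf 0)))
(.node (.node (.leaf 1163)
(.leaf 5320))
(.node (.leaf 1163)
(.leaf 0))))
(.node (.node (.node (.leaf 16)
(.leaf 1279))
(.node (.leaf 1178)
(.leaf 0)))
(.node (.node (.leaf 1163)
(.leaf 5320))
(.node (.leaf 1163)
(.leaf 0))))))))
(.node (.node (.node (.node (.node (.node (.node (.leaf 10)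
(.leaf 1178))
(.node (.leaf 1159)
(.leaf 5446)))
(.node (.node (.leaf 10)
(.leaf 1178))
(.node (.leaf 1163)
(.leaf 0))))
(.node (.node (.node (.leaf 61)
(.leaf 1178))
(.node (.leaf 1175)
(.leaf 0)))
(.node (.node (.leaf 1178)
(.leaf 5320))
(.node (.leaf 1175)
(.leaf 0)))))
(.node (.node (.node (.node (.leaf 10)
(.leaf 1178))
(.node (.leaf 1178)
(.leaf 0)))
(.node (.node (.leaf 1175)
(.leaf 5320))
(.node (.leaf 1178)
(.leaf 0))))
(.node (.node (.node (.leaf 3)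
(.leaf 1163))
(.node (.leaf 1159)
(.leaf 0)))
(.node (.node (.leaf 1163)
(.leaf 5320))
(.node (.leaf 1175)
(.leaf 0))))))
(.node (.node (.node (.node (.node (.leaf 178)
(.leaf 1159))
(.node (.leaf 1175)
(.leaf 0)))
(.node (.node (.leaf 1155)
(.leaf 1178))
(.node (.leaf 1163)
(.leaf 0))))
(.node (.node (.node (.leaf 10)
(.leaf 1178))
(.node (.leaf 1159)
(.leaf 0)))
(.node (.node (.leaf 1159)
(.leaf 5320))
(.node (.leaf 1175)
(.leaf 0)))))
(.node (.node (.node (.node (.leaf 178)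
(.leaf 1178))
(.node (.leaf 1178)
(.leaf 0)))
(.node (.node (.leaf 1157)
(.leaf 5320))
(.node (.leaf 1175)
(.leaf 0))))
(.node (.node (.node (.leaf 178)
(.leaf 1159))
(.node (.leaf 1279)
(.leaf 0)))
(.node (.node (.leaf 1159)
(.leaf 5446))
(.node (.leaf 1177)
(.leaf 0)))))))
(.node (.node (.node (.node (.node (.node (.leaf 31)
(.leaf 1159))
(.node (.leaf 1157)
(.leaf 5446)))
(.node (.node (.leaf 297)
(.leaf 1178))
(.node (.leaf 1159)
(.leaf 0))))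
(.node (.node (.node (.leaf 3)
(.leaf 1178))
(.node (.leaf 1178)
(.leaf 0)))
(.node (.node (.leaf 1159)
(.leaf 5342))
(.node (.leaf 1175)
(.leaf 0)))))
(.node (.node (.node (.node (.leaf 10)
(.leaf 1178))
(.node (.leaf 1163)
(.leaf 0)))
(.node (.node (.leaf 1157)
(.leaf 5320))
(.node (.leaf 1163)
(.leaf 0))))
(.node (.node (.node (.leaf 31)
(.leaf 1159))
(.node (.leaf 1178)
(.leaf 0)))
(.node (.node (.leaf 1163)
(.leaf 5446))
(.node (.leaf 1163)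
(.leaf 0))))))
(.node (.node (.node (.node (.node (.leaf 10)
(.leaf 1163))
(.node (.leaf 1163)
(.leaf 0)))
(.node (.node (.leaf 1178)
(.leaf 5320))
(.node (.leaf 1175)
(.leaf 0))))
(.node (.node (.node (.leaf 297)
(.leaf 1178))
(.node (.leaf 1175)
(.leaf 0)))
(.node (.node (.leaf 1175)
(.leaf 5320))
(.node (.leaf 1163)
(.leaf 0)))))
(.node (.node (.node (.node (.leaf 10)
(.leaf 1177))
(.node (.leaf 1177)
(.leaf 0)))
(.node (.node (.leaf 1157)
(.leaf 5313))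
(.node (.leaf 1178)
(.leaf 0))))
(.node (.node (.node (.leaf 178)
(.leaf 1159))
(.node (.leaf 1175)
(.leaf 0)))
(.node (.node (.leaf 1175)
(.leaf 5320))
(.node (.leaf 1177)
(.leaf 0))))))))))
(.node (.node (.node (.node (.node (.node (.node (.node (.node (.leaf 10)
(.leaf 1159))
(.node (.leaf 1155)
(.leaf 5342)))
(.node (.node (.leaf 3)
(.leaf 1163))
(.node (.leaf 1163)
(.leaf 0))))
(.node (.node (.node (.leaf 178)
(.leaf 1159))
(.node (.leaf 1178)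
(.leaf 0)))
(.node (.node (.leaf 1163)
(.leaf 5320))
(.node (.leaf 1159)
(.leaf 0)))))
(.node (.node (.node (.node (.leaf 10)
(.leaf 1178))
(.node (.leaf 1163)
(.leaf 0)))
(.node (.node (.leaf 1157)
(.leaf 5320))
(.node (.leaf 1159)
(.leaf 0))))
(.node (.node (.node (.leaf 31)
(.leaf 1163))
(.node (.leaf 1159)
(.leaf 0)))
(.node (.node (.leaf 1163)
(.leaf 5342))
(.node (.leaf 1175)
(.leaf 0))))))
(.node (.node (.node (.node (.node (.leaf 10)
(.leaf 1178))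
(.node (.leaf 1175)
(.leaf 5446)))
(.node (.node (.leaf 1156)
(.leaf 1178))
(.node (.leaf 1163)
(.leaf 0))))
(.node (.node (.node (.leaf 10)
(.leaf 1177))
(.node (.leaf 1175)
(.leaf 0)))
(.node (.node (.leaf 1157)
(.leaf 5342))
(.node (.leaf 1163)
(.leaf 0)))))
(.node (.node (.node (.node (.leaf 10)
(.leaf 1279))
(.node (.leaf 1279)
(.leaf 0)))
(.node (.node (.leaf 1163)
(.leaf 5320))
(.node (.leaf 1177)
(.leaf 0))))
(.node (.node (.node (.leaf 178)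
(.leaf 1163))
(.node (.leaf 1175)
(.leaf 0)))
(.node (.node (.leaf 1175)
(.leaf 5320))
(.node (.leaf 1175)
(.leaf 0)))))))
(.node (.node (.node (.node (.node (.node (.leaf 11)
(.leaf 1178))
(.node (.leaf 1163)
(.leaf 5320)))
(.node (.node (.leaf 31)
(.leaf 1175))
(.node (.leaf 1163)
(.leaf 0))))
(.node (.node (.node (.leaf 31)
(.leaf 1178))
(.node (.leaf 1159)
(.leaf 0)))
(.node (.node (.leaf 1177)
(.leaf 5320))
(.node (.leaf 1163)
(.leaf 0)))))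
(.node (.node (.node (.node (.leaf 16)
(.leaf 1163))
(.node (.leaf 1159)
(.leaf 0)))
(.node (.node (.leaf 1163)
(.leaf 5320))
(.node (.leaf 1177)
(.leaf 0))))
(.node (.node (.node (.leaf 31)
(.leaf 1163))
(.node (.leaf 1159)
(.leaf 0)))
(.node (.node (.leaf 1175)
(.leaf 5320))
(.node (.leaf 1175)
(.leaf 0))))))
(.node (.node (.node (.node (.node (.leaf 3)
(.leaf 1163))
(.node (.leaf 1163)
(.leaf 0)))
(.node (.node (.leaf 1156)
(.leaf 5315))
(.node (.leaf 1163)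
(.leaf 0))))
(.node (.node (.node (.leaf 11)
(.leaf 1279))
(.node (.leaf 1279)
(.leaf 0)))
(.node (.node (.leaf 1163)
(.leaf 5320))
(.node (.leaf 1163)
(.leaf 0)))))
(.node (.node (.node (.node (.leaf 297)
(.leaf 1178))
(.node (.leaf 1178)
(.leaf 0)))
(.node (.node (.leaf 1163)
(.leaf 5342))
(.node (.leaf 1163)
(.leaf 0))))
(.node (.node (.node (.leaf 61)
(.leaf 1178))
(.node (.leaf 1178)
(.leaf 0)))
(.node (.node (.leaf 1175)
(.leaf 5342))
(.node (.leaf 1163)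
(.leaf 0))))))))
(.node (.node (.node (.node (.node (.node (.node (.leaf 10)
(.leaf 1177))
(.node (.leaf 1175)
(.leaf 5644)))
(.node (.node (.leaf 58)
(.leaf 1178))
(.node (.leaf 1163)
(.leaf 0))))
(.node (.node (.node (.leaf 10)
(.leaf 1178))
(.node (.leaf 1159)
(.leaf 0)))
(.node (.node (.leaf 1178)
(.leaf 5320))
(.node (.leaf 1163)
(.leaf 0)))))
(.node (.node (.node (.node (.leaf 10)
(.leaf 1175))
(.node (.leaf 1178)
(.leaf 0)))
(.node (.node (.leaf 1163)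
(.leaf 5320))
(.node (.leaf 1159)
(.leaf 0))))
(.node (.node (.node (.leaf 16)
(.leaf 1163))
(.node (.leaf 1279)
(.leaf 0)))
(.node (.node (.leaf 1175)
(.leaf 5446))
(.node (.leaf 1163)
(.leaf 0))))))
(.node (.node (.node (.node (.node (.leaf 11)
(.leaf 1159))
(.node (.leaf 1163)
(.leaf 0)))
(.node (.node (.leaf 1175)
(.leaf 1159))
(.node (.leaf 1178)
(.leaf 0))))
(.node (.node (.node (.leaf 11)
(.leaf 1175))
(.node (.leaf 1159)
(.leaf 0)))
(.node (.node (.leaf 1178)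
(.leaf 5320))
(.node (.leaf 1163)
(.leaf 0)))))
(.node (.node (.node (.node (.leaf 58)
(.leaf 1178))
(.node (.leaf 1163)
(.leaf 0)))
(.node (.node (.leaf 1157)
(.leaf 5320))
(.node (.leaf 1175)
(.leaf 0))))
(.node (.node (.node (.leaf 10)
(.leaf 1159))
(.node (.leaf 1178)
(.leaf 0)))
(.node (.node (.leaf 1159)
(.leaf 5320))
(.node (.leaf 1159)
(.leaf 0)))))))
(.node (.node (.node (.node (.node (.node (.leaf 10)
(.leaf 1159))
(.node (.leaf 1156)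
(.leaf 5446)))
(.node (.node (.leaf 56)
(.leaf 1178))
(.node (.leaf 1163)
(.leaf 0))))
(.node (.node (.node (.leaf 3)
(.leaf 1178))
(.node (.leaf 1177)
(.leaf 0)))
(.node (.node (.leaf 1163)
(.leaf 5320))
(.node (.leaf 1163)
(.leaf 0)))))
(.node (.node (.node (.node (.leaf 3)
(.leaf 1178))
(.node (.leaf 1175)
(.leaf 0)))
(.node (.node (.leaf 1178)
(.leaf 5320))
(.node (.leaf 1163)
(.leaf 0))))
(.node (.node (.node (.leaf 10)
(.leaf 1163))
(.node (.leaf 1175)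
(.leaf 0)))
(.node (.node (.leaf 1157)
(.leaf 5446))
(.node (.leaf 1175)
(.leaf 0))))))
(.node (.node (.node (.node (.node (.leaf 10)
(.leaf 1178))
(.node (.leaf 1159)
(.leaf 0)))
(.node (.node (.leaf 1178)
(.leaf 5315))
(.node (.leaf 1159)
(.leaf 0))))
(.node (.node (.node (.leaf 10)
(.leaf 1178))
(.node (.leaf 1175)
(.leaf 0)))
(.node (.node (.leaf 1159)
(.leaf 5320))
(.node (.leaf 1175)
(.leaf 0)))))
(.node (.node (.node (.node (.leaf 10)
(.leaf 1163))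
(.node (.leaf 1163)
(.leaf 0)))
(.node (.node (.leaf 1163)
(.leaf 5320))
(.node (.leaf 1159)
(.leaf 0))))
(.node (.node (.node (.leaf 178)
(.leaf 1178))
(.node (.leaf 1175)
(.leaf 0)))
(.node (.node (.leaf 1178)
(.leaf 5320))
(.node (.leaf 1178)
(.leaf 0)))))))))
(.node (.node (.node (.node (.node (.node (.node (.node (.leaf 2)
(.leaf 1178))
(.node (.leaf 1163)
(.leaf 5320)))
(.node (.node (.leaf 297)
(.leaf 1163))
(.node (.leaf 1163)
(.leaf 0))))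
(.node (.node (.node (.leaf 58)
(.leaf 1178))
(.node (.leaf 1159)
(.leaf 0)))
(.node (.node (.leaf 1279)
(.leaf 5342))
(.node (.leaf 1163)
(.leaf 0)))))
(.node (.node (.node (.node (.leaf 3)
(.leaf 1159))
(.node (.leaf 1163)
(.leaf 0)))
(.node (.node (.leaf 1163)
(.leaf 5342))
(.node (.leaf 1178)
(.leaf 0))))
(.node (.node (.node (.leaf 3)
(.leaf 1175))
(.node (.leaf 1178)
(.leaf 0)))
(.node (.node (.leaf 1163)
(.leaf 5320))
(.node (.leaf 1175)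
(.leaf 0))))))
(.node (.node (.node (.node (.node (.leaf 10)
(.leaf 1178))
(.node (.leaf 1163)
(.leaf 5446)))
(.node (.node (.leaf 1178)
(.leaf 1159))
(.node (.leaf 1163)
(.leaf 0))))
(.node (.node (.node (.leaf 3)
(.leaf 1163))
(.node (.leaf 1163)
(.leaf 0)))
(.node (.node (.leaf 1178)
(.leaf 5320))
(.node (.leaf 1178)
(.leaf 0)))))
(.node (.node (.node (.node (.leaf 3)
(.leaf 1178))
(.node (.leaf 1159)
(.leaf 0)))
(.node (.node (.leaf 1163)
(.leaf 5320))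
(.node (.leaf 1178)
(.leaf 0))))
(.node (.node (.node (.leaf 31)
(.leaf 1159))
(.node (.leaf 1178)
(.leaf 0)))
(.node (.node (.leaf 1155)
(.leaf 5644))
(.node (.leaf 1178)
(.leaf 0)))))))
(.node (.node (.node (.node (.node (.node (.leaf 3)
(.leaf 1159))
(.node (.leaf 1163)
(.leaf 5446)))
(.node (.node (.leaf 178)
(.leaf 1159))
(.node (.leaf 1177)
(.leaf 0))))
(.node (.node (.node (.leaf 10)
(.leaf 1177))
(.node (.leaf 1163)
(.leaf 0)))
(.node (.node (.leaf 1156)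
(.leaf 5446))
(.node (.leaf 1163)
(.leaf 0)))))
(.node (.node (.node (.node (.leaf 178)
(.leaf 1178))
(.node (.leaf 1178)
(.leaf 0)))
(.node (.node (.leaf 1155)
(.leaf 5320))
(.node (.leaf 1163)
(.leaf 0))))
(.node (.node (.node (.leaf 31)
(.leaf 1177))
(.node (.leaf 1175)
(.leaf 0)))
(.node (.node (.leaf 1157)
(.leaf 5320))
(.node (.leaf 1175)
(.leaf 0))))))
(.node (.node (.node (.node (.node (.leaf 10)
(.leaf 1178))
(.node (.leaf 1163)
(.leaf 0)))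
(.node (.node (.leaf 1157)
(.leaf 5313))
(.node (.leaf 1163)
(.leaf 0))))
(.node (.node (.node (.leaf 16)
(.leaf 1177))
(.node (.leaf 1178)
(.leaf 0)))
(.node (.node (.leaf 1178)
(.leaf 5320))
(.node (.leaf 1177)
(.leaf 0)))))
(.node (.node (.node (.node (.leaf 10)
(.leaf 1163))
(.node (.leaf 1178)
(.leaf 0)))
(.node (.node (.leaf 1163)
(.leaf 5342))
(.node (.leaf 1178)
(.leaf 0))))
(.node (.node (.node (.leaf 16)
(.leaf 1178))
(.node (.leaf 1163)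
(.leaf 0)))
(.node (.node (.leaf 1163)
(.leaf 5446))
(.node (.leaf 1163)
(.leaf 0))))))))
(.node (.node (.node (.node (.node (.node (.node (.leaf 58)
(.leaf 1178))
(.node (.leaf 1163)
(.leaf 5320)))
(.node (.node (.leaf 178)
(.leaf 1177))
(.node (.leaf 1163)
(.leaf 0))))
(.node (.node (.node (.leaf 10)
(.leaf 1178))
(.node (.leaf 1159)
(.leaf 0)))
(.node (.node (.leaf 1159)
(.leaf 5342))
(.node (.leaf 1175)
(.leaf 0)))))
(.node (.node (.node (.node (.leaf 10)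
(.leaf 1159))
(.node (.leaf 1178)
(.leaf 0)))
(.node (.node (.leaf 1175)
(.leaf 5313))
(.node (.leaf 1159)
(.leaf 0))))
(.node (.node (.node (.leaf 58)
(.leaf 1178))
(.node (.leaf 1178)
(.leaf 0)))
(.node (.node (.leaf 1279)
(.leaf 5342))
(.node (.leaf 1163)
(.leaf 0))))))
(.node (.node (.node (.node (.node (.leaf 10)
(.leaf 1279))
(.node (.leaf 1163)
(.leaf 0)))
(.node (.node (.leaf 1178)
(.leaf 1178))
(.node (.leaf 1163)
(.leaf 0))))
(.node (.node (.node (.leaf 3)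
(.leaf 1178))
(.node (.leaf 1279)
(.leaf 0)))
(.node (.node (.leaf 1157)
(.leaf 5320))
(.node (.leaf 1175)
(.leaf 0)))))
(.node (.node (.node (.node (.leaf 10)
(.leaf 1163))
(.node (.leaf 1279)
(.leaf 0)))
(.node (.node (.leaf 1156)
(.leaf 5320))
(.node (.leaf 1163)
(.leaf 0))))
(.node (.node (.node (.leaf 178)
(.leaf 1163))
(.node (.leaf 1279)
(.leaf 0)))
(.node (.node (.leaf 1159)
(.leaf 5342))
(.node (.leaf 1175)
(.leaf 0)))))))
(.node (.node (.node (.node (.node (.node (.leaf 31)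
(.leaf 1159))
(.node (.leaf 1157)
(.leaf 5342)))
(.node (.node (.leaf 178)
(.leaf 1178))
(.node (.leaf 1175)
(.leaf 0))))
(.node (.node (.node (.leaf 297)
(.leaf 1178))
(.node (.leaf 1175)
(.leaf 0)))
(.node (.node (.leaf 1159)
(.leaf 5446))
(.node (.leaf 1163)
(.leaf 0)))))
(.node (.node (.node (.node (.leaf 10)
(.leaf 1178))
(.node (.leaf 1163)
(.leaf 0)))
(.node (.node (.leaf 1178)
(.leaf 5320))
(.node (.leaf 1159)
(.leaf 0))))
(.node (.node (.node (.leaf 10)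
(.leaf 1163))
(.node (.leaf 1163)
(.leaf 0)))
(.node (.node (.leaf 1159)
(.leaf 5320))
(.node (.leaf 1163)
(.leaf 0))))))
(.node (.node (.node (.node (.node (.leaf 3)
(.leaf 1178))
(.node (.leaf 1163)
(.leaf 0)))
(.node (.node (.leaf 1157)
(.leaf 5315))
(.node (.leaf 1159)
(.leaf 0))))
(.node (.node (.node (.leaf 3)
(.leaf 1178))
(.node (.leaf 1177)
(.leaf 0)))
(.node (.node (.leaf 1175)
(.leaf 5320))
(.node (.leaf 1175)
(.leaf 0)))))
(.node (.node (.node (.node (.leaf 10)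
(.leaf 1178))
(.node (.leaf 1177)
(.leaf 0)))
(.node (.node (.leaf 1178)
(.leaf 5342))
(.node (.leaf 1177)
(.leaf 0))))
(.node (.node (.node (.leaf 31)
(.leaf 1178))
(.node (.leaf 1175)
(.leaf 0)))
(.node (.node (.leaf 1163)
(.leaf 5342))
(.node (.leaf 1178)
(.leaf 0)))))))))))
(.node (.node (.node (.node (.node (.node (.node (.node (.node (.node (.leaf 1)
(.leaf 1178))
(.node (.leaf 1175)
(.leaf 5446)))
(.node (.node (.leaf 3)
(.leaf 1163))
(.node (.leaf 1175)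
(.leaf 0))))
(.node (.node (.node (.leaf 10)
(.leaf 1178))
(.node (.leaf 1159)
(.leaf 0)))
(.node (.node (.leaf 1159)
(.leaf 5320))
(.node (.leaf 1177)
(.leaf 0)))))
(.node (.node (.node (.node (.leaf 3)
(.leaf 1159))
(.node (.leaf 1159)
(.leaf 0)))
(.node (.node (.leaf 1157)
(.leaf 5313))
(.node (.leaf 1175)
(.leaf 0))))
(.node (.node (.node (.leaf 10)
(.leaf 1175))
(.node (.leaf 1178)
(.leaf 0)))
(.node (.node (.leaf 1163)
(.leaf 5320))
(.node (.leaf 1175)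
(.leaf 0))))))
(.node (.node (.node (.node (.node (.leaf 10)
(.leaf 1159))
(.node (.leaf 1178)
(.leaf 5446)))
(.node (.node (.leaf 1157)
(.leaf 1177))
(.node (.leaf 1163)
(.leaf 0))))
(.node (.node (.node (.leaf 297)
(.leaf 1177))
(.node (.leaf 1175)
(.leaf 0)))
(.node (.node (.leaf 1156)
(.leaf 5320))
(.node (.leaf 1175)
(.leaf 0)))))
(.node (.node (.node (.node (.leaf 3)
(.leaf 1159))
(.node (.leaf 1178)
(.leaf 0)))
(.node (.node (.leaf 1175)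
(.leaf 5313))
(.node (.leaf 1159)
(.leaf 0))))
(.node (.node (.node (.leaf 178)
(.leaf 1175))
(.node (.leaf 1163)
(.leaf 0)))
(.node (.node (.leaf 1178)
(.leaf 5342))
(.node (.leaf 1163)
(.leaf 0)))))))
(.node (.node (.node (.node (.node (.node (.leaf 10)
(.leaf 1163))
(.node (.leaf 1163)
(.leaf 5320)))
(.node (.node (.leaf 10)
(.leaf 1178))
(.node (.leaf 1175)
(.leaf 0))))
(.node (.node (.node (.leaf 3)
(.leaf 1163))
(.node (.leaf 1177)
(.leaf 0)))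
(.node (.node (.leaf 1177)
(.leaf 5320))
(.node (.leaf 1175)
(.leaf 0)))))
(.node (.node (.node (.node (.leaf 10)
(.leaf 1159))
(.node (.leaf 1159)
(.leaf 0)))
(.node (.node (.leaf 1156)
(.leaf 5446))
(.node (.leaf 1178)
(.leaf 0))))
(.node (.node (.node (.leaf 178)
(.leaf 1159))
(.node (.leaf 1159)
(.leaf 0)))
(.node (.node (.leaf 1175)
(.leaf 5320))
(.node (.leaf 1163)
(.leaf 0))))))
(.node (.node (.node (.node (.node (.leaf 10)
(.leaf 1163))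
(.node (.leaf 1163)
(.leaf 0)))
(.node (.node (.leaf 1163)
(.leaf 5313))
(.node (.leaf 1175)
(.leaf 0))))
(.node (.node (.node (.leaf 3)
(.leaf 1178))
(.node (.leaf 1178)
(.leaf 0)))
(.node (.node (.leaf 1163)
(.leaf 5320))
(.node (.leaf 1279)
(.leaf 0)))))
(.node (.node (.node (.node (.leaf 10)
(.leaf 1178))
(.node (.leaf 1159)
(.leaf 0)))
(.node (.node (.leaf 1185)
(.leaf 5320))
(.node (.leaf 1175)
(.leaf 0))))
(.node (.node (.node (.leaf 16)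
(.leaf 1177))
(.node (.leaf 1159)
(.leaf 0)))
(.node (.node (.leaf 1163)
(.leaf 5644))
(.node (.leaf 1163)
(.leaf 0))))))))
(.node (.node (.node (.node (.node (.node (.node (.leaf 11)
(.leaf 1159))
(.node (.leaf 1163)
(.leaf 5320)))
(.node (.node (.leaf 178)
(.leaf 1159))
(.node (.leaf 1163)
(.leaf 0))))
(.node (.node (.node (.leaf 56)
(.leaf 1178))
(.node (.leaf 1178)
(.leaf 0)))
(.node (.node (.leaf 1163)
(.leaf 5446))
(.node (.leaf 1163)
(.leaf 0)))))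
(.node (.node (.node (.node (.leaf 11)
(.leaf 1159))
(.node (.leaf 1279)
(.leaf 0)))
(.node (.node (.leaf 1178)
(.leaf 5320))
(.node (.leaf 1177)
(.leaf 0))))
(.node (.node (.node (.leaf 178)
(.leaf 1163))
(.node (.leaf 1159)
(.leaf 0)))
(.node (.node (.leaf 1175)
(.leaf 5320))
(.node (.leaf 1163)
(.leaf 0))))))
(.node (.node (.node (.node (.node (.leaf 10)
(.leaf 1178))
(.node (.leaf 1175)
(.leaf 0)))
(.node (.node (.leaf 1156)
(.leaf 1178))
(.node (.leaf 1159)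
(.leaf 0))))
(.node (.node (.node (.leaf 10)
(.leaf 1163))
(.node (.leaf 1178)
(.leaf 0)))
(.node (.node (.leaf 1279)
(.leaf 5342))
(.node (.leaf 1163)
(.leaf 0)))))
(.node (.node (.node (.node (.leaf 10)
(.leaf 1178))
(.node (.leaf 1178)
(.leaf 0)))
(.node (.node (.leaf 1157)
(.leaf 5342))
(.node (.leaf 1178)
(.leaf 0))))
(.node (.node (.node (.leaf 178)
(.leaf 1178))
(.node (.leaf 1163)
(.leaf 0)))
(.node (.node (.leaf 1178)
(.leaf 5320))
(.node (.leaf 1178)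
(.leaf 0)))))))
(.node (.node (.node (.node (.node (.node (.leaf 10)
(.leaf 1178))
(.node (.leaf 1163)
(.leaf 5320)))
(.node (.node (.leaf 58)
(.leaf 1178))
(.node (.leaf 1163)
(.leaf 0))))
(.node (.node (.node (.leaf 10)
(.leaf 1178))
(.node (.leaf 1178)
(.leaf 0)))
(.node (.node (.leaf 1157)
(.leaf 5446))
(.node (.leaf 1163)
(.leaf 0)))))
(.node (.node (.node (.node (.leaf 10)
(.leaf 1177))
(.node (.leaf 1159)
(.leaf 0)))
(.node (.node (.leaf 1159)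
(.leaf 5315))
(.node (.leaf 1156)
(.leaf 0))))
(.node (.node (.node (.leaf 178)
(.leaf 1163))
(.node (.leaf 1175)
(.leaf 0)))
(.node (.node (.leaf 1178)
(.leaf 5320))
(.node (.leaf 1163)
(.leaf 0))))))
(.node (.node (.node (.node (.node (.leaf 16)
(.leaf 1178))
(.node (.leaf 1175)
(.leaf 0)))
(.node (.node (.leaf 1177)
(.leaf 5313))
(.node (.leaf 1175)
(.leaf 0))))
(.node (.node (.node (.leaf 10)
(.leaf 1279))
(.node (.leaf 1177)
(.leaf 0)))
(.node (.node (.leaf 1178)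
(.leaf 5320))
(.node (.leaf 1178)
(.leaf 0)))))
(.node (.node (.node (.node (.leaf 58)
(.leaf 1178))
(.node (.leaf 1163)
(.leaf 0)))
(.node (.node (.leaf 1163)
(.leaf 5342))
(.node (.leaf 1163)
(.leaf 0))))
(.node (.node (.node (.leaf 16)
(.leaf 1177))
(.node (.leaf 1175)
(.leaf 0)))
(.node (.node (.leaf 1279)
(.leaf 5320))
(.node (.leaf 1177)
(.leaf 0)))))))))
(.node (.node (.node (.node (.node (.node (.node (.node (.leaf 11)
(.leaf 1159))
(.node (.leaf 1163)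
(.leaf 5320)))
(.node (.node (.leaf 178)
(.leaf 1175))
(.node (.leaf 1163)
(.leaf 0))))
(.node (.node (.node (.leaf 16)
(.leaf 1159))
(.node (.leaf 1178)
(.leaf 0)))
(.node (.node (.leaf 1159)
(.leaf 5320))
(.node (.leaf 1163)
(.leaf 0)))))
(.node (.node (.node (.node (.leaf 11)
(.leaf 1159))
(.node (.leaf 1163)
(.leaf 0)))
(.node (.node (.leaf 1157)
(.leaf 5335))
(.node (.leaf 1159)
(.leaf 0))))
(.node (.node (.node (.leaf 16)
(.leaf 1163))
(.node (.leaf 1178)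
(.leaf 0)))
(.node (.node (.leaf 1163)
(.leaf 5320))
(.node (.leaf 1177)
(.leaf 0))))))
(.node (.node (.node (.node (.node (.leaf 10)
(.leaf 1178))
(.node (.leaf 1157)
(.leaf 5644)))
(.node (.node (.leaf 1157)
(.leaf 1159))
(.node (.leaf 1175)
(.leaf 0))))
(.node (.node (.node (.leaf 10)
(.leaf 1159))
(.node (.leaf 1163)
(.leaf 0)))
(.node (.node (.leaf 1185)
(.leaf 5320))
(.node (.leaf 1175)
(.leaf 0)))))
(.node (.node (.node (.node (.leaf 10)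
(.leaf 1178))
(.node (.leaf 1159)
(.leaf 0)))
(.node (.node (.leaf 1163)
(.leaf 5315))
(.node (.leaf 1279)
(.leaf 0))))
(.node (.node (.node (.leaf 10)
(.leaf 1177))
(.node (.leaf 1163)
(.leaf 0)))
(.node (.node (.leaf 1178)
(.leaf 5446))
(.node (.leaf 1175)
(.leaf 0)))))))
(.node (.node (.node (.node (.node (.node (.leaf 10)
(.leaf 1163))
(.node (.leaf 1163)
(.leaf 5320)))
(.node (.node (.leaf 178)
(.leaf 1159))
(.node (.leaf 1163)
(.leaf 0))))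
(.node (.node (.node (.leaf 10)
(.leaf 1159))
(.node (.leaf 1178)
(.leaf 0)))
(.node (.node (.leaf 1178)
(.leaf 5320))
(.node (.leaf 1175)
(.leaf 0)))))
(.node (.node (.node (.node (.leaf 10)
(.leaf 1178))
(.node (.leaf 1159)
(.leaf 0)))
(.node (.node (.leaf 1178)
(.leaf 5320))
(.node (.leaf 1178)
(.leaf 0))))
(.node (.node (.node (.leaf 10)
(.leaf 1163))
(.node (.leaf 1163)
(.leaf 0)))
(.node (.node (.leaf 1157)
(.leaf 5342))
(.node (.leaf 1163)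
(.leaf 0))))))
(.node (.node (.node (.node (.node (.leaf 58)
(.leaf 1178))
(.node (.leaf 1175)
(.leaf 0)))
(.node (.node (.leaf 1156)
(.leaf 5320))
(.node (.leaf 1163)
(.leaf 0))))
(.node (.node (.node (.leaf 10)
(.leaf 1178))
(.node (.leaf 1159)
(.leaf 0)))
(.node (.node (.leaf 1163)
(.leaf 5320))
(.node (.leaf 1159)
(.leaf 0)))))
(.node (.node (.node (.node (.leaf 178)
(.leaf 1175))
(.node (.leaf 1178)
(.leaf 0)))
(.node (.node (.leaf 1157)
(.leaf 5320))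
(.node (.leaf 1175)
(.leaf 0))))
(.node (.node (.node (.leaf 16)
(.leaf 1178))
(.node (.leaf 1177)
(.leaf 0)))
(.node (.node (.leaf 1159)
(.leaf 5342))
(.node (.leaf 1175)
(.leaf 0))))))))
(.node (.node (.node (.node (.node (.node (.node (.leaf 10)
(.leaf 1159))
(.node (.leaf 1163)
(.leaf 5446)))
(.node (.node (.leaf 3)
(.leaf 1175))
(.node (.leaf 1163)
(.leaf 0))))
(.node (.node (.node (.leaf 61)
(.leaf 1279))
(.node (.leaf 1178)
(.leaf 0)))
(.node (.node (.leaf 1177)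
(.leaf 5320))
(.node (.leaf 1163)
(.leaf 0)))))
(.node (.node (.node (.node (.leaf 3)
(.leaf 1178))
(.node (.leaf 1178)
(.leaf 0)))
(.node (.node (.leaf 1163)
(.leaf 5320))
(.node (.leaf 1178)
(.leaf 0))))
(.node (.node (.node (.leaf 16)
(.leaf 1163))
(.node (.leaf 1178)
(.leaf 0)))
(.node (.node (.leaf 1163)
(.leaf 5320))
(.node (.leaf 1163)
(.leaf 0))))))
(.node (.node (.node (.node (.node (.leaf 3)
(.leaf 1178))
(.node (.leaf 1163)
(.leaf 0)))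
(.node (.node (.leaf 1157)
(.leaf 1159))
(.node (.leaf 1178)
(.leaf 0))))
(.node (.node (.node (.leaf 178)
(.leaf 1163))
(.node (.leaf 1178)
(.leaf 0)))
(.node (.node (.leaf 1157)
(.leaf 5342))
(.node (.leaf 1163)
(.leaf 0)))))
(.node (.node (.node (.node (.leaf 11)
(.leaf 1159))
(.node (.leaf 1178)
(.leaf 0)))
(.node (.node (.leaf 1156)
(.leaf 5320))
(.node (.leaf 1163)
(.leaf 0))))
(.node (.node (.node (.leaf 16)
(.leaf 1159))
(.node (.leaf 1178)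
(.leaf 0)))
(.node (.node (.leaf 1178)
(.leaf 5320))
(.node (.leaf 1177)
(.leaf 0)))))))
(.node (.node (.node (.node (.node (.node (.leaf 10)
(.leaf 1159))
(.node (.leaf 1163)
(.leaf 5446)))
(.node (.node (.leaf 178)
(.leaf 1279))
(.node (.leaf 1178)
(.leaf 0))))
(.node (.node (.node (.leaf 178)
(.leaf 1279))
(.node (.leaf 1156)
(.leaf 0)))
(.node (.node (.leaf 1178)
(.leaf 5342))
(.node (.leaf 1175)
(.leaf 0)))))
(.node (.node (.node (.node (.leaf 10)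
(.leaf 1159))
(.node (.leaf 1163)
(.leaf 0)))
(.node (.node (.leaf 1163)
(.leaf 5320))
(.node (.leaf 1159)
(.leaf 0))))
(.node (.node (.node (.leaf 3)
(.leaf 1159))
(.node (.leaf 1163)
(.leaf 0)))
(.node (.node (.leaf 1159)
(.leaf 5446))
(.node (.leaf 1175)
(.leaf 0))))))
(.node (.node (.node (.node (.node (.leaf 3)
(.leaf 1163))
(.node (.leaf 1175)
(.leaf 0)))
(.node (.node (.leaf 1178)
(.leaf 5313))
(.node (.leaf 1159)
(.leaf 0))))
(.node (.node (.node (.leaf 178)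
(.leaf 1178))
(.node (.leaf 1163)
(.leaf 0)))
(.node (.node (.leaf 1163)
(.leaf 5320))
(.node (.leaf 1163)
(.leaf 0)))))
(.node (.node (.node (.node (.leaf 16)
(.leaf 1178))
(.node (.leaf 1178)
(.leaf 0)))
(.node (.node (.leaf 1159)
(.leaf 5320))
(.node (.leaf 1177)
(.leaf 0))))
(.node (.node (.node (.leaf 297)
(.leaf 1177))
(.node (.leaf 1163)
(.leaf 0)))
(.node (.node (.leaf 1163)
(.leaf 5446))
(.node (.leaf 1178)
(.leaf 0))))))))))
(.node (.node (.node (.node (.node (.node (.node (.node (.node (.leaf 3)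
(.leaf 1178))
(.node (.leaf 1163)
(.leaf 5446)))
(.node (.node (.leaf 10)
(.leaf 1159))
(.node (.leaf 1163)
(.leaf 0))))
(.node (.node (.node (.leaf 16)
(.leaf 1178))
(.node (.leaf 1178)
(.leaf 0)))
(.node (.node (.leaf 1159)
(.leaf 5446))
(.node (.leaf 1178)
(.leaf 0)))))
(.node (.node (.node (.node (.leaf 3)
(.leaf 1159))
(.node (.leaf 1175)
(.leaf 0)))
(.node (.node (.leaf 1178)
(.leaf 5342))
(.node (.leaf 1178)
(.leaf 0))))
(.node (.node (.node (.leaf 178)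
(.leaf 1178))
(.node (.leaf 1159)
(.leaf 0)))
(.node (.node (.leaf 1175)
(.leaf 5320))
(.node (.leaf 1159)
(.leaf 0))))))
(.node (.node (.node (.node (.node (.leaf 3)
(.leaf 1178))
(.node (.leaf 1175)
(.leaf 5644)))
(.node (.node (.leaf 1157)
(.leaf 1279))
(.node (.leaf 1163)
(.leaf 0))))
(.node (.node (.node (.leaf 31)
(.leaf 1159))
(.node (.leaf 1163)
(.leaf 0)))
(.node (.node (.leaf 1159)
(.leaf 5320))
(.node (.leaf 1163)
(.leaf 0)))))
(.node (.node (.node (.node (.leaf 11)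
(.leaf 1178))
(.node (.leaf 1178)
(.leaf 0)))
(.node (.node (.leaf 1163)
(.leaf 5320))
(.node (.leaf 1159)
(.leaf 0))))
(.node (.node (.node (.leaf 178)
(.leaf 1279))
(.node (.leaf 1163)
(.leaf 0)))
(.node (.node (.leaf 1178)
(.leaf 5342))
(.node (.leaf 1175)
(.leaf 0)))))))
(.node (.node (.node (.node (.node (.node (.leaf 10)
(.leaf 1163))
(.node (.leaf 1279)
(.leaf 5320)))
(.node (.node (.leaf 11)
(.leaf 1175))
(.node (.leaf 1159)
(.leaf 0))))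
(.node (.node (.node (.leaf 10)
(.leaf 1175))
(.node (.leaf 1178)
(.leaf 0)))
(.node (.node (.leaf 1178)
(.leaf 5320))
(.node (.leaf 1175)
(.leaf 0)))))
(.node (.node (.node (.node (.leaf 3)
(.leaf 1178))
(.node (.leaf 1163)
(.leaf 0)))
(.node (.node (.leaf 1156)
(.leaf 5313))
(.node (.leaf 1178)
(.leaf 0))))
(.node (.node (.node (.leaf 178)
(.leaf 1163))
(.node (.leaf 1159)
(.leaf 0)))
(.node (.node (.leaf 1163)
(.leaf 5446))
(.node (.leaf 1175)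
(.leaf 0))))))
(.node (.node (.node (.node (.node (.leaf 16)
(.leaf 1178))
(.node (.leaf 1163)
(.leaf 0)))
(.node (.node (.leaf 1157)
(.leaf 5315))
(.node (.leaf 1163)
(.leaf 0))))
(.node (.node (.node (.leaf 31)
(.leaf 1177))
(.node (.leaf 1178)
(.leaf 0)))
(.node (.node (.leaf 1175)
(.leaf 5320))
(.node (.leaf 1178)
(.leaf 0)))))
(.node (.node (.node (.node (.leaf 178)
(.leaf 1178))
(.node (.leaf 1163)
(.leaf 0)))
(.node (.node (.leaf 1185)
(.leaf 5320))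
(.node (.leaf 1163)
(.leaf 0))))
(.node (.node (.node (.leaf 297)
(.leaf 1178))
(.node (.leaf 1178)
(.leaf 0)))
(.node (.node (.leaf 1157)
(.leaf 5320))
(.node (.leaf 1163)
(.leaf 0))))))))
(.node (.node (.node (.node (.node (.node (.node (.leaf 10)
(.leaf 1178))
(.node (.leaf 1163)
(.leaf 5320)))
(.node (.node (.leaf 10)
(.leaf 1178))
(.node (.leaf 1163)
(.leaf 0))))
(.node (.node (.node (.leaf 16)
(.leaf 1178))
(.node (.leaf 1178)
(.leaf 0)))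
(.node (.node (.leaf 1177)
(.leaf 5320))
(.node (.leaf 1163)
(.leaf 0)))))
(.node (.node (.node (.node (.leaf 10)
(.leaf 1178))
(.node (.leaf 1177)
(.leaf 0)))
(.node (.node (.leaf 1163)
(.leaf 5320))
(.node (.leaf 1177)
(.leaf 0))))
(.node (.node (.node (.leaf 16)
(.leaf 1175))
(.node (.leaf 1178)
(.leaf 0)))
(.node (.node (.leaf 1163)
(.leaf 5320))
(.node (.leaf 1159)
(.leaf 0))))))
(.node (.node (.node (.node (.node (.leaf 3)
(.leaf 1178))
(.node (.leaf 1163)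
(.leaf 0)))
(.node (.node (.leaf 1163)
(.leaf 1177))
(.node (.leaf 1163)
(.leaf 0))))
(.node (.node (.node (.leaf 297)
(.leaf 1175))
(.node (.leaf 1178)
(.leaf 0)))
(.node (.node (.leaf 1177)
(.leaf 5320))
(.node (.leaf 1177)
(.leaf 0)))))
(.node (.node (.node (.node (.leaf 10)
(.leaf 1159))
(.node (.leaf 1178)
(.leaf 0)))
(.node (.node (.leaf 1156)
(.leaf 5320))
(.node (.leaf 1163)
(.leaf 0))))
(.node (.node (.node (.leaf 31)
(.leaf 1279))
(.node (.leaf 1279)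
(.leaf 0)))
(.node (.node (.leaf 1178)
(.leaf 5320))
(.node (.leaf 1159)
(.leaf 0)))))))
(.node (.node (.node (.node (.node (.node (.leaf 31)
(.leaf 1178))
(.node (.leaf 1159)
(.leaf 5446)))
(.node (.node (.leaf 178)
(.leaf 1178))
(.node (.leaf 1163)
(.leaf 0))))
(.node (.node (.node (.leaf 3)
(.leaf 1159))
(.node (.leaf 1178)
(.leaf 0)))
(.node (.node (.leaf 1178)
(.leaf 5320))
(.node (.leaf 1163)
(.leaf 0)))))
(.node (.node (.node (.node (.leaf 3)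
(.leaf 1178))
(.node (.leaf 1279)
(.leaf 0)))
(.node (.node (.leaf 1157)
(.leaf 5320))
(.node (.leaf 1178)
(.leaf 0))))
(.node (.node (.node (.leaf 10)
(.leaf 1163))
(.node (.leaf 1163)
(.leaf 0)))
(.node (.node (.leaf 1157)
(.leaf 5446))
(.node (.leaf 1163)
(.leaf 0))))))
(.node (.node (.node (.node (.node (.leaf 10)
(.leaf 1163))
(.node (.leaf 1163)
(.leaf 0)))
(.node (.node (.leaf 1178)
(.leaf 5320))
(.node (.leaf 1163)
(.leaf 0))))
(.node (.node (.node (.leaf 10)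
(.leaf 1178))
(.node (.leaf 1177)
(.leaf 0)))
(.node (.node (.leaf 1163)
(.leaf 5342))
(.node (.leaf 1163)
(.leaf 0)))))
(.node (.node (.node (.node (.leaf 3)
(.leaf 1178))
(.node (.leaf 1178)
(.leaf 0)))
(.node (.node (.leaf 1157)
(.leaf 5313))
(.node (.leaf 1178)
(.leaf 0))))
(.node (.node (.node (.leaf 16)
(.leaf 1178))
(.node (.leaf 1175)
(.leaf 0)))
(.node (.node (.leaf 1185)
(.leaf 5644))
(.node (.leaf 1178)
(.leaf 0)))))))))
(.node (.node (.node (.node (.node (.node (.node (.node (.leaf 10)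
(.leaf 1175))
(.node (.leaf 1163)
(.leaf 5320)))
(.node (.node (.leaf 178)
(.leaf 1163))
(.node (.leaf 1163)
(.leaf 0))))
(.node (.node (.node (.leaf 56)
(.leaf 1175))
(.node (.leaf 1178)
(.leaf 0)))
(.node (.node (.leaf 1157)
(.leaf 5320))
(.node (.leaf 1175)
(.leaf 0)))))
(.node (.node (.node (.node (.leaf 11)
(.leaf 1178))
(.node (.leaf 1175)
(.leaf 0)))
(.node (.node (.leaf 1163)
(.leaf 5320))
(.node (.leaf 1178)
(.leaf 0))))
(.node (.node (.node (.leaf 10)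
(.leaf 1163))
(.node (.leaf 1178)
(.leaf 0)))
(.node (.node (.leaf 1178)
(.leaf 5342))
(.node (.leaf 1178)
(.leaf 0))))))
(.node (.node (.node (.node (.node (.leaf 10)
(.leaf 1178))
(.node (.leaf 1177)
(.leaf 5446)))
(.node (.node (.leaf 1157)
(.leaf 1279))
(.node (.leaf 1163)
(.leaf 0))))
(.node (.node (.node (.leaf 10)
(.leaf 1163))
(.node (.leaf 1163)
(.leaf 0)))
(.node (.node (.leaf 1178)
(.leaf 5320))
(.node (.leaf 1163)
(.leaf 0)))))
(.node (.node (.node (.node (.leaf 11)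
(.leaf 1178))
(.node (.leaf 1178)
(.leaf 0)))
(.node (.node (.leaf 1163)
(.leaf 5320))
(.node (.leaf 1159)
(.leaf 0))))
(.node (.node (.node (.leaf 61)
(.leaf 1178))
(.node (.leaf 1177)
(.leaf 0)))
(.node (.node (.leaf 1159)
(.leaf 5320))
(.node (.leaf 1177)
(.leaf 0)))))))
(.node (.node (.node (.node (.node (.node (.leaf 3)
(.leaf 1279))
(.node (.leaf 1163)
(.leaf 5320)))
(.node (.node (.leaf 178)
(.leaf 1159))
(.node (.leaf 1175)
(.leaf 0))))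
(.node (.node (.node (.leaf 3)
(.leaf 1178))
(.node (.leaf 1178)
(.leaf 0)))
(.node (.node (.leaf 1185)
(.leaf 5320))
(.node (.leaf 1163)
(.leaf 0)))))
(.node (.node (.node (.node (.leaf 3)
(.leaf 1163))
(.node (.leaf 1178)
(.leaf 0)))
(.node (.node (.leaf 1157)
(.leaf 5320))
(.node (.leaf 1159)
(.leaf 0))))
(.node (.node (.node (.leaf 178)
(.leaf 1163))
(.node (.leaf 1177)
(.leaf 0)))
(.node (.node (.leaf 1163)
(.leaf 5342))
(.node (.leaf 1163)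
(.leaf 0))))))
(.node (.node (.node (.node (.node (.leaf 58)
(.leaf 1159))
(.node (.leaf 1175)
(.leaf 0)))
(.node (.node (.leaf 1175)
(.leaf 5342))
(.node (.leaf 1163)
(.leaf 0))))
(.node (.node (.node (.leaf 178)
(.leaf 1178))
(.node (.leaf 1178)
(.leaf 0)))
(.node (.node (.leaf 1279)
(.leaf 5320))
(.node (.leaf 1163)
(.leaf 0)))))
(.node (.node (.node (.node (.leaf 11)
(.leaf 1163))
(.node (.leaf 1163)
(.leaf 0)))
(.node (.node (.leaf 1163)
(.leaf 5320))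
(.node (.leaf 1178)
(.leaf 0))))
(.node (.node (.node (.leaf 61)
(.leaf 1159))
(.node (.leaf 1163)
(.leaf 0)))
(.node (.node (.leaf 1178)
(.leaf 5446))
(.node (.leaf 1163)
(.leaf 0))))))))
(.node (.node (.node (.node (.node (.node (.node (.leaf 58)
(.leaf 1177))
(.node (.leaf 1163)
(.leaf 5446)))
(.node (.node (.leaf 297)
(.leaf 1175))
(.node (.leaf 1163)
(.leaf 0))))
(.node (.node (.node (.leaf 178)
(.leaf 1177))
(.node (.leaf 1279)
(.leaf 0)))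
(.node (.node (.leaf 1159)
(.leaf 5446))
(.node (.leaf 1175)
(.leaf 0)))))
(.node (.node (.node (.node (.leaf 3)
(.leaf 1178))
(.node (.leaf 1178)
(.leaf 0)))
(.node (.node (.leaf 1175)
(.leaf 5320))
(.node (.leaf 1279)
(.leaf 0))))
(.node (.node (.node (.leaf 16)
(.leaf 1178))
(.node (.leaf 1178)
(.leaf 0)))
(.node (.node (.leaf 1163)
(.leaf 5320))
(.node (.leaf 1175)
(.leaf 0))))))
(.node (.node (.node (.node (.node (.leaf 16)
(.leaf 1178))
(.node (.leaf 1163)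
(.leaf 0)))
(.node (.node (.leaf 1155)
(.leaf 1178))
(.node (.leaf 1178)
(.leaf 0))))
(.node (.node (.node (.leaf 10)
(.leaf 1178))
(.node (.leaf 1163)
(.leaf 0)))
(.node (.node (.leaf 1156)
(.leaf 5320))
(.node (.leaf 1163)
(.leaf 0)))))
(.node (.node (.node (.node (.leaf 178)
(.leaf 1163))
(.node (.leaf 1178)
(.leaf 0)))
(.node (.node (.leaf 1163)
(.leaf 5342))
(.node (.leaf 1175)
(.leaf 0))))
(.node (.node (.node (.leaf 178)
(.leaf 1178))
(.node (.leaf 1178)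
(.leaf 0)))
(.node (.node (.leaf 1156)
(.leaf 5320))
(.node (.leaf 1159)
(.leaf 0)))))))
(.node (.node (.node (.node (.node (.node (.leaf 3)
(.leaf 1177))
(.node (.leaf 1163)
(.leaf 5446)))
(.node (.node (.leaf 61)
(.leaf 1178))
(.node (.leaf 1175)
(.leaf 0))))
(.node (.node (.node (.leaf 3)
(.leaf 1178))
(.node (.leaf 1175)
(.leaf 0)))
(.node (.node (.leaf 1178)
(.leaf 5320))
(.node (.leaf 1163)
(.leaf 0)))))
(.node (.node (.node (.node (.leaf 3)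
(.leaf 1178))
(.node (.leaf 1163)
(.leaf 0)))
(.node (.node (.leaf 1178)
(.leaf 5320))
(.node (.leaf 1178)
(.leaf 0))))
(.node (.node (.node (.leaf 178)
(.leaf 1163))
(.node (.leaf 1163)
(.leaf 0)))
(.node (.node (.leaf 1178)
(.leaf 5320))
(.node (.leaf 1163)
(.leaf 0))))))
(.node (.node (.node (.node (.node (.leaf 10)
(.leaf 1178))
(.node (.leaf 1163)
(.leaf 0)))
(.node (.node (.leaf 1163)
(.leaf 5320))
(.node (.leaf 1175)
(.leaf 0))))
(.node (.node (.node (.leaf 3)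
(.leaf 1163))
(.node (.leaf 1163)
(.leaf 0)))
(.node (.node (.leaf 1175)
(.leaf 5342))
(.node (.leaf 1178)
(.leaf 0)))))
(.node (.node (.node (.node (.leaf 10)
(.leaf 1279))
(.node (.leaf 1159)
(.leaf 0)))
(.node (.node (.leaf 1159)
(.leaf 5320))
(.node (.leaf 1159)
(.leaf 0))))
(.node (.node (.node (.leaf 10)
(.leaf 1178))
(.node (.leaf 1163)
(.leaf 0)))
(.node (.node (.leaf 1163)
(.leaf 5320))
(.node (.leaf 1159)
(.leaf 0)))))))))))))
(.node (.node (.node (.node (.node (.node (.node (.node (.node (.node (.node (.node (.leaf 1)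
(.leaf 1178))
(.node (.leaf 1175)
(.leaf 5320)))
(.node (.node (.leaf 10)
(.leaf 1178))
(.node (.leaf 1163)
(.leaf 0))))
(.node (.node (.node (.leaf 10)
(.leaf 1178))
(.node (.leaf 1178)
(.leaf 0)))
(.node (.node (.leaf 1159)
(.leaf 5320))
(.node (.leaf 1178)
(.leaf 0)))))
(.node (.node (.node (.node (.leaf 10)
(.leaf 1178))
(.node (.leaf 1177)
(.leaf 0)))
(.node (.node (.leaf 1159)
(.leaf 5342))
(.node (.leaf 1163)
(.leaf 0))))
(.node (.node (.node (.leaf 10)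
(.leaf 1163))
(.node (.leaf 1163)
(.leaf 0)))
(.node (.node (.leaf 1163)
(.leaf 5320))
(.node (.leaf 1175)
(.leaf 0))))))
(.node (.node (.node (.node (.node (.leaf 3)
(.leaf 1159))
(.node (.leaf 1178)
(.leaf 5446)))
(.node (.node (.leaf 297)
(.leaf 1178))
(.node (.leaf 1163)
(.leaf 0))))
(.node (.node (.node (.leaf 10)
(.leaf 1163))
(.node (.leaf 1178)
(.leaf 0)))
(.node (.node (.leaf 1178)
(.leaf 5320))
(.node (.leaf 1175)
(.leaf 0)))))
(.node (.node (.node (.node (.leaf 16)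
(.leaf 1178))
(.node (.leaf 1178)
(.leaf 0)))
(.node (.node (.leaf 1156)
(.leaf 5335))
(.node (.leaf 1178)
(.leaf 0))))
(.node (.node (.node (.leaf 11)
(.leaf 1178))
(.node (.leaf 1163)
(.leaf 0)))
(.node (.node (.leaf 1279)
(.leaf 5342))
(.node (.leaf 1175)
(.leaf 0)))))))
(.node (.node (.node (.node (.node (.node (.leaf 10)
(.leaf 1175))
(.node (.leaf 1163)
(.leaf 5320)))
(.node (.node (.leaf 178)
(.leaf 1159))
(.node (.leaf 1163)
(.leaf 0))))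
(.node (.node (.node (.leaf 10)
(.leaf 1279))
(.node (.leaf 1177)
(.leaf 0)))
(.node (.node (.leaf 1163)
(.leaf 5320))
(.node (.leaf 1175)
(.leaf 0)))))
(.node (.node (.node (.node (.leaf 10)
(.leaf 1175))
(.node (.leaf 1178)
(.leaf 0)))
(.node (.node (.leaf 1155)
(.leaf 5315))
(.node (.leaf 1178)
(.leaf 0))))
(.node (.node (.node (.leaf 11)
(.leaf 1175))
(.node (.leaf 1178)
(.leaf 0)))
(.node (.node (.leaf 1163)
(.leaf 5342))
(.node (.leaf 1163)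
(.leaf 0))))))
(.node (.node (.node (.node (.node (.leaf 11)
(.leaf 1178))
(.node (.leaf 1175)
(.leaf 0)))
(.node (.node (.leaf 1157)
(.leaf 5313))
(.node (.leaf 1177)
(.leaf 0))))
(.node (.node (.node (.leaf 31)
(.leaf 1178))
(.node (.leaf 1159)
(.leaf 0)))
(.node (.node (.leaf 1175)
(.leaf 5320))
(.node (.leaf 1159)
(.leaf 0)))))
(.node (.node (.node (.node (.leaf 10)
(.leaf 1178))
(.node (.leaf 1178)
(.leaf 0)))
(.node (.node (.leaf 1157)
(.leaf 5320))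
(.node (.leaf 1163)
(.leaf 0))))
(.node (.node (.node (.leaf 11)
(.leaf 1163))
(.node (.leaf 1178)
(.leaf 0)))
(.node (.node (.leaf 1177)
(.leaf 5342))
(.node (.leaf 1163)
(.leaf 0))))))))
(.node (.node (.node (.node (.node (.node (.node (.leaf 3)
(.leaf 1178))
(.node (.leaf 1163)
(.leaf 5342)))
(.node (.node (.leaf 178)
(.leaf 1175))
(.node (.leaf 1175)
(.leaf 0))))
(.node (.node (.node (.leaf 16)
(.leaf 1159))
(.node (.leaf 1178)
(.leaf 0)))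
(.node (.node (.leaf 1178)
(.leaf 5320))
(.node (.leaf 1175)
(.leaf 0)))))
(.node (.node (.node (.node (.leaf 10)
(.leaf 1178))
(.node (.leaf 1178)
(.leaf 0)))
(.node (.node (.leaf 1155)
(.leaf 5320))
(.node (.leaf 1178)
(.leaf 0))))
(.node (.node (.node (.leaf 10)
(.leaf 1175))
(.node (.leaf 1178)
(.leaf 0)))
(.node (.node (.leaf 1163)
(.leaf 5320))
(.node (.leaf 1178)
(.leaf 0))))))
(.node (.node (.node (.node (.node (.leaf 3)
(.leaf 1163))
(.node (.leaf 1163)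
(.leaf 0)))
(.node (.node (.leaf 1185)
(.leaf 1178))
(.node (.leaf 1163)
(.leaf 0))))
(.node (.node (.node (.leaf 3)
(.leaf 1163))
(.node (.leaf 1163)
(.leaf 0)))
(.node (.node (.leaf 1178)
(.leaf 5320))
(.node (.leaf 1178)
(.leaf 0)))))
(.node (.node (.node (.node (.leaf 10)
(.leaf 1163))
(.node (.leaf 1159)
(.leaf 0)))
(.node (.node (.leaf 1163)
(.leaf 5320))
(.node (.leaf 1178)
(.leaf 0))))
(.node (.node (.node (.leaf 16)
(.leaf 1178))
(.node (.leaf 1178)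
(.leaf 0)))
(.node (.node (.leaf 1178)
(.leaf 5446))
(.node (.leaf 1175)
(.leaf 0)))))))
(.node (.node (.node (.node (.node (.node (.leaf 10)
(.leaf 1178))
(.node (.leaf 1163)
(.leaf 5446)))
(.node (.node (.leaf 61)
(.leaf 1279))
(.node (.leaf 1163)
(.leaf 0))))
(.node (.node (.node (.leaf 31)
(.leaf 1178))
(.node (.leaf 1177)
(.leaf 0)))
(.node (.node (.leaf 1157)
(.leaf 5320))
(.node (.leaf 1175)
(.leaf 0)))))
(.node (.node (.node (.node (.leaf 3)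
(.leaf 1175))
(.node (.leaf 1178)
(.leaf 0)))
(.node (.node (.leaf 1178)
(.leaf 5320))
(.node (.leaf 1178)
(.leaf 0))))
(.node (.node (.node (.leaf 3)
(.leaf 1177))
(.node (.leaf 1159)
(.leaf 0)))
(.node (.node (.leaf 1175)
(.leaf 5320))
(.node (.leaf 1163)
(.leaf 0))))))
(.node (.node (.node (.node (.node (.leaf 61)
(.leaf 1177))
(.node (.leaf 1178)
(.leaf 0)))
(.node (.node (.leaf 1157)
(.leaf 5320))
(.node (.leaf 1178)
(.leaf 0))))
(.node (.node (.node (.leaf 10)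
(.leaf 1178))
(.node (.leaf 1177)
(.leaf 0)))
(.node (.node (.leaf 1159)
(.leaf 5320))
(.node (.leaf 1175)
(.leaf 0)))))
(.node (.node (.node (.node (.leaf 11)
(.leaf 1163))
(.node (.leaf 1175)
(.leaf 0)))
(.node (.node (.leaf 1163)
(.leaf 5320))
(.node (.leaf 1178)
(.leaf 0))))
(.node (.node (.node (.leaf 178)
(.leaf 1163))
(.node (.leaf 1178)
(.leaf 0)))
(.node (.node (.leaf 1178)
(.leaf 5446))
(.node (.leaf 1163)
(.leaf 0)))))))))
(.node (.node (.node (.node (.node (.node (.node (.node (.leaf 2)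
(.leaf 1163))
(.node (.leaf 1175)
(.leaf 5342)))
(.node (.node (.leaf 297)
(.leaf 1163))
(.node (.leaf 1178)
(.leaf 0))))
(.node (.node (.node (.leaf 3)
(.leaf 1163))
(.node (.leaf 1178)
(.leaf 0)))
(.node (.node (.leaf 1159)
(.leaf 5320))
(.node (.leaf 1178)
(.leaf 0)))))
(.node (.node (.node (.node (.leaf 11)
(.leaf 1159))
(.node (.leaf 1163)
(.leaf 0)))
(.node (.node (.leaf 1177)
(.leaf 5315))
(.node (.leaf 1159)
(.leaf 0))))
(.node (.node (.node (.leaf 297)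
(.leaf 1175))
(.node (.leaf 1178)
(.leaf 0)))
(.node (.node (.leaf 1175)
(.leaf 5342))
(.node (.leaf 1178)
(.leaf 0))))))
(.node (.node (.node (.node (.node (.leaf 61)
(.leaf 1178))
(.node (.leaf 1175)
(.leaf 5446)))
(.node (.node (.leaf 1163)
(.leaf 1178))
(.node (.leaf 1163)
(.leaf 0))))
(.node (.node (.node (.leaf 11)
(.leaf 1175))
(.node (.leaf 1163)
(.leaf 0)))
(.node (.node (.leaf 1156)
(.leaf 5342))
(.node (.leaf 1163)
(.leaf 0)))))
(.node (.node (.node (.node (.leaf 3)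
(.leaf 1159))
(.node (.leaf 1178)
(.leaf 0)))
(.node (.node (.leaf 1163)
(.leaf 5320))
(.node (.leaf 1178)
(.leaf 0))))
(.node (.node (.node (.leaf 297)
(.leaf 1177))
(.node (.leaf 1178)
(.leaf 0)))
(.node (.node (.leaf 1178)
(.leaf 5320))
(.node (.leaf 1163)
(.leaf 0)))))))
(.node (.node (.node (.node (.node (.node (.leaf 10)
(.leaf 1163))
(.node (.leaf 1163)
(.leaf 5446)))
(.node (.node (.leaf 178)
(.leaf 1175))
(.node (.leaf 1163)
(.leaf 0))))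
(.node (.node (.node (.leaf 11)
(.leaf 1178))
(.node (.leaf 1178)
(.leaf 0)))
(.node (.node (.leaf 1178)
(.leaf 5320))
(.node (.leaf 1163)
(.leaf 0)))))
(.node (.node (.node (.node (.leaf 10)
(.leaf 1163))
(.node (.leaf 1178)
(.leaf 0)))
(.node (.node (.leaf 1157)
(.leaf 5320))
(.node (.leaf 1279)
(.leaf 0))))
(.node (.node (.node (.leaf 178)
(.leaf 1177))
(.node (.leaf 1163)
(.leaf 0)))
(.node (.node (.leaf 1155)
(.leaf 5320))
(.node (.leaf 1163)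
(.leaf 0))))))
(.node (.node (.node (.node (.node (.leaf 16)
(.leaf 1177))
(.node (.leaf 1163)
(.leaf 0)))
(.node (.node (.leaf 1155)
(.leaf 5315))
(.node (.leaf 1163)
(.leaf 0))))
(.node (.node (.node (.leaf 3)
(.leaf 1279))
(.node (.leaf 1159)
(.leaf 0)))
(.node (.node (.leaf 1175)
(.leaf 5320))
(.node (.leaf 1163)
(.leaf 0)))))
(.node (.node (.node (.node (.leaf 3)
(.leaf 1159))
(.node (.leaf 1178)
(.leaf 0)))
(.node (.node (.leaf 1163)
(.leaf 5320))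
(.node (.leaf 1163)
(.leaf 0))))
(.node (.node (.node (.leaf 16)
(.leaf 1178))
(.node (.leaf 1178)
(.leaf 0)))
(.node (.node (.leaf 1163)
(.leaf 5342))
(.node (.leaf 1163)
(.leaf 0))))))))
(.node (.node (.node (.node (.node (.node (.node (.leaf 3)
(.leaf 1178))
(.node (.leaf 1163)
(.leaf 5342)))
(.node (.node (.leaf 10)
(.leaf 1175))
(.node (.leaf 1175)
(.leaf 0))))
(.node (.node (.node (.leaf 16)
(.leaf 1159))
(.node (.leaf 1163)
(.leaf 0)))
(.node (.node (.leaf 1178)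
(.leaf 5320))
(.node (.leaf 1175)
(.leaf 0)))))
(.node (.node (.node (.node (.leaf 31)
(.leaf 1159))
(.node (.leaf 1178)
(.leaf 0)))
(.node (.node (.leaf 1175)
(.leaf 5320))
(.node (.leaf 1178)
(.leaf 0))))
(.node (.node (.node (.leaf 3)
(.leaf 1178))
(.node (.leaf 1163)
(.leaf 0)))
(.node (.node (.leaf 1163)
(.leaf 5320))
(.node (.leaf 1163)
(.leaf 0))))))
(.node (.node (.node (.node (.node (.leaf 3)
(.leaf 1178))
(.node (.leaf 1163)
(.leaf 0)))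
(.node (.node (.leaf 1157)
(.leaf 1178))
(.node (.leaf 1178)
(.leaf 0))))
(.node (.node (.node (.leaf 10)
(.leaf 1178))
(.node (.leaf 1177)
(.leaf 0)))
(.node (.node (.leaf 1178)
(.leaf 5446))
(.node (.leaf 1175)
(.leaf 0)))))
(.node (.node (.node (.node (.leaf 3)
(.leaf 1178))
(.node (.leaf 1159)
(.leaf 0)))
(.node (.node (.leaf 1156)
(.leaf 5342))
(.node (.leaf 1163)
(.leaf 0))))
(.node (.node (.node (.leaf 16)
(.leaf 1279))
(.node (.leaf 1178)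
(.leaf 0)))
(.node (.node (.leaf 1178)
(.leaf 5320))
(.node (.leaf 1159)
(.leaf 0)))))))
(.node (.node (.node (.node (.node (.node (.leaf 3)
(.leaf 1178))
(.node (.leaf 1163)
(.leaf 5446)))
(.node (.node (.leaf 178)
(.leaf 1178))
(.node (.leaf 1163)
(.leaf 0))))
(.node (.node (.node (.leaf 10)
(.leaf 1279))
(.node (.leaf 1178)
(.leaf 0)))
(.node (.node (.leaf 1159)
(.leaf 5320))
(.node (.leaf 1175)
(.leaf 0)))))
(.node (.node (.node (.node (.leaf 10)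
(.leaf 1178))
(.node (.leaf 1178)
(.leaf 0)))
(.node (.node (.leaf 1156)
(.leaf 5320))
(.node (.leaf 1177)
(.leaf 0))))
(.node (.node (.node (.leaf 178)
(.leaf 1163))
(.node (.leaf 1163)
(.leaf 0)))
(.node (.node (.leaf 1163)
(.leaf 5446))
(.node (.leaf 1163)
(.leaf 0))))))
(.node (.node (.node (.node (.node (.leaf 31)
(.leaf 1163))
(.node (.leaf 1163)
(.leaf 0)))
(.node (.node (.leaf 1159)
(.leaf 5320))
(.node (.leaf 1163)
(.leaf 0))))
(.node (.node (.node (.leaf 10)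
(.leaf 1178))
(.node (.leaf 1175)
(.leaf 0)))
(.node (.node (.leaf 1163)
(.leaf 5320))
(.node (.leaf 1178)
(.leaf 0)))))
(.node (.node (.node (.node (.leaf 10)
(.leaf 1178))
(.node (.leaf 1178)
(.leaf 0)))
(.node (.node (.leaf 1178)
(.leaf 5320))
(.node (.leaf 1178)
(.leaf 0))))
(.node (.node (.node (.leaf 178)
(.leaf 1178))
(.node (.leaf 1178)
(.leaf 0)))
(.node (.node (.leaf 1156)
(.leaf 5644))
(.node (.leaf 1159)
(.leaf 0))))))))))
(.node (.node (.node (.node (.node (.node (.node (.node (.node (.leaf 2)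
(.leaf 1178))
(.node (.leaf 1175)
(.leaf 5320)))
(.node (.node (.leaf 10)
(.leaf 1163))
(.node (.leaf 1163)
(.leaf 0))))
(.node (.node (.node (.leaf 178)
(.leaf 1177))
(.node (.leaf 1159)
(.leaf 0)))
(.node (.node (.leaf 1163)
(.leaf 5313))
(.node (.leaf 1178)
(.leaf 0)))))
(.node (.node (.node (.node (.leaf 10)
(.leaf 1159))
(.node (.leaf 1175)
(.leaf 0)))
(.node (.node (.leaf 1185)
(.leaf 5320))
(.node (.leaf 1178)
(.leaf 0))))
(.node (.node (.node (.leaf 10)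
(.leaf 1163))
(.node (.leaf 1177)
(.leaf 0)))
(.node (.node (.leaf 1175)
(.leaf 5320))
(.node (.leaf 1163)
(.leaf 0))))))
(.node (.node (.node (.node (.node (.leaf 10)
(.leaf 1178))
(.node (.leaf 1156)
(.leaf 5446)))
(.node (.node (.leaf 1156)
(.leaf 1178))
(.node (.leaf 1163)
(.leaf 0))))
(.node (.node (.node (.leaf 10)
(.leaf 1159))
(.node (.leaf 1175)
(.leaf 0)))
(.node (.node (.leaf 1163)
(.leaf 5320))
(.node (.leaf 1163)
(.leaf 0)))))
(.node (.node (.node (.node (.leaf 3)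
(.leaf 1178))
(.node (.leaf 1177)
(.leaf 0)))
(.node (.node (.leaf 1156)
(.leaf 5320))
(.node (.leaf 1178)
(.leaf 0))))
(.node (.node (.node (.leaf 178)
(.leaf 1163))
(.node (.leaf 1163)
(.leaf 0)))
(.node (.node (.leaf 1177)
(.leaf 5320))
(.node (.leaf 1175)
(.leaf 0)))))))
(.node (.node (.node (.node (.node (.node (.leaf 3)
(.leaf 1163))
(.node (.leaf 1163)
(.leaf 5320)))
(.node (.node (.leaf 178)
(.leaf 1175))
(.node (.leaf 1159)
(.leaf 0))))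
(.node (.node (.node (.leaf 11)
(.leaf 1175))
(.node (.leaf 1177)
(.leaf 0)))
(.node (.node (.leaf 1159)
(.leaf 5320))
(.node (.leaf 1163)
(.leaf 0)))))
(.node (.node (.node (.node (.leaf 10)
(.leaf 1279))
(.node (.leaf 1178)
(.leaf 0)))
(.node (.node (.leaf 1155)
(.leaf 5320))
(.node (.leaf 1159)
(.leaf 0))))
(.node (.node (.node (.leaf 3)
(.leaf 1178))
(.node (.leaf 1178)
(.leaf 0)))
(.node (.node (.leaf 1175)
(.leaf 5320))
(.node (.leaf 1175)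
(.leaf 0))))))
(.node (.node (.node (.node (.node (.leaf 16)
(.leaf 1159))
(.node (.leaf 1163)
(.leaf 0)))
(.node (.node (.leaf 1157)
(.leaf 5313))
(.node (.leaf 1163)
(.leaf 0))))
(.node (.node (.node (.leaf 10)
(.leaf 1178))
(.node (.leaf 1178)
(.leaf 0)))
(.node (.node (.leaf 1163)
(.leaf 5320))
(.node (.leaf 1163)
(.leaf 0)))))
(.node (.node (.node (.node (.leaf 11)
(.leaf 1175))
(.node (.leaf 1163)
(.leaf 0)))
(.node (.node (.leaf 1163)
(.leaf 5320))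
(.node (.leaf 1175)
(.leaf 0))))
(.node (.node (.node (.leaf 16)
(.leaf 1178))
(.node (.leaf 1279)
(.leaf 0)))
(.node (.node (.leaf 1156)
(.leaf 5320))
(.node (.leaf 1175)
(.leaf 0))))))))
(.node (.node (.node (.node (.node (.node (.node (.leaf 10)
(.leaf 1177))
(.node (.leaf 1163)
(.leaf 5446)))
(.node (.node (.leaf 11)
(.leaf 1175))
(.node (.leaf 1175)
(.leaf 0))))
(.node (.node (.node (.leaf 58)
(.leaf 1178))
(.node (.leaf 1178)
(.leaf 0)))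
(.node (.node (.leaf 1163)
(.leaf 5320))
(.node (.leaf 1175)
(.leaf 0)))))
(.node (.node (.node (.node (.leaf 297)
(.leaf 1159))
(.node (.leaf 1178)
(.leaf 0)))
(.node (.node (.leaf 1163)
(.leaf 5320))
(.node (.leaf 1178)
(.leaf 0))))
(.node (.node (.node (.leaf 58)
(.leaf 1159))
(.node (.leaf 1178)
(.leaf 0)))
(.node (.node (.leaf 1163)
(.leaf 5320))
(.node (.leaf 1178)
(.leaf 0))))))
(.node (.node (.node (.node (.node (.leaf 10)
(.leaf 1159))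
(.node (.leaf 1178)
(.leaf 0)))
(.node (.node (.leaf 1156)
(.leaf 1178))
(.node (.leaf 1159)
(.leaf 0))))
(.node (.node (.node (.leaf 178)
(.leaf 1175))
(.node (.leaf 1178)
(.leaf 0)))
(.node (.node (.leaf 1159)
(.leaf 5342))
(.node (.leaf 1163)
(.leaf 0)))))
(.node (.node (.node (.node (.leaf 10)
(.leaf 1159))
(.node (.leaf 1159)
(.leaf 0)))
(.node (.node (.leaf 1156)
(.leaf 5320))
(.node (.leaf 1159)
(.leaf 0))))
(.node (.node (.node (.leaf 10)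
(.leaf 1159))
(.node (.leaf 1279)
(.leaf 0)))
(.node (.node (.leaf 1178)
(.leaf 5320))
(.node (.leaf 1163)
(.leaf 0)))))))
(.node (.node (.node (.node (.node (.node (.leaf 10)
(.leaf 1178))
(.node (.leaf 1175)
(.leaf 5446)))
(.node (.node (.leaf 178)
(.leaf 1159))
(.node (.leaf 1163)
(.leaf 0))))
(.node (.node (.node (.leaf 10)
(.leaf 1178))
(.node (.leaf 1159)
(.leaf 0)))
(.node (.node (.leaf 1163)
(.leaf 5342))
(.node (.leaf 1163)
(.leaf 0)))))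
(.node (.node (.node (.node (.leaf 297)
(.leaf 1178))
(.node (.leaf 1159)
(.leaf 0)))
(.node (.node (.leaf 1178)
(.leaf 5320))
(.node (.leaf 1163)
(.leaf 0))))
(.node (.node (.node (.leaf 3)
(.leaf 1163))
(.node (.leaf 1175)
(.leaf 0)))
(.node (.node (.leaf 1157)
(.leaf 5320))
(.node (.leaf 1178)
(.leaf 0))))))
(.node (.node (.node (.node (.node (.leaf 10)
(.leaf 1159))
(.node (.leaf 1163)
(.leaf 0)))
(.node (.node (.leaf 1178)
(.leaf 5320))
(.node (.leaf 1163)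
(.leaf 0))))
(.node (.node (.node (.leaf 178)
(.leaf 1178))
(.node (.leaf 1178)
(.leaf 0)))
(.node (.node (.leaf 1177)
(.leaf 5320))
(.node (.leaf 1163)
(.leaf 0)))))
(.node (.node (.node (.node (.leaf 10)
(.leaf 1178))
(.node (.leaf 1163)
(.leaf 0)))
(.node (.node (.leaf 1175)
(.leaf 5320))
(.node (.leaf 1159)
(.leaf 0))))
(.node (.node (.node (.leaf 16)
(.leaf 1178))
(.node (.leaf 1163)
(.leaf 0)))
(.node (.node (.leaf 1178)
(.leaf 5644))
(.node (.leaf 1178)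
(.leaf 0)))))))))
(.node (.node (.node (.node (.node (.node (.node (.node (.leaf 3)
(.leaf 1178))
(.node (.leaf 1163)
(.leaf 5320)))
(.node (.node (.leaf 178)
(.leaf 1175))
(.node (.leaf 1163)
(.leaf 0))))
(.node (.node (.node (.leaf 178)
(.leaf 1178))
(.node (.leaf 1178)
(.leaf 0)))
(.node (.node (.leaf 1178)
(.leaf 5320))
(.node (.leaf 1178)
(.leaf 0)))))
(.node (.node (.node (.node (.leaf 10)
(.leaf 1159))
(.node (.leaf 1163)
(.leaf 0)))
(.node (.node (.leaf 1157)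
(.leaf 5320))
(.node (.leaf 1159)
(.leaf 0))))
(.node (.node (.node (.leaf 3)
(.leaf 1175))
(.node (.leaf 1178)
(.leaf 0)))
(.node (.node (.leaf 1177)
(.leaf 5320))
(.node (.leaf 1175)
(.leaf 0))))))
(.node (.node (.node (.node (.node (.leaf 3)
(.leaf 1178))
(.node (.leaf 1175)
(.leaf 5446)))
(.node (.node (.leaf 1177)
(.leaf 1178))
(.node (.leaf 1175)
(.leaf 0))))
(.node (.node (.node (.leaf 10)
(.leaf 1163))
(.node (.leaf 1163)
(.leaf 0)))
(.node (.node (.leaf 1157)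
(.leaf 5320))
(.node (.leaf 1163)
(.leaf 0)))))
(.node (.node (.node (.node (.leaf 16)
(.leaf 1178))
(.node (.leaf 1178)
(.leaf 0)))
(.node (.node (.leaf 1163)
(.leaf 5320))
(.node (.leaf 1159)
(.leaf 0))))
(.node (.node (.node (.leaf 10)
(.leaf 1178))
(.node (.leaf 1178)
(.leaf 0)))
(.node (.node (.leaf 1178)
(.leaf 5320))
(.node (.leaf 1178)
(.leaf 0)))))))
(.node (.node (.node (.node (.node (.node (.leaf 10)
(.leaf 1178))
(.node (.leaf 1163)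
(.leaf 5320)))
(.node (.node (.leaf 178)
(.leaf 1159))
(.node (.leaf 1177)
(.leaf 0))))
(.node (.node (.node (.leaf 10)
(.leaf 1178))
(.node (.leaf 1178)
(.leaf 0)))
(.node (.node (.leaf 1175)
(.leaf 5644))
(.node (.leaf 1163)
(.leaf 0)))))
(.node (.node (.node (.node (.leaf 10)
(.leaf 1177))
(.node (.leaf 1178)
(.leaf 0)))
(.node (.node (.leaf 1178)
(.leaf 5342))
(.node (.leaf 1159)
(.leaf 0))))
(.node (.node (.node (.leaf 10)
(.leaf 1175))
(.node (.leaf 1175)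
(.leaf 0)))
(.node (.node (.leaf 1163)
(.leaf 5320))
(.node (.leaf 1178)
(.leaf 0))))))
(.node (.node (.node (.node (.node (.leaf 16)
(.leaf 1177))
(.node (.leaf 1163)
(.leaf 0)))
(.node (.node (.leaf 1163)
(.leaf 5320))
(.node (.leaf 1178)
(.leaf 0))))
(.node (.node (.node (.leaf 10)
(.leaf 1178))
(.node (.leaf 1178)
(.leaf 0)))
(.node (.node (.leaf 1178)
(.leaf 5320))
(.node (.leaf 1163)
(.leaf 0)))))
(.node (.node (.node (.node (.leaf 178)
(.leaf 1163))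
(.node (.leaf 1178)
(.leaf 0)))
(.node (.node (.leaf 1163)
(.leaf 5320))
(.node (.leaf 1178)
(.leaf 0))))
(.node (.node (.node (.leaf 58)
(.leaf 1159))
(.node (.leaf 1159)
(.leaf 0)))
(.node (.node (.leaf 1178)
(.leaf 5446))
(.node (.leaf 1163)
(.leaf 0))))))))
(.node (.node (.node (.node (.node (.node (.node (.leaf 16)
(.leaf 1178))
(.node (.leaf 1163)
(.leaf 5320)))
(.node (.node (.leaf 10)
(.leaf 1178))
(.node (.leaf 1163)
(.leaf 0))))
(.node (.node (.node (.leaf 58)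
(.leaf 1163))
(.node (.leaf 1178)
(.leaf 0)))
(.node (.node (.leaf 1178)
(.leaf 5342))
(.node (.leaf 1175)
(.leaf 0)))))
(.node (.node (.node (.node (.leaf 3)
(.leaf 1159))
(.node (.leaf 1159)
(.leaf 0)))
(.node (.node (.leaf 1175)
(.leaf 5320))
(.node (.leaf 1178)
(.leaf 0))))
(.node (.node (.node (.leaf 10)
(.leaf 1175))
(.node (.leaf 1178)
(.leaf 0)))
(.node (.node (.leaf 1163)
(.leaf 5320))
(.node (.leaf 1163)
(.leaf 0))))))
(.node (.node (.node (.node (.node (.leaf 11)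
(.leaf 1178))
(.node (.leaf 1163)
(.leaf 0)))
(.node (.node (.leaf 1157)
(.leaf 1178))
(.node (.leaf 1178)
(.leaf 0))))
(.node (.node (.node (.leaf 10)
(.leaf 1178))
(.node (.leaf 1177)
(.leaf 0)))
(.node (.node (.leaf 1156)
(.leaf 5320))
(.node (.leaf 1163)
(.leaf 0)))))
(.node (.node (.node (.node (.leaf 10)
(.leaf 1163))
(.node (.leaf 1178)
(.leaf 0)))
(.node (.node (.leaf 1155)
(.leaf 5320))
(.node (.leaf 1163)
(.leaf 0))))
(.node (.node (.node (.leaf 11)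
(.leaf 1178))
(.node (.leaf 1163)
(.leaf 0)))
(.node (.node (.leaf 1157)
(.leaf 5446))
(.node (.leaf 1159)
(.leaf 0)))))))
(.node (.node (.node (.node (.node (.node (.leaf 3)
(.leaf 1163))
(.node (.leaf 1175)
(.leaf 5446)))
(.node (.node (.leaf 178)
(.leaf 1177))
(.node (.leaf 1163)
(.leaf 0))))
(.node (.node (.node (.leaf 10)
(.leaf 1175))
(.node (.leaf 1163)
(.leaf 0)))
(.node (.node (.leaf 1178)
(.leaf 5320))
(.node (.leaf 1163)
(.leaf 0)))))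
(.node (.node (.node (.node (.leaf 3)
(.leaf 1177))
(.node (.leaf 1163)
(.leaf 0)))
(.node (.node (.leaf 1155)
(.leaf 5342))
(.node (.leaf 1178)
(.leaf 0))))
(.node (.node (.node (.leaf 10)
(.leaf 1175))
(.node (.leaf 1163)
(.leaf 0)))
(.node (.node (.leaf 1178)
(.leaf 5320))
(.node (.leaf 1163)
(.leaf 0))))))
(.node (.node (.node (.node (.node (.leaf 3)
(.leaf 1177))
(.node (.leaf 1175)
(.leaf 0)))
(.node (.node (.leaf 1178)
(.leaf 5315))
(.node (.leaf 1177)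
(.leaf 0))))
(.node (.node (.node (.leaf 11)
(.leaf 1159))
(.node (.leaf 1163)
(.leaf 0)))
(.node (.node (.leaf 1163)
(.leaf 5320))
(.node (.leaf 1178)
(.leaf 0)))))
(.node (.node (.node (.node (.leaf 16)
(.leaf 1159))
(.node (.leaf 1178)
(.leaf 0)))
(.node (.node (.leaf 1279)
(.leaf 5320))
(.node (.leaf 1178)
(.leaf 0))))
(.node (.node (.node (.leaf 10)
(.leaf 1159))
(.node (.leaf 1163)
(.leaf 0)))
(.node (.node (.leaf 1163)
(.leaf 5320))
(.node (.leaf 1159)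
(.leaf 0)))))))))))
(.node (.node (.node (.node (.node (.node (.node (.node (.node (.node (.leaf 1)
(.leaf 1178))
(.node (.leaf 1163)
(.leaf 5320)))
(.node (.node (.leaf 11)
(.leaf 1163))
(.node (.leaf 1175)
(.leaf 0))))
(.node (.node (.node (.leaf 10)
(.leaf 1177))
(.node (.leaf 1159)
(.leaf 0)))
(.node (.node (.leaf 1177)
(.leaf 5320))
(.node (.leaf 1159)
(.leaf 0)))))
(.node (.node (.node (.node (.leaf 10)
(.leaf 1163))
(.node (.leaf 1175)
(.leaf 0)))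
(.node (.node (.leaf 1155)
(.leaf 5315))
(.node (.leaf 1163)
(.leaf 0))))
(.node (.node (.node (.leaf 10)
(.leaf 1159))
(.node (.leaf 1163)
(.leaf 0)))
(.node (.node (.leaf 1163)
(.leaf 5320))
(.node (.leaf 1175)
(.leaf 0))))))
(.node (.node (.node (.node (.node (.leaf 11)
(.leaf 1159))
(.node (.leaf 1178)
(.leaf 5446)))
(.node (.node (.leaf 1157)
(.leaf 1159))
(.node (.leaf 1175)
(.leaf 0))))
(.node (.node (.node (.leaf 178)
(.leaf 1178))
(.node (.leaf 1163)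
(.leaf 0)))
(.node (.node (.leaf 1157)
(.leaf 5320))
(.node (.leaf 1163)
(.leaf 0)))))
(.node (.node (.node (.node (.leaf 3)
(.leaf 1178))
(.node (.leaf 1159)
(.leaf 0)))
(.node (.node (.leaf 1175)
(.leaf 5342))
(.node (.leaf 1178)
(.leaf 0))))
(.node (.node (.node (.leaf 178)
(.leaf 1163))
(.node (.leaf 1178)
(.leaf 0)))
(.node (.node (.leaf 1177)
(.leaf 5320))
(.node (.leaf 1175)
(.leaf 0)))))))
(.node (.node (.node (.node (.node (.node (.leaf 3)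
(.leaf 1178))
(.node (.leaf 1175)
(.leaf 5446)))
(.node (.node (.leaf 11)
(.leaf 1178))
(.node (.leaf 1175)
(.leaf 0))))
(.node (.node (.node (.leaf 3)
(.leaf 1163))
(.node (.leaf 1163)
(.leaf 0)))
(.node (.node (.leaf 1159)
(.leaf 5342))
(.node (.leaf 1175)
(.leaf 0)))))
(.node (.node (.node (.node (.leaf 10)
(.leaf 1178))
(.node (.leaf 1177)
(.leaf 0)))
(.node (.node (.leaf 1157)
(.leaf 5313))
(.node (.leaf 1279)
(.leaf 0))))
(.node (.node (.node (.leaf 10)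
(.leaf 1178))
(.node (.leaf 1177)
(.leaf 0)))
(.node (.node (.leaf 1175)
(.leaf 5320))
(.node (.leaf 1178)
(.leaf 0))))))
(.node (.node (.node (.node (.node (.leaf 10)
(.leaf 1175))
(.node (.leaf 1175)
(.leaf 0)))
(.node (.node (.leaf 1163)
(.leaf 5313))
(.node (.leaf 1163)
(.leaf 0))))
(.node (.node (.node (.leaf 178)
(.leaf 1178))
(.node (.leaf 1279)
(.leaf 0)))
(.node (.node (.leaf 1157)
(.leaf 5320))
(.node (.leaf 1159)
(.leaf 0)))))
(.node (.node (.node (.node (.leaf 10)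
(.leaf 1178))
(.node (.leaf 1159)
(.leaf 0)))
(.node (.node (.leaf 1163)
(.leaf 5320))
(.node (.leaf 1175)
(.leaf 0))))
(.node (.node (.node (.leaf 10)
(.leaf 1178))
(.node (.leaf 1159)
(.leaf 0)))
(.node (.node (.leaf 1163)
(.leaf 5446))
(.node (.leaf 1175)
(.leaf 0))))))))
(.node (.node (.node (.node (.node (.node (.node (.leaf 3)
(.leaf 1159))
(.node (.leaf 1163)
(.leaf 5644)))
(.node (.node (.leaf 178)
(.leaf 1163))
(.node (.leaf 1163)
(.leaf 0))))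
(.node (.node (.node (.leaf 16)
(.leaf 1178))
(.node (.leaf 1178)
(.leaf 0)))
(.node (.node (.leaf 1163)
(.leaf 5446))
(.node (.leaf 1163)
(.leaf 0)))))
(.node (.node (.node (.node (.leaf 10)
(.leaf 1178))
(.node (.leaf 1157)
(.leaf 0)))
(.node (.node (.leaf 1178)
(.leaf 5342))
(.node (.leaf 1178)
(.leaf 0))))
(.node (.node (.node (.leaf 297)
(.leaf 1163))
(.node (.leaf 1159)
(.leaf 0)))
(.node (.node (.leaf 1175)
(.leaf 5320))
(.node (.leaf 1163)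
(.leaf 0))))))
(.node (.node (.node (.node (.node (.leaf 11)
(.leaf 1178))
(.node (.leaf 1163)
(.leaf 0)))
(.node (.node (.leaf 1155)
(.leaf 1159))
(.node (.leaf 1163)
(.leaf 0))))
(.node (.node (.node (.leaf 10)
(.leaf 1163))
(.node (.leaf 1178)
(.leaf 0)))
(.node (.node (.leaf 1177)
(.leaf 5320))
(.node (.leaf 1163)
(.leaf 0)))))
(.node (.node (.node (.node (.leaf 31)
(.leaf 1178))
(.node (.leaf 1178)
(.leaf 0)))
(.node (.node (.leaf 1157)
(.leaf 5320))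
(.node (.leaf 1177)
(.leaf 0))))
(.node (.node (.node (.leaf 10)
(.leaf 1159))
(.node (.leaf 1178)
(.leaf 0)))
(.node (.node (.leaf 1178)
(.leaf 5320))
(.node (.leaf 1178)
(.leaf 0)))))))
(.node (.node (.node (.node (.node (.node (.leaf 10)
(.leaf 1178))
(.node (.leaf 1156)
(.leaf 5320)))
(.node (.node (.leaf 178)
(.leaf 1159))
(.node (.leaf 1178)
(.leaf 0))))
(.node (.node (.node (.leaf 3)
(.leaf 1178))
(.node (.leaf 1159)
(.leaf 0)))
(.node (.node (.leaf 1175)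
(.leaf 5446))
(.node (.leaf 1178)
(.leaf 0)))))
(.node (.node (.node (.node (.leaf 10)
(.leaf 1159))
(.node (.leaf 1177)
(.leaf 0)))
(.node (.node (.leaf 1157)
(.leaf 5446))
(.node (.leaf 1178)
(.leaf 0))))
(.node (.node (.node (.leaf 178)
(.leaf 1159))
(.node (.leaf 1175)
(.leaf 0)))
(.node (.node (.leaf 1156)
(.leaf 5320))
(.node (.leaf 1163)
(.leaf 0))))))
(.node (.node (.node (.node (.node (.leaf 58)
(.leaf 1178))
(.node (.leaf 1163)
(.leaf 0)))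
(.node (.node (.leaf 1159)
(.leaf 5315))
(.node (.leaf 1175)
(.leaf 0))))
(.node (.node (.node (.leaf 10)
(.leaf 1177))
(.node (.leaf 1178)
(.leaf 0)))
(.node (.node (.leaf 1178)
(.leaf 5342))
(.node (.leaf 1175)
(.leaf 0)))))
(.node (.node (.node (.node (.leaf 58)
(.leaf 1178))
(.node (.leaf 1163)
(.leaf 0)))
(.node (.node (.leaf 1163)
(.leaf 5320))
(.node (.leaf 1178)
(.leaf 0))))
(.node (.node (.node (.leaf 10)
(.leaf 1159))
(.node (.leaf 1175)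
(.leaf 0)))
(.node (.node (.leaf 1159)
(.leaf 5446))
(.node (.leaf 1178)
(.leaf 0)))))))))
(.node (.node (.node (.node (.node (.node (.node (.node (.leaf 10)
(.leaf 1159))
(.node (.leaf 1175)
(.leaf 5320)))
(.node (.node (.leaf 297)
(.leaf 1163))
(.node (.leaf 1279)
(.leaf 0))))
(.node (.node (.node (.leaf 16)
(.leaf 1279))
(.node (.leaf 1178)
(.leaf 0)))
(.node (.node (.leaf 1178)
(.leaf 5320))
(.node (.leaf 1163)
(.leaf 0)))))
(.node (.node (.node (.node (.leaf 10)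
(.leaf 1159))
(.node (.leaf 1163)
(.leaf 0)))
(.node (.node (.leaf 1157)
(.leaf 5315))
(.node (.leaf 1178)
(.leaf 0))))
(.node (.node (.node (.leaf 3)
(.leaf 1163))
(.node (.leaf 1178)
(.leaf 0)))
(.node (.node (.leaf 1175)
(.leaf 5342))
(.node (.leaf 1163)
(.leaf 0))))))
(.node (.node (.node (.node (.node (.leaf 58)
(.leaf 1178))
(.node (.leaf 1175)
(.leaf 5446)))
(.node (.node (.leaf 1156)
(.leaf 1159))
(.node (.leaf 1175)
(.leaf 0))))
(.node (.node (.node (.leaf 10)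
(.leaf 1178))
(.node (.leaf 1163)
(.leaf 0)))
(.node (.node (.leaf 1157)
(.leaf 5320))
(.node (.leaf 1159)
(.leaf 0)))))
(.node (.node (.node (.node (.leaf 3)
(.leaf 1159))
(.node (.leaf 1159)
(.leaf 0)))
(.node (.node (.leaf 1163)
(.leaf 5320))
(.node (.leaf 1178)
(.leaf 0))))
(.node (.node (.node (.leaf 10)
(.leaf 1159))
(.node (.leaf 1163)
(.leaf 0)))
(.node (.node (.leaf 1156)
(.leaf 5446))
(.node (.leaf 1178)
(.leaf 0)))))))
(.node (.node (.node (.node (.node (.node (.leaf 10)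
(.leaf 1178))
(.node (.leaf 1163)
(.leaf 5320)))
(.node (.node (.leaf 178)
(.leaf 1177))
(.node (.leaf 1163)
(.leaf 0))))
(.node (.node (.node (.leaf 61)
(.leaf 1177))
(.node (.leaf 1159)
(.leaf 0)))
(.node (.node (.leaf 1178)
(.leaf 5320))
(.node (.leaf 1163)
(.leaf 0)))))
(.node (.node (.node (.node (.leaf 10)
(.leaf 1178))
(.node (.leaf 1159)
(.leaf 0)))
(.node (.node (.leaf 1279)
(.leaf 5342))
(.node (.leaf 1163)
(.leaf 0))))
(.node (.node (.node (.leaf 10)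
(.leaf 1175))
(.node (.leaf 1177)
(.leaf 0)))
(.node (.node (.leaf 1175)
(.leaf 5320))
(.node (.leaf 1163)
(.leaf 0))))))
(.node (.node (.node (.node (.node (.leaf 16)
(.leaf 1159))
(.node (.leaf 1163)
(.leaf 0)))
(.node (.node (.leaf 1175)
(.leaf 5315))
(.node (.leaf 1175)
(.leaf 0))))
(.node (.node (.node (.leaf 10)
(.leaf 1163))
(.node (.leaf 1177)
(.leaf 0)))
(.node (.node (.leaf 1279)
(.leaf 5320))
(.node (.leaf 1163)
(.leaf 0)))))
(.node (.node (.node (.node (.leaf 178)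
(.leaf 1175))
(.node (.leaf 1178)
(.leaf 0)))
(.node (.node (.leaf 1157)
(.leaf 5320))
(.node (.leaf 1163)
(.leaf 0))))
(.node (.node (.node (.leaf 58)
(.leaf 1178))
(.node (.leaf 1178)
(.leaf 0)))
(.node (.node (.leaf 1178)
(.leaf 5320))
(.node (.leaf 1279)
(.leaf 0))))))))
(.node (.node (.node (.node (.node (.node (.node (.leaf 10)
(.leaf 1178))
(.node (.leaf 1163)
(.leaf 5320)))
(.node (.node (.leaf 11)
(.leaf 1177))
(.node (.leaf 1175)
(.leaf 0))))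
(.node (.node (.node (.leaf 56)
(.leaf 1279))
(.node (.leaf 1175)
(.leaf 0)))
(.node (.node (.leaf 1178)
(.leaf 5320))
(.node (.leaf 1163)
(.leaf 0)))))
(.node (.node (.node (.node (.leaf 3)
(.leaf 1177))
(.node (.leaf 1178)
(.leaf 0)))
(.node (.node (.leaf 1175)
(.leaf 5315))
(.node (.leaf 1178)
(.leaf 0))))
(.node (.node (.node (.leaf 16)
(.leaf 1163))
(.node (.leaf 1178)
(.leaf 0)))
(.node (.node (.leaf 1175)
(.leaf 5342))
(.node (.leaf 1178)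
(.leaf 0))))))
(.node (.node (.node (.node (.node (.leaf 11)
(.leaf 1178))
(.node (.leaf 1175)
(.leaf 0)))
(.node (.node (.leaf 1178)
(.leaf 1178))
(.node (.leaf 1163)
(.leaf 0))))
(.node (.node (.node (.leaf 10)
(.leaf 1178))
(.node (.leaf 1178)
(.leaf 0)))
(.node (.node (.leaf 1157)
(.leaf 5320))
(.node (.leaf 1175)
(.leaf 0)))))
(.node (.node (.node (.node (.leaf 3)
(.leaf 1178))
(.node (.leaf 1279)
(.leaf 0)))
(.node (.node (.leaf 1155)
(.leaf 5320))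
(.node (.leaf 1175)
(.leaf 0))))
(.node (.node (.node (.leaf 178)
(.leaf 1177))
(.node (.leaf 1178)
(.leaf 0)))
(.node (.node (.leaf 1178)
(.leaf 5320))
(.node (.leaf 1163)
(.leaf 0)))))))
(.node (.node (.node (.node (.node (.node (.leaf 10)
(.leaf 1177))
(.node (.leaf 1163)
(.leaf 5644)))
(.node (.node (.leaf 297)
(.leaf 1159))
(.node (.leaf 1178)
(.leaf 0))))
(.node (.node (.node (.leaf 11)
(.leaf 1178))
(.node (.leaf 1178)
(.leaf 0)))
(.node (.node (.leaf 1159)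
(.leaf 5320))
(.node (.leaf 1163)
(.leaf 0)))))
(.node (.node (.node (.node (.leaf 3)
(.leaf 1159))
(.node (.leaf 1163)
(.leaf 0)))
(.node (.node (.leaf 1185)
(.leaf 5320))
(.node (.leaf 1178)
(.leaf 0))))
(.node (.node (.node (.leaf 297)
(.leaf 1163))
(.node (.leaf 1163)
(.leaf 0)))
(.node (.node (.leaf 1157)
(.leaf 5446))
(.node (.leaf 1163)
(.leaf 0))))))
(.node (.node (.node (.node (.node (.leaf 10)
(.leaf 1163))
(.node (.leaf 1178)
(.leaf 0)))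
(.node (.node (.leaf 1177)
(.leaf 5315))
(.node (.leaf 1159)
(.leaf 0))))
(.node (.node (.node (.leaf 178)
(.leaf 1177))
(.node (.leaf 1163)
(.leaf 0)))
(.node (.node (.leaf 1163)
(.leaf 5342))
(.node (.leaf 1178)
(.leaf 0)))))
(.node (.node (.node (.node (.leaf 16)
(.leaf 1177))
(.node (.leaf 1175)
(.leaf 0)))
(.node (.node (.leaf 1178)
(.leaf 5320))
(.node (.leaf 1178)
(.leaf 0))))
(.node (.node (.node (.leaf 297)
(.leaf 1177))
(.node (.leaf 1163)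
(.leaf 0)))
(.node (.node (.leaf 1163)
(.leaf 5446))
(.node (.leaf 1178)
(.leaf 0))))))))))
(.node (.node (.node (.node (.node (.node (.node (.node (.node (.leaf 10)
(.leaf 1178))
(.node (.leaf 1163)
(.leaf 5446)))
(.node (.node (.leaf 10)
(.leaf 1163))
(.node (.leaf 1175)
(.leaf 0))))
(.node (.node (.node (.leaf 16)
(.leaf 1178))
(.node (.leaf 1159)
(.leaf 0)))
(.node (.node (.leaf 1175)
(.leaf 5446))
(.node (.leaf 1178)
(.leaf 0)))))
(.node (.node (.node (.node (.leaf 10)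
(.leaf 1177))
(.node (.leaf 1163)
(.leaf 0)))
(.node (.node (.leaf 1157)
(.leaf 5315))
(.node (.leaf 1159)
(.leaf 0))))
(.node (.node (.node (.leaf 31)
(.leaf 1175))
(.node (.leaf 1177)
(.leaf 0)))
(.node (.node (.leaf 1163)
(.leaf 5320))
(.node (.leaf 1177)
(.leaf 0))))))
(.node (.node (.node (.node (.node (.leaf 10)
(.leaf 1178))
(.node (.leaf 1178)
(.leaf 5446)))
(.node (.node (.leaf 1157)
(.leaf 1159))
(.node (.leaf 1163)
(.leaf 0))))
(.node (.node (.node (.leaf 11)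
(.leaf 1177))
(.node (.leaf 1159)
(.leaf 0)))
(.node (.node (.leaf 1159)
(.leaf 5320))
(.node (.leaf 1175)
(.leaf 0)))))
(.node (.node (.node (.node (.leaf 3)
(.leaf 1178))
(.node (.leaf 1178)
(.leaf 0)))
(.node (.node (.leaf 1163)
(.leaf 5342))
(.node (.leaf 1178)
(.leaf 0))))
(.node (.node (.node (.leaf 178)
(.leaf 1178))
(.node (.leaf 1163)
(.leaf 0)))
(.node (.node (.leaf 1177)
(.leaf 5320))
(.node (.leaf 1175)
(.leaf 0)))))))
(.node (.node (.node (.node (.node (.node (.leaf 10)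
(.leaf 1175))
(.node (.leaf 1163)
(.leaf 5446)))
(.node (.node (.leaf 178)
(.leaf 1178))
(.node (.leaf 1163)
(.leaf 0))))
(.node (.node (.node (.leaf 10)
(.leaf 1178))
(.node (.leaf 1159)
(.leaf 0)))
(.node (.node (.leaf 1178)
(.leaf 5342))
(.node (.leaf 1163)
(.leaf 0)))))
(.node (.node (.node (.node (.leaf 10)
(.leaf 1159))
(.node (.leaf 1159)
(.leaf 0)))
(.node (.node (.leaf 1155)
(.leaf 5313))
(.node (.leaf 1159)
(.leaf 0))))
(.node (.node (.node (.leaf 178)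
(.leaf 1175))
(.node (.leaf 1159)
(.leaf 0)))
(.node (.node (.leaf 1175)
(.leaf 5446))
(.node (.leaf 1175)
(.leaf 0))))))
(.node (.node (.node (.node (.node (.leaf 16)
(.leaf 1159))
(.node (.leaf 1178)
(.leaf 0)))
(.node (.node (.leaf 1156)
(.leaf 5320))
(.node (.leaf 1163)
(.leaf 0))))
(.node (.node (.node (.leaf 10)
(.leaf 1178))
(.node (.leaf 1163)
(.leaf 0)))
(.node (.node (.leaf 1163)
(.leaf 5320))
(.node (.leaf 1163)
(.leaf 0)))))
(.node (.node (.node (.node (.leaf 11)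
(.leaf 1159))
(.node (.leaf 1159)
(.leaf 0)))
(.node (.node (.leaf 1175)
(.leaf 5320))
(.node (.leaf 1175)
(.leaf 0))))
(.node (.node (.node (.leaf 16)
(.leaf 1159))
(.node (.leaf 1159)
(.leaf 0)))
(.node (.node (.leaf 1163)
(.leaf 5320))
(.node (.leaf 1163)
(.leaf 0))))))))
(.node (.node (.node (.node (.node (.node (.node (.leaf 31)
(.leaf 1178))
(.node (.leaf 1175)
(.leaf 5446)))
(.node (.node (.leaf 31)
(.leaf 1163))
(.node (.leaf 1163)
(.leaf 0))))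
(.node (.node (.node (.leaf 16)
(.leaf 1159))
(.node (.leaf 1178)
(.leaf 0)))
(.node (.node (.leaf 1159)
(.leaf 5342))
(.node (.leaf 1163)
(.leaf 0)))))
(.node (.node (.node (.node (.leaf 58)
(.leaf 1178))
(.node (.leaf 1159)
(.leaf 0)))
(.node (.node (.leaf 1175)
(.leaf 5342))
(.node (.leaf 1178)
(.leaf 0))))
(.node (.node (.node (.leaf 10)
(.leaf 1178))
(.node (.leaf 1159)
(.leaf 0)))
(.node (.node (.leaf 1163)
(.leaf 5320))
(.node (.leaf 1163)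
(.leaf 0))))))
(.node (.node (.node (.node (.node (.leaf 3)
(.leaf 1177))
(.node (.leaf 1163)
(.leaf 0)))
(.node (.node (.leaf 1163)
(.leaf 1178))
(.node (.leaf 1163)
(.leaf 0))))
(.node (.node (.node (.leaf 178)
(.leaf 1163))
(.node (.leaf 1177)
(.leaf 0)))
(.node (.node (.leaf 1159)
(.leaf 5320))
(.node (.leaf 1175)
(.leaf 0)))))
(.node (.node (.node (.node (.leaf 3)
(.leaf 1159))
(.node (.leaf 1159)
(.leaf 0)))
(.node (.node (.leaf 1157)
(.leaf 5315))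
(.node (.leaf 1163)
(.leaf 0))))
(.node (.node (.node (.leaf 178)
(.leaf 1279))
(.node (.leaf 1163)
(.leaf 0)))
(.node (.node (.leaf 1159)
(.leaf 5320))
(.node (.leaf 1178)
(.leaf 0)))))))
(.node (.node (.node (.node (.node (.node (.leaf 10)
(.leaf 1178))
(.node (.leaf 1163)
(.leaf 5446)))
(.node (.node (.leaf 178)
(.leaf 1178))
(.node (.leaf 1163)
(.leaf 0))))
(.node (.node (.node (.leaf 31)
(.leaf 1159))
(.node (.leaf 1163)
(.leaf 0)))
(.node (.node (.leaf 1163)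
(.leaf 5320))
(.node (.leaf 1163)
(.leaf 0)))))
(.node (.node (.node (.node (.leaf 10)
(.leaf 1178))
(.node (.leaf 1178)
(.leaf 0)))
(.node (.node (.leaf 1156)
(.leaf 5446))
(.node (.leaf 1178)
(.leaf 0))))
(.node (.node (.node (.leaf 11)
(.leaf 1163))
(.node (.leaf 1163)
(.leaf 0)))
(.node (.node (.leaf 1156)
(.leaf 5644))
(.node (.leaf 1159)
(.leaf 0))))))
(.node (.node (.node (.node (.node (.leaf 10)
(.leaf 1163))
(.node (.leaf 1163)
(.leaf 0)))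
(.node (.node (.leaf 1163)
(.leaf 5315))
(.node (.leaf 1178)
(.leaf 0))))
(.node (.node (.node (.leaf 178)
(.leaf 1178))
(.node (.leaf 1163)
(.leaf 0)))
(.node (.node (.leaf 1175)
(.leaf 5320))
(.node (.leaf 1163)
(.leaf 0)))))
(.node (.node (.node (.node (.leaf 10)
(.leaf 1178))
(.node (.leaf 1159)
(.leaf 0)))
(.node (.node (.leaf 1178)
(.leaf 5446))
(.node (.leaf 1159)
(.leaf 0))))
(.node (.node (.node (.leaf 58)
(.leaf 1177))
(.node (.leaf 1175)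
(.leaf 0)))
(.node (.node (.leaf 1177)
(.leaf 5446))
(.node (.leaf 1178)
(.leaf 0)))))))))
(.node (.node (.node (.node (.node (.node (.node (.node (.leaf 1)
(.leaf 1178))
(.node (.leaf 1163)
(.leaf 5342)))
(.node (.node (.leaf 3)
(.leaf 1163))
(.node (.leaf 1163)
(.leaf 0))))
(.node (.node (.node (.leaf 10)
(.leaf 1178))
(.node (.leaf 1177)
(.leaf 0)))
(.node (.node (.leaf 1178)
(.leaf 5320))
(.node (.leaf 1175)
(.leaf 0)))))
(.node (.node (.node (.node (.leaf 10)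
(.leaf 1178))
(.node (.leaf 1175)
(.leaf 0)))
(.node (.node (.leaf 1157)
(.leaf 5320))
(.node (.leaf 1178)
(.leaf 0))))
(.node (.node (.node (.leaf 10)
(.leaf 1163))
(.node (.leaf 1178)
(.leaf 0)))
(.node (.node (.leaf 1175)
(.leaf 5320))
(.node (.leaf 1163)
(.leaf 0))))))
(.node (.node (.node (.node (.node (.leaf 10)
(.leaf 1159))
(.node (.leaf 1163)
(.leaf 5446)))
(.node (.node (.leaf 1157)
(.leaf 1178))
(.node (.leaf 1175)
(.leaf 0))))
(.node (.node (.node (.leaf 10)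
(.leaf 1163))
(.node (.leaf 1175)
(.leaf 0)))
(.node (.node (.leaf 1178)
(.leaf 5446))
(.node (.leaf 1163)
(.leaf 0)))))
(.node (.node (.node (.node (.leaf 3)
(.leaf 1177))
(.node (.leaf 1175)
(.leaf 0)))
(.node (.node (.leaf 1175)
(.leaf 5315))
(.node (.leaf 1163)
(.leaf 0))))
(.node (.node (.node (.leaf 11)
(.leaf 1178))
(.node (.leaf 1159)
(.leaf 0)))
(.node (.node (.leaf 1175)
(.leaf 5446))
(.node (.leaf 1163)
(.leaf 0)))))))
(.node (.node (.node (.node (.node (.node (.leaf 10)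
(.leaf 1178))
(.node (.leaf 1175)
(.leaf 5320)))
(.node (.node (.leaf 178)
(.leaf 1159))
(.node (.leaf 1178)
(.leaf 0))))
(.node (.node (.node (.leaf 3)
(.leaf 1178))
(.node (.leaf 1178)
(.leaf 0)))
(.node (.node (.leaf 1157)
(.leaf 5320))
(.node (.leaf 1163)
(.leaf 0)))))
(.node (.node (.node (.node (.leaf 10)
(.leaf 1177))
(.node (.leaf 1178)
(.leaf 0)))
(.node (.node (.leaf 1178)
(.leaf 5320))
(.node (.leaf 1163)
(.leaf 0))))
(.node (.node (.node (.leaf 297)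
(.leaf 1279))
(.node (.leaf 1175)
(.leaf 0)))
(.node (.node (.leaf 1185)
(.leaf 5320))
(.node (.leaf 1163)
(.leaf 0))))))
(.node (.node (.node (.node (.node (.leaf 58)
(.leaf 1178))
(.node (.leaf 1163)
(.leaf 0)))
(.node (.node (.leaf 1175)
(.leaf 5320))
(.node (.leaf 1175)
(.leaf 0))))
(.node (.node (.node (.leaf 3)
(.leaf 1177))
(.node (.leaf 1159)
(.leaf 0)))
(.node (.node (.leaf 1178)
(.leaf 5320))
(.node (.leaf 1175)
(.leaf 0)))))
(.node (.node (.node (.node (.leaf 10)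
(.leaf 1163))
(.node (.leaf 1163)
(.leaf 0)))
(.node (.node (.leaf 1163)
(.leaf 5320))
(.node (.leaf 1279)
(.leaf 0))))
(.node (.node (.node (.leaf 56)
(.leaf 1279))
(.node (.leaf 1163)
(.leaf 0)))
(.node (.node (.leaf 1178)
(.leaf 5446))
(.node (.leaf 1163)
(.leaf 0))))))))
(.node (.node (.node (.node (.node (.node (.node (.leaf 61)
(.leaf 1279))
(.node (.leaf 1163)
(.leaf 5446)))
(.node (.node (.leaf 178)
(.leaf 1163))
(.node (.leaf 1175)
(.leaf 0))))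
(.node (.node (.node (.leaf 16)
(.leaf 1177))
(.node (.leaf 1178)
(.leaf 0)))
(.node (.node (.leaf 1177)
(.leaf 5320))
(.node (.leaf 1175)
(.leaf 0)))))
(.node (.node (.node (.node (.leaf 3)
(.leaf 1178))
(.node (.leaf 1178)
(.leaf 0)))
(.node (.node (.leaf 1163)
(.leaf 5315))
(.node (.leaf 1178)
(.leaf 0))))
(.node (.node (.node (.leaf 58)
(.leaf 1163))
(.node (.leaf 1279)
(.leaf 0)))
(.node (.node (.leaf 1163)
(.leaf 5446))
(.node (.leaf 1175)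
(.leaf 0))))))
(.node (.node (.node (.node (.node (.leaf 10)
(.leaf 1177))
(.node (.leaf 1175)
(.leaf 0)))
(.node (.node (.leaf 1157)
(.leaf 1175))
(.node (.leaf 1163)
(.leaf 0))))
(.node (.node (.node (.leaf 178)
(.leaf 1177))
(.node (.leaf 1178)
(.leaf 0)))
(.node (.node (.leaf 1159)
(.leaf 5446))
(.node (.leaf 1175)
(.leaf 0)))))
(.node (.node (.node (.node (.leaf 10)
(.leaf 1177))
(.node (.leaf 1279)
(.leaf 0)))
(.node (.node (.leaf 1156)
(.leaf 5320))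
(.node (.leaf 1163)
(.leaf 0))))
(.node (.node (.node (.leaf 178)
(.leaf 1279))
(.node (.leaf 1178)
(.leaf 0)))
(.node (.node (.leaf 1178)
(.leaf 5342))
(.node (.leaf 1159)
(.leaf 0)))))))
(.node (.node (.node (.node (.node (.node (.leaf 3)
(.leaf 1178))
(.node (.leaf 1163)
(.leaf 5446)))
(.node (.node (.leaf 297)
(.leaf 1159))
(.node (.leaf 1163)
(.leaf 0))))
(.node (.node (.node (.leaf 178)
(.leaf 1159))
(.node (.leaf 1159)
(.leaf 0)))
(.node (.node (.leaf 1279)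
(.leaf 5320))
(.node (.leaf 1175)
(.leaf 0)))))
(.node (.node (.node (.node (.leaf 3)
(.leaf 1159))
(.node (.leaf 1163)
(.leaf 0)))
(.node (.node (.leaf 1159)
(.leaf 5320))
(.node (.leaf 1178)
(.leaf 0))))
(.node (.node (.node (.leaf 178)
(.leaf 1163))
(.node (.leaf 1163)
(.leaf 0)))
(.node (.node (.leaf 1178)
(.leaf 5320))
(.node (.leaf 1175)
(.leaf 0))))))
(.node (.node (.node (.node (.node (.leaf 11)
(.leaf 1178))
(.node (.leaf 1163)
(.leaf 0)))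
(.node (.node (.leaf 1157)
(.leaf 5313))
(.node (.leaf 1177)
(.leaf 0))))
(.node (.node (.node (.leaf 3)
(.leaf 1163))
(.node (.leaf 1178)
(.leaf 0)))
(.node (.node (.leaf 1175)
(.leaf 5644))
(.node (.leaf 1163)
(.leaf 0)))))
(.node (.node (.node (.node (.leaf 10)
(.leaf 1178))
(.node (.leaf 1178)
(.leaf 0)))
(.node (.node (.leaf 1177)
(.leaf 5313))
(.node (.leaf 1159)
(.leaf 0))))
(.node (.node (.node (.leaf 31)
(.leaf 1159))
(.node (.leaf 1163)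
(.leaf 0)))
(.node (.node (.leaf 1163)
(.leaf 5320))
(.node (.leaf 1159)
(.leaf 0))))))))))))
(.node (.node (.node (.node (.node (.node (.node (.node (.node (.node (.node (.leaf 3)
(.leaf 1178))
(.node (.leaf 1163)
(.leaf 5342)))
(.node (.node (.leaf 178)
(.leaf 1178))
(.node (.leaf 1163)
(.leaf 0))))
(.node (.node (.node (.leaf 11)
(.leaf 1159))
(.node (.leaf 1178)
(.leaf 0)))
(.node (.node (.leaf 1159)
(.leaf 5320))
(.node (.leaf 1159)
(.leaf 0)))))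
(.node (.node (.node (.node (.leaf 3)
(.leaf 1178))
(.node (.leaf 1163)
(.leaf 0)))
(.node (.node (.leaf 1178)
(.leaf 5320))
(.node (.leaf 1163)
(.leaf 0))))
(.node (.node (.node (.leaf 10)
(.leaf 1175))
(.node (.leaf 1163)
(.leaf 0)))
(.node (.node (.leaf 1163)
(.leaf 5342))
(.node (.leaf 1163)
(.leaf 0))))))
(.node (.node (.node (.node (.node (.leaf 3)
(.leaf 1178))
(.node (.leaf 1159)
(.leaf 5644)))
(.node (.node (.leaf 1155)
(.leaf 1178))
(.node (.leaf 1163)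
(.leaf 0))))
(.node (.node (.node (.leaf 3)
(.leaf 1178))
(.node (.leaf 1178)
(.leaf 0)))
(.node (.node (.leaf 1177)
(.leaf 5320))
(.node (.leaf 1175)
(.leaf 0)))))
(.node (.node (.node (.node (.leaf 10)
(.leaf 1159))
(.node (.leaf 1163)
(.leaf 0)))
(.node (.node (.leaf 1163)
(.leaf 5315))
(.node (.leaf 1178)
(.leaf 0))))
(.node (.node (.node (.leaf 178)
(.leaf 1159))
(.node (.leaf 1163)
(.leaf 0)))
(.node (.node (.leaf 1178)
(.leaf 5320))
(.node (.leaf 1178)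
(.leaf 0)))))))
(.node (.node (.node (.node (.node (.node (.leaf 31)
(.leaf 1159))
(.node (.leaf 1163)
(.leaf 5320)))
(.node (.node (.leaf 10)
(.leaf 1163))
(.node (.leaf 1163)
(.leaf 0))))
(.node (.node (.node (.leaf 10)
(.leaf 1163))
(.node (.leaf 1159)
(.leaf 0)))
(.node (.node (.leaf 1175)
(.leaf 5320))
(.node (.leaf 1159)
(.leaf 0)))))
(.node (.node (.node (.node (.leaf 3)
(.leaf 1159))
(.node (.leaf 1178)
(.leaf 0)))
(.node (.node (.leaf 1157)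
(.leaf 5320))
(.node (.leaf 1159)
(.leaf 0))))
(.node (.node (.node (.leaf 16)
(.leaf 1175))
(.node (.leaf 1177)
(.leaf 0)))
(.node (.node (.leaf 1163)
(.leaf 5320))
(.node (.leaf 1163)
(.leaf 0))))))
(.node (.node (.node (.node (.node (.leaf 10)
(.leaf 1159))
(.node (.leaf 1163)
(.leaf 0)))
(.node (.node (.leaf 1157)
(.leaf 5315))
(.node (.leaf 1163)
(.leaf 0))))
(.node (.node (.node (.leaf 3)
(.leaf 1159))
(.node (.leaf 1279)
(.leaf 0)))
(.node (.node (.leaf 1163)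
(.leaf 5320))
(.node (.leaf 1163)
(.leaf 0)))))
(.node (.node (.node (.node (.leaf 10)
(.leaf 1178))
(.node (.leaf 1279)
(.leaf 0)))
(.node (.node (.leaf 1157)
(.leaf 5342))
(.node (.leaf 1163)
(.leaf 0))))
(.node (.node (.node (.leaf 16)
(.leaf 1159))
(.node (.leaf 1159)
(.leaf 0)))
(.node (.node (.leaf 1175)
(.leaf 5320))
(.node (.leaf 1163)
(.leaf 0))))))))
(.node (.node (.node (.node (.node (.node (.node (.leaf 3)
(.leaf 1177))
(.node (.leaf 1175)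
(.leaf 5320)))
(.node (.node (.leaf 178)
(.leaf 1163))
(.node (.leaf 1175)
(.leaf 0))))
(.node (.node (.node (.leaf 3)
(.leaf 1177))
(.node (.leaf 1178)
(.leaf 0)))
(.node (.node (.leaf 1178)
(.leaf 5320))
(.node (.leaf 1163)
(.leaf 0)))))
(.node (.node (.node (.node (.leaf 3)
(.leaf 1178))
(.node (.leaf 1178)
(.leaf 0)))
(.node (.node (.leaf 1178)
(.leaf 5320))
(.node (.leaf 1159)
(.leaf 0))))
(.node (.node (.node (.leaf 10)
(.leaf 1175))
(.node (.leaf 1163)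
(.leaf 0)))
(.node (.node (.leaf 1175)
(.leaf 5320))
(.node (.leaf 1175)
(.leaf 0))))))
(.node (.node (.node (.node (.node (.leaf 10)
(.leaf 1177))
(.node (.leaf 1159)
(.leaf 0)))
(.node (.node (.leaf 1178)
(.leaf 1159))
(.node (.leaf 1159)
(.leaf 0))))
(.node (.node (.node (.leaf 10)
(.leaf 1175))
(.node (.leaf 1178)
(.leaf 0)))
(.node (.node (.leaf 1178)
(.leaf 5320))
(.node (.leaf 1163)
(.leaf 0)))))
(.node (.node (.node (.node (.leaf 10)
(.leaf 1178))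
(.node (.leaf 1159)
(.leaf 0)))
(.node (.node (.leaf 1157)
(.leaf 5320))
(.node (.leaf 1178)
(.leaf 0))))
(.node (.node (.node (.leaf 31)
(.leaf 1178))
(.node (.leaf 1178)
(.leaf 0)))
(.node (.node (.leaf 1159)
(.leaf 5320))
(.node (.leaf 1163)
(.leaf 0)))))))
(.node (.node (.node (.node (.node (.node (.leaf 3)
(.leaf 1178))
(.node (.leaf 1159)
(.leaf 5644)))
(.node (.node (.leaf 178)
(.leaf 1177))
(.node (.leaf 1175)
(.leaf 0))))
(.node (.node (.node (.leaf 178)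
(.leaf 1178))
(.node (.leaf 1178)
(.leaf 0)))
(.node (.node (.leaf 1157)
(.leaf 5313))
(.node (.leaf 1163)
(.leaf 0)))))
(.node (.node (.node (.node (.leaf 10)
(.leaf 1175))
(.node (.leaf 1178)
(.leaf 0)))
(.node (.node (.leaf 1156)
(.leaf 5320))
(.node (.leaf 1159)
(.leaf 0))))
(.node (.node (.node (.leaf 10)
(.leaf 1163))
(.node (.leaf 1163)
(.leaf 0)))
(.node (.node (.leaf 1163)
(.leaf 5320))
(.node (.leaf 1163)
(.leaf 0))))))
(.node (.node (.node (.node (.node (.leaf 16)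
(.leaf 1178))
(.node (.leaf 1163)
(.leaf 0)))
(.node (.node (.leaf 1159)
(.leaf 5313))
(.node (.leaf 1163)
(.leaf 0))))
(.node (.node (.node (.leaf 3)
(.leaf 1163))
(.node (.leaf 1178)
(.leaf 0)))
(.node (.node (.leaf 1178)
(.leaf 5320))
(.node (.leaf 1175)
(.leaf 0)))))
(.node (.node (.node (.node (.leaf 11)
(.leaf 1163))
(.node (.leaf 1163)
(.leaf 0)))
(.node (.node (.leaf 1175)
(.leaf 5320))
(.node (.leaf 1178)
(.leaf 0))))
(.node (.node (.node (.leaf 178)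
(.leaf 1163))
(.node (.leaf 1163)
(.leaf 0)))
(.node (.node (.leaf 1178)
(.leaf 5644))
(.node (.leaf 1178)
(.leaf 0)))))))))
(.node (.node (.node (.node (.node (.node (.node (.node (.leaf 2)
(.leaf 1177))
(.node (.leaf 1175)
(.leaf 5320)))
(.node (.node (.leaf 178)
(.leaf 1163))
(.node (.leaf 1163)
(.leaf 0))))
(.node (.node (.node (.leaf 58)
(.leaf 1159))
(.node (.leaf 1159)
(.leaf 0)))
(.node (.node (.leaf 1178)
(.leaf 5342))
(.node (.leaf 1175)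
(.leaf 0)))))
(.node (.node (.node (.node (.leaf 10)
(.leaf 1159))
(.node (.leaf 1163)
(.leaf 0)))
(.node (.node (.leaf 1178)
(.leaf 5320))
(.node (.leaf 1178)
(.leaf 0))))
(.node (.node (.node (.leaf 31)
(.leaf 1175))
(.node (.leaf 1159)
(.leaf 0)))
(.node (.node (.leaf 1163)
(.leaf 5320))
(.node (.leaf 1178)
(.leaf 0))))))
(.node (.node (.node (.node (.node (.leaf 3)
(.leaf 1159))
(.node (.leaf 1163)
(.leaf 5644)))
(.node (.node (.leaf 1157)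
(.leaf 1177))
(.node (.leaf 1163)
(.leaf 0))))
(.node (.node (.node (.leaf 10)
(.leaf 1163))
(.node (.leaf 1163)
(.leaf 0)))
(.node (.node (.leaf 1163)
(.leaf 5342))
(.node (.leaf 1159)
(.leaf 0)))))
(.node (.node (.node (.node (.leaf 10)
(.leaf 1279))
(.node (.leaf 1159)
(.leaf 0)))
(.node (.node (.leaf 1163)
(.leaf 5320))
(.node (.leaf 1159)
(.leaf 0))))
(.node (.node (.node (.leaf 3)
(.leaf 1178))
(.node (.leaf 1178)
(.leaf 0)))
(.node (.node (.leaf 1157)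
(.leaf 5644))
(.node (.leaf 1163)
(.leaf 0)))))))
(.node (.node (.node (.node (.node (.node (.leaf 11)
(.leaf 1163))
(.node (.leaf 1175)
(.leaf 5320)))
(.node (.node (.leaf 297)
(.leaf 1159))
(.node (.leaf 1163)
(.leaf 0))))
(.node (.node (.node (.leaf 10)
(.leaf 1177))
(.node (.leaf 1178)
(.leaf 0)))
(.node (.node (.leaf 1159)
(.leaf 5342))
(.node (.leaf 1163)
(.leaf 0)))))
(.node (.node (.node (.node (.leaf 10)
(.leaf 1177))
(.node (.leaf 1159)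
(.leaf 0)))
(.node (.node (.leaf 1178)
(.leaf 5320))
(.node (.leaf 1178)
(.leaf 0))))
(.node (.node (.node (.leaf 3)
(.leaf 1163))
(.node (.leaf 1178)
(.leaf 0)))
(.node (.node (.leaf 1155)
(.leaf 5320))
(.node (.leaf 1178)
(.leaf 0))))))
(.node (.node (.node (.node (.node (.leaf 58)
(.leaf 1279))
(.node (.leaf 1159)
(.leaf 0)))
(.node (.node (.leaf 1157)
(.leaf 5315))
(.node (.leaf 1159)
(.leaf 0))))
(.node (.node (.node (.leaf 178)
(.leaf 1163))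
(.node (.leaf 1279)
(.leaf 0)))
(.node (.node (.leaf 1178)
(.leaf 5320))
(.node (.leaf 1175)
(.leaf 0)))))
(.node (.node (.node (.node (.leaf 178)
(.leaf 1163))
(.node (.leaf 1178)
(.leaf 0)))
(.node (.node (.leaf 1163)
(.leaf 5320))
(.node (.leaf 1163)
(.leaf 0))))
(.node (.node (.node (.leaf 61)
(.leaf 1159))
(.node (.leaf 1159)
(.leaf 0)))
(.node (.node (.leaf 1156)
(.leaf 5342))
(.node (.leaf 1175)
(.leaf 0))))))))
(.node (.node (.node (.node (.node (.node (.node (.leaf 10)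
(.leaf 1163))
(.node (.leaf 1163)
(.leaf 5320)))
(.node (.node (.leaf 178)
(.leaf 1163))
(.node (.leaf 1175)
(.leaf 0))))
(.node (.node (.node (.leaf 16)
(.leaf 1159))
(.node (.leaf 1163)
(.leaf 0)))
(.node (.node (.leaf 1159)
(.leaf 5320))
(.node (.leaf 1163)
(.leaf 0)))))
(.node (.node (.node (.node (.leaf 31)
(.leaf 1159))
(.node (.leaf 1163)
(.leaf 0)))
(.node (.node (.leaf 1163)
(.leaf 5315))
(.node (.leaf 1163)
(.leaf 0))))
(.node (.node (.node (.leaf 178)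
(.leaf 1163))
(.node (.leaf 1178)
(.leaf 0)))
(.node (.node (.leaf 1175)
(.leaf 5342))
(.node (.leaf 1178)
(.leaf 0))))))
(.node (.node (.node (.node (.node (.leaf 10)
(.leaf 1178))
(.node (.leaf 1175)
(.leaf 0)))
(.node (.node (.leaf 1157)
(.leaf 1178))
(.node (.leaf 1175)
(.leaf 0))))
(.node (.node (.node (.leaf 10)
(.leaf 1163))
(.node (.leaf 1178)
(.leaf 0)))
(.node (.node (.leaf 1159)
(.leaf 5320))
(.node (.leaf 1175)
(.leaf 0)))))
(.node (.node (.node (.node (.leaf 10)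
(.leaf 1178))
(.node (.leaf 1279)
(.leaf 0)))
(.node (.node (.leaf 1178)
(.leaf 5342))
(.node (.leaf 1175)
(.leaf 0))))
(.node (.node (.node (.leaf 16)
(.leaf 1178))
(.node (.leaf 1159)
(.leaf 0)))
(.node (.node (.leaf 1159)
(.leaf 5320))
(.node (.leaf 1177)
(.leaf 0)))))))
(.node (.node (.node (.node (.node (.node (.leaf 10)
(.leaf 1178))
(.node (.leaf 1175)
(.leaf 5446)))
(.node (.node (.leaf 178)
(.leaf 1177))
(.node (.leaf 1163)
(.leaf 0))))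
(.node (.node (.node (.leaf 11)
(.leaf 1177))
(.node (.leaf 1178)
(.leaf 0)))
(.node (.node (.leaf 1178)
(.leaf 5320))
(.node (.leaf 1163)
(.leaf 0)))))
(.node (.node (.node (.node (.leaf 10)
(.leaf 1178))
(.node (.leaf 1175)
(.leaf 0)))
(.node (.node (.leaf 1163)
(.leaf 5320))
(.node (.leaf 1159)
(.leaf 0))))
(.node (.node (.node (.leaf 178)
(.leaf 1163))
(.node (.leaf 1163)
(.leaf 0)))
(.node (.node (.leaf 1175)
(.leaf 5446))
(.node (.leaf 1163)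
(.leaf 0))))))
(.node (.node (.node (.node (.node (.leaf 3)
(.leaf 1178))
(.node (.leaf 1163)
(.leaf 0)))
(.node (.node (.leaf 1175)
(.leaf 5320))
(.node (.leaf 1163)
(.leaf 0))))
(.node (.node (.node (.leaf 10)
(.leaf 1178))
(.node (.leaf 1163)
(.leaf 0)))
(.node (.node (.leaf 1175)
(.leaf 5342))
(.node (.leaf 1178)
(.leaf 0)))))
(.node (.node (.node (.node (.leaf 10)
(.leaf 1178))
(.node (.leaf 1178)
(.leaf 0)))
(.node (.node (.leaf 1178)
(.leaf 5320))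
(.node (.leaf 1178)
(.leaf 0))))
(.node (.node (.node (.leaf 297)
(.leaf 1178))
(.node (.leaf 1175)
(.leaf 0)))
(.node (.node (.leaf 1175)
(.leaf 5446))
(.node (.leaf 1159)
(.leaf 0))))))))))
(.node (.node (.node (.node (.node (.node (.node (.node (.node (.leaf 11)
(.leaf 1159))
(.node (.leaf 1175)
(.leaf 5320)))
(.node (.node (.leaf 11)
(.leaf 1163))
(.node (.leaf 1163)
(.leaf 0))))
(.node (.node (.node (.leaf 10)
(.leaf 1178))
(.node (.leaf 1178)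
(.leaf 0)))
(.node (.node (.leaf 1175)
(.leaf 5320))
(.node (.leaf 1159)
(.leaf 0)))))
(.node (.node (.node (.node (.leaf 3)
(.leaf 1159))
(.node (.leaf 1163)
(.leaf 0)))
(.node (.node (.leaf 1157)
(.leaf 5320))
(.node (.leaf 1159)
(.leaf 0))))
(.node (.node (.node (.leaf 11)
(.leaf 1175))
(.node (.leaf 1163)
(.leaf 0)))
(.node (.node (.leaf 1163)
(.leaf 5320))
(.node (.leaf 1159)
(.leaf 0))))))
(.node (.node (.node (.node (.node (.leaf 3)
(.leaf 1163))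
(.node (.leaf 1155)
(.leaf 5446)))
(.node (.node (.leaf 1163)
(.leaf 1159))
(.node (.leaf 1175)
(.leaf 0))))
(.node (.node (.node (.leaf 10)
(.leaf 1178))
(.node (.leaf 1177)
(.leaf 0)))
(.node (.node (.leaf 1163)
(.leaf 5320))
(.node (.leaf 1163)
(.leaf 0)))))
(.node (.node (.node (.node (.leaf 10)
(.leaf 1178))
(.node (.leaf 1178)
(.leaf 0)))
(.node (.node (.leaf 1175)
(.leaf 5320))
(.node (.leaf 1163)
(.leaf 0))))
(.node (.node (.node (.leaf 178)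
(.leaf 1163))
(.node (.leaf 1163)
(.leaf 0)))
(.node (.node (.leaf 1279)
(.leaf 5342))
(.node (.leaf 1159)
(.leaf 0)))))))
(.node (.node (.node (.node (.node (.node (.leaf 10)
(.leaf 1163))
(.node (.leaf 1163)
(.leaf 5320)))
(.node (.node (.leaf 58)
(.leaf 1175))
(.node (.leaf 1163)
(.leaf 0))))
(.node (.node (.node (.leaf 3)
(.leaf 1178))
(.node (.leaf 1178)
(.leaf 0)))
(.node (.node (.leaf 1178)
(.leaf 5644))
(.node (.leaf 1163)
(.leaf 0)))))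
(.node (.node (.node (.node (.leaf 3)
(.leaf 1177))
(.node (.leaf 1177)
(.leaf 0)))
(.node (.node (.leaf 1156)
(.leaf 5320))
(.node (.leaf 1279)
(.leaf 0))))
(.node (.node (.node (.leaf 3)
(.leaf 1178))
(.node (.leaf 1178)
(.leaf 0)))
(.node (.node (.leaf 1175)
(.leaf 5446))
(.node (.leaf 1163)
(.leaf 0))))))
(.node (.node (.node (.node (.node (.leaf 56)
(.leaf 1279))
(.node (.leaf 1163)
(.leaf 0)))
(.node (.node (.leaf 1156)
(.leaf 5315))
(.node (.leaf 1163)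
(.leaf 0))))
(.node (.node (.node (.leaf 178)
(.leaf 1159))
(.node (.leaf 1178)
(.leaf 0)))
(.node (.node (.leaf 1163)
(.leaf 5320))
(.node (.leaf 1178)
(.leaf 0)))))
(.node (.node (.node (.node (.leaf 3)
(.leaf 1178))
(.node (.leaf 1178)
(.leaf 0)))
(.node (.node (.leaf 1175)
(.leaf 5320))
(.node (.leaf 1163)
(.leaf 0))))
(.node (.node (.node (.leaf 178)
(.leaf 1159))
(.node (.leaf 1177)
(.leaf 0)))
(.node (.node (.leaf 1175)
(.leaf 5320))
(.node (.leaf 1175)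
(.leaf 0))))))))
(.node (.node (.node (.node (.node (.node (.node (.leaf 10)
(.leaf 1178))
(.node (.leaf 1163)
(.leaf 5446)))
(.node (.node (.leaf 10)
(.leaf 1159))
(.node (.leaf 1163)
(.leaf 0))))
(.node (.node (.node (.leaf 16)
(.leaf 1178))
(.node (.leaf 1178)
(.leaf 0)))
(.node (.node (.leaf 1159)
(.leaf 5320))
(.node (.leaf 1163)
(.leaf 0)))))
(.node (.node (.node (.node (.leaf 10)
(.leaf 1178))
(.node (.leaf 1157)
(.leaf 0)))
(.node (.node (.leaf 1175)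
(.leaf 5342))
(.node (.leaf 1177)
(.leaf 0))))
(.node (.node (.node (.leaf 11)
(.leaf 1163))
(.node (.leaf 1178)
(.leaf 0)))
(.node (.node (.leaf 1163)
(.leaf 5320))
(.node (.leaf 1163)
(.leaf 0))))))
(.node (.node (.node (.node (.node (.leaf 10)
(.leaf 1178))
(.node (.leaf 1163)
(.leaf 0)))
(.node (.node (.leaf 1175)
(.leaf 1177))
(.node (.leaf 1279)
(.leaf 0))))
(.node (.node (.node (.leaf 3)
(.leaf 1163))
(.node (.leaf 1178)
(.leaf 0)))
(.node (.node (.leaf 1178)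
(.leaf 5320))
(.node (.leaf 1175)
(.leaf 0)))))
(.node (.node (.node (.node (.leaf 10)
(.leaf 1178))
(.node (.leaf 1178)
(.leaf 0)))
(.node (.node (.leaf 1175)
(.leaf 5320))
(.node (.leaf 1157)
(.leaf 0))))
(.node (.node (.node (.leaf 61)
(.leaf 1177))
(.node (.leaf 1178)
(.leaf 0)))
(.node (.node (.leaf 1159)
(.leaf 5320))
(.node (.leaf 1163)
(.leaf 0)))))))
(.node (.node (.node (.node (.node (.node (.leaf 31)
(.leaf 1159))
(.node (.leaf 1178)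
(.leaf 5320)))
(.node (.node (.leaf 178)
(.leaf 1177))
(.node (.leaf 1175)
(.leaf 0))))
(.node (.node (.node (.leaf 3)
(.leaf 1178))
(.node (.leaf 1177)
(.leaf 0)))
(.node (.node (.leaf 1175)
(.leaf 5320))
(.node (.leaf 1163)
(.leaf 0)))))
(.node (.node (.node (.node (.leaf 11)
(.leaf 1178))
(.node (.leaf 1159)
(.leaf 0)))
(.node (.node (.leaf 1157)
(.leaf 5320))
(.node (.leaf 1175)
(.leaf 0))))
(.node (.node (.node (.leaf 10)
(.leaf 1175))
(.node (.leaf 1175)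
(.leaf 0)))
(.node (.node (.leaf 1157)
(.leaf 5644))
(.node (.leaf 1163)
(.leaf 0))))))
(.node (.node (.node (.node (.node (.leaf 10)
(.leaf 1159))
(.node (.leaf 1163)
(.leaf 0)))
(.node (.node (.leaf 1178)
(.leaf 5335))
(.node (.leaf 1177)
(.leaf 0))))
(.node (.node (.node (.leaf 10)
(.leaf 1178))
(.node (.leaf 1178)
(.leaf 0)))
(.node (.node (.leaf 1175)
(.leaf 5320))
(.node (.leaf 1175)
(.leaf 0)))))
(.node (.node (.node (.node (.leaf 10)
(.leaf 1178))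
(.node (.leaf 1163)
(.leaf 0)))
(.node (.node (.leaf 1163)
(.leaf 5320))
(.node (.leaf 1178)
(.leaf 0))))
(.node (.node (.node (.leaf 178)
(.leaf 1178))
(.node (.leaf 1178)
(.leaf 0)))
(.node (.node (.leaf 1178)
(.leaf 5446))
(.node (.leaf 1159)
(.leaf 0)))))))))
(.node (.node (.node (.node (.node (.node (.node (.node (.leaf 10)
(.leaf 1177))
(.node (.leaf 1163)
(.leaf 5320)))
(.node (.node (.leaf 297)
(.leaf 1177))
(.node (.leaf 1163)
(.leaf 0))))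
(.node (.node (.node (.leaf 16)
(.leaf 1163))
(.node (.leaf 1177)
(.leaf 0)))
(.node (.node (.leaf 1178)
(.leaf 5320))
(.node (.leaf 1163)
(.leaf 0)))))
(.node (.node (.node (.node (.leaf 11)
(.leaf 1178))
(.node (.leaf 1175)
(.leaf 0)))
(.node (.node (.leaf 1157)
(.leaf 5320))
(.node (.leaf 1178)
(.leaf 0))))
(.node (.node (.node (.leaf 31)
(.leaf 1175))
(.node (.leaf 1178)
(.leaf 0)))
(.node (.node (.leaf 1175)
(.leaf 5320))
(.node (.leaf 1163)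
(.leaf 0))))))
(.node (.node (.node (.node (.node (.leaf 58)
(.leaf 1178))
(.node (.leaf 1163)
(.leaf 5446)))
(.node (.node (.leaf 1178)
(.leaf 1159))
(.node (.leaf 1163)
(.leaf 0))))
(.node (.node (.node (.leaf 31)
(.leaf 1163))
(.node (.leaf 1163)
(.leaf 0)))
(.node (.node (.leaf 1159)
(.leaf 5644))
(.node (.leaf 1178)
(.leaf 0)))))
(.node (.node (.node (.node (.leaf 3)
(.leaf 1163))
(.node (.leaf 1159)
(.leaf 0)))
(.node (.node (.leaf 1163)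
(.leaf 5320))
(.node (.leaf 1177)
(.leaf 0))))
(.node (.node (.node (.leaf 10)
(.leaf 1177))
(.node (.leaf 1177)
(.leaf 0)))
(.node (.node (.leaf 1157)
(.leaf 5320))
(.node (.leaf 1163)
(.leaf 0)))))))
(.node (.node (.node (.node (.node (.node (.leaf 58)
(.leaf 1178))
(.node (.leaf 1163)
(.leaf 5446)))
(.node (.node (.leaf 178)
(.leaf 1159))
(.node (.leaf 1175)
(.leaf 0))))
(.node (.node (.node (.leaf 3)
(.leaf 1159))
(.node (.leaf 1178)
(.leaf 0)))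
(.node (.node (.leaf 1159)
(.leaf 5446))
(.node (.leaf 1163)
(.leaf 0)))))
(.node (.node (.node (.node (.leaf 10)
(.leaf 1178))
(.node (.leaf 1178)
(.leaf 0)))
(.node (.node (.leaf 1185)
(.leaf 5320))
(.node (.leaf 1163)
(.leaf 0))))
(.node (.node (.node (.leaf 3)
(.leaf 1159))
(.node (.leaf 1163)
(.leaf 0)))
(.node (.node (.leaf 1178)
(.leaf 5644))
(.node (.leaf 1163)
(.leaf 0))))))
(.node (.node (.node (.node (.node (.leaf 61)
(.leaf 1178))
(.node (.leaf 1175)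
(.leaf 0)))
(.node (.node (.leaf 1163)
(.leaf 5313))
(.node (.leaf 1177)
(.leaf 0))))
(.node (.node (.node (.leaf 10)
(.leaf 1178))
(.node (.leaf 1279)
(.leaf 0)))
(.node (.node (.leaf 1175)
(.leaf 5320))
(.node (.leaf 1163)
(.leaf 0)))))
(.node (.node (.node (.node (.leaf 10)
(.leaf 1163))
(.node (.leaf 1159)
(.leaf 0)))
(.node (.node (.leaf 1163)
(.leaf 5320))
(.node (.leaf 1178)
(.leaf 0))))
(.node (.node (.node (.leaf 3)
(.leaf 1177))
(.node (.leaf 1175)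
(.leaf 0)))
(.node (.node (.leaf 1279)
(.leaf 5320))
(.node (.leaf 1163)
(.leaf 0))))))))
(.node (.node (.node (.node (.node (.node (.node (.leaf 16)
(.leaf 1178))
(.node (.leaf 1163)
(.leaf 5320)))
(.node (.node (.leaf 178)
(.leaf 1178))
(.node (.leaf 1163)
(.leaf 0))))
(.node (.node (.node (.leaf 58)
(.leaf 1178))
(.node (.leaf 1178)
(.leaf 0)))
(.node (.node (.leaf 1159)
(.leaf 5342))
(.node (.leaf 1163)
(.leaf 0)))))
(.node (.node (.node (.node (.leaf 16)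
(.leaf 1163))
(.node (.leaf 1178)
(.leaf 0)))
(.node (.node (.leaf 1163)
(.leaf 5313))
(.node (.leaf 1178)
(.leaf 0))))
(.node (.node (.node (.leaf 3)
(.leaf 1175))
(.node (.leaf 1177)
(.leaf 0)))
(.node (.node (.leaf 1163)
(.leaf 5320))
(.node (.leaf 1163)
(.leaf 0))))))
(.node (.node (.node (.node (.node (.leaf 10)
(.leaf 1177))
(.node (.leaf 1163)
(.leaf 0)))
(.node (.node (.leaf 1157)
(.leaf 1159))
(.node (.leaf 1175)
(.leaf 0))))
(.node (.node (.node (.leaf 10)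
(.leaf 1159))
(.node (.leaf 1159)
(.leaf 0)))
(.node (.node (.leaf 1163)
(.leaf 5342))
(.node (.leaf 1177)
(.leaf 0)))))
(.node (.node (.node (.node (.leaf 10)
(.leaf 1178))
(.node (.leaf 1159)
(.leaf 0)))
(.node (.node (.leaf 1157)
(.leaf 5342))
(.node (.leaf 1163)
(.leaf 0))))
(.node (.node (.node (.leaf 178)
(.leaf 1178))
(.node (.leaf 1177)
(.leaf 0)))
(.node (.node (.leaf 1157)
(.leaf 5320))
(.node (.leaf 1159)
(.leaf 0)))))))
(.node (.node (.node (.node (.node (.node (.leaf 10)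
(.leaf 1178))
(.node (.leaf 1163)
(.leaf 5446)))
(.node (.node (.leaf 178)
(.leaf 1163))
(.node (.leaf 1175)
(.leaf 0))))
(.node (.node (.node (.leaf 3)
(.leaf 1178))
(.node (.leaf 1175)
(.leaf 0)))
(.node (.node (.leaf 1163)
(.leaf 5320))
(.node (.leaf 1163)
(.leaf 0)))))
(.node (.node (.node (.node (.leaf 3)
(.leaf 1279))
(.node (.leaf 1163)
(.leaf 0)))
(.node (.node (.leaf 1279)
(.leaf 5342))
(.node (.leaf 1159)
(.leaf 0))))
(.node (.node (.node (.leaf 178)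
(.leaf 1175))
(.node (.leaf 1163)
(.leaf 0)))
(.node (.node (.leaf 1178)
(.leaf 5320))
(.node (.leaf 1163)
(.leaf 0))))))
(.node (.node (.node (.node (.node (.leaf 3)
(.leaf 1178))
(.node (.leaf 1163)
(.leaf 0)))
(.node (.node (.leaf 1155)
(.leaf 5320))
(.node (.leaf 1163)
(.leaf 0))))
(.node (.node (.node (.leaf 10)
(.leaf 1177))
(.node (.leaf 1175)
(.leaf 0)))
(.node (.node (.leaf 1163)
(.leaf 5320))
(.node (.leaf 1163)
(.leaf 0)))))
(.node (.node (.node (.node (.leaf 11)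
(.leaf 1175))
(.node (.leaf 1159)
(.leaf 0)))
(.node (.node (.leaf 1177)
(.leaf 5320))
(.node (.leaf 1178)
(.leaf 0))))
(.node (.node (.node (.leaf 178)
(.leaf 1159))
(.node (.leaf 1175)
(.leaf 0)))
(.node (.node (.leaf 1163)
(.leaf 5446))
(.node (.leaf 1178)
(.leaf 0)))))))))))
(.node (.node (.node (.node (.node (.node (.node (.node (.node (.node (.leaf 3)
(.leaf 1178))
(.node (.leaf 1163)
(.leaf 5320)))
(.node (.node (.leaf 178)
(.leaf 1175))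
(.node (.leaf 1163)
(.leaf 0))))
(.node (.node (.node (.leaf 178)
(.leaf 1163))
(.node (.leaf 1159)
(.leaf 0)))
(.node (.node (.leaf 1178)
(.leaf 5320))
(.node (.leaf 1159)
(.leaf 0)))))
(.node (.node (.node (.node (.leaf 10)
(.leaf 1159))
(.node (.leaf 1175)
(.leaf 0)))
(.node (.node (.leaf 1157)
(.leaf 5315))
(.node (.leaf 1163)
(.leaf 0))))
(.node (.node (.node (.leaf 16)
(.leaf 1163))
(.node (.leaf 1178)
(.leaf 0)))
(.node (.node (.leaf 1175)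
(.leaf 5320))
(.node (.leaf 1163)
(.leaf 0))))))
(.node (.node (.node (.node (.node (.leaf 3)
(.leaf 1177))
(.node (.leaf 1163)
(.leaf 5446)))
(.node (.node (.leaf 1159)
(.leaf 1177))
(.node (.leaf 1163)
(.leaf 0))))
(.node (.node (.node (.leaf 178)
(.leaf 1279))
(.node (.leaf 1163)
(.leaf 0)))
(.node (.node (.leaf 1163)
(.leaf 5320))
(.node (.leaf 1175)
(.leaf 0)))))
(.node (.node (.node (.node (.leaf 16)
(.leaf 1159))
(.node (.leaf 1178)
(.leaf 0)))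
(.node (.node (.leaf 1157)
(.leaf 5342))
(.node (.leaf 1159)
(.leaf 0))))
(.node (.node (.node (.leaf 178)
(.leaf 1163))
(.node (.leaf 1163)
(.leaf 0)))
(.node (.node (.leaf 1178)
(.leaf 5320))
(.node (.leaf 1163)
(.leaf 0)))))))
(.node (.node (.node (.node (.node (.node (.leaf 3)
(.leaf 1175))
(.node (.leaf 1175)
(.leaf 5446)))
(.node (.node (.leaf 178)
(.leaf 1177))
(.node (.leaf 1163)
(.leaf 0))))
(.node (.node (.node (.leaf 31)
(.leaf 1163))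
(.node (.leaf 1177)
(.leaf 0)))
(.node (.node (.leaf 1159)
(.leaf 5320))
(.node (.leaf 1163)
(.leaf 0)))))
(.node (.node (.node (.node (.leaf 10)
(.leaf 1177))
(.node (.leaf 1178)
(.leaf 0)))
(.node (.node (.leaf 1157)
(.leaf 5320))
(.node (.leaf 1177)
(.leaf 0))))
(.node (.node (.node (.leaf 31)
(.leaf 1178))
(.node (.leaf 1159)
(.leaf 0)))
(.node (.node (.leaf 1163)
(.leaf 5446))
(.node (.leaf 1175)
(.leaf 0))))))
(.node (.node (.node (.node (.node (.leaf 16)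
(.leaf 1178))
(.node (.leaf 1163)
(.leaf 0)))
(.node (.node (.leaf 1163)
(.leaf 5313))
(.node (.leaf 1175)
(.leaf 0))))
(.node (.node (.node (.leaf 11)
(.leaf 1178))
(.node (.leaf 1178)
(.leaf 0)))
(.node (.node (.leaf 1157)
(.leaf 5320))
(.node (.leaf 1279)
(.leaf 0)))))
(.node (.node (.node (.node (.leaf 178)
(.leaf 1163))
(.node (.leaf 1178)
(.leaf 0)))
(.node (.node (.leaf 1175)
(.leaf 5320))
(.node (.leaf 1163)
(.leaf 0))))
(.node (.node (.node (.leaf 178)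
(.leaf 1178))
(.node (.leaf 1177)
(.leaf 0)))
(.node (.node (.leaf 1157)
(.leaf 5342))
(.node (.leaf 1178)
(.leaf 0))))))))
(.node (.node (.node (.node (.node (.node (.node (.leaf 10)
(.leaf 1175))
(.node (.leaf 1175)
(.leaf 5446)))
(.node (.node (.leaf 297)
(.leaf 1279))
(.node (.leaf 1163)
(.leaf 0))))
(.node (.node (.node (.leaf 58)
(.leaf 1279))
(.node (.leaf 1159)
(.leaf 0)))
(.node (.node (.leaf 1163)
(.leaf 5313))
(.node (.leaf 1163)
(.leaf 0)))))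
(.node (.node (.node (.node (.leaf 3)
(.leaf 1178))
(.node (.leaf 1178)
(.leaf 0)))
(.node (.node (.leaf 1155)
(.leaf 5320))
(.node (.leaf 1159)
(.leaf 0))))
(.node (.node (.node (.leaf 178)
(.leaf 1159))
(.node (.leaf 1178)
(.leaf 0)))
(.node (.node (.leaf 1178)
(.leaf 5320))
(.node (.leaf 1163)
(.leaf 0))))))
(.node (.node (.node (.node (.node (.leaf 10)
(.leaf 1178))
(.node (.leaf 1163)
(.leaf 0)))
(.node (.node (.leaf 1155)
(.leaf 1159))
(.node (.leaf 1175)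
(.leaf 0))))
(.node (.node (.node (.leaf 11)
(.leaf 1163))
(.node (.leaf 1178)
(.leaf 0)))
(.node (.node (.leaf 1177)
(.leaf 5320))
(.node (.leaf 1178)
(.leaf 0)))))
(.node (.node (.node (.node (.leaf 3)
(.leaf 1159))
(.node (.leaf 1177)
(.leaf 0)))
(.node (.node (.leaf 1155)
(.leaf 5320))
(.node (.leaf 1163)
(.leaf 0))))
(.node (.node (.node (.leaf 11)
(.leaf 1177))
(.node (.leaf 1175)
(.leaf 0)))
(.node (.node (.leaf 1178)
(.leaf 5320))
(.node (.leaf 1175)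
(.leaf 0)))))))
(.node (.node (.node (.node (.node (.node (.leaf 10)
(.leaf 1177))
(.node (.leaf 1156)
(.leaf 5320)))
(.node (.node (.leaf 178)
(.leaf 1178))
(.node (.leaf 1175)
(.leaf 0))))
(.node (.node (.node (.leaf 3)
(.leaf 1178))
(.node (.leaf 1178)
(.leaf 0)))
(.node (.node (.leaf 1163)
(.leaf 5446))
(.node (.leaf 1175)
(.leaf 0)))))
(.node (.node (.node (.node (.leaf 31)
(.leaf 1178))
(.node (.leaf 1159)
(.leaf 0)))
(.node (.node (.leaf 1159)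
(.leaf 5315))
(.node (.leaf 1163)
(.leaf 0))))
(.node (.node (.node (.leaf 297)
(.leaf 1163))
(.node (.leaf 1175)
(.leaf 0)))
(.node (.node (.leaf 1177)
(.leaf 5320))
(.node (.leaf 1163)
(.leaf 0))))))
(.node (.node (.node (.node (.node (.leaf 3)
(.leaf 1159))
(.node (.leaf 1163)
(.leaf 0)))
(.node (.node (.leaf 1175)
(.leaf 5315))
(.node (.leaf 1163)
(.leaf 0))))
(.node (.node (.node (.leaf 10)
(.leaf 1177))
(.node (.leaf 1177)
(.leaf 0)))
(.node (.node (.leaf 1279)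
(.leaf 5342))
(.node (.leaf 1175)
(.leaf 0)))))
(.node (.node (.node (.node (.leaf 3)
(.leaf 1178))
(.node (.leaf 1163)
(.leaf 0)))
(.node (.node (.leaf 1175)
(.leaf 5320))
(.node (.leaf 1178)
(.leaf 0))))
(.node (.node (.node (.leaf 58)
(.leaf 1178))
(.node (.leaf 1163)
(.leaf 0)))
(.node (.node (.leaf 1178)
(.leaf 5342))
(.node (.leaf 1159)
(.leaf 0)))))))))
(.node (.node (.node (.node (.node (.node (.node (.node (.leaf 10)
(.leaf 1163))
(.node (.leaf 1163)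
(.leaf 5446)))
(.node (.node (.leaf 178)
(.leaf 1175))
(.node (.leaf 1163)
(.leaf 0))))
(.node (.node (.node (.leaf 56)
(.leaf 1178))
(.node (.leaf 1178)
(.leaf 0)))
(.node (.node (.leaf 1178)
(.leaf 5320))
(.node (.leaf 1163)
(.leaf 0)))))
(.node (.node (.node (.node (.leaf 3)
(.leaf 1178))
(.node (.leaf 1163)
(.leaf 0)))
(.node (.node (.leaf 1156)
(.leaf 5320))
(.node (.leaf 1159)
(.leaf 0))))
(.node (.node (.node (.leaf 3)
(.leaf 1163))
(.node (.leaf 1178)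
(.leaf 0)))
(.node (.node (.leaf 1163)
(.leaf 5320))
(.node (.leaf 1159)
(.leaf 0))))))
(.node (.node (.node (.node (.node (.leaf 31)
(.leaf 1177))
(.node (.leaf 1178)
(.leaf 5446)))
(.node (.node (.leaf 1175)
(.leaf 1177))
(.node (.leaf 1178)
(.leaf 0))))
(.node (.node (.node (.leaf 3)
(.leaf 1178))
(.node (.leaf 1163)
(.leaf 0)))
(.node (.node (.leaf 1157)
(.leaf 5320))
(.node (.leaf 1163)
(.leaf 0)))))
(.node (.node (.node (.node (.leaf 10)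
(.leaf 1178))
(.node (.leaf 1178)
(.leaf 0)))
(.node (.node (.leaf 1163)
(.leaf 5320))
(.node (.leaf 1178)
(.leaf 0))))
(.node (.node (.node (.leaf 16)
(.leaf 1178))
(.node (.leaf 1163)
(.leaf 0)))
(.node (.node (.leaf 1178)
(.leaf 5446))
(.node (.leaf 1178)
(.leaf 0)))))))
(.node (.node (.node (.node (.node (.node (.leaf 11)
(.leaf 1163))
(.node (.leaf 1175)
(.leaf 5446)))
(.node (.node (.leaf 178)
(.leaf 1178))
(.node (.leaf 1163)
(.leaf 0))))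
(.node (.node (.node (.leaf 3)
(.leaf 1159))
(.node (.leaf 1178)
(.leaf 0)))
(.node (.node (.leaf 1157)
(.leaf 5320))
(.node (.leaf 1163)
(.leaf 0)))))
(.node (.node (.node (.node (.leaf 10)
(.leaf 1159))
(.node (.leaf 1177)
(.leaf 0)))
(.node (.node (.leaf 1177)
(.leaf 5320))
(.node (.leaf 1178)
(.leaf 0))))
(.node (.node (.node (.leaf 11)
(.leaf 1163))
(.node (.leaf 1175)
(.leaf 0)))
(.node (.node (.leaf 1155)
(.leaf 5320))
(.node (.leaf 1175)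
(.leaf 0))))))
(.node (.node (.node (.node (.node (.leaf 3)
(.leaf 1178))
(.node (.leaf 1175)
(.leaf 0)))
(.node (.node (.leaf 1156)
(.leaf 5335))
(.node (.leaf 1163)
(.leaf 0))))
(.node (.node (.node (.leaf 10)
(.leaf 1178))
(.node (.leaf 1178)
(.leaf 0)))
(.node (.node (.leaf 1279)
(.leaf 5320))
(.node (.leaf 1163)
(.leaf 0)))))
(.node (.node (.node (.node (.leaf 178)
(.leaf 1178))
(.node (.leaf 1159)
(.leaf 0)))
(.node (.node (.leaf 1175)
(.leaf 5342))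
(.node (.leaf 1159)
(.leaf 0))))
(.node (.node (.node (.leaf 58)
(.leaf 1177))
(.node (.leaf 1178)
(.leaf 0)))
(.node (.node (.leaf 1178)
(.leaf 5320))
(.node (.leaf 1163)
(.leaf 0))))))))
(.node (.node (.node (.node (.node (.node (.node (.leaf 10)
(.leaf 1163))
(.node (.leaf 1178)
(.leaf 5446)))
(.node (.node (.leaf 3)
(.leaf 1175))
(.node (.leaf 1175)
(.leaf 0))))
(.node (.node (.node (.leaf 16)
(.leaf 1177))
(.node (.leaf 1175)
(.leaf 0)))
(.node (.node (.leaf 1159)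
(.leaf 5320))
(.node (.leaf 1163)
(.leaf 0)))))
(.node (.node (.node (.node (.leaf 31)
(.leaf 1177))
(.node (.leaf 1178)
(.leaf 0)))
(.node (.node (.leaf 1163)
(.leaf 5342))
(.node (.leaf 1175)
(.leaf 0))))
(.node (.node (.node (.leaf 16)
(.leaf 1177))
(.node (.leaf 1159)
(.leaf 0)))
(.node (.node (.leaf 1175)
(.leaf 5342))
(.node (.leaf 1163)
(.leaf 0))))))
(.node (.node (.node (.node (.node (.leaf 11)
(.leaf 1163))
(.node (.leaf 1156)
(.leaf 0)))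
(.node (.node (.leaf 1157)
(.leaf 1178))
(.node (.leaf 1163)
(.leaf 0))))
(.node (.node (.node (.leaf 10)
(.leaf 1159))
(.node (.leaf 1159)
(.leaf 0)))
(.node (.node (.leaf 1163)
(.leaf 5320))
(.node (.leaf 1175)
(.leaf 0)))))
(.node (.node (.node (.node (.leaf 10)
(.leaf 1177))
(.node (.leaf 1178)
(.leaf 0)))
(.node (.node (.leaf 1157)
(.leaf 5342))
(.node (.leaf 1163)
(.leaf 0))))
(.node (.node (.node (.leaf 178)
(.leaf 1178))
(.node (.leaf 1178)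
(.leaf 0)))
(.node (.node (.leaf 1159)
(.leaf 5446))
(.node (.leaf 1163)
(.leaf 0)))))))
(.node (.node (.node (.node (.node (.node (.leaf 3)
(.leaf 1177))
(.node (.leaf 1175)
(.leaf 5446)))
(.node (.node (.leaf 178)
(.leaf 1178))
(.node (.leaf 1178)
(.leaf 0))))
(.node (.node (.node (.leaf 16)
(.leaf 1178))
(.node (.leaf 1163)
(.leaf 0)))
(.node (.node (.leaf 1178)
(.leaf 5320))
(.node (.leaf 1163)
(.leaf 0)))))
(.node (.node (.node (.node (.leaf 10)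
(.leaf 1279))
(.node (.leaf 1163)
(.leaf 0)))
(.node (.node (.leaf 1155)
(.leaf 5320))
(.node (.leaf 1159)
(.leaf 0))))
(.node (.node (.node (.leaf 3)
(.leaf 1159))
(.node (.leaf 1163)
(.leaf 0)))
(.node (.node (.leaf 1155)
(.leaf 5446))
(.node (.leaf 1163)
(.leaf 0))))))
(.node (.node (.node (.node (.node (.leaf 3)
(.leaf 1163))
(.node (.leaf 1163)
(.leaf 0)))
(.node (.node (.leaf 1178)
(.leaf 5313))
(.node (.leaf 1178)
(.leaf 0))))
(.node (.node (.node (.leaf 10)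
(.leaf 1178))
(.node (.leaf 1157)
(.leaf 0)))
(.node (.node (.leaf 1163)
(.leaf 5342))
(.node (.leaf 1159)
(.leaf 0)))))
(.node (.node (.node (.node (.leaf 16)
(.leaf 1177))
(.node (.leaf 1159)
(.leaf 0)))
(.node (.node (.leaf 1178)
(.leaf 5313))
(.node (.leaf 1159)
(.leaf 0))))
(.node (.node (.node (.leaf 11)
(.leaf 1178))
(.node (.leaf 1163)
(.leaf 0)))
(.node (.node (.leaf 1163)
(.leaf 5320))
(.node (.leaf 1163)
(.leaf 0))))))))))
(.node (.node (.node (.node (.node (.node (.node (.node (.node (.leaf 1)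
(.leaf 1163))
(.node (.leaf 1175)
(.leaf 5446)))
(.node (.node (.leaf 178)
(.leaf 1175))
(.node (.leaf 1163)
(.leaf 0))))
(.node (.node (.node (.leaf 16)
(.leaf 1178))
(.node (.leaf 1178)
(.leaf 0)))
(.node (.node (.leaf 1178)
(.leaf 5320))
(.node (.leaf 1163)
(.leaf 0)))))
(.node (.node (.node (.node (.leaf 11)
(.leaf 1178))
(.node (.leaf 1175)
(.leaf 0)))
(.node (.node (.leaf 1157)
(.leaf 5315))
(.node (.leaf 1279)
(.leaf 0))))
(.node (.node (.node (.leaf 178)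
(.leaf 1163))
(.node (.leaf 1178)
(.leaf 0)))
(.node (.node (.leaf 1163)
(.leaf 5320))
(.node (.leaf 1159)
(.leaf 0))))))
(.node (.node (.node (.node (.node (.leaf 10)
(.leaf 1178))
(.node (.leaf 1156)
(.leaf 5446)))
(.node (.node (.leaf 1157)
(.leaf 1177))
(.node (.leaf 1163)
(.leaf 0))))
(.node (.node (.node (.leaf 10)
(.leaf 1178))
(.node (.leaf 1163)
(.leaf 0)))
(.node (.node (.leaf 1159)
(.leaf 5320))
(.node (.leaf 1163)
(.leaf 0)))))
(.node (.node (.node (.node (.leaf 16)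
(.leaf 1159))
(.node (.leaf 1178)
(.leaf 0)))
(.node (.node (.leaf 1175)
(.leaf 5320))
(.node (.leaf 1175)
(.leaf 0))))
(.node (.node (.node (.leaf 178)
(.leaf 1178))
(.node (.leaf 1178)
(.leaf 0)))
(.node (.node (.leaf 1178)
(.leaf 5320))
(.node (.leaf 1163)
(.leaf 0)))))))
(.node (.node (.node (.node (.node (.node (.leaf 10)
(.leaf 1163))
(.node (.leaf 1163)
(.leaf 5320)))
(.node (.node (.leaf 178)
(.leaf 1163))
(.node (.leaf 1163)
(.leaf 0))))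
(.node (.node (.node (.leaf 10)
(.leaf 1163))
(.node (.leaf 1178)
(.leaf 0)))
(.node (.node (.leaf 1178)
(.leaf 5320))
(.node (.leaf 1178)
(.leaf 0)))))
(.node (.node (.node (.node (.leaf 10)
(.leaf 1159))
(.node (.leaf 1159)
(.leaf 0)))
(.node (.node (.leaf 1155)
(.leaf 5320))
(.node (.leaf 1279)
(.leaf 0))))
(.node (.node (.node (.leaf 178)
(.leaf 1163))
(.node (.leaf 1178)
(.leaf 0)))
(.node (.node (.leaf 1177)
(.leaf 5320))
(.node (.leaf 1163)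
(.leaf 0))))))
(.node (.node (.node (.node (.node (.leaf 16)
(.leaf 1159))
(.node (.leaf 1175)
(.leaf 0)))
(.node (.node (.leaf 1157)
(.leaf 5315))
(.node (.leaf 1163)
(.leaf 0))))
(.node (.node (.node (.leaf 10)
(.leaf 1178))
(.node (.leaf 1178)
(.leaf 0)))
(.node (.node (.leaf 1163)
(.leaf 5342))
(.node (.leaf 1175)
(.leaf 0)))))
(.node (.node (.node (.node (.leaf 11)
(.leaf 1178))
(.node (.leaf 1178)
(.leaf 0)))
(.node (.node (.leaf 1155)
(.leaf 5320))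
(.node (.leaf 1163)
(.leaf 0))))
(.node (.node (.node (.leaf 16)
(.leaf 1159))
(.node (.leaf 1177)
(.leaf 0)))
(.node (.node (.leaf 1163)
(.leaf 5320))
(.node (.leaf 1163)
(.leaf 0))))))))
(.node (.node (.node (.node (.node (.node (.node (.leaf 10)
(.leaf 1178))
(.node (.leaf 1163)
(.leaf 5644)))
(.node (.node (.leaf 10)
(.leaf 1177))
(.node (.leaf 1163)
(.leaf 0))))
(.node (.node (.node (.leaf 3)
(.leaf 1159))
(.node (.leaf 1178)
(.leaf 0)))
(.node (.node (.leaf 1178)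
(.leaf 5320))
(.node (.leaf 1163)
(.leaf 0)))))
(.node (.node (.node (.node (.leaf 10)
(.leaf 1178))
(.node (.leaf 1178)
(.leaf 0)))
(.node (.node (.leaf 1175)
(.leaf 5320))
(.node (.leaf 1177)
(.leaf 0))))
(.node (.node (.node (.leaf 3)
(.leaf 1175))
(.node (.leaf 1178)
(.leaf 0)))
(.node (.node (.leaf 1163)
(.leaf 5320))
(.node (.leaf 1175)
(.leaf 0))))))
(.node (.node (.node (.node (.node (.leaf 10)
(.leaf 1159))
(.node (.leaf 1175)
(.leaf 0)))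
(.node (.node (.leaf 1156)
(.leaf 1279))
(.node (.leaf 1163)
(.leaf 0))))
(.node (.node (.node (.leaf 297)
(.leaf 1163))
(.node (.leaf 1178)
(.leaf 0)))
(.node (.node (.leaf 1178)
(.leaf 5342))
(.node (.leaf 1175)
(.leaf 0)))))
(.node (.node (.node (.node (.leaf 10)
(.leaf 1178))
(.node (.leaf 1178)
(.leaf 0)))
(.node (.node (.leaf 1163)
(.leaf 5342))
(.node (.leaf 1163)
(.leaf 0))))
(.node (.node (.node (.leaf 61)
(.leaf 1159))
(.node (.leaf 1178)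
(.leaf 0)))
(.node (.node (.leaf 1178)
(.leaf 5644))
(.node (.leaf 1159)
(.leaf 0)))))))
(.node (.node (.node (.node (.node (.node (.leaf 10)
(.leaf 1178))
(.node (.leaf 1163)
(.leaf 5446)))
(.node (.node (.leaf 178)
(.leaf 1178))
(.node (.leaf 1178)
(.leaf 0))))
(.node (.node (.node (.leaf 297)
(.leaf 1178))
(.node (.leaf 1178)
(.leaf 0)))
(.node (.node (.leaf 1178)
(.leaf 5320))
(.node (.leaf 1163)
(.leaf 0)))))
(.node (.node (.node (.node (.leaf 11)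
(.leaf 1178))
(.node (.leaf 1178)
(.leaf 0)))
(.node (.node (.leaf 1163)
(.leaf 5313))
(.node (.leaf 1175)
(.leaf 0))))
(.node (.node (.node (.leaf 31)
(.leaf 1159))
(.node (.leaf 1175)
(.leaf 0)))
(.node (.node (.leaf 1163)
(.leaf 5446))
(.node (.leaf 1178)
(.leaf 0))))))
(.node (.node (.node (.node (.node (.leaf 31)
(.leaf 1163))
(.node (.leaf 1163)
(.leaf 0)))
(.node (.node (.leaf 1178)
(.leaf 5315))
(.node (.leaf 1175)
(.leaf 0))))
(.node (.node (.node (.leaf 178)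
(.leaf 1279))
(.node (.leaf 1159)
(.leaf 0)))
(.node (.node (.leaf 1163)
(.leaf 5320))
(.node (.leaf 1178)
(.leaf 0)))))
(.node (.node (.node (.node (.leaf 10)
(.leaf 1177))
(.node (.leaf 1178)
(.leaf 0)))
(.node (.node (.leaf 1157)
(.leaf 5342))
(.node (.leaf 1178)
(.leaf 0))))
(.node (.node (.node (.leaf 10)
(.leaf 1178))
(.node (.leaf 1159)
(.leaf 0)))
(.node (.node (.leaf 1157)
(.leaf 5446))
(.node (.leaf 1178)
(.leaf 0)))))))))
(.node (.node (.node (.node (.node (.node (.node (.node (.leaf 31)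
(.leaf 1177))
(.node (.leaf 1163)
(.leaf 5320)))
(.node (.node (.leaf 178)
(.leaf 1175))
(.node (.leaf 1178)
(.leaf 0))))
(.node (.node (.node (.leaf 58)
(.leaf 1159))
(.node (.leaf 1159)
(.leaf 0)))
(.node (.node (.leaf 1178)
(.leaf 5320))
(.node (.leaf 1163)
(.leaf 0)))))
(.node (.node (.node (.node (.leaf 10)
(.leaf 1159))
(.node (.leaf 1178)
(.leaf 0)))
(.node (.node (.leaf 1156)
(.leaf 5320))
(.node (.leaf 1178)
(.leaf 0))))
(.node (.node (.node (.leaf 3)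
(.leaf 1163))
(.node (.leaf 1163)
(.leaf 0)))
(.node (.node (.leaf 1175)
(.leaf 5320))
(.node (.leaf 1175)
(.leaf 0))))))
(.node (.node (.node (.node (.node (.leaf 10)
(.leaf 1159))
(.node (.leaf 1163)
(.leaf 0)))
(.node (.node (.leaf 1178)
(.leaf 1178))
(.node (.leaf 1159)
(.leaf 0))))
(.node (.node (.node (.leaf 58)
(.leaf 1178))
(.node (.leaf 1175)
(.leaf 0)))
(.node (.node (.leaf 1155)
(.leaf 5320))
(.node (.leaf 1163)
(.leaf 0)))))
(.node (.node (.node (.node (.leaf 10)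
(.leaf 1178))
(.node (.leaf 1177)
(.leaf 0)))
(.node (.node (.leaf 1163)
(.leaf 5315))
(.node (.leaf 1177)
(.leaf 0))))
(.node (.node (.node (.leaf 16)
(.leaf 1178))
(.node (.leaf 1178)
(.leaf 0)))
(.node (.node (.leaf 1177)
(.leaf 5320))
(.node (.leaf 1178)
(.leaf 0)))))))
(.node (.node (.node (.node (.node (.node (.leaf 10)
(.leaf 1178))
(.node (.leaf 1163)
(.leaf 5320)))
(.node (.node (.leaf 297)
(.leaf 1159))
(.node (.leaf 1163)
(.leaf 0))))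
(.node (.node (.node (.leaf 10)
(.leaf 1159))
(.node (.leaf 1178)
(.leaf 0)))
(.node (.node (.leaf 1157)
(.leaf 5320))
(.node (.leaf 1163)
(.leaf 0)))))
(.node (.node (.node (.node (.leaf 31)
(.leaf 1279))
(.node (.leaf 1163)
(.leaf 0)))
(.node (.node (.leaf 1157)
(.leaf 5320))
(.node (.leaf 1178)
(.leaf 0))))
(.node (.node (.node (.leaf 178)
(.leaf 1178))
(.node (.leaf 1178)
(.leaf 0)))
(.node (.node (.leaf 1159)
(.leaf 5320))
(.node (.leaf 1163)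
(.leaf 0))))))
(.node (.node (.node (.node (.node (.leaf 31)
(.leaf 1178))
(.node (.leaf 1163)
(.leaf 0)))
(.node (.node (.leaf 1175)
(.leaf 5320))
(.node (.leaf 1175)
(.leaf 0))))
(.node (.node (.node (.leaf 10)
(.leaf 1163))
(.node (.leaf 1159)
(.leaf 0)))
(.node (.node (.leaf 1178)
(.leaf 5342))
(.node (.leaf 1163)
(.leaf 0)))))
(.node (.node (.node (.node (.leaf 31)
(.leaf 1163))
(.node (.leaf 1163)
(.leaf 0)))
(.node (.node (.leaf 1163)
(.leaf 5320))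
(.node (.leaf 1159)
(.leaf 0))))
(.node (.node (.node (.leaf 56)
(.leaf 1178))
(.node (.leaf 1163)
(.leaf 0)))
(.node (.node (.leaf 1163)
(.leaf 5446))
(.node (.leaf 1163)
(.leaf 0))))))))
(.node (.node (.node (.node (.node (.node (.node (.leaf 16)
(.leaf 1178))
(.node (.leaf 1178)
(.leaf 5320)))
(.node (.node (.leaf 178)
(.leaf 1279))
(.node (.leaf 1163)
(.leaf 0))))
(.node (.node (.node (.leaf 3)
(.leaf 1178))
(.node (.leaf 1178)
(.leaf 0)))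
(.node (.node (.leaf 1178)
(.leaf 5320))
(.node (.leaf 1175)
(.leaf 0)))))
(.node (.node (.node (.node (.leaf 11)
(.leaf 1159))
(.node (.leaf 1177)
(.leaf 0)))
(.node (.node (.leaf 1175)
(.leaf 5320))
(.node (.leaf 1159)
(.leaf 0))))
(.node (.node (.node (.leaf 10)
(.leaf 1177))
(.node (.leaf 1163)
(.leaf 0)))
(.node (.node (.leaf 1163)
(.leaf 5320))
(.node (.leaf 1163)
(.leaf 0))))))
(.node (.node (.node (.node (.node (.leaf 10)
(.leaf 1178))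
(.node (.leaf 1163)
(.leaf 0)))
(.node (.node (.leaf 1157)
(.leaf 1178))
(.node (.leaf 1175)
(.leaf 0))))
(.node (.node (.node (.leaf 10)
(.leaf 1279))
(.node (.leaf 1178)
(.leaf 0)))
(.node (.node (.leaf 1159)
(.leaf 5342))
(.node (.leaf 1159)
(.leaf 0)))))
(.node (.node (.node (.node (.leaf 10)
(.leaf 1178))
(.node (.leaf 1159)
(.leaf 0)))
(.node (.node (.leaf 1157)
(.leaf 5320))
(.node (.leaf 1175)
(.leaf 0))))
(.node (.node (.node (.leaf 178)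
(.leaf 1279))
(.node (.leaf 1175)
(.leaf 0)))
(.node (.node (.leaf 1157)
(.leaf 5320))
(.node (.leaf 1159)
(.leaf 0)))))))
(.node (.node (.node (.node (.node (.node (.leaf 16)
(.leaf 1177))
(.node (.leaf 1163)
(.leaf 5446)))
(.node (.node (.leaf 178)
(.leaf 1178))
(.node (.leaf 1178)
(.leaf 0))))
(.node (.node (.node (.leaf 178)
(.leaf 1175))
(.node (.leaf 1159)
(.leaf 0)))
(.node (.node (.leaf 1159)
(.leaf 5342))
(.node (.leaf 1163)
(.leaf 0)))))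
(.node (.node (.node (.node (.leaf 58)
(.leaf 1178))
(.node (.leaf 1163)
(.leaf 0)))
(.node (.node (.leaf 1178)
(.leaf 5320))
(.node (.leaf 1159)
(.leaf 0))))
(.node (.node (.node (.leaf 178)
(.leaf 1163))
(.node (.leaf 1163)
(.leaf 0)))
(.node (.node (.leaf 1279)
(.leaf 5320))
(.node (.leaf 1175)
(.leaf 0))))))
(.node (.node (.node (.node (.node (.leaf 10)
(.leaf 1178))
(.node (.leaf 1163)
(.leaf 0)))
(.node (.node (.leaf 1279)
(.leaf 5315))
(.node (.leaf 1163)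
(.leaf 0))))
(.node (.node (.node (.leaf 10)
(.leaf 1175))
(.node (.leaf 1155)
(.leaf 0)))
(.node (.node (.leaf 1175)
(.leaf 5320))
(.node (.leaf 1163)
(.leaf 0)))))
(.node (.node (.node (.node (.leaf 11)
(.leaf 1178))
(.node (.leaf 1177)
(.leaf 0)))
(.node (.node (.leaf 1159)
(.leaf 5342))
(.node (.leaf 1178)
(.leaf 0))))
(.node (.node (.node (.leaf 10)
(.leaf 1159))
(.node (.leaf 1163)
(.leaf 0)))
(.node (.node (.leaf 1175)
(.leaf 5320))
(.node (.leaf 1178)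
(.leaf 0))))))))))))))

/-- The generators: a code and an involution. -/
def orbGens2 : List (ℕ × ℕ) :=
  [(0, 0),
   (0, 1),
   (0, 2),
   (0, 5),
   (0, 56),
   (2304, 61),
   (3328, 145),
   (0, 1155),
   (512, 1160)]

/-- Root (6303 for the identity), orbit length, order, word of a transporter, count. -/
def orbRows2 : List (ℕ × ℕ × ℕ × List ℕ × ℕ) :=
  [(6303, 1, 2, [], 0),
   (0, 1, 1, [], 1),
   (1, 8, 2, [0], 0),
   (2, 6, 2, [1], 0),
   (3, 192, 3, [4], 16),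
   (10, 384, 5, [4, 1], 16),
   (11, 96, 4, [0, 4], 0),
   (16, 96, 4, [4, 0, 0], 0),
   (31, 48, 4, [0, 4, 1], 0),
   (56, 12, 2, [0, 4, 0, 0], 0),
   (58, 48, 4, [2, 4, 0, 0], 0),
   (61, 24, 2, [0, 4, 1, 0], 0),
   (178, 192, 6, [4, 3, 2, 4], 0),
   (297, 48, 4, [4, 2, 3, 4, 0], 0),
   (1155, 36, 2, [], 0),
   (1156, 72, 2, [0], 0),
   (1157, 144, 4, [1], 0),
   (1159, 576, 6, [4], 0),
   (1163, 1152, 12, [4, 0], 0),
   (1175, 576, 8, [4, 2], 0),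
   (1177, 288, 4, [0, 4], 0),
   (1178, 1152, 10, [1, 4], 0),
   (1185, 18, 2, [1, 1, 0], 0),
   (1279, 144, 4, [0, 4, 0, 0], 0),
   (5313, 36, 2, [], 0),
   (5315, 48, 4, [1], 0),
   (5320, 576, 6, [4, 0], 0),
   (5335, 6, 2, [1, 1, 0], 0),
   (5342, 144, 4, [0, 4, 0], 0),
   (5446, 144, 4, [4, 3, 2, 1], 0),
   (5644, 36, 2, [0, 4, 3, 2, 1], 0)]

end CfsgLib.J4Type.Order
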