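import Cfsg.Agent.Lib.J4Type.Order.Code

/-!
The orbits of the stabiliser of representative 3 on the 6303 involutions.
-/

set_option autoImplicit false
set_option maxRecDepth 100000

namespace CfsgLib.J4Type.Order

open CfsgLib.Fusion.TableSylow (Tree Dict)

/-- Entries `i + 8192 * (0 or 1 + 16 * parent position + generator)`. -/
def orbTree3 : Tree :=
(.node (.node (.node (.node (.node (.node (.node (.node (.node (.node (.node (.node (.node (.leaf 0)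
(.leaf 0x1f4ca9c6))
(.node (.leaf 0xf58a5d2)
(.leaf 0x2fdc97dd)))
(.node (.node (.leaf 0x79c4365)
(.leaf 0x26ea4994))
(.node (.leaf 0x15d669ad)
(.leaf 0))))
(.node (.node (.node (.leaf 0x2326180)
(.leaf 0x228eb26f))
(.node (.leaf 0x13e62b13)
(.leaf 0)))
(.node (.node (.leaf 0xa9a68fb)
(.leaf 0x2b84551a))
(.node (.leaf 0x18bead17)
(.leaf 0)))))
(.node (.node (.node (.node (.leaf 0x12a6043)
(.leaf 0x20368d03))
(.node (.leaf 0x1182cc0f)
(.leaf 0)))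
(.node (.node (.leaf 0x990b454)
(.leaf 0x29ae94ee))
(.node (.leaf 0x17026c5a)
(.leaf 0))))
(.node (.node (.node (.leaf 0x5bac2c4)
(.leaf 0x25aed12c))
(.node (.leaf 0x14f6b35a)
(.leaf 0)))
(.node (.node (.leaf 0xcbc7420)
(.leaf 0x2d76761d))
(.node (.leaf 0x1b6473ac)
(.leaf 0))))))
(.node (.node (.node (.node (.node (.leaf 0xd262c8)
(.leaf 0x1fb25154))
(.node (.leaf 0x1060a8cc)
(.leaf 0x308ab644)))
(.node (.node (.leaf 0x8de232e)
(.leaf 0x28809484))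
(.node (.leaf 0x166470f0)
(.leaf 0))))
(.node (.node (.node (.leaf 0x32e8350)
(.leaf 0x248a88b6))
(.node (.leaf 0x14a06c3a)
(.leaf 0)))
(.node (.node (.leaf 0xba2a7bc)
(.leaf 0x2ce4b501))
(.node (.leaf 0x19c24bf0)
(.leaf 0)))))
(.node (.node (.node (.node (.leaf 0x1a2c307)
(.leaf 0x2108a964))
(.node (.leaf 0x123673b1)
(.leaf 0)))
(.node (.node (.leaf 0xa02cce6)
(.leaf 0x2a4455fd))
(.node (.leaf 0x17d27289)
(.leaf 0))))
(.node (.node (.node (.leaf 0x678c278)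
(.leaf 0x26186b10))
(.node (.leaf 0x155669b7)
(.leaf 0)))
(.node (.node (.leaf 0xeba47f9)
(.leaf 0x2e0eb747))
(.node (.leaf 0x1e60b459)
(.leaf 0)))))))
(.node (.node (.node (.node (.node (.node (.leaf 0x6aa2e7)
(.leaf 0x1f7e4583))
(.node (.leaf 0xfd62fd4)
(.leaf 0x301a56a2)))
(.node (.node (.leaf 0x7faa47c)
(.leaf 0x2846547a))
(.node (.leaf 0x161490e3)
(.leaf 0))))
(.node (.node (.node (.leaf 0x2aa4258)
(.leaf 0x2452a5ef))
(.node (.leaf 0x14706580)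
(.leaf 0)))
(.node (.node (.leaf 0xb20a708)
(.leaf 0x2c44564b))
(.node (.leaf 0x19369327)
(.leaf 0)))))
(.node (.node (.node (.node (.leaf 0x15ec41b)
(.leaf 0x20946913))
(.node (.leaf 0x11d28e28)
(.leaf 0)))
(.node (.node (.leaf 0x9be4878)
(.leaf 0x29ea967d))
(.node (.leaf 0x17588a43)
(.leaf 0))))
(.node (.node (.node (.leaf 0x62ea3a2)
(.leaf 0x25deb1b3))
(.node (.leaf 0x1524345f)
(.leaf 0)))
(.node (.node (.leaf 0xdd66751)
(.leaf 0x2db49549))
(.node (.leaf 0x1c7cd344)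
(.leaf 0))))))
(.node (.node (.node (.node (.node (.leaf 0xfaa320)
(.leaf 0x1feacc54))
(.node (.leaf 0x114ecd65)
(.leaf 0)))
(.node (.node (.leaf 0x9622bec)
(.leaf 0x290ead3b))
(.node (.leaf 0x16b2abdd)
(.leaf 0))))
(.node (.node (.node (.leaf 0x4046378)
(.leaf 0x250e7022))
(.node (.leaf 0x14c87099)
(.leaf 0)))
(.node (.node (.leaf 0xc12a55a)
(.leaf 0x2d46b6f9))
(.node (.leaf 0x1a7c8967)
(.leaf 0)))))
(.node (.node (.node (.node (.leaf 0x1e66363)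
(.leaf 0x21946c41))
(.node (.leaf 0x12eaa7d7)
(.leaf 0)))
(.node (.node (.leaf 0xa4e8c22)
(.leaf 0x2ad8d567))
(.node (.leaf 0x1848cf62)
(.leaf 0))))
(.node (.node (.node (.leaf 0x76862ae)
(.leaf 0x265c7254))
(.node (.leaf 0x158e92a0)
(.leaf 0)))
(.node (.node (.leaf 0xef48cfb)
(.leaf 0x2ebc9624))
(.node (.leaf 0x1f22c816)
(.leaf 0))))))))
(.node (.node (.node (.node (.node (.node (.node (.leaf 0x288053)
(.leaf 0x1f60b32c))
(.node (.leaf 0xf806873)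
(.leaf 0x2ff255ea)))
(.node (.node (.leaf 0x7d26387)
(.leaf 0x28344ad3))
(.node (.leaf 0x15f6ad32)
(.leaf 0))))
(.node (.node (.node (.leaf 0x2626174)
(.leaf 0x23ec2c76))
(.node (.leaf 0x14088e43)
(.leaf 0)))
(.node (.node (.leaf 0xae2b162)
(.leaf 0x2c2c56dc))
(.node (.leaf 0x18eecb4d)
(.leaf 0)))))
(.node (.node (.node (.node (.leaf 0x13e83a8)
(.leaf 0x2072cc07))
(.node (.leaf 0x11a0c6d8)
(.leaf 0)))
(.node (.node (.leaf 0x9aa64a4)
(.leaf 0x29cab615))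
(.node (.leaf 0x17386779)
(.leaf 0))))
(.node (.node (.node (.leaf 0x61c6107)
(.leaf 0x25be9111))
(.node (.leaf 0x1510265b)
(.leaf 0)))
(.node (.node (.leaf 0xd186709)
(.leaf 0x2d9695f8))
(.node (.leaf 0x1bde346e)
(.leaf 0))))))
(.node (.node (.node (.node (.node (.leaf 0xe2c435)
(.leaf 0x1fcc2fa5))
(.node (.leaf 0x113a67e9)
(.leaf 0)))
(.node (.node (.leaf 0x926a89e)
(.leaf 0x289a7394))
(.node (.leaf 0x168a6639)
(.leaf 0))))
(.node (.node (.node (.leaf 0x38e839b)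
(.leaf 0x24b427b1))
(.node (.leaf 0x14b649a6)
(.leaf 0)))
(.node (.node (.leaf 0xbd8aee1)
(.leaf 0x2d34d576))
(.node (.leaf 0x1a2671c2)
(.leaf 0)))))
(.node (.node (.node (.node (.leaf 0x1c0a2a0)
(.leaf 0x21428854))
(.node (.leaf 0x128a5063)
(.leaf 0)))
(.node (.node (.leaf 0xa2a85e9)
(.leaf 0x2a72983c))
(.node (.leaf 0x18008653)
(.leaf 0))))
(.node (.node (.node (.leaf 0x6b4c13e)
(.leaf 0x26382611))
(.node (.leaf 0x1572b150)
(.leaf 0)))
(.node (.node (.leaf 0xeda4e4d)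
(.leaf 0x2e58b7e2))
(.node (.leaf 0x1f106731)
(.leaf 0)))))))
(.node (.node (.node (.node (.node (.node (.leaf 0xb2a01d)
(.leaf 0x1f9432e4))
(.node (.leaf 0x1016cfd3)
(.leaf 0x3036d80f)))
(.node (.node (.leaf 0x8b4a457)
(.leaf 0x285c50e8))
(.node (.leaf 0x1648a906)
(.leaf 0))))
(.node (.node (.node (.leaf 0x2f68291)
(.leaf 0x246a8b58))
(.node (.leaf 0x14906b15)
(.leaf 0)))
(.node (.node (.leaf 0xb5a6a33)
(.leaf 0x2c8cd64c))
(.node (.leaf 0x198032d3)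
(.leaf 0)))))
(.node (.node (.node (.node (.leaf 0x17e8276)
(.leaf 0x20bc5370))
(.node (.leaf 0x11fa4db6)
(.leaf 0)))
(.node (.node (.leaf 0x9e0cfb9)
(.leaf 0x2a165751))
(.node (.leaf 0x17988de9)
(.leaf 0))))
(.node (.node (.node (.leaf 0x650a301)
(.leaf 0x25f8a6b4))
(.node (.leaf 0x153e2893)
(.leaf 0)))
(.node (.node (.leaf 0xea2d356)
(.leaf 0x2ddcd879))
(.node (.leaf 0x1cfc53b8)
(.leaf 0))))))
(.node (.node (.node (.node (.node (.leaf 0x11262f7)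
(.leaf 0x200671f2))
(.node (.leaf 0x11688b7c)
(.leaf 0)))
(.node (.node (.leaf 0x9768ce0)
(.leaf 0x2996753b))
(.node (.leaf 0x16d48dc0)
(.leaf 0))))
(.node (.node (.node (.leaf 0x49c828f)
(.leaf 0x259cd15c))
(.node (.leaf 0x14e2ae5e)
(.leaf 0)))
(.node (.node (.leaf 0xc66a4ae)
(.leaf 0x2d5a97ca))
(.node (.leaf 0x1af452e2)
(.leaf 0)))))
(.node (.node (.node (.node (.leaf 0x20c804c)
(.leaf 0x22166a53))
(.node (.leaf 0x13506692)
(.leaf 0)))
(.node (.node (.leaf 0xa76c9a0)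
(.leaf 0x2b12b5d8))
(.node (.leaf 0x1892aded)
(.leaf 0))))
(.node (.node (.node (.leaf 0x7808475)
(.leaf 0x269c7400))
(.node (.leaf 0x15b4b207)
(.leaf 0)))
(.node (.node (.leaf 0xf1e5132)
(.leaf 0x2f44d85a))
(.node (.leaf 0x1f36ca0d)
(.leaf 0)))))))))
(.node (.node (.node (.node (.node (.node (.node (.node (.leaf 827793)
(.leaf 0x1f5651ca))
(.node (.leaf 0xf6a9303)
(.leaf 0x2fe89673)))
(.node (.node (.leaf 0x7b46332)
(.leaf 0x274a6922))
(.node (.leaf 0x15e66a82)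
(.leaf 0))))
(.node (.node (.node (.leaf 0x24243b2)
(.leaf 0x2314d23c))
(.node (.leaf 0x13f4a685)
(.leaf 0)))
(.node (.node (.leaf 0xab86804)
(.leaf 0x2bd656bb))
(.node (.leaf 0x18d82673)
(.leaf 0)))))
(.node (.node (.node (.node (.leaf 0x13421c8)
(.leaf 0x2056b288))
(.node (.leaf 0x118cb374)
(.leaf 0)))
(.node (.node (.leaf 0x99a8ef0)
(.leaf 0x29ba76cb))
(.node (.leaf 0x171e8ed8)
(.leaf 0))))
(.node (.node (.node (.leaf 0x614a067)
(.leaf 0x25b630dd))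
(.node (.leaf 0x1500ab0d)
(.leaf 0)))
(.node (.node (.leaf 0xcf8648d)
(.leaf 0x2d82b846))
(.node (.leaf 0x1ba6525d)
(.leaf 0))))))
(.node (.node (.node (.node (.node (.leaf 0xda2324)
(.leaf 0x1fbe25f7))
(.node (.leaf 0x10a26bae)
(.leaf 0x30f2b6bf)))
(.node (.node (.leaf 0x90e64d7)
(.leaf 0x288e749f))
(.node (.leaf 0x167645e3)
(.leaf 0))))
(.node (.node (.node (.leaf 0x36ca376)
(.leaf 0x2498c72c))
(.node (.leaf 0x14ac4bb4)
(.leaf 0)))
(.node (.node (.leaf 0xbc4453e)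
(.leaf 0x2d067515))
(.node (.leaf 0x19e24c59)
(.leaf 0)))))
(.node (.node (.node (.node (.leaf 0x1aea41e)
(.leaf 0x21248fa9))
(.node (.leaf 0x125c8f59)
(.leaf 0)))
(.node (.node (.leaf 0xa16c711)
(.leaf 0x2a58d86b))
(.node (.leaf 0x17ec8e17)
(.leaf 0))))
(.node (.node (.node (.leaf 0x68ea3cd)
(.leaf 0x262652d1))
(.node (.leaf 0x156472e9)
(.leaf 0)))
(.node (.node (.leaf 0xeca6c38)
(.leaf 0x2e30d86a))
(.node (.leaf 0x1f068c28)
(.leaf 0)))))))
(.node (.node (.node (.node (.node (.node (.leaf 0x7a61a5)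
(.leaf 0x1f8a2a11))
(.node (.leaf 0xfec691c)
(.leaf 0x302ad5e9)))
(.node (.node (.leaf 0x840c45c)
(.leaf 0x285489cc))
(.node (.leaf 0x16205253)
(.leaf 0))))
(.node (.node (.node (.leaf 0x2ca8124)
(.leaf 0x245ea6cc))
(.node (.leaf 0x14869435)
(.leaf 0)))
(.node (.node (.leaf 0xb386701)
(.leaf 0x2c56d765))
(.node (.leaf 0x1950906c)
(.leaf 0)))))
(.node (.node (.node (.node (.leaf 0x170614e)
(.leaf 0x20a26a1f))
(.node (.leaf 0x11e4d09b)
(.leaf 0)))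
(.node (.node (.leaf 0x9cea56d)
(.leaf 0x29fcb735))
(.node (.leaf 0x17706be4)
(.leaf 0))))
(.node (.node (.node (.leaf 0x63e4066)
(.leaf 0x25eca93d))
(.node (.leaf 0x1530d4b1)
(.leaf 0)))
(.node (.node (.leaf 0xe9a6680)
(.leaf 0x2dc2b7ae))
(.node (.leaf 0x1ca6cc2b)
(.leaf 0))))))
(.node (.node (.node (.node (.node (.leaf 0x1068242)
(.leaf 0x1ff873b3))
(.node (.leaf 0x115a49fa)
(.leaf 0)))
(.node (.node (.leaf 0x96e25cd)
(.leaf 0x298ab705))
(.node (.leaf 0x16c4c944)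
(.leaf 0))))
(.node (.node (.node (.leaf 0x4328305)
(.leaf 0x2594c632))
(.node (.leaf 0x14d49311)
(.leaf 0)))
(.node (.node (.leaf 0xc3eb31a)
(.leaf 0x2d5096aa))
(.node (.leaf 0x1aa04982)
(.leaf 0)))))
(.node (.node (.node (.node (.leaf 0x1f8a42e)
(.leaf 0x21c48750))
(.node (.leaf 0x131047e2)
(.leaf 0)))
(.node (.node (.leaf 0xa60cfaa)
(.leaf 0x2af2771e))
(.node (.leaf 0x187cd136)
(.leaf 0))))
(.node (.node (.node (.leaf 0x774630f)
(.leaf 0x2672728e))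
(.node (.leaf 0x159e2fbc)
(.leaf 0)))
(.node (.node (.leaf 0xf0687ad)
(.leaf 0x2eee97c8))
(.node (.leaf 0x1f2c5451)
(.leaf 0))))))))
(.node (.node (.node (.node (.node (.node (.node (.leaf 0x58a065)
(.leaf 0x1f70679e))
(.node (.leaf 0xf9c48a5)
(.leaf 0x3004987b)))
(.node (.node (.leaf 0x7e661b5)
(.leaf 0x283c9144))
(.node (.leaf 0x1602ad92)
(.leaf 0))))
(.node (.node (.node (.leaf 0x28822ba)
(.leaf 0x2448abe2))
(.node (.leaf 0x142ed3f2)
(.leaf 0)))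
(.node (.node (.leaf 0xafa8fa6)
(.leaf 0x2c3695f1))
(.node (.leaf 0x19026828)
(.leaf 0)))))
(.node (.node (.node (.node (.leaf 0x1506204)
(.leaf 0x207ed076))
(.node (.leaf 0x11ba8f75)
(.leaf 0)))
(.node (.node (.leaf 0x9b26ec1)
(.leaf 0x29d49602))
(.node (.leaf 0x174a93da)
(.leaf 0))))
(.node (.node (.node (.leaf 0x62482ee)
(.leaf 0x25d0a5f9))
(.node (.leaf 0x1518d21d)
(.leaf 0)))
(.node (.node (.leaf 0xd6e4805)
(.leaf 0x2da23646))
(.node (.leaf 0x1c162eb5)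
(.leaf 0))))))
(.node (.node (.node (.node (.node (.leaf 0xf0a127)
(.leaf 0x1fd8b295))
(.node (.leaf 0x11446ad5)
(.leaf 0)))
(.node (.node (.leaf 0x95a8686)
(.leaf 0x28beb28f))
(.node (.leaf 0x1698cb2d)
(.leaf 0))))
(.node (.node (.node (.leaf 0x3b6214b)
(.leaf 0x24e2a9e2))
(.node (.leaf 0x14c0abc3)
(.leaf 0)))
(.node (.node (.leaf 0xbf4c977)
(.leaf 0x2d3c7708))
(.node (.leaf 0x1a58afa7)
(.leaf 0)))))
(.node (.node (.node (.node (.leaf 0x1d46172)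
(.leaf 0x216a8c1b))
(.node (.leaf 0x12b872ef)
(.leaf 0)))
(.node (.node (.leaf 0xa3e307c)
(.leaf 0x2aa0951c))
(.node (.leaf 0x18246b25)
(.leaf 0))))
(.node (.node (.node (.leaf 0x73843d8)
(.leaf 0x2648b068))
(.node (.leaf 0x15802dd9)
(.leaf 0)))
(.node (.node (.leaf 0xee885dd)
(.leaf 0x2e7a562c))
(.node (.leaf 0x1f18d081)
(.leaf 0)))))))
(.node (.node (.node (.node (.node (.node (.leaf 0xc862b9)
(.leaf 0x1fa48d04))
(.node (.leaf 0x104245cb)
(.leaf 0x30505561)))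
(.node (.node (.leaf 0x8c4635d)
(.leaf 0x286e54ad))
(.node (.leaf 0x1654729f)
(.leaf 0))))
(.node (.node (.node (.leaf 0x312c3c4)
(.leaf 0x247e6c77))
(.node (.leaf 0x149868db)
(.leaf 0)))
(.node (.node (.leaf 0xb7465a5)
(.leaf 0x2cd45662))
(.node (.leaf 0x19a24b9a)
(.leaf 0)))))
(.node (.node (.node (.node (.leaf 0x19062fe)
(.leaf 0x20f2ca0c))
(.node (.leaf 0x120e6a9b)
(.leaf 0)))
(.node (.node (.leaf 0x9f88521)
(.leaf 0x2a303538))
(.node (.leaf 0x17b82675)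
(.leaf 0))))
(.node (.node (.node (.leaf 0x66822cf)
(.leaf 0x260894af))
(.node (.leaf 0x1548510c)
(.leaf 0)))
(.node (.node (.leaf 0xeaeae3f)
(.leaf 0x2df8d5e3))
(.node (.leaf 0x1d6ca862)
(.leaf 0))))))
(.node (.node (.node (.node (.node (.leaf 0x11c4074)
(.leaf 0x201a734e))
(.node (.leaf 0x1174a8c0)
(.leaf 0)))
(.node (.node (.leaf 0x98071f9)
(.leaf 0x29a095c5))
(.node (.leaf 0x16ee8a61)
(.leaf 0))))
(.node (.node (.node (.leaf 0x4e4c466)
(.leaf 0x25a470ba))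
(.node (.leaf 0x14ea73b2)
(.leaf 0)))
(.node (.node (.leaf 0xc8eae29)
(.leaf 0x2d6857e0))
(.node (.leaf 0x1b206532)
(.leaf 0)))))
(.node (.node (.node (.node (.leaf 0x22040f0)
(.leaf 0x225cac8c))
(.node (.leaf 0x13daad0a)
(.leaf 0)))
(.node (.node (.leaf 0xa864c25)
(.leaf 0x2b3094e2))
(.node (.leaf 0x18a8aa6e)
(.leaf 0))))
(.node (.node (.node (.leaf 0x78ca1e9)
(.leaf 0x26c470aa))
(.node (.leaf 0x15c66f54)
(.leaf 0)))
(.node (.node (.leaf 0xf4628eb)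
(.leaf 0x2fd47665))
(.node (.leaf 0x1f40934f)
(.leaf 0))))))))))
(.node (.node (.node (.node (.node (.node (.node (.node (.node (.leaf 287399)
(.leaf 0x1f50adf4))
(.node (.leaf 0xf606b2c)
(.leaf 0x2fe057f5)))
(.node (.node (.leaf 0x7ac23b5)
(.leaf 0x2720cb48))
(.node (.leaf 0x15e2266c)
(.leaf 0))))
(.node (.node (.node (.leaf 0x23a4423)
(.leaf 0x22dea74e))
(.node (.leaf 0x13eec6bf)
(.leaf 0)))
(.node (.node (.leaf 0xab065a0)
(.leaf 0x2bb0d4ce))
(.node (.leaf 0x18c884ed)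
(.leaf 0)))))
(.node (.node (.node (.node (.leaf 0x12ec04b)
(.leaf 0x2048aad8))
(.node (.leaf 0x1186cb9c)
(.leaf 0)))
(.node (.node (.leaf 0x9946f8f)
(.leaf 0x29b675c7))
(.node (.leaf 0x17106a99)
(.leaf 0))))
(.node (.node (.node (.leaf 0x60e2198)
(.leaf 0x25b249b0))
(.node (.leaf 0x14fc344b)
(.leaf 0)))
(.node (.node (.leaf 0xcdab1d9)
(.leaf 0x2d7cb89e))
(.node (.leaf 0x1b82aed9)
(.leaf 0))))))
(.node (.node (.node (.node (.node (.leaf 0xd6411f)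
(.leaf 0x1fb82b00))
(.node (.leaf 0x10726ac5)
(.leaf 0x30b057be)))
(.node (.node (.leaf 0x908495c)
(.leaf 0x288a2bb2))
(.node (.leaf 0x166a5477)
(.leaf 0))))
(.node (.node (.node (.leaf 0x3504159)
(.leaf 0x2490a727))
(.node (.leaf 0x14a8aa7d)
(.leaf 0)))
(.node (.node (.leaf 0xbb28b47)
(.leaf 0x2cea75ec))
(.node (.leaf 0x19cca93f)
(.leaf 0)))))
(.node (.node (.node (.node (.leaf 0x1aac29f)
(.leaf 0x21162bcb))
(.node (.leaf 0x124a73dd)
(.leaf 0)))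
(.node (.node (.leaf 0xa0c6b34)
(.leaf 0x2a4cd593))
(.node (.leaf 0x17dcd1dd)
(.leaf 0))))
(.node (.node (.node (.leaf 0x6844231)
(.leaf 0x2620b264))
(.node (.leaf 0x155c45eb)
(.leaf 0)))
(.node (.node (.leaf 0xec0a54b)
(.leaf 0x2e22971a))
(.node (.leaf 0x1f04c52d)
(.leaf 0)))))))
(.node (.node (.node (.node (.node (.node (.leaf 0x766013)
(.leaf 0x1f82d22d))
(.node (.leaf 0xfe2c818)
(.leaf 0x30225752)))
(.node (.node (.leaf 0x81e82e6)
(.leaf 0x284eb0e7))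
(.node (.leaf 0x161c460c)
(.leaf 0))))
(.node (.node (.node (.leaf 0x2bc8058)
(.leaf 0x24568da7))
(.node (.leaf 0x1484c4e8)
(.leaf 0)))
(.node (.node (.leaf 0xb2a869a)
(.leaf 0x2c505508))
(.node (.leaf 0x1940b120)
(.leaf 0)))))
(.node (.node (.node (.node (.leaf 0x16ca11e)
(.leaf 0x209ab1b2))
(.node (.leaf 0x11dccafe)
(.leaf 0)))
(.node (.node (.leaf 0x9c6cf4d)
(.leaf 0x29f076e2))
(.node (.leaf 0x17644a29)
(.leaf 0))))
(.node (.node (.node (.leaf 0x63aa038)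
(.leaf 0x25e6aa3c))
(.node (.leaf 0x152ad37f)
(.leaf 0)))
(.node (.node (.leaf 0xe32459d)
(.leaf 0x2db8d795))
(.node (.leaf 0x1c8e8fb3)
(.leaf 0))))))
(.node (.node (.node (.node (.node (.leaf 0x100a45f)
(.leaf 0x1ff068a9))
(.node (.leaf 0x1154ca85)
(.leaf 0)))
(.node (.node (.leaf 0x9688b03)
(.leaf 0x2986b759))
(.node (.leaf 0x16ba8c13)
(.leaf 0))))
(.node (.node (.node (.leaf 0x4208219)
(.leaf 0x255eab5c))
(.node (.leaf 0x14ccd20e)
(.leaf 0)))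
(.node (.node (.leaf 0xc202c23)
(.leaf 0x2d4ab85c))
(.node (.leaf 0x1a8c341a)
(.leaf 0)))))
(.node (.node (.node (.node (.leaf 0x1ec8359)
(.leaf 0x21a09012))
(.node (.leaf 0x13004d4f)
(.leaf 0)))
(.node (.node (.leaf 0xa584dcf)
(.leaf 0x2ae6b4e1))
(.node (.leaf 0x185eadf6)
(.leaf 0))))
(.node (.node (.node (.leaf 0x76ec380)
(.leaf 0x2666d153))
(.node (.leaf 0x1598264b)
(.leaf 0)))
(.node (.node (.leaf 0xefa8d25)
(.leaf 0x2edc96f8))
(.node (.leaf 0x1f28b22b)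
(.leaf 0))))))))
(.node (.node (.node (.node (.node (.node (.node (.leaf 0x466005)
(.leaf 0x1f6692eb))
(.node (.leaf 0xf8aa8f4)
(.leaf 0x2ffab652)))
(.node (.node (.leaf 0x7d8a401)
(.leaf 0x28388dfd))
(.node (.leaf 0x15fc6915)
(.leaf 0))))
(.node (.node (.node (.leaf 0x27a4224)
(.leaf 0x2444a6ee))
(.node (.leaf 0x141ac68e)
(.leaf 0)))
(.node (.node (.leaf 0xaea661e)
(.leaf 0x2c30b5b5))
(.node (.leaf 0x18f8d411)
(.leaf 0)))))
(.node (.node (.node (.node (.leaf 0x14a6334)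
(.leaf 0x20769365))
(.node (.leaf 0x11ac8911)
(.leaf 0)))
(.node (.node (.leaf 0x9ae4879)
(.leaf 0x29ced54a))
(.node (.leaf 0x1742a9f1)
(.leaf 0))))
(.node (.node (.node (.leaf 0x620c15b)
(.leaf 0x25c8d4b0))
(.node (.leaf 0x1514b29d)
(.leaf 0)))
(.node (.node (.leaf 0xd4a9139)
(.leaf 0x2d9a7875))
(.node (.leaf 0x1c067417)
(.leaf 0))))))
(.node (.node (.node (.node (.node (.leaf 0xeaa2b0)
(.leaf 0x1fd28ecc))
(.node (.leaf 0x11402881)
(.leaf 0)))
(.node (.node (.leaf 0x93a26ba)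
(.leaf 0x28b0cde4))
(.node (.leaf 0x1690b168)
(.leaf 0))))
(.node (.node (.node (.leaf 0x3a08292)
(.leaf 0x24c68b71))
(.node (.leaf 0x14bcc819)
(.leaf 0)))
(.node (.node (.leaf 0xbe864b3)
(.leaf 0x2d367867))
(.node (.leaf 0x1a48c510)
(.leaf 0)))))
(.node (.node (.node (.node (.leaf 0x1cc206f)
(.leaf 0x2154a605))
(.node (.leaf 0x12a68b96)
(.leaf 0)))
(.node (.node (.leaf 0xa36acaa)
(.leaf 0x2a887529))
(.node (.leaf 0x1814c535)
(.leaf 0))))
(.node (.node (.node (.leaf 0x6ca62f8)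
(.leaf 0x2640d112))
(.node (.leaf 0x157872c5)
(.leaf 0)))
(.node (.node (.leaf 0xee2c87d)
(.leaf 0x2e6056c2))
(.node (.leaf 0x1f146bfe)
(.leaf 0)))))))
(.node (.node (.node (.node (.node (.node (.leaf 0xc4a448)
(.leaf 0x1f9aab31))
(.node (.leaf 0x102c6754)
(.leaf 0x30487725)))
(.node (.node (.leaf 0x8bc63de)
(.leaf 0x286690c0))
(.node (.leaf 0x16506edd)
(.leaf 0))))
(.node (.node (.node (.leaf 0x30881a2)
(.leaf 0x2470a6d6))
(.node (.leaf 0x1494c78a)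
(.leaf 0)))
(.node (.node (.leaf 0xb626814)
(.leaf 5348))
(.node (.leaf 0x19906fff)
(.leaf 0)))))
(.node (.node (.node (.node (.leaf 0x186229e)
(.leaf 0x20e6b3e6))
(.node (.leaf 0x120490ed)
(.leaf 0)))
(.node (.node (.leaf 0x9ec9218)
(.leaf 0x2a1e74f1))
(.node (.leaf 0x17a894a7)
(.leaf 0))))
(.node (.node (.node (.leaf 0x65cc427)
(.leaf 0x2600b01c))
(.node (.leaf 0x1542b29a)
(.leaf 0)))
(.node (.node (.leaf 0xeaa8569)
(.leaf 0x2dea9788))
(.node (.leaf 0x1d4e7426)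
(.leaf 0))))))
(.node (.node (.node (.node (.node (.leaf 0x118802e)
(.leaf 0x20108f0c))
(.node (.leaf 0x116ecf11)
(.leaf 0)))
(.node (.node (.leaf 0x97c8c17)
(.leaf 0x299ad63d))
(.node (.leaf 0x16e48948)
(.leaf 0))))
(.node (.node (.node (.leaf 0x4b8c0a8)
(.leaf 0x25a07165))
(.node (.leaf 0x14e6a907)
(.leaf 0)))
(.node (.node (.leaf 0xc7a65b9)
(.leaf 0x2d603822))
(.node (.leaf 0x1b0eb172)
(.leaf 0)))))
(.node (.node (.node (.node (.leaf 0x214a1e2)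
(.leaf 0x224ad179))
(.node (.leaf 0x135cad64)
(.leaf 0)))
(.node (.node (.leaf 0xa8268f1)
(.leaf 0x2b207811))
(.node (.leaf 0x189e8f16)
(.leaf 0))))
(.node (.node (.node (.leaf 0x788430d)
(.leaf 0x26aa8b94))
(.node (.leaf 0x15baaa6d)
(.leaf 0)))
(.node (.node (.leaf 0xf3629f9)
(.leaf 0x2f9ab80e))
(.node (.leaf 0x1f3a8fa8)
(.leaf 0)))))))))
(.node (.node (.node (.node (.node (.node (.node (.node (.leaf 0x166030)
(.leaf 0x1f5a7209))
(.node (.leaf 0xf72b348)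
(.leaf 0x2fecd7cc)))
(.node (.node (.leaf 0x7c2c41a)
(.leaf 0x27c8cb92))
(.node (.leaf 0x15eecebe)
(.leaf 0))))
(.node (.node (.node (.leaf 0x256624d)
(.leaf 0x236cae0f))
(.node (.leaf 0x13fed1d8)
(.leaf 0)))
(.node (.node (.leaf 0xacc8958)
(.leaf 0x2c2674f8))
(.node (.leaf 0x18e0b0a9)
(.leaf 0)))))
(.node (.node (.node (.node (.leaf 0x13a833f)
(.leaf 0x20688d88))
(.node (.leaf 0x11968cee)
(.leaf 0)))
(.node (.node (.leaf 0x9a2ca35)
(.leaf 0x29c474e7))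
(.node (.leaf 0x172a941c)
(.leaf 0))))
(.node (.node (.node (.leaf 0x616c1fa)
(.leaf 0x25baaac2))
(.node (.leaf 0x15066ba3)
(.leaf 0)))
(.node (.node (.leaf 0xd0a6e21)
(.leaf 0x2d8eb845))
(.node (.leaf 0x1bcc45fa)
(.leaf 0))))))
(.node (.node (.node (.node (.node (.leaf 0xdec268)
(.leaf 0x1fc68fd7))
(.node (.leaf 0x10e44920)
(.leaf 0x31285882)))
(.node (.node (.leaf 0x91864f0)
(.leaf 0x28944de5))
(.node (.leaf 0x1682536e)
(.leaf 0))))
(.node (.node (.node (.leaf 0x37ac2e5)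
(.leaf 0x24a648ed))
(.node (.leaf 0x14b0517f)
(.leaf 0)))
(.node (.node (.leaf 0xbce4714)
(.leaf 0x2d2e3837))
(.node (.leaf 0x1a0e8533)
(.leaf 0)))))
(.node (.node (.node (.node (.leaf 0x1ba216b)
(.leaf 0x213a8c7a))
(.node (.leaf 0x1276931f)
(.leaf 0)))
(.node (.node (.leaf 0xa1e9438)
(.leaf 0x2a6836d9))
(.node (.leaf 0x17f4af19)
(.leaf 0))))
(.node (.node (.node (.leaf 0x69c8336)
(.leaf 0x26305208))
(.node (.leaf 0x156c8e36)
(.leaf 0)))
(.node (.node (.leaf 0xed0a6c3)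
(.leaf 0x2e40d790))
(.node (.leaf 0x1f0cc815)
(.leaf 0)))))))
(.node (.node (.node (.node (.node (.node (.leaf 0x8c40ef)
(.leaf 0x1f8c9143))
(.node (.leaf 0x10024e1e)
(.leaf 0x303077cd)))
(.node (.node (.leaf 0x85cc40f)
(.leaf 0x285849b2))
(.node (.leaf 0x162aa9ab)
(.leaf 0))))
(.node (.node (.node (.leaf 0x2e480b1)
(.leaf 0x2464c4e2))
(.node (.leaf 0x148c6afd)
(.leaf 0)))
(.node (.node (.leaf 0xb4e4cb6)
(.leaf 0x2c68b740))
(.node (.leaf 0x1972b380)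
(.leaf 0)))))
(.node (.node (.node (.node (.leaf 0x17a42c0)
(.leaf 0x20b289a2))
(.node (.leaf 0x11f02ce7)
(.leaf 0)))
(.node (.node (.leaf 0x9d88d27)
(.leaf 0x2a0c95b9))
(.node (.leaf 0x17824531)
(.leaf 0))))
(.node (.node (.node (.leaf 0x644a3a3)
(.leaf 0x25f28d82))
(.node (.leaf 0x15382d69)
(.leaf 0)))
(.node (.node (.leaf 0xea0275b)
(.leaf 0x2dd09719))
(.node (.leaf 0x1cde527e)
(.leaf 0))))))
(.node (.node (.node (.node (.node (.leaf 0x10ac454)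
(.leaf 0x200084e3))
(.node (.leaf 0x115e72f3)
(.leaf 0)))
(.node (.node (.leaf 0x9748597)
(.leaf 0x299075cb))
(.node (.leaf 0x16ce2d19)
(.leaf 0))))
(.node (.node (.node (.leaf 0x4584385)
(.leaf 0x259693bb))
(.node (.leaf 0x14de6d41)
(.leaf 0)))
(.node (.node (.leaf 0xc5029c2)
(.leaf 0x2d56b60c))
(.node (.leaf 0x1ad6b3f9)
(.leaf 0)))))
(.node (.node (.node (.node (.leaf 0x204a251)
(.leaf 0x21e6943e))
(.node (.leaf 0x1334679b)
(.leaf 0)))
(.node (.node (.leaf 0xa6a869b)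
(.leaf 0x2b0274cc))
(.node (.leaf 0x18866c49)
(.leaf 0))))
(.node (.node (.node (.leaf 0x77ac27f)
(.leaf 0x268cd2cc))
(.node (.leaf 0x15ae6a5a)
(.leaf 0)))
(.node (.node (.leaf 0xf10653a)
(.leaf 0x2f225757))
(.node (.leaf 0x1f322f77)
(.leaf 0))))))))
(.node (.node (.node (.node (.node (.node (.node (.leaf 0x5ea259)
(.leaf 0x1f76cf37))
(.node (.leaf 0xfacc762)
(.leaf 0x300e576e)))
(.node (.node (.leaf 0x7f081d1)
(.leaf 0x2842662a))
(.node (.leaf 0x160cc980)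
(.leaf 0))))
(.node (.node (.node (.leaf 0x2968123)
(.leaf 0x244c9082))
(.node (.leaf 0x1454ce12)
(.leaf 0)))
(.node (.node (.leaf 0xb1090d5)
(.leaf 0x2c3cb562))
(.node (.leaf 0x19208a37)
(.leaf 0)))))
(.node (.node (.node (.node (.leaf 0x156439c)
(.leaf 0x20888566))
(.node (.leaf 0x11cc8a9e)
(.leaf 0)))
(.node (.node (.leaf 0x9b82c0b)
(.leaf 0x29e49631))
(.node (.leaf 0x17542601)
(.leaf 0))))
(.node (.node (.node (.leaf 0x6286270)
(.leaf 0x25dac9d6))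
(.node (.leaf 0x1520c524)
(.leaf 0)))
(.node (.node (.leaf 0xd98a8a6)
(.leaf 0x2daa964d))
(.node (.leaf 0x1c4c4a09)
(.leaf 0))))))
(.node (.node (.node (.node (.node (.leaf 0xf4a12b)
(.leaf 0x1fde90c2))
(.node (.leaf 0x114a2796)
(.leaf 0)))
(.node (.node (.leaf 0x95e8b64)
(.leaf 0x28c8d46c))
(.node (.leaf 0x16a69478)
(.leaf 0))))
(.node (.node (.node (.leaf 0x3ea61fe)
(.leaf 0x24f870f2))
(.node (.leaf 0x14c6c7e4)
(.leaf 0)))
(.node (.node (.leaf 0xc026978)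
(.leaf 0x2d42d51f))
(.node (.leaf 0x1a66d20f)
(.leaf 0)))))
(.node (.node (.node (.node (.leaf 0x1dca221)
(.leaf 0x2186cf8a))
(.node (.leaf 0x12d0acfc)
(.leaf 0)))
(.node (.node (.leaf 0xa4684b5)
(.leaf 0x2ac0780c))
(.node (.leaf 0x183e8529)
(.leaf 0))))
(.node (.node (.node (.leaf 0x764641f)
(.leaf 0x2654aef4))
(.node (.leaf 0x1586aba5)
(.leaf 0)))
(.node (.node (.leaf 0xeee266b)
(.leaf 0x2e9677cb))
(.node (.leaf 0x1f1e4613)
(.leaf 0)))))))
(.node (.node (.node (.node (.node (.node (.leaf 0xce60d8)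
(.leaf 0x1facb3d3))
(.node (.leaf 0x10562f04)
(.leaf 0x30669854)))
(.node (.node (.leaf 0x8ce63d9)
(.leaf 0x28787066))
(.node (.leaf 0x165aceee)
(.leaf 0))))
(.node (.node (.node (.leaf 0x32041d3)
(.leaf 0x2482a76d))
(.node (.leaf 0x149c4fd2)
(.leaf 0)))
(.node (.node (.leaf 0xb8ccc66)
(.leaf 0x2cda75ee))
(.node (.leaf 0x19ae89bb)
(.leaf 0)))))
(.node (.node (.node (.node (.leaf 0x19a80e9)
(.leaf 0x20faacc2))
(.node (.leaf 0x1222c7c2)
(.leaf 0)))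
(.node (.node (.leaf 0x9feaaa2)
(.leaf 0x2a3e95b1))
(.node (.leaf 0x17c64c20)
(.leaf 0))))
(.node (.node (.node (.leaf 0x66e63fa)
(.leaf 0x260c5474))
(.node (.leaf 0x154ed3c5)
(.leaf 0)))
(.node (.node (.leaf 0xeb664d1)
(.leaf 0x2e065689))
(.node (.leaf 0x1e1ccf2b)
(.leaf 0))))))
(.node (.node (.node (.node (.node (.leaf 0x1226098)
(.leaf 0x202c70af))
(.node (.leaf 0x117c7384)
(.leaf 0)))
(.node (.node (.leaf 0x98a87fe)
(.leaf 0x29a69746))
(.node (.leaf 0x16f86ac1)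
(.leaf 0))))
(.node (.node (.node (.leaf 0x534831d)
(.leaf 0x25a8b16b))
(.node (.leaf 0x14f2c8f7)
(.leaf 0)))
(.node (.node (.leaf 0xca446bb)
(.leaf 0x2d6cb7e4))
(.node (.leaf 0x1b44a596)
(.leaf 0)))))
(.node (.node (.node (.node (.leaf 0x22a2076)
(.leaf 0x2278b30e))
(.node (.leaf 0x13e02776)
(.leaf 0)))
(.node (.node (.leaf 0xa90a60a)
(.leaf 0x2b527525))
(.node (.leaf 0x18ac928d)
(.leaf 0))))
(.node (.node (.node (.leaf 0x7926282)
(.leaf 0x26dcc9c3))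
(.node (.leaf 0x15ccb432)
(.leaf 0)))
(.node (.node (.leaf 0xf4e8ecd)
(.leaf 0x2fd8b64e))
(.node (.leaf 0x1f4646dd)
(.leaf 0)))))))))))
(.node (.node (.node (.node (.node (.node (.node (.node (.node (.node (.leaf 163865)
(.leaf 0x1f4e8bc2))
(.node (.leaf 0xf5a4e3a)
(.leaf 0x2fded72f)))
(.node (.node (.leaf 0x7a4a20b)
(.leaf 0x27028df9))
(.node (.leaf 0x15da496a)
(.leaf 0))))
(.node (.node (.node (.leaf 0x236a11d)
(.leaf 0x229472e7))
(.node (.leaf 0x13ea4a8d)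
(.leaf 0)))
(.node (.node (.leaf 0xaa6cc00)
(.leaf 0x2b8c9584))
(.node (.leaf 0x18c2c629)
(.leaf 0)))))
(.node (.node (.node (.node (.leaf 0x12c805d)
(.leaf 0x203e4782))
(.node (.leaf 0x118465c0)
(.leaf 0)))
(.node (.node (.leaf 0x992ce98)
(.leaf 0x29b2771d))
(.node (.leaf 0x170ab1b9)
(.leaf 0))))
(.node (.node (.node (.leaf 0x604a39e)
(.leaf 0x25ae743f))
(.node (.leaf 0x14fab0bd)
(.leaf 0)))
(.node (.node (.leaf 0xcd4aa8e)
(.leaf 0x2d7a979f))
(.node (.leaf 0x1b7486ef)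
(.leaf 0))))))
(.node (.node (.node (.node (.node (.leaf 0xd4617f)
(.leaf 0x1fb493e7))
(.node (.leaf 0x106ca48e)
(.leaf 0x30a43669)))
(.node (.node (.leaf 0x906649c)
(.leaf 0x2882b3e9))
(.node (.leaf 0x16664eba)
(.leaf 0))))
(.node (.node (.node (.leaf 0x33a623f)
(.leaf 0x248c882e))
(.node (.leaf 0x14a25321)
(.leaf 0)))
(.node (.node (.leaf 0xba6cdfc)
(.leaf 0x2ce656df))
(.node (.leaf 0x19c66c2f)
(.leaf 0)))))
(.node (.node (.node (.node (.leaf 0x1a6a173)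
(.leaf 0x2112ac98))
(.node (.leaf 0x123ca6fb)
(.leaf 0)))
(.node (.node (.leaf 0xa066892)
(.leaf 0x2a48953c))
(.node (.leaf 0x17d86d01)
(.leaf 0))))
(.node (.node (.node (.leaf 0x6806160)
(.leaf 0x261c948d))
(.node (.leaf 0x155851bf)
(.leaf 0)))
(.node (.node (.leaf 0xebc4f8b)
(.leaf 0x2e1eb847))
(.node (.leaf 0x1f02659a)
(.leaf 0)))))))
(.node (.node (.node (.node (.node (.node (.leaf 0x708102)
(.leaf 0x1f80aa55))
(.node (.leaf 0xfda7235)
(.leaf 0x3020d675)))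
(.node (.node (.leaf 0x80a238d)
(.leaf 0x28487472))
(.node (.leaf 0x16186f9e)
(.leaf 0))))
(.node (.node (.node (.leaf 0x2b283db)
(.leaf 0x2454ce51))
(.node (.leaf 0x1482c608)
(.leaf 0)))
(.node (.node (.leaf 0xb248801)
(.leaf 0x2c4a955b))
(.node (.leaf 0x193870fc)
(.leaf 0)))))
(.node (.node (.node (.node (.leaf 0x162a2c3)
(.leaf 0x2098292d))
(.node (.leaf 0x11d88a91)
(.leaf 0)))
(.node (.node (.leaf 0x9c471eb)
(.leaf 0x29ee951b))
(.node (.leaf 0x17608e01)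
(.leaf 0))))
(.node (.node (.node (.leaf 0x63661b4)
(.leaf 0x25e29265))
(.node (.leaf 0x15286dd4)
(.leaf 0)))
(.node (.node (.leaf 0xdeea490)
(.leaf 0x2db4b895))
(.node (.leaf 0x1c885297)
(.leaf 0))))))
(.node (.node (.node (.node (.node (.leaf 0xfc8351)
(.leaf 0x1feec950))
(.node (.leaf 0x1152af51)
(.leaf 0)))
(.node (.node (.leaf 0x96686f6)
(.leaf 0x2984752e))
(.node (.leaf 0x16b6b24b)
(.leaf 0))))
(.node (.node (.node (.leaf 0x4082176)
(.leaf 0x252648cd))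
(.node (.leaf 0x14cc86df)
(.leaf 0)))
(.node (.node (.leaf 0xc1c64b4)
(.leaf 0x2d48d87e))
(.node (.leaf 0x1a843453)
(.leaf 0)))))
(.node (.node (.node (.node (.leaf 0x1eca0fb)
(.leaf 0x21985285))
(.node (.leaf 0x12f8b02f)
(.leaf 0)))
(.node (.node (.leaf 0xa524cc3)
(.leaf 0x2ada756f))
(.node (.leaf 0x1850cf9d)
(.leaf 0))))
(.node (.node (.node (.leaf 0x76ca2bc)
(.leaf 0x26604a80))
(.node (.leaf 0x1594d1a9)
(.leaf 0)))
(.node (.node (.leaf 0xef8687a)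
(.leaf 0x2ec677e1))
(.node (.leaf 0x1f248ea9)
(.leaf 0))))))))
(.node (.node (.node (.node (.node (.node (.node (.leaf 0x3080c1)
(.leaf 0x1f644cad))
(.node (.leaf 0xf84c89c)
(.leaf 0x2ff69767)))
(.node (.node (.leaf 0x7d44468)
(.leaf 0x2836b0a3))
(.node (.leaf 0x15f84e7e)
(.leaf 0))))
(.node (.node (.node (.leaf 0x26c40d5)
(.leaf 0x2442c728))
(.node (.leaf 0x1412c56c)
(.leaf 0)))
(.node (.node (.leaf 0xae44a8a)
(.leaf 0x2c2e7582))
(.node (.leaf 0x18f688b9)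
(.leaf 0)))))
(.node (.node (.node (.node (.leaf 0x14462a1)
(.leaf 0x20747334))
(.node (.leaf 0x11a86cbc)
(.leaf 0)))
(.node (.node (.leaf 0x9aa911d)
(.leaf 0x29cc5568))
(.node (.leaf 0x173ea4f1)
(.leaf 0))))
(.node (.node (.node (.leaf 0x61e8362)
(.leaf 0x25c2d3a5))
(.node (.leaf 0x15128d09)
(.leaf 0)))
(.node (.node (.leaf 0xd1cae14)
(.leaf 0x2d98b721))
(.node (.leaf 0x1bf2539a)
(.leaf 0))))))
(.node (.node (.node (.node (.node (.leaf 0xe682c5)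
(.leaf 0x1fce6ff7))
(.node (.leaf 0x113ec4c1)
(.leaf 0)))
(.node (.node (.leaf 0x9308652)
(.leaf 0x28a48b19))
(.node (.leaf 0x168e6e96)
(.leaf 0))))
(.node (.node (.node (.leaf 0x394a052)
(.leaf 0x24ba47b8))
(.node (.leaf 0x14b8749c)
(.leaf 0)))
(.node (.node (.leaf 0xbde6dd0)
(.leaf 0x2d34b817))
(.node (.leaf 0x1a36b147)
(.leaf 0)))))
(.node (.node (.node (.node (.leaf 0x1c68265)
(.leaf 0x214a907f))
(.node (.leaf 0x12968cdc)
(.leaf 0)))
(.node (.node (.leaf 0xa32c4fa)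
(.leaf 0x2a80b4f7))
(.node (.leaf 0x180cd0ce)
(.leaf 0))))
(.node (.node (.node (.leaf 0x6b6208e)
(.leaf 0x263c2780))
(.node (.leaf 0x1576ce03)
(.leaf 0)))
(.node (.node (.leaf 0xee02857)
(.leaf 0x2e5c37b4))
(.node (.leaf 0x1f12ce58)
(.leaf 0)))))))
(.node (.node (.node (.node (.node (.node (.leaf 0xc44034)
(.leaf 0x1f988682))
(.node (.leaf 0x101aa874)
(.leaf 0x303c767f)))
(.node (.node (.leaf 0x8b8244b)
(.leaf 0x286269af))
(.node (.leaf 0x164c3247)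
(.leaf 0))))
(.node (.node (.node (.leaf 0x2fa821c)
(.leaf 0x246ca76c))
(.node (.leaf 0x1492a9b8)
(.leaf 0)))
(.node (.node (.leaf 0xb60a657)
(.leaf 0x2c9ed754))
(.node (.leaf 0x198ab0e2)
(.leaf 0)))))
(.node (.node (.node (.node (.leaf 0x182a09f)
(.leaf 0x20cc8b8b))
(.node (.leaf 0x11fc9211)
(.leaf 0)))
(.node (.node (.leaf 0x9e6ac45)
(.leaf 0x2a1a9524))
(.node (.leaf 0x17a0a7f3)
(.leaf 0))))
(.node (.node (.node (.leaf 0x6544347)
(.leaf 0x25fc70d8))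
(.node (.leaf 0x153e5224)
(.leaf 0)))
(.node (.node (.leaf 0xea68b79)
(.leaf 0x2de49787))
(.node (.leaf 0x1d1c2a45)
(.leaf 0))))))
(.node (.node (.node (.node (.node (.leaf 0x116c07e)
(.leaf 0x200c6934))
(.node (.leaf 0x116a8e18)
(.leaf 0)))
(.node (.node (.leaf 0x97a86f8)
(.leaf 0x2998753d))
(.node (.leaf 0x16dc4b77)
(.leaf 0))))
(.node (.node (.node (.leaf 0x4a68297)
(.leaf 0x259e53d5))
(.node (.leaf 0x14e47414)
(.leaf 0)))
(.node (.node (.leaf 0xc6ca7cd)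
(.leaf 0x2d6095d6))
(.node (.leaf 0x1b024fb4)
(.leaf 0)))))
(.node (.node (.node (.node (.leaf 0x21060fc)
(.leaf 0x22248c27))
(.node (.leaf 0x1354a95d)
(.leaf 0)))
(.node (.node (.leaf 0xa7aacbf)
(.leaf 0x2b1655ba))
(.node (.leaf 0x1896ca4e)
(.leaf 0))))
(.node (.node (.node (.leaf 0x78443ae)
(.leaf 0x26a68b90))
(.node (.leaf 0x15b89056)
(.leaf 0)))
(.node (.node (.leaf 0xf30251a)
(.leaf 0x2f68d81a))
(.node (.leaf 0x1f382eac)
(.leaf 0)))))))))
(.node (.node (.node (.node (.node (.node (.node (.node (.leaf 0x102126)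
(.leaf 0x1f58aa5c))
(.node (.leaf 0xf6ec4fb)
(.leaf 0x2fead5ce)))
(.node (.node (.leaf 0x7b8438b)
(.leaf 0x2762b469))
(.node (.leaf 0x15e871f1)
(.leaf 0))))
(.node (.node (.node (.leaf 0x250818b)
(.leaf 0x234e4eae))
(.node (.leaf 0x13f8c768)
(.leaf 0)))
(.node (.node (.leaf 0xac28c4e)
(.leaf 0x2c24d504))
(.node (.leaf 0x18dcc860)
(.leaf 0)))))
(.node (.node (.node (.node (.leaf 0x138c105)
(.leaf 0x20602cea))
(.node (.leaf 0x119264fd)
(.leaf 0)))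
(.node (.node (.leaf 0x9a0a842)
(.leaf 0x29be9503))
(.node (.leaf 0x1726728a)
(.leaf 0))))
(.node (.node (.node (.leaf 0x6148240)
(.leaf 0x25b890e1))
(.node (.leaf 0x1502aac6)
(.leaf 0)))
(.node (.node (.leaf 0xd028f80)
(.leaf 0x2d88b5f9))
(.node (.leaf 0x1bb0d106)
(.leaf 0))))))
(.node (.node (.node (.node (.node (.leaf 0xdca1db)
(.leaf 0x1fc2b436))
(.node (.leaf 0x10d4a7b5)
(.leaf 0x3122b89c)))
(.node (.node (.leaf 0x9146a70)
(.leaf 0x2890345d))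
(.node (.leaf 0x167a878c)
(.leaf 0))))
(.node (.node (.node (.leaf 0x37282f5)
(.leaf 0x249ea54e))
(.node (.leaf 0x14ae910a)
(.leaf 0)))
(.node (.node (.leaf 0xbcc46ac)
(.leaf 0x2d24b896))
(.node (.leaf 0x19f28beb)
(.leaf 0)))))
(.node (.node (.node (.node (.leaf 0x1b4a290)
(.leaf 0x21348a7a))
(.node (.leaf 0x126e866a)
(.leaf 0)))
(.node (.node (.leaf 0xa1a8923)
(.leaf 0x2a5e94cd))
(.node (.leaf 0x17eea63b)
(.leaf 0))))
(.node (.node (.node (.leaf 0x692a344)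
(.leaf 0x262a9498))
(.node (.leaf 0x1568517c)
(.leaf 0)))
(.node (.node (.leaf 0xece4659)
(.leaf 0x2e3cd591))
(.node (.leaf 0x1f08cc8f)
(.leaf 0)))))))
(.node (.node (.node (.node (.node (.node (.leaf 0x86825c)
(.leaf 0x1f8ccd28))
(.node (.leaf 0xff6c8aa)
(.leaf 0x302e566a)))
(.node (.node (.leaf 0x854846d)
(.leaf 0x2854314f))
(.node (.leaf 0x16248c9c)
(.leaf 0))))
(.node (.node (.node (.leaf 0x2d6603a)
(.leaf 0x24609049))
(.node (.leaf 0x148a2b16)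
(.leaf 0)))
(.node (.node (.leaf 0xb4448fc)
(.leaf 0x2c643537))
(.node (.leaf 0x195ea70a)
(.leaf 0)))))
(.node (.node (.node (.node (.leaf 0x178409a)
(.leaf 0x20acd3cb))
(.node (.leaf 0x11eca7ce)
(.leaf 0)))
(.node (.node (.leaf 0x9d2a7be)
(.leaf 0x2a04962e))
(.node (.leaf 0x1772aab9)
(.leaf 0))))
(.node (.node (.node (.leaf 0x642c131)
(.leaf 0x25f08bb7))
(.node (.leaf 0x15366dce)
(.leaf 0)))
(.node (.node (.leaf 0xe9ec48a)
(.leaf 0x2dcad588))
(.node (.leaf 0x1cca6864)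
(.leaf 0))))))
(.node (.node (.node (.node (.node (.leaf 0x1082328)
(.leaf 0x1ffc731c))
(.node (.leaf 0x115c8e1a)
(.leaf 0)))
(.node (.node (.leaf 0x97066b5)
(.leaf 0x298c76e6))
(.node (.leaf 0x16c8b4be)
(.leaf 0))))
(.node (.node (.node (.leaf 0x44082d5)
(.leaf 0x25947398))
(.node (.leaf 0x14d872bc)
(.leaf 0)))
(.node (.node (.leaf 0xc488774)
(.leaf 0x2d505833))
(.node (.leaf 0x1aa88cf0)
(.leaf 0)))))
(.node (.node (.node (.node (.leaf 0x1fe4181)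
(.leaf 0x21d86fd0))
(.node (.leaf 0x131a69d0)
(.leaf 0)))
(.node (.node (.leaf 0xa6625f5)
(.leaf 0x2af6d834))
(.node (.leaf 0x1882693e)
(.leaf 0))))
(.node (.node (.node (.leaf 0x77882ca)
(.leaf 0x267cd48e))
(.node (.leaf 0x15aaaa05)
(.leaf 0)))
(.node (.node (.leaf 0xf0a7416)
(.leaf 0x2efad814))
(.node (.leaf 0x1f30658d)
(.leaf 0))))))))
(.node (.node (.node (.node (.node (.node (.node (.leaf 0x5a227c)
(.leaf 0x1f7270e4))
(.node (.leaf 0xfa6705e)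
(.leaf 0x300a5873)))
(.node (.node (.leaf 0x7ea8416)
(.leaf 0x283e5158))
(.node (.leaf 0x16086e6e)
(.leaf 0))))
(.node (.node (.node (.leaf 0x2906099)
(.leaf 0x244a7075))
(.node (.leaf 0x144ca699)
(.leaf 0)))
(.node (.node (.leaf 0xb046d84)
(.leaf 0x2c3ad50e))
(.node (.leaf 0x190e7444)
(.leaf 0)))))
(.node (.node (.node (.node (.leaf 0x15461cb)
(.leaf 0x2082d447))
(.node (.leaf 0x11c67442)
(.leaf 0)))
(.node (.node (.leaf 0x9b6aa78)
(.leaf 0x29deb7b6))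
(.node (.leaf 0x17502bd8)
(.leaf 0))))
(.node (.node (.node (.leaf 0x626a2c9)
(.leaf 0x25d4d3ed))
(.node (.leaf 0x151c6fba)
(.leaf 0)))
(.node (.node (.leaf 0xd86cb65)
(.leaf 0x2da6958b))
(.node (.leaf 0x1c22b294)
(.leaf 0))))))
(.node (.node (.node (.node (.node (.leaf 0xf24092)
(.leaf 0x1fda4f5b))
(.node (.leaf 0x1146ae4a)
(.leaf 0)))
(.node (.node (.leaf 0x95e25a8)
(.leaf 0x28c49173))
(.node (.leaf 0x169ed0da)
(.leaf 0))))
(.node (.node (.node (.leaf 0x3e2a125)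
(.leaf 0x24eea5a2))
(.node (.leaf 0x14c26d58)
(.leaf 0)))
(.node (.node (.leaf 0xbfe4802)
(.leaf 0x2d3e382d))
(.node (.leaf 0x1a644be5)
(.leaf 0)))))
(.node (.node (.node (.node (.leaf 0x1d6427e)
(.leaf 0x2180b42f))
(.node (.leaf 0x12c4cc80)
(.leaf 0)))
(.node (.node (.leaf 0xa42ac42)
(.leaf 0x2ab87840))
(.node (.leaf 0x182a4c9e)
(.leaf 0))))
(.node (.node (.node (.leaf 0x762a1fc)
(.leaf 0x264ca9fc))
(.node (.leaf 0x1582d10b)
(.leaf 0)))
(.node (.node (.leaf 0xeeac5ee)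
(.leaf 0x2e86b594))
(.node (.leaf 0x1f1cccd5)
(.leaf 0)))))))
(.node (.node (.node (.node (.node (.node (.leaf 0xcc20dc)
(.leaf 0x1fa8b020))
(.node (.leaf 0x105045e2)
(.leaf 0x305c3678)))
(.node (.node (.leaf 0x8ca23c2)
(.leaf 0x28746a4b))
(.node (.leaf 0x16567092)
(.leaf 0))))
(.node (.node (.node (.leaf 0x31a62a3)
(.leaf 0x24806fed))
(.node (.leaf 0x149aae44)
(.leaf 0)))
(.node (.node (.leaf 0xb7e8f33)
(.leaf 0x2cd834f5))
(.node (.leaf 0x19a6d30a)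
(.leaf 0)))))
(.node (.node (.node (.node (.leaf 0x19642eb)
(.leaf 0x20f627b2))
(.node (.leaf 0x12186f2a)
(.leaf 0)))
(.node (.node (.leaf 0x9fc2514)
(.leaf 0x2a385570))
(.node (.leaf 0x17c08729)
(.leaf 0))))
(.node (.node (.node (.leaf 0x66ca1f7)
(.leaf 0x260cd2cf))
(.node (.leaf 0x154a4f9b)
(.leaf 0)))
(.node (.node (.leaf 0xeb2a5df)
(.leaf 0x2e0276db))
(.node (.leaf 0x1db68649)
(.leaf 0))))))
(.node (.node (.node (.node (.node (.leaf 0x11e8430)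
(.leaf 0x20266fc1))
(.node (.leaf 0x1178cfe8)
(.leaf 0)))
(.node (.node (.leaf 0x984ae9a)
(.leaf 0x29a49569))
(.node (.leaf 0x16f49261)
(.leaf 0))))
(.node (.node (.node (.leaf 0x51a626c)
(.leaf 0x25a6ab33))
(.node (.leaf 0x14eeaeb8)
(.leaf 0)))
(.node (.node (.leaf 0xc98532f)
(.leaf 0x2d6ad7d4))
(.node (.leaf 0x1b308530)
(.leaf 0)))))
(.node (.node (.node (.node (.leaf 0x226632c)
(.leaf 0x2262c9cf))
(.node (.leaf 0x13de6588)
(.leaf 0)))
(.node (.node (.leaf 0xa8ac5d3)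
(.leaf 0x2b42d603))
(.node (.leaf 0x18aa3205)
(.leaf 0))))
(.node (.node (.node (.leaf 0x78e845b)
(.leaf 0x26cc4ab1))
(.node (.leaf 0x15c8d44a)
(.leaf 0)))
(.node (.node (.leaf 0xf4ab258)
(.leaf 0x2fd6766c))
(.node (.leaf 0x1f44c81a)
(.leaf 0))))))))))
(.node (.node (.node (.node (.node (.node (.node (.node (.node (.leaf 548884)
(.leaf 0x1f54a647))
(.node (.leaf 0xf68ae94)
(.leaf 0x2fe4389b)))
(.node (.node (.leaf 0x7ae625d)
(.leaf 0x273a548b))
(.node (.leaf 0x15e2733a)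
(.leaf 0))))
(.node (.node (.node (.leaf 0x2406162)
(.leaf 0x22fca785))
(.node (.leaf 0x13f08988)
(.leaf 0)))
(.node (.node (.leaf 0xab4caa9)
(.leaf 0x2bce55f4))
(.node (.leaf 0x18ced41d)
(.leaf 0)))))
(.node (.node (.node (.node (.leaf 0x13281ad)
(.leaf 0x20506af3))
(.node (.leaf 0x118850f4)
(.leaf 0)))
(.node (.node (.leaf 0x9986505)
(.leaf 0x29ba94df))
(.node (.leaf 0x1716a956)
(.leaf 0))))
(.node (.node (.node (.leaf 0x612a0bc)
(.leaf 0x25b4b1ec))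
(.node (.leaf 0x14fe47dd)
(.leaf 0)))
(.node (.node (.leaf 0xcea6e54)
(.leaf 0x2d80975c))
(.node (.leaf 0x1b98719c)
(.leaf 0))))))
(.node (.node (.node (.node (.node (.leaf 0xd8a2b1)
(.leaf 0x1fbaaee0))
(.node (.leaf 0x1088d236)
(.leaf 0x30c07572)))
(.node (.node (.leaf 0x90ca7c0)
(.leaf 0x288c73ee))
(.node (.leaf 0x166e3196)
(.leaf 0))))
(.node (.node (.node (.leaf 0x35c2257)
(.leaf 0x24968bf5))
(.node (.leaf 0x14aa70e0)
(.leaf 0)))
(.node (.node (.leaf 0xbbe9260)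
(.leaf 0x2cf2b596))
(.node (.leaf 0x19d2500c)
(.leaf 0)))))
(.node (.node (.node (.node (.leaf 0x1ac23cb)
(.leaf 0x2118691f))
(.node (.leaf 0x1254cc57)
(.leaf 0)))
(.node (.node (.leaf 0xa1264d4)
(.leaf 0x2a52d5c8))
(.node (.leaf 0x17e08858)
(.leaf 0))))
(.node (.node (.node (.leaf 0x688a113)
(.leaf 0x262491e9))
(.node (.leaf 0x156046e0)
(.leaf 0)))
(.node (.node (.leaf 0xec4a6ec)
(.leaf 0x2e2eb6f0))
(.node (.leaf 0x1f04b080)
(.leaf 0)))))))
(.node (.node (.node (.node (.node (.node (.leaf 0x788151)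
(.leaf 0x1f86aff1))
(.node (.leaf 0xfe46fe0)
(.leaf 0x302656af)))
(.node (.node (.leaf 0x826c373)
(.leaf 0x2850d3c3))
(.node (.leaf 0x161ed1fc)
(.leaf 0))))
(.node (.node (.node (.leaf 0x2c0a0a4)
(.leaf 0x245a672b))
(.node (.leaf 0x148493db)
(.leaf 0)))
(.node (.node (.leaf 0xb306c3d)
(.leaf 0x2c5096c1))
(.node (.leaf 0x19488e87)
(.leaf 0)))))
(.node (.node (.node (.node (.leaf 0x16ea153)
(.leaf 0x209c6cce))
(.node (.leaf 0x11e092b6)
(.leaf 0)))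
(.node (.node (.leaf 0x9c8cec9)
(.leaf 0x29f6b518))
(.node (.leaf 0x176c4a81)
(.leaf 0))))
(.node (.node (.node (.leaf 0x63c820e)
(.leaf 0x25e8d20b))
(.node (.leaf 0x152ea9b1)
(.leaf 0)))
(.node (.node (.leaf 0xe7e6498)
(.leaf 0x2dbed6fd))
(.node (.leaf 0x1c92b463)
(.leaf 0))))))
(.node (.node (.node (.node (.node (.leaf 0x104a1c6)
(.leaf 0x1ff46d4c))
(.node (.leaf 0x1158cc1d)
(.leaf 0)))
(.node (.node (.leaf 0x96cc52e)
(.leaf 0x298895a4))
(.node (.leaf 0x16c04f20)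
(.leaf 0))))
(.node (.node (.node (.leaf 0x428a09b)
(.leaf 0x2592ca01))
(.node (.leaf 0x14d2aa4f)
(.leaf 0)))
(.node (.node (.leaf 0xc2445e5)
(.leaf 0x2d4c3816))
(.node (.leaf 0x1a94539d)
(.leaf 0)))))
(.node (.node (.node (.node (.leaf 0x1f44114)
(.leaf 0x21b46bd5))
(.node (.leaf 0x1306a897)
(.leaf 0)))
(.node (.node (.leaf 0xa60a6bc)
(.leaf 0x2aeed5d7))
(.node (.leaf 0x18688fc8)
(.leaf 0))))
(.node (.node (.node (.leaf 0x7708456)
(.leaf 0x266caa4c))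
(.node (.leaf 0x159a7452)
(.leaf 0)))
(.node (.node (.leaf 0xefe6735)
(.leaf 0x2ee85849))
(.node (.leaf 0x1f2a2c97)
(.leaf 0))))))))
(.node (.node (.node (.node (.node (.node (.node (.leaf 0x546075)
(.leaf 0x1f6c6b5a))
(.node (.leaf 0xf9648e4)
(.leaf 0x2ffe573b)))
(.node (.node (.leaf 0x7e0225a)
(.leaf 0x283a700d))
(.node (.leaf 0x15fe9245)
(.leaf 0))))
(.node (.node (.node (.leaf 0x28262bd)
(.leaf 0x2446a6b8))
(.node (.leaf 0x1422676b)
(.leaf 0)))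
(.node (.node (.leaf 0xaf24a31)
(.leaf 0x2c3235f5))
(.node (.leaf 0x18fc48c9)
(.leaf 0)))))
(.node (.node (.node (.node (.leaf 0x14c43f5)
(.leaf 0x207aa8a4))
(.node (.leaf 0x11b08b29)
(.leaf 0)))
(.node (.node (.leaf 0x9b0732b)
(.leaf 0x29d29692))
(.node (.leaf 0x17469372)
(.leaf 0))))
(.node (.node (.node (.leaf 0x622a1f2)
(.leaf 0x25cc71ab))
(.node (.leaf 0x1516700a)
(.leaf 0)))
(.node (.node (.leaf 0xd60adbe)
(.leaf 0x2da0d509))
(.node (.leaf 0x1c129065)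
(.leaf 0))))))
(.node (.node (.node (.node (.node (.leaf 0xee427a)
(.leaf 0x1fd45229))
(.node (.leaf 0x11424f8c)
(.leaf 0)))
(.node (.node (.leaf 0x94e6549)
(.leaf 0x28b65094))
(.node (.leaf 0x16968de0)
(.leaf 0))))
(.node (.node (.node (.leaf 0x3b4609d)
(.leaf 0x24d86d80))
(.node (.leaf 0x14bc6baf)
(.leaf 0)))
(.node (.node (.leaf 0xbeca50e)
(.leaf 0x2d38b758))
(.node (.leaf 0x1a4aae04)
(.leaf 0)))))
(.node (.node (.node (.node (.leaf 0x1cea348)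
(.leaf 0x21628b09))
(.node (.leaf 0x12b4a756)
(.leaf 0)))
(.node (.node (.leaf 0xa3aad45)
(.leaf 0x2a903634))
(.node (.leaf 0x18188f99)
(.leaf 0))))
(.node (.node (.node (.leaf 0x6e66302)
(.leaf 0x26444e07))
(.node (.leaf 0x157e6618)
(.leaf 0)))
(.node (.node (.leaf 0xee464ba)
(.leaf 0x2e6ed700))
(.node (.leaf 0x1f16337b)
(.leaf 0)))))))
(.node (.node (.node (.node (.node (.node (.leaf 0xc68249)
(.leaf 0x1fa0a645))
(.node (.leaf 0x10362f5f)
(.leaf 0x304c7762)))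
(.node (.node (.leaf 0x8c0845e)
(.leaf 0x286a73eb))
(.node (.leaf 0x16526aaf)
(.leaf 0))))
(.node (.node (.node (.leaf 0x30ca177)
(.leaf 0x2478ce2a))
(.node (.leaf 0x14962dda)
(.leaf 0)))
(.node (.node (.leaf 0xb6cb01e)
(.leaf 0x2cd2754c))
(.node (.leaf 0x199ea623)
(.leaf 0)))))
(.node (.node (.node (.node (.leaf 0x18aa02c)
(.leaf 0x20ee926a))
(.node (.leaf 0x12068e7b)
(.leaf 0)))
(.node (.node (.leaf 0x9f07148)
(.leaf 0x2a22750f))
(.node (.leaf 0x17b2ad7b)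
(.leaf 0))))
(.node (.node (.node (.leaf 0x65e623e)
(.leaf 0x2604727b))
(.node (.leaf 0x15445396)
(.leaf 0)))
(.node (.node (.leaf 0xeac4e16)
(.leaf 0x2df0569c))
(.node (.leaf 0x1d604c7b)
(.leaf 0))))))
(.node (.node (.node (.node (.node (.leaf 0x118240e)
(.leaf 0x20145405))
(.node (.leaf 0x11722794)
(.leaf 0)))
(.node (.node (.leaf 0x97e6ebf)
(.leaf 0x299eb595))
(.node (.leaf 0x16ec4a95)
(.leaf 0))))
(.node (.node (.node (.leaf 0x4caa264)
(.leaf 0x25a2918b))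
(.node (.leaf 0x14ea4834)
(.leaf 0)))
(.node (.node (.leaf 0xc868e31)
(.leaf 0x2d6477de))
(.node (.leaf 0x1b1c8593)
(.leaf 0)))))
(.node (.node (.node (.node (.leaf 0x21a825e)
(.leaf 0x22542d36))
(.node (.leaf 0x136669bd)
(.leaf 0)))
(.node (.node (.leaf 0xa84c87c)
(.leaf 0x2b269835))
(.node (.leaf 0x18a28bbd)
(.leaf 0))))
(.node (.node (.node (.leaf 0x78ac43d)
(.leaf 0x26be726e))
(.node (.leaf 0x15c2c918)
(.leaf 0)))
(.node (.node (.leaf 0xf3cce73)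
(.leaf 0x2fd2d72b))
(.node (.leaf 0x1f3ec9cd)
(.leaf 0)))))))))
(.node (.node (.node (.node (.node (.node (.node (.node (.leaf 0x20208b)
(.leaf 0x1f5cce30))
(.node (.leaf 0xf76cf58)
(.leaf 0x2fee7793)))
(.node (.node (.leaf 0x7ca23f6)
(.leaf 0x28326aaa))
(.node (.leaf 0x15f24e2d)
(.leaf 0))))
(.node (.node (.node (.leaf 0x25e806b)
(.leaf 0x23824c82))
(.node (.leaf 0x14026684)
(.leaf 0)))
(.node (.node (.leaf 0xad84c14)
(.leaf 0x2c2a3565))
(.node (.leaf 0x18e66a28)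
(.leaf 0)))))
(.node (.node (.node (.node (.leaf 0x13e607c)
(.leaf 0x206a86ce))
(.node (.leaf 0x119c881e)
(.leaf 0)))
(.node (.node (.leaf 0x9a6b3df)
(.leaf 0x29c6b67c))
(.node (.leaf 0x173251d6)
(.leaf 0))))
(.node (.node (.node (.leaf 0x61ac1ba)
(.leaf 0x25bc6993))
(.node (.leaf 0x150c4afb)
(.leaf 0)))
(.node (.node (.leaf 0xd0ea6d1)
(.leaf 0x2d903888))
(.node (.leaf 0x1bdc44f2)
(.leaf 0))))))
(.node (.node (.node (.node (.node (.leaf 0xe0836b)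
(.leaf 0x1fc84fc4))
(.node (.leaf 0x1100d1d7)
(.leaf 0x3130d893)))
(.node (.node (.leaf 0x91caa13)
(.leaf 0x28967095))
(.node (.leaf 0x16862992)
(.leaf 0))))
(.node (.node (.node (.leaf 0x386212c)
(.leaf 0x24aeac78))
(.node (.leaf 0x14b27302)
(.leaf 0)))
(.node (.node (.leaf 0xbd4cc4f)
(.leaf 0x2d327618))
(.node (.leaf 0x1a189213)
(.leaf 0)))))
(.node (.node (.node (.node (.leaf 0x1bc62a2)
(.leaf 0x213ed08d))
(.node (.leaf 0x128444fe)
(.leaf 0)))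
(.node (.node (.leaf 0xa228876)
(.leaf 0x2a6a57fc))
(.node (.leaf 0x17fa496b)
(.leaf 0))))
(.node (.node (.node (.leaf 0x6a86230)
(.leaf 0x26346a62))
(.node (.leaf 0x156e8f52)
(.leaf 0)))
(.node (.node (.leaf 0xed689ed)
(.leaf 0x2e50d75b))
(.node (.leaf 0x1f0e6a94)
(.leaf 0)))))))
(.node (.node (.node (.node (.node (.node (.leaf 0x928037)
(.leaf 0x1f9052ee))
(.node (.leaf 0x100e6577)
(.leaf 0x30329800)))
(.node (.node (.leaf 0x8b263ed)
(.leaf 0x285893ce))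
(.node (.leaf 0x1640715a)
(.leaf 0))))
(.node (.node (.node (.leaf 0x2f28104)
(.leaf 0x2468a75c))
(.node (.leaf 0x148c923a)
(.leaf 0)))
(.node (.node (.leaf 0xb566db5)
(.leaf 0x2c6ed6d8))
(.node (.leaf 0x197ab402)
(.leaf 0)))))
(.node (.node (.node (.node (.leaf 0x17c21b3)
(.leaf 0x20baaf2e))
(.node (.leaf 0x11f68e69)
(.leaf 0)))
(.node (.node (.leaf 0x9de8bf9)
(.leaf 0x2a1297a5))
(.node (.leaf 0x17904a58)
(.leaf 0))))
(.node (.node (.node (.leaf 0x64c63dd)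
(.leaf 0x25f42f98))
(.node (.leaf 0x153a9011)
(.leaf 0)))
(.node (.node (.leaf 0xea288cb)
(.leaf 0x2dd677e3))
(.node (.leaf 0x1ceea855)
(.leaf 0))))))
(.node (.node (.node (.node (.node (.leaf 0x1108090)
(.leaf 0x2002b06a))
(.node (.leaf 0x11648e7f)
(.leaf 0)))
(.node (.node (.leaf 0x9746ec0)
(.leaf 0x29949512))
(.node (.leaf 0x16d24abe)
(.leaf 0))))
(.node (.node (.node (.leaf 0x48a8094)
(.leaf 0x259a7135))
(.node (.leaf 0x14e0ac1e)
(.leaf 0)))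
(.node (.node (.leaf 0xc54cf2d)
(.leaf 0x2d585829))
(.node (.leaf 0x1ae8711a)
(.leaf 0)))))
(.node (.node (.node (.node (.leaf 0x208a228)
(.leaf 0x21f2534c))
(.node (.leaf 0x13426668)
(.leaf 0)))
(.node (.node (.leaf 0xa70a7d3)
(.leaf 0x2b0a355f))
(.node (.leaf 0x188cd1a1)
(.leaf 0))))
(.node (.node (.node (.leaf 0x77c6424)
(.leaf 0x26929468))
(.node (.leaf 0x15b26ab7)
(.leaf 0)))
(.node (.node (.leaf 0xf188734)
(.leaf 0x2f36d74b))
(.node (.leaf 0x1f346c2a)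
(.leaf 0))))))))
(.node (.node (.node (.node (.node (.node (.node (.leaf 0x6462e8)
(.leaf 0x1f7c4968))
(.node (.leaf 0xfc0a759)
(.leaf 0x301477f3)))
(.node (.node (.leaf 0x7f4a374)
(.leaf 0x2844ada5))
(.node (.leaf 0x16104e32)
(.leaf 0))))
(.node (.node (.node (.leaf 0x29e60e7)
(.leaf 0x24508c89))
(.node (.leaf 0x14626757)
(.leaf 0)))
(.node (.node (.leaf 0xb1a4660)
(.leaf 0x2c40d684))
(.node (.leaf 0x1934aa36)
(.leaf 0)))))
(.node (.node (.node (.node (.leaf 0x15ac437)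
(.leaf 0x208c9329))
(.node (.leaf 0x11d067bf)
(.leaf 0)))
(.node (.node (.leaf 0x9bc251e)
(.leaf 0x29e655d3))
(.node (.leaf 0x17548bb8)
(.leaf 0))))
(.node (.node (.node (.leaf 0x62ca0f5)
(.leaf 0x25da513e))
(.node (.leaf 0x15228adf)
(.leaf 0)))
(.node (.node (.leaf 0xdbcc70c)
(.leaf 0x2dae787a))
(.node (.leaf 0x1c70a94f)
(.leaf 0))))))
(.node (.node (.node (.node (.node (.leaf 0xf86148)
(.leaf 0x1fe48aed))
(.node (.leaf 0x114c6d4a)
(.leaf 0)))
(.node (.node (.leaf 0x962852a)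
(.leaf 0x28ec70bf))
(.node (.leaf 0x16aeae81)
(.leaf 0))))
(.node (.node (.node (.leaf 0x3f4c42f)
(.leaf 0x2500cc6a))
(.node (.leaf 0x14c826d0)
(.leaf 0)))
(.node (.node (.leaf 0xc0ab32e)
(.leaf 0x2d44d611))
(.node (.leaf 0x1a74a791)
(.leaf 0)))))
(.node (.node (.node (.node (.leaf 0x1e2a081)
(.leaf 0x218ec7a9))
(.node (.leaf 0x12d8cd5a)
(.leaf 0)))
(.node (.node (.leaf 0xa4a7300)
(.leaf 0x2aca9714))
(.node (.leaf 0x1846aa41)
(.leaf 0))))
(.node (.node (.node (.leaf 0x766a42c)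
(.leaf 0x2658afef))
(.node (.leaf 0x158a8a72)
(.leaf 0)))
(.node (.node (.leaf 0xef0c4a5)
(.leaf 0x2e9cd7a1))
(.node (.leaf 0x1f1e92fa)
(.leaf 0)))))))
(.node (.node (.node (.node (.node (.node (.leaf 0xd0c37d)
(.leaf 0x1fb052a2))
(.node (.leaf 0x105e4926)
(.leaf 0x306cb656)))
(.node (.node (.leaf 0x8d483e8)
(.leaf 0x287ad499))
(.node (.leaf 0x165c5373)
(.leaf 0))))
(.node (.node (.node (.leaf 0x32283b7)
(.leaf 0x24862506))
(.node (.leaf 0x149e4f65)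
(.leaf 0)))
(.node (.node (.leaf 0xb96878e)
(.leaf 0x2cde9699))
(.node (.leaf 0x19b8ac33)
(.leaf 0)))))
(.node (.node (.node (.node (.leaf 0x19e8122)
(.leaf 0x20fecffc))
(.node (.leaf 0x122c8a93)
(.leaf 0)))
(.node (.node (.leaf 0xa00d2c1)
(.leaf 0x2a4075ab))
(.node (.leaf 0x17cecbac)
(.leaf 0))))
(.node (.node (.node (.leaf 0x676a2d8)
(.leaf 0x261272d9))
(.node (.leaf 0x1552c8ab)
(.leaf 0)))
(.node (.node (.leaf 0xeb68fb8)
(.leaf 0x2e08d801))
(.node (.leaf 0x1e2aa672)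
(.leaf 0))))))
(.node (.node (.node (.node (.node (.leaf 0x12643e7)
(.leaf 0x2030d024))
(.node (.leaf 0x117e8e6f)
(.leaf 0)))
(.node (.node (.leaf 0x98e654f)
(.leaf 0x29a83813))
(.node (.leaf 0x16fcc900)
(.leaf 0))))
(.node (.node (.node (.leaf 0x5aca1e5)
(.leaf 0x25aa3199))
(.node (.leaf 0x14f46e9f)
(.leaf 0)))
(.node (.node (.leaf 0xcb88a90)
(.leaf 0x2d7475db))
(.node (.leaf 0x1b568ff4)
(.leaf 0)))))
(.node (.node (.node (.node (.leaf 0x22a431e)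
(.leaf 0x22824b2b))
(.node (.leaf 0x13e4a767)
(.leaf 0)))
(.node (.node (.leaf 0xa96284e)
(.leaf 0x2b7875da))
(.node (.leaf 0x18b467dc)
(.leaf 0))))
(.node (.node (.node (.leaf 0x7946393)
(.leaf 0x26e4d2b5))
(.node (.leaf 0x15d08f3d)
(.leaf 0)))
(.node (.node (.leaf 0xf52cc0c)
(.leaf 0x2fda379b))
(.node (.leaf 0x1f46d2e8)
(.leaf 0))))))))))))
(.node (.node (.node (.node (.node (.node (.node (.node (.node (.node (.node (.leaf 41532)
(.leaf 0x1f4e684a))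
(.node (.leaf 0xf5a8cd2)
(.leaf 0x2fdc387d)))
(.node (.node (.leaf 0x7a0a171)
(.leaf 0x26f069ff))
(.node (.leaf 0x15d888b5)
(.leaf 0))))
(.node (.node (.node (.leaf 0x232426b)
(.leaf 0x229032c4))
(.node (.leaf 0x13e8acf9)
(.leaf 0)))
(.node (.node (.leaf 0xa9c8c65)
(.leaf 0x2b8854db))
(.node (.leaf 0x18c0c99b)
(.leaf 0)))))
(.node (.node (.node (.node (.leaf 0x12a80ba)
(.leaf 0x2038a85d))
(.node (.leaf 0x11823105)
(.leaf 0)))
(.node (.node (.leaf 0x9922c84)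
(.leaf 0x29b05523))
(.node (.leaf 0x1708c655)
(.leaf 0))))
(.node (.node (.node (.leaf 26)
(.leaf 0x25ae92b2))
(.node (.leaf 0x14f86dae)
(.leaf 0)))
(.node (.node (.leaf 0xcbe71d5)
(.leaf 0x2d7877ff))
(.node (.leaf 0x1b689385)
(.leaf 0))))))
(.node (.node (.node (.node (.node (.leaf 0xd4c0b9)
(.leaf 0x1fb4c7de))
(.node (.leaf 0x10688ac3)
(.leaf 0x3090b706)))
(.node (.node (.leaf 0x8f243df)
(.leaf 0x28829019))
(.node (.leaf 0x166493ba)
(.leaf 0))))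
(.node (.node (.node (.leaf 0x334c36d)
(.leaf 0x248a4bf7))
(.node (.leaf 0x14a2aac8)
(.leaf 0)))
(.node (.node (.leaf 0xba4c5f0)
(.leaf 0x2ce635af))
(.node (.leaf 0x19c4cd95)
(.leaf 0)))))
(.node (.node (.node (.node (.leaf 0x1a44018)
(.leaf 0x2110a733))
(.node (.leaf 0x123aac04)
(.leaf 0)))
(.node (.node (.leaf 0xa0488d6)
(.leaf 0x2a46b64f))
(.node (.leaf 0x17d4a789)
(.leaf 0))))
(.node (.node (.node (.leaf 0x67ca0e2)
(.leaf 0x261ab4b5))
(.node (.leaf 0x15564f92)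
(.leaf 0)))
(.node (.node (.leaf 0xebc8d8e)
(.leaf 0x2e14d5eb))
(.node (.leaf 0x1f02252b)
(.leaf 0)))))))
(.node (.node (.node (.node (.node (.node (.leaf 0x70c08d)
(.leaf 0x1f7ed357))
(.node (.leaf 0xfd871fe)
(.leaf 0x301e972e)))
(.node (.node (.leaf 0x800a3a6)
(.leaf 0x28488d7c))
(.node (.leaf 0x1616707d)
(.leaf 0))))
(.node (.node (.node (.leaf 0x2b06184)
(.leaf 0x2452c73b))
(.node (.leaf 0x148224e6)
(.leaf 0)))
(.node (.node (.leaf 0xb22ac26)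
(.leaf 0x2c46b541))
(.node (.leaf 0x19385026)
(.leaf 0)))))
(.node (.node (.node (.node (.leaf 0x160617c)
(.leaf 0x209685ea))
(.node (.leaf 0x11d4a7c5)
(.leaf 0)))
(.node (.node (.leaf 0x9c0a622)
(.leaf 0x29ec5556))
(.node (.leaf 0x175a7062)
(.leaf 0))))
(.node (.node (.node (.leaf 0x630a3e9)
(.leaf 0x25e0d3d2))
(.node (.leaf 0x15267377)
(.leaf 0)))
(.node (.node (.leaf 0xde8a4c3)
(.leaf 0x2db4d77a))
(.node (.leaf 0x1c8264f4)
(.leaf 0))))))
(.node (.node (.node (.node (.node (.leaf 0xfcc1d7)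
(.leaf 0x1fec4c87))
(.node (.leaf 0x11504798)
(.leaf 0)))
(.node (.node (.leaf 0x9644703)
(.leaf 5314))
(.node (.leaf 0x16b45043)
(.leaf 0))))
(.node (.node (.node (.leaf 0x40622b5)
(.leaf 0x251688a7))
(.node (.leaf 0x14caaf1e)
(.leaf 0)))
(.node (.node (.leaf 0xc1a8aa8)
(.leaf 0x2d46d85f))
(.node (.leaf 0x1a82d33f)
(.leaf 0)))))
(.node (.node (.node (.node (.leaf 0x1e8a40b)
(.leaf 0x2198a870))
(.node (.leaf 0x12f0a65c)
(.leaf 0)))
(.node (.node (.leaf 0xa50aa25)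
(.leaf 0x2ad8b5bc))
(.node (.leaf 0x184ad222)
(.leaf 0))))
(.node (.node (.node (.leaf 0x76aa247)
(.leaf 0x265eaffb))
(.node (.leaf 0x15924ba1)
(.leaf 0)))
(.node (.node (.leaf 0xef6889d)
(.leaf 0x2ebed861))
(.node (.leaf 0x1f228c2e)
(.leaf 0))))))))
(.node (.node (.node (.node (.node (.node (.node (.leaf 0x2e6011)
(.leaf 0x1f62739c))
(.node (.leaf 0xf828ab6)
(.leaf 0x2ff29807)))
(.node (.node (.leaf 0x7d423eb)
(.leaf 0x28349276))
(.node (.leaf 0x15f8c919)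
(.leaf 0))))
(.node (.node (.node (.leaf 0x2646078)
(.leaf 0x24422536))
(.node (.leaf 0x140cc54d)
(.leaf 0)))
(.node (.node (.leaf 0xae4288e)
(.leaf 0x2c2c7774))
(.node (.leaf 0x18f26a10)
(.leaf 0)))))
(.node (.node (.node (.node (.leaf 0x140647e)
(.leaf 0x207485f8))
(.node (.leaf 0x11a2462e)
(.leaf 0)))
(.node (.node (.leaf 0x9aacb4b)
(.leaf 0x29cc74da))
(.node (.leaf 0x173a8e86)
(.leaf 0))))
(.node (.node (.node (.leaf 0x61e2263)
(.leaf 0x25c2a883))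
(.node (.leaf 0x1510ca7f)
(.leaf 0)))
(.node (.node (.leaf 0xd1a8cb3)
(.leaf 0x2d96d7c7))
(.node (.leaf 0x1bea722f)
(.leaf 0))))))
(.node (.node (.node (.node (.node (.leaf 0xe4a43b)
(.leaf 0x1fccd278))
(.node (.leaf 0x113ca82f)
(.leaf 0)))
(.node (.node (.leaf 0x92828a3)
(.leaf 0x289ccd76))
(.node (.leaf 0x168c670b)
(.leaf 0))))
(.node (.node (.node (.leaf 0x390645a)
(.leaf 0x24baa5ce))
(.node (.leaf 0x14b6b3d7)
(.leaf 0)))
(.node (.node (.leaf 0xbda8ef1)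
(.leaf 0x2d34561e))
(.node (.leaf 0x1a2e8f49)
(.leaf 0)))))
(.node (.node (.node (.node (.leaf 0x1c4c436)
(.leaf 0x214888fd))
(.node (.leaf 0x128e498f)
(.leaf 0)))
(.node (.node (.leaf 0xa2caea7)
(.leaf 0x2a7e95d1))
(.node (.leaf 0x1804d429)
(.leaf 0))))
(.node (.node (.node (.leaf 0x6b48317)
(.leaf 0x26389186))
(.node (.leaf 0x1574af47)
(.leaf 0)))
(.node (.node (.leaf 0xedca51f)
(.leaf 0x2e5ab886))
(.node (.leaf 0x1f12681b)
(.leaf 0)))))))
(.node (.node (.node (.node (.node (.node (.leaf 11)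
(.leaf 0x1f96898b))
(.node (.leaf 0x1018891e)
(.leaf 0x303897f4)))
(.node (.node (.leaf 0x8b6a3e6)
(.leaf 0x285e7002))
(.node (.leaf 0x164ccb51)
(.leaf 0))))
(.node (.node (.node (.leaf 0x2f8635b)
(.leaf 0x246acef2))
(.node (.leaf 0x1492c64a)
(.leaf 0)))
(.node (.node (.leaf 0xb5a8c15)
(.leaf 0x2c96b535))
(.node (.leaf 0x19888b3e)
(.leaf 0)))))
(.node (.node (.node (.node (.leaf 0x180642d)
(.leaf 0x20c8a9a1))
(.node (.leaf 0x11fa9064)
(.leaf 0)))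
(.node (.node (.leaf 0x9e28497)
(.leaf 0x2a18752a))
(.node (.leaf 0x179c9025)
(.leaf 0))))
(.node (.node (.node (.leaf 0x65480df)
(.leaf 0x25fab49d))
(.node (.leaf 0x153e8c8d)
(.leaf 0)))
(.node (.node (.leaf 0xea48d7e)
(.leaf 0x2de077a9))
(.node (.leaf 0x1d0e4e4e)
(.leaf 0))))))
(.node (.node (.node (.node (.node (.leaf 0x1146315)
(.leaf 0x20086dcc))
(.node (.leaf 0x116a6b43)
(.leaf 0)))
(.node (.node (.leaf 0x978cbf4)
(.leaf 0x29969573))
(.node (.leaf 0x16d86d15)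
(.leaf 0))))
(.node (.node (.node (.leaf 0x4a0633a)
(.leaf 0x259c34a5))
(.node (.leaf 0x14e4cf93)
(.leaf 0)))
(.node (.node (.leaf 0xc6aa48b)
(.leaf 0x2d5cb89d))
(.node (.leaf 0x1afeab6f)
(.leaf 0)))))
(.node (.node (.node (.node (.leaf 0x20e2024)
(.leaf 0x221e8912))
(.node (.leaf 0x1352a55e)
(.leaf 0)))
(.node (.node (.leaf 0xa78a740)
(.leaf 0x2b14569e))
(.node (.leaf 0x1894afb1)
(.leaf 0))))
(.node (.node (.node (.leaf 0x7826473)
(.leaf 0x26a05007))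
(.node (.leaf 0x15b6b1ba)
(.leaf 0)))
(.node (.node (.leaf 0xf2471cb)
(.leaf 0x2f58b858))
(.node (.leaf 0x1f388810)
(.leaf 0)))))))))
(.node (.node (.node (.node (.node (.node (.node (.node (.leaf 0x1040aa)
(.leaf 0x1f5633c9))
(.node (.leaf 0xf6c4f44)
(.leaf 0x2fe8d7a3)))
(.node (.node (.leaf 0x7b6c407)
(.leaf 0x2750a6a6))
(.node (.leaf 0x15e88722)
(.leaf 0))))
(.node (.node (.node (.leaf 0x2444461)
(.leaf 0x2324b328))
(.node (.leaf 0x13f647ba)
(.leaf 0)))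
(.node (.node (.leaf 0xabe64db)
(.leaf 5323))
(.node (.leaf 0x18da6624)
(.leaf 0)))))
(.node (.node (.node (.node (.leaf 0x1346349)
(.leaf 0x205e6f7b))
(.node (.leaf 0x118ecd6a)
(.leaf 0)))
(.node (.node (.leaf 0x99ec5bd)
(.leaf 0x29bcb5a9))
(.node (.leaf 0x17226e49)
(.leaf 0))))
(.node (.node (.node (.leaf 0x61440c0)
(.leaf 0x25b651a0))
(.node (.leaf 0x15003051)
(.leaf 0)))
(.node (.node (.leaf 0xcfaa4cc)
(.leaf 0x2d869559))
(.node (.leaf 0x1bac7317)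
(.leaf 0))))))
(.node (.node (.node (.node (.node (.leaf 0xda8449)
(.leaf 0x1fc072ad))
(.node (.leaf 0x10a866de)
(.leaf 0x3122d627)))
(.node (.node (.leaf 0x910ad00)
(.leaf 0x289070e6))
(.node (.leaf 0x1678ab68)
(.leaf 0))))
(.node (.node (.node (.leaf 0x37021f5)
(.leaf 0x249a7347))
(.node (.leaf 0x14ac742b)
(.leaf 0)))
(.node (.node (.leaf 0xbc84746)
(.leaf 5372))
(.node (.leaf 0x19e690b3)
(.leaf 0)))))
(.node (.node (.node (.node (.leaf 0x1b48029)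
(.leaf 0x212e2aee))
(.node (.leaf 0x126a877d)
(.leaf 0)))
(.node (.node (.leaf 0xa165340)
(.leaf 0x2a5a977b))
(.node (.leaf 0x17ecd19b)
(.leaf 0))))
(.node (.node (.node (.leaf 0x69040d4)
(.leaf 0x2628d4c0))
(.node (.leaf 0x1566736d)
(.leaf 0)))
(.node (.node (.leaf 0xecc8609)
(.leaf 0x2e34d86f))
(.node (.leaf 0x1f082846)
(.leaf 0)))))))
(.node (.node (.node (.node (.node (.node (.leaf 0x8041b7)
(.leaf 0x1f8a8df3))
(.node (.leaf 0xff06e67)
(.leaf 0x302a77f8)))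
(.node (.node (.leaf 0x854238e)
(.leaf 0x28546a75))
(.node (.leaf 0x1622cf25)
(.leaf 0))))
(.node (.node (.node (.leaf 0x2d0a19d)
(.leaf 0x245ed0f7))
(.node (.leaf 0x1488ae02)
(.leaf 0)))
(.node (.node (.leaf 0xb40a4ad)
(.leaf 0x2c5ab604))
(.node (.leaf 0x1956d2aa)
(.leaf 0)))))
(.node (.node (.node (.node (.leaf 0x1744225)
(.leaf 0x20a8a86f))
(.node (.leaf 0x11e8a65e)
(.leaf 0)))
(.node (.node (.leaf 0x9d0ce2e)
(.leaf 0x29fe96b8))
(.node (.leaf 0x17709181)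
(.leaf 0))))
(.node (.node (.node (.leaf 0x640a399)
(.leaf 0x25f0699a))
(.node (.leaf 0x1534af02)
(.leaf 0)))
(.node (.node (.leaf 0xe9c6ae3)
(.leaf 0x2dc69522))
(.node (.leaf 0x1cb4aedb)
(.leaf 0))))))
(.node (.node (.node (.node (.node (.leaf 0x108a059)
(.leaf 0x1ffaaddc))
(.node (.leaf 0x115a8d52)
(.leaf 0)))
(.node (.node (.leaf 0x96e8a98)
(.leaf 0x298c368e))
(.node (.leaf 0x16c8cf31)
(.leaf 0))))
(.node (.node (.node (.leaf 0x43a607b)
(.leaf 0x2594ad4e))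
(.node (.leaf 0x14d84a5f)
(.leaf 0)))
(.node (.node (.leaf 0xc408f85)
(.leaf 0x2d50d717))
(.node (.leaf 0x1aa4714a)
(.leaf 0)))))
(.node (.node (.node (.node (.leaf 0x1fa828a)
(.leaf 0x21d4aa42))
(.node (.leaf 0x131690a1)
(.leaf 0)))
(.node (.node (.leaf 0xa62a867)
(.leaf 0x2af476ec))
(.node (.leaf 0x187e7009)
(.leaf 0))))
(.node (.node (.node (.leaf 0x7766451)
(.leaf 0x267889cb))
(.node (.leaf 0x15a67495)
(.leaf 0)))
(.node (.node (.leaf 0xf0aa65a)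
(.leaf 0x2ef6555d))
(.node (.leaf 0x1f2e6e53)
(.leaf 0))))))))
(.node (.node (.node (.node (.node (.node (.node (.leaf 0x5a80a5)
(.leaf 0x1f72a809))
(.node (.leaf 0xfa4c4f8)
(.leaf 0x3008b67a)))
(.node (.node (.leaf 0x7ea23e0)
(.leaf 0x283e90f8))
(.node (.leaf 0x16043389)
(.leaf 0))))
(.node (.node (.node (.leaf 0x28c41a4)
(.leaf 0x244aa6c7))
(.node (.leaf 0x143c87ed)
(.leaf 0)))
(.node (.node (.leaf 0xafe6b98)
(.leaf 0x2c38b530))
(.node (.leaf 0x1908a7fd)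
(.leaf 0)))))
(.node (.node (.node (.node (.leaf 0x152c15f)
(.leaf 0x2080ce27))
(.node (.leaf 0x11c286c9)
(.leaf 0)))
(.node (.node (.leaf 0x9b4c8ae)
(.leaf 0x29d89502))
(.node (.leaf 0x174cae90)
(.leaf 0))))
(.node (.node (.node (.leaf 0x626208c)
(.leaf 0x25d4a6a7))
(.node (.leaf 0x151aaf4f)
(.leaf 0)))
(.node (.node (.leaf 0xd7c475e)
(.leaf 0x2da2d78a))
(.node (.leaf 0x1c1e4be6)
(.leaf 0))))))
(.node (.node (.node (.node (.node (.leaf 0xf0222b)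
(.leaf 0x1fda873c))
(.node (.leaf 0x11444e91)
(.leaf 0)))
(.node (.node (.leaf 0x95c673f)
(.leaf 0x28c2ab54))
(.node (.leaf 0x1698909f)
(.leaf 0))))
(.node (.node (.node (.leaf 0x3bec24e)
(.leaf 0x24e66a30))
(.node (.leaf 0x14c28ae5)
(.leaf 0)))
(.node (.node (.leaf 0xbf8a542)
(.leaf 0x2d3ed69d))
(.node (.leaf 0x1a62ac37)
(.leaf 0)))))
(.node (.node (.node (.node (.leaf 0x1d6c161)
(.leaf 0x217452f9))
(.node (.leaf 0x12be89e7)
(.leaf 0)))
(.node (.node (.leaf 0xa40c489)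
(.leaf 0x2aaa56a3))
(.node (.leaf 0x18268c74)
(.leaf 0))))
(.node (.node (.node (.leaf 0x762c116)
(.leaf 0x264a718a))
(.node (.leaf 0x1582a617)
(.leaf 0)))
(.node (.node (.leaf 0xee84f43)
(.leaf 0x2e82b6bd))
(.node (.leaf 0x1f1a66f9)
(.leaf 0)))))))
(.node (.node (.node (.node (.node (.node (.leaf 0xca61c4)
(.leaf 0x1fa847fb))
(.node (.leaf 0x1048a681)
(.leaf 0x305656c3)))
(.node (.node (.leaf 0x8c62472)
(.leaf 0x287049da))
(.node (.leaf 0x16564cc8)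
(.leaf 0))))
(.node (.node (.node (.leaf 0x3166239)
(.leaf 0x248025a3))
(.node (.leaf 0x1498b368)
(.leaf 0)))
(.node (.node (.leaf 0xb784975)
(.leaf 0x2cd63625))
(.node (.leaf 0x19a6703e)
(.leaf 0)))))
(.node (.node (.node (.node (.leaf 0x196a117)
(.leaf 0x20f4b2e1))
(.node (.leaf 0x1210ae19)
(.leaf 0)))
(.node (.node (.leaf 0x9faaeb3)
(.leaf 0x2a3474d2))
(.node (.leaf 0x17bad3b5)
(.leaf 0))))
(.node (.node (.node (.leaf 0x668c3fe)
(.leaf 0x260a93c7))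
(.node (.leaf 0x15483480)
(.leaf 0)))
(.node (.node (.leaf 0xeb08564)
(.leaf 0x2e00d61f))
(.node (.leaf 0x1d7eaeca)
(.leaf 0))))))
(.node (.node (.node (.node (.node (.leaf 0x11e61a6)
(.leaf 0x2022cacc))
(.node (.leaf 0x117672f7)
(.leaf 0)))
(.node (.node (.leaf 0x9828c0d)
(.leaf 0x29a0784b))
(.node (.leaf 0x16f26719)
(.leaf 0))))
(.node (.node (.node (.leaf 0x50c61e4)
(.leaf 0x25a4942a))
(.node (.leaf 0x14ec4c61)
(.leaf 0)))
(.node (.node (.leaf 0xc946813)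
(.leaf 0x2d6a5764))
(.node (.leaf 0x1b288928)
(.leaf 0)))))
(.node (.node (.node (.node (.leaf 0x2226306)
(.leaf 0x22622621))
(.node (.leaf 0x13dc6517)
(.leaf 0)))
(.node (.node (.leaf 0xa888aa3)
(.leaf 0x2b3ed7bc))
(.node (.leaf 0x18aa6ae8)
(.leaf 0))))
(.node (.node (.node (.leaf 0x78c4459)
(.leaf 0x26c853fb))
(.node (.leaf 0x15c832a4)
(.leaf 0)))
(.node (.node (.leaf 0xf488c7e)
(.leaf 0x2fd4b820))
(.node (.leaf 0x1f427033)
(.leaf 0))))))))))
(.node (.node (.node (.node (.node (.node (.node (.node (.node (.leaf 409690)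
(.leaf 0x1f50330c))
(.node (.leaf 0xf6488e9)
(.leaf 0x2fe49828)))
(.node (.node (.leaf 0x7ac443a)
(.leaf 0x27344d89))
(.node (.leaf 0x15e28bf8)
(.leaf 0))))
(.node (.node (.node (.leaf 0x23e8288)
(.leaf 0x22e67422))
(.node (.leaf 0x13f0a662)
(.leaf 0)))
(.node (.node (.leaf 0xab4866e)
(.leaf 0x2bb674d8))
(.node (.leaf 0x18ccae2c)
(.leaf 0)))))
(.node (.node (.node (.node (.leaf 0x13062e1)
(.leaf 0x204c495f))
(.node (.leaf 0x11888e8c)
(.leaf 0)))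
(.node (.node (.leaf 0x9966586)
(.leaf 0x29b875a1))
(.node (.leaf 0x17125407)
(.leaf 0))))
(.node (.node (.node (.leaf 0x61220a7)
(.leaf 0x25b273bd))
(.node (.leaf 0x14fe2523)
(.leaf 0)))
(.node (.node (.leaf 0xcdeadc3)
(.leaf 0x2d805590))
(.node (.leaf 0x1b86aa3f)
(.leaf 0))))))
(.node (.node (.node (.node (.node (.leaf 0xd6a425)
(.leaf 0x1fba4def))
(.node (.leaf 0x1080a4b9)
(.leaf 0x30bc77f9)))
(.node (.node (.leaf 0x90a45c6)
(.leaf 0x288ad1c4))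
(.node (.leaf 0x166cb29b)
(.leaf 0))))
(.node (.node (.node (.leaf 0x358812e)
(.leaf 0x2492a8c3))
(.node (.leaf 0x14a8917e)
(.leaf 0)))
(.node (.node (.leaf 0xbbc8ef5)
(.leaf 0x2cec7592))
(.node (.leaf 0x19ced473)
(.leaf 0)))))
(.node (.node (.node (.node (.leaf 0x1acc35f)
(.leaf 0x211690d4))
(.node (.leaf 0x12528e50)
(.leaf 0)))
(.node (.node (.leaf 0xa0e6c48)
(.leaf 0x2a50b745))
(.node (.leaf 0x17de897d)
(.leaf 0))))
(.node (.node (.node (.leaf 0x6864183)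
(.leaf 0x2622b174))
(.node (.leaf 0x155eb33d)
(.leaf 0)))
(.node (.node (.leaf 0xec29382)
(.leaf 0x2e26b6a5))
(.node (.leaf 0x1f0446fe)
(.leaf 0)))))))
(.node (.node (.node (.node (.node (.node (.leaf 0x76c01b)
(.leaf 0x1f84ce8a))
(.node (.leaf 0xfe27027)
(.leaf 0x3026d5fa)))
(.node (.node (.leaf 0x82681d6)
(.leaf 0x28507171))
(.node (.leaf 0x161c2f4a)
(.leaf 0))))
(.node (.node (.node (.leaf 0x2be20d6)
(.leaf 0x2458c6b6))
(.node (.leaf 0x14847041)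
(.leaf 0)))
(.node (.node (.leaf 0xb2e8cba)
(.leaf 0x2c50360a))
(.node (.leaf 0x1944cc92)
(.leaf 0)))))
(.node (.node (.node (.node (.leaf 0x16c6289)
(.leaf 0x209c4ad6))
(.node (.leaf 0x11ded3c1)
(.leaf 0)))
(.node (.node (.leaf 0x9c8a889)
(.leaf 0x29f27742))
(.node (.leaf 0x1768a970)
(.leaf 0))))
(.node (.node (.node (.leaf 0x63a4375)
(.leaf 0x25e84ac0))
(.node (.leaf 0x152cd206)
(.leaf 0)))
(.node (.node (.leaf 0xe7aa492)
(.leaf 0x2dbcb69b))
(.node (.leaf 0x1c8ed4ae)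
(.leaf 0))))))
(.node (.node (.node (.node (.node (.leaf 0x102438f)
(.leaf 0x1ff0d2c2))
(.node (.leaf 0x1156a68c)
(.leaf 0)))
(.node (.node (.leaf 0x96ab2a9)
(.leaf 0x29883563))
(.node (.leaf 0x16be6b18)
(.leaf 0))))
(.node (.node (.node (.leaf 0x424a245)
(.leaf 0x25922630))
(.node (.leaf 0x14ceb3a0)
(.leaf 0)))
(.node (.node (.leaf 0xc22a5b5)
(.leaf 0x2d4c96f4))
(.node (.leaf 0x1a9254a8)
(.leaf 0)))))
(.node (.node (.node (.node (.leaf 0x1f081b0)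
(.leaf 0x21a2b11e))
(.node (.leaf 0x1302af22)
(.leaf 0)))
(.node (.node (.leaf 0xa5c859c)
(.leaf 0x2aec54de))
(.node (.leaf 0x1860d166)
(.leaf 0))))
(.node (.node (.node (.leaf 0x76e8447)
(.leaf 0x266a70d3))
(.node (.leaf 0x1598ca50)
(.leaf 0)))
(.node (.node (.leaf 0xefad274)
(.leaf 0x2ee6d75d))
(.node (.leaf 0x1f2a6bbf)
(.leaf 0))))))))
(.node (.node (.node (.node (.node (.node (.node (.leaf 2)
(.leaf 0x1f6aaa52))
(.node (.leaf 0xf8ea8c1)
(.leaf 0x2ffc376c)))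
(.node (.node (.leaf 0x7dca37e)
(.leaf 0x2838b460))
(.node (.leaf 0x15fe2cae)
(.leaf 0))))
(.node (.node (.node (.leaf 0x27c8206)
(.leaf 0x24448829))
(.node (.leaf 0x141c899f)
(.leaf 0)))
(.node (.node (.leaf 0xaeeab7f)
(.leaf 0x2c329589))
(.node (.leaf 0x18fad3ff)
(.leaf 0)))))
(.node (.node (.node (.node (.leaf 0x14c8248)
(.leaf 0x20786f40))
(.node (.leaf 0x11ac4f79)
(.leaf 0)))
(.node (.node (.leaf 0x9ae8b70)
(.leaf 0x29d0b513))
(.node (.leaf 0x17448f78)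
(.leaf 0))))
(.node (.node (.node (.leaf 0x620630a)
(.leaf 0x25cad3cf))
(.node (.leaf 0x1516c87e)
(.leaf 0)))
(.node (.node (.leaf 0xd5c650d)
(.leaf 0x2d9c97bf))
(.node (.leaf 0x1c0a2ced)
(.leaf 0))))))
(.node (.node (.node (.node (.node (.leaf 0xecc343)
(.leaf 0x1fd48784))
(.node (.leaf 0x1140adb9)
(.leaf 0)))
(.node (.node (.leaf 0x94a2587)
(.leaf 0x28b42d7d))
(.node (.leaf 0x1692cc67)
(.leaf 0))))
(.node (.node (.node (.leaf 0x3a683d4)
(.leaf 0x24cc8e89))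
(.node (.leaf 0x14bc48f2)
(.leaf 0)))
(.node (.node (.leaf 0xbea6551)
(.leaf 0x2d38d61a))
(.node (.leaf 0x1a48463e)
(.leaf 0)))))
(.node (.node (.node (.node (.leaf 0x1cc82bb)
(.leaf 0x21568ed7))
(.node (.leaf 0x12aecc83)
(.leaf 0)))
(.node (.node (.leaf 0xa389201)
(.leaf 0x2a8a95b8))
(.node (.leaf 0x18168bea)
(.leaf 0))))
(.node (.node (.node (.leaf 0x6d843bd)
(.leaf 0x264254a0))
(.node (.leaf 0x157c64e5)
(.leaf 0)))
(.node (.node (.leaf 0xee288e7)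
(.leaf 0x2e66d812))
(.node (.leaf 0x1f164fc2)
(.leaf 0)))))))
(.node (.node (.node (.node (.node (.node (.leaf 0xc640b7)
(.leaf 0x1f9c6fc5))
(.node (.leaf 0x102c8d6c)
(.leaf 0x304ab666)))
(.node (.node (.leaf 0x8bea417)
(.leaf 0x286891a4))
(.node (.leaf 0x16503326)
(.leaf 0))))
(.node (.node (.node (.leaf 0x30a8145)
(.leaf 0x24748d02))
(.node (.leaf 0x14944ed3)
(.leaf 0)))
(.node (.node (.leaf 0xb6c8558)
(.leaf 0x2cd0b56a))
(.node (.leaf 0x199484ee)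
(.leaf 0)))))
(.node (.node (.node (.node (.leaf 0x188a2f9)
(.leaf 0x20ea513b))
(.node (.leaf 0x12062771)
(.leaf 0)))
(.node (.node (.leaf 0x9ee8dbf)
(.leaf 0x2a1e96a8))
(.node (.leaf 0x17ae8c9f)
(.leaf 0))))
(.node (.node (.node (.leaf 0x65e20e6)
(.leaf 0x2602d4a4))
(.node (.leaf 0x15446c9a)
(.leaf 0)))
(.node (.node (.leaf 0xeac8974)
(.leaf 0x2dee96a9))
(.node (.leaf 0x1d5c9021)
(.leaf 0))))))
(.node (.node (.node (.node (.node (.leaf 0x118c2b3)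
(.leaf 0x2012d318))
(.node (.leaf 0x11704885)
(.leaf 0)))
(.node (.node (.leaf 0x97c4ec3)
(.leaf 0x299c7769))
(.node (.leaf 0x16e8c5e6)
(.leaf 0))))
(.node (.node (.node (.leaf 0x4c0602a)
(.leaf 0x25a26a1d))
(.node (.leaf 0x14e86dd8)
(.leaf 0)))
(.node (.node (.leaf 0xc7c48b4)
(.leaf 0x2d627707))
(.node (.leaf 0x1b128f61)
(.leaf 0)))))
(.node (.node (.node (.node (.leaf 0x218c1a7)
(.leaf 0x224a5204))
(.node (.leaf 0x1362a4c0)
(.leaf 0)))
(.node (.node (.leaf 0xa824c4d)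
(.leaf 0x2b24b4dd))
(.node (.leaf 0x18a0d1bd)
(.leaf 0))))
(.node (.node (.node (.leaf 0x7886480)
(.leaf 0x26b0b1e6))
(.node (.leaf 0x15be5123)
(.leaf 0)))
(.node (.node (.leaf 0xf3ca7f1)
(.leaf 0x2fd295aa))
(.node (.leaf 0x1f3c6d53)
(.leaf 0)))))))))
(.node (.node (.node (.node (.node (.node (.node (.node (.leaf 0x18a1ff)
(.leaf 0x1f5c48e2))
(.node (.leaf 0xf76879d)
(.leaf 0x2feed70f)))
(.node (.node (.leaf 0x7c663fc)
(.leaf 0x28322670))
(.node (.leaf 0x15f071d1)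
(.leaf 0))))
(.node (.node (.node (.leaf 0x25aa187)
(.leaf 0x23764c3b))
(.node (.leaf 0x140086bd)
(.leaf 0)))
(.node (.node (.leaf 0xace8559)
(.leaf 0x2c287566))
(.node (.leaf 0x18e4aad1)
(.leaf 0)))))
(.node (.node (.node (.node (.leaf 0x13c81c0)
(.leaf 0x2068d101))
(.node (.leaf 0x119aa49e)
(.leaf 0)))
(.node (.node (.leaf 0x9a4c869)
(.leaf 0x29c694fe))
(.node (.leaf 0x172ea8bc)
(.leaf 0))))
(.node (.node (.node (.leaf 0x6188241)
(.leaf 0x25bc2555))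
(.node (.leaf 0x1508b465)
(.leaf 0)))
(.node (.node (.leaf 0xd0c7244)
(.leaf 0x2d9097ed))
(.node (.leaf 0x1bd6a82b)
(.leaf 0))))))
(.node (.node (.node (.node (.node (.leaf 0xe0a0f3)
(.leaf 0x1fc8a6f3))
(.node (.leaf 0x10f065c1)
(.leaf 0x312cb897)))
(.node (.node (.leaf 0x91a6a76)
(.leaf 0x28949399))
(.node (.leaf 0x1686c68d)
(.leaf 0))))
(.node (.node (.node (.leaf 0x37ca392)
(.leaf 0x24aca5f3))
(.node (.leaf 0x14b2c9b6)
(.leaf 0)))
(.node (.node (.leaf 0xbce8eed)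
(.leaf 0x2d323575))
(.node (.leaf 0x1a166c32)
(.leaf 0)))))
(.node (.node (.node (.node (.leaf 0x1ba8444)
(.leaf 0x213c674f))
(.node (.leaf 0x127a9363)
(.leaf 0)))
(.node (.node (.leaf 0xa20d083)
(.leaf 0x2a6a9557))
(.node (.leaf 0x17f86d13)
(.leaf 0))))
(.node (.node (.node (.leaf 0x6a660de)
(.leaf 0x2632b4b4))
(.node (.leaf 0x156c541e)
(.leaf 0)))
(.node (.node (.leaf 0xed4c972)
(.leaf 0x2e44b6cd))
(.node (.leaf 0x1f0cb33e)
(.leaf 0)))))))
(.node (.node (.node (.node (.node (.node (.leaf 0x8c2261)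
(.leaf 0x1f9068e0))
(.node (.leaf 0x1008c91d)
(.leaf 0x3032b680)))
(.node (.node (.leaf 0x8b2234e)
(.leaf 0x2858b0e5))
(.node (.leaf 0x1640862d)
(.leaf 0))))
(.node (.node (.node (.leaf 0x2ea6088)
(.leaf 0x246467b4))
(.node (.leaf 0x148cd098)
(.leaf 0)))
(.node (.node (.leaf 0xb524fc0)
(.leaf 0x2c6cd6a6))
(.node (.leaf 0x19768a40)
(.leaf 0)))))
(.node (.node (.node (.node (.leaf 0x17cc09e)
(.leaf 0x20b86952))
(.node (.leaf 0x11f2ce75)
(.leaf 0)))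
(.node (.node (.leaf 0x9da6cbe)
(.leaf 0x2a10971c))
(.node (.leaf 0x178acff9)
(.leaf 0))))
(.node (.node (.node (.leaf 0x648a0ca)
(.leaf 0x25f469c5))
(.node (.leaf 0x153aac6c)
(.leaf 0)))
(.node (.node (.leaf 0xea087a6)
(.leaf 0x2dd497bb))
(.node (.leaf 0x1ce0d2f6)
(.leaf 0))))))
(.node (.node (.node (.node (.node (.leaf 0x10c4138)
(.leaf 0x200030b2))
(.node (.leaf 0x11608b9b)
(.leaf 0)))
(.node (.node (.leaf 0x9744c18)
(.leaf 0x299057e8))
(.node (.leaf 0x16ce90a8)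
(.leaf 0))))
(.node (.node (.node (.leaf 0x47e819f)
(.leaf 0x2598746d))
(.node (.leaf 0x14e045d7)
(.leaf 0)))
(.node (.node (.leaf 0xc542e2f)
(.leaf 0x2d56771f))
(.node (.leaf 0x1adc91e2)
(.leaf 0)))))
(.node (.node (.node (.node (.leaf 0x20680f2)
(.leaf 0x21ea3070))
(.node (.leaf 0x133e6775)
(.leaf 0)))
(.node (.node (.leaf 0xa6aaaff)
(.leaf 0x2b0295fb))
(.node (.leaf 0x188829dc)
(.leaf 0))))
(.node (.node (.node (.leaf 0x77a83bb)
(.leaf 0x26905489))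
(.node (.leaf 0x15b0ca68)
(.leaf 0)))
(.node (.node (.leaf 0xf146dab)
(.leaf 0x2f2ad6be))
(.node (.leaf 0x1f3447e0)
(.leaf 0))))))))
(.node (.node (.node (.node (.node (.node (.node (.leaf 0x626006)
(.leaf 0x1f7aaca9))
(.node (.leaf 0xfb68e5c)
(.leaf 0x3010d877)))
(.node (.node (.leaf 0x7f2619c)
(.leaf 0x28424a24))
(.node (.leaf 0x160ed33b)
(.leaf 0))))
(.node (.node (.node (.leaf 0x2984166)
(.leaf 0x24502be0))
(.node (.leaf 0x1460680a)
(.leaf 0)))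
(.node (.node (.leaf 0xb18ae56)
(.leaf 0x2c3ed63f))
(.node (.leaf 0x192e6d29)
(.leaf 0)))))
(.node (.node (.node (.node (.leaf 0x158c325)
(.leaf 0x208a8914))
(.node (.leaf 0x11ce8e59)
(.leaf 0)))
(.node (.node (.leaf 0x9bacb8c)
(.leaf 0x29e436e8))
(.node (.leaf 0x1754c6a4)
(.leaf 0))))
(.node (.node (.node (.leaf 0x62a22da)
(.leaf 0x25da30ab))
(.node (.leaf 0x152246e1)
(.leaf 0)))
(.node (.node (.leaf 0xda086eb)
(.leaf 0x2dacb88e))
(.node (.leaf 0x1c5673f8)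
(.leaf 0))))))
(.node (.node (.node (.node (.node (.leaf 0xf62215)
(.leaf 0x1fe0b175))
(.node (.leaf 0x114ac88d)
(.leaf 0)))
(.node (.node (.leaf 0x960ac52)
(.leaf 0x28e0b0c8))
(.node (.leaf 0x16a8d017)
(.leaf 0))))
(.node (.node (.node (.leaf 0x3ee81bd)
(.leaf 0x24fc2b80))
(.node (.leaf 0x14c62df7)
(.leaf 0)))
(.node (.node (.leaf 0xc04704c)
(.leaf 0x2d42b857))
(.node (.leaf 0x1a6e6e37)
(.leaf 0)))))
(.node (.node (.node (.node (.leaf 0x1dea049)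
(.leaf 0x218a4b08))
(.node (.leaf 0x12d48dbb)
(.leaf 0)))
(.node (.node (.leaf 0xa46d439)
(.leaf 0x2ac67528))
(.node (.leaf 0x183e2c8a)
(.leaf 0))))
(.node (.node (.node (.leaf 0x766430b)
(.leaf 0x26569381))
(.node (.leaf 0x1588661b)
(.leaf 0)))
(.node (.node (.leaf 0xeee8908)
(.leaf 0x2e9875c4))
(.node (.leaf 0x1f1ec9ca)
(.leaf 0)))))))
(.node (.node (.node (.node (.node (.node (.leaf 0xcec32b)
(.leaf 0x1faecc86))
(.node (.leaf 0x105aa525)
(.leaf 0x3068d72a)))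
(.node (.node (.leaf 0x8d4230e)
(.leaf 0x287a31a5))
(.node (.leaf 0x165c8cc5)
(.leaf 0))))
(.node (.node (.node (.leaf 0x32260a1)
(.leaf 0x2484a515))
(.node (.leaf 0x149e8803)
(.leaf 0)))
(.node (.node (.leaf 0xb94a589)
(.leaf 0x2cdc7827))
(.node (.leaf 0x19b66e1f)
(.leaf 0)))))
(.node (.node (.node (.node (.leaf 0x19c6309)
(.leaf 0x20fc8d70))
(.node (.leaf 0x1226512b)
(.leaf 0)))
(.node (.node (.leaf 0xa003096)
(.leaf 0x2a3e3737))
(.node (.leaf 0x17cab358)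
(.leaf 0))))
(.node (.node (.node (.leaf 0x67281df)
(.leaf 0x26109270))
(.node (.leaf 0x1550709a)
(.leaf 0)))
(.node (.node (.leaf 0xeb627d2)
(.leaf 0x2e0677ba))
(.node (.leaf 0x1e20aaac)
(.leaf 0))))))
(.node (.node (.node (.node (.node (.leaf 0x1246283)
(.leaf 0x2030a6fc))
(.node (.leaf 0x117ea666)
(.leaf 0)))
(.node (.node (.leaf 0x98c8b83)
(.leaf 0x29a855a3))
(.node (.leaf 0x16fad02d)
(.leaf 0))))
(.node (.node (.node (.leaf 0x5584109)
(.leaf 0x25aab169))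
(.node (.leaf 0x14f272b9)
(.leaf 0)))
(.node (.node (.leaf 0xcac4b05)
(.leaf 0x2d6e77fd))
(.node (.leaf 0x1b506bb3)
(.leaf 0)))))
(.node (.node (.node (.node (.leaf 0x22a8182)
(.leaf 0x227ecdff))
(.node (.leaf 0x13e0cd0b)
(.leaf 0)))
(.node (.node (.leaf 0xa92a979)
(.leaf 0x2b58b511))
(.node (.leaf 0x18b09142)
(.leaf 0))))
(.node (.node (.node (.leaf 0x79222d6)
(.leaf 0x26deb113))
(.node (.leaf 0x15ce8da4)
(.leaf 0)))
(.node (.node (.leaf 0xf50b045)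
(.leaf 0x2fda9607))
(.node (.leaf 0x1f462bc1)
(.leaf 0)))))))))))
(.node (.node (.node (.node (.node (.node (.node (.node (.node (.node (.leaf 147522)
(.leaf 0x1f4e5228))
(.node (.leaf 0xf5c8c68)
(.leaf 0x2fe0d738)))
(.node (.node (.leaf 0x7a8638c)
(.leaf 0x2718cb21))
(.node (.leaf 0x15dc70b4)
(.leaf 0))))
(.node (.node (.node (.leaf 0x23aa0fd)
(.leaf 0x22b27434))
(.node (.leaf 0x13ec44b2)
(.leaf 0)))
(.node (.node (.leaf 0xaa65312)
(.leaf 0x2b9ab4d1))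
(.node (.leaf 0x18c46644)
(.leaf 0)))))
(.node (.node (.node (.node (.leaf 0x12ca2fc)
(.leaf 0x20442faf))
(.node (.leaf 0x1186882c)
(.leaf 0)))
(.node (.node (.leaf 0x99449ec)
(.leaf 0x29b4778d))
(.node (.leaf 0x170c8b7a)
(.leaf 0))))
(.node (.node (.node (.leaf 0x6084214)
(.leaf 0x25b0b26c))
(.node (.leaf 0x14fc86c1)
(.leaf 0)))
(.node (.node (.leaf 0xcd625f2)
(.leaf 0x2d7ad826))
(.node (.leaf 0x1b7e2fc7)
(.leaf 0))))))
(.node (.node (.node (.node (.node (.leaf 0xd62044)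
(.leaf 0x1fb88831))
(.node (.leaf 0x10706678)
(.leaf 0x30a6757b)))
(.node (.node (.leaf 0x9082487)
(.leaf 0x28866f34))
(.node (.leaf 0x16689279)
(.leaf 0))))
(.node (.node (.node (.leaf 0x34a81bb)
(.leaf 0x248ea92a))
(.node (.leaf 0x14a46af2)
(.leaf 0)))
(.node (.node (.leaf 0xbacd2ba)
(.leaf 0x2cea55ae))
(.node (.leaf 0x19c8b21e)
(.leaf 0)))))
(.node (.node (.node (.node (.leaf 0x1a8442a)
(.leaf 0x211494b9))
(.node (.leaf 0x124850ec)
(.leaf 0)))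
(.node (.node (.leaf 0xa08a843)
(.leaf 0x2a48d6c7))
(.node (.leaf 0x17da7404)
(.leaf 0))))
(.node (.node (.node (.leaf 0x680c3e4)
(.leaf 0x261e74bb))
(.node (.leaf 0x155aae63)
(.leaf 0)))
(.node (.node (.leaf 0xebeccd1)
(.leaf 0x2e2096b3))
(.node (.leaf 0x1f028820)
(.leaf 0)))))))
(.node (.node (.node (.node (.node (.node (.leaf 0x74a26d)
(.leaf 0x1f822ae0))
(.node (.leaf 0xfe04e5d)
(.leaf 0x3020b7a8)))
(.node (.node (.leaf 0x80e4452)
(.leaf 0x284cb49b))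
(.node (.leaf 0x161a6fd1)
(.leaf 0))))
(.node (.node (.node (.leaf 0x2b8409c)
(.leaf 0x24562825))
(.node (.leaf 0x1482aaa6)
(.leaf 0)))
(.node (.node (.leaf 0xb246f1c)
(.leaf 0x2c4cb64a))
(.node (.leaf 0x193cb1ef)
(.leaf 0)))))
(.node (.node (.node (.node (.leaf 0x164a34b)
(.leaf 0x20985492))
(.node (.leaf 0x11d8538c)
(.leaf 0)))
(.node (.node (.leaf 0x9c68c50)
(.leaf 0x29eed65e))
(.node (.leaf 0x176270ee)
(.leaf 0))))
(.node (.node (.node (.leaf 0x638a0c7)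
(.leaf 0x25e4702b))
(.node (.leaf 0x152a8fdd)
(.leaf 0)))
(.node (.node (.leaf 0xe26cca4)
(.leaf 0x2db6d78f))
(.node (.leaf 0x1c8c4b5e)
(.leaf 0))))))
(.node (.node (.node (.node (.node (.leaf 0xfe63cf)
(.leaf 0x1fee90ff))
(.node (.leaf 0x115427cf)
(.leaf 0)))
(.node (.node (.leaf 0x9664e55)
(.leaf 0x2984b81f))
(.node (.leaf 0x16b8abd4)
(.leaf 0))))
(.node (.node (.node (.leaf 0x414c287)
(.leaf 0x253c2921))
(.node (.leaf 0x14cc2ac7)
(.leaf 0)))
(.node (.node (.leaf 0xc204584)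
(.leaf 0x2d4ad798))
(.node (.leaf 0x1a8cd1be)
(.leaf 0)))))
(.node (.node (.node (.node (.leaf 0x1ec4274)
(.leaf 0x2198d48a))
(.node (.leaf 0x12fa70cb)
(.leaf 0)))
(.node (.node (.leaf 0xa588b56)
(.leaf 0x2ada55f3))
(.node (.leaf 0x18549290)
(.leaf 0))))
(.node (.node (.node (.leaf 0x76e21ce)
(.leaf 0x266450d1))
(.node (.leaf 0x15968d1e)
(.leaf 0)))
(.node (.node (.leaf 0xefaa770)
(.leaf 0x2eccd82b))
(.node (.leaf 0x1f26aa65)
(.leaf 0))))))))
(.node (.node (.node (.node (.node (.node (.node (.leaf 0x4260d0)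
(.leaf 0x1f666ebc))
(.node (.leaf 0xf882af7)
(.leaf 0x2ff8b753)))
(.node (.node (.leaf 0x7d642df)
(.leaf 0x2838c567))
(.node (.leaf 0x15f89413)
(.leaf 0))))
(.node (.node (.node (.leaf 0x26e80c3)
(.leaf 0x24426c7f))
(.node (.leaf 0x14168a4a)
(.leaf 0)))
(.node (.node (.leaf 0xae88924)
(.leaf 0x2c3034cf))
(.node (.leaf 0x18f66e0b)
(.leaf 0)))))
(.node (.node (.node (.node (.leaf 0x146416a)
(.leaf 0x2076aaea))
(.node (.leaf 0x11acc717)
(.leaf 0)))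
(.node (.node (.leaf 0x9ac684b)
(.leaf 0x29cc983b))
(.node (.leaf 0x17408a18)
(.leaf 0))))
(.node (.node (.node (.leaf 0x62040ec)
(.leaf 0x25c45203))
(.node (.leaf 0x1512b433)
(.leaf 0)))
(.node (.node (.leaf 0xd3a8f0f)
(.leaf 0x2d9a96d2))
(.node (.leaf 0x1c0089bc)
(.leaf 0))))))
(.node (.node (.node (.node (.node (.leaf 0xe8a129)
(.leaf 0x1fd0b059))
(.node (.leaf 0x113eae8f)
(.leaf 0)))
(.node (.node (.leaf 0x9366527)
(.leaf 0x28ae32f2))
(.node (.leaf 0x168e942c)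
(.leaf 0))))
(.node (.node (.node (.leaf 0x39aa2a5)
(.leaf 0x24c28fa3))
(.node (.leaf 0x14bacd48)
(.leaf 0)))
(.node (.node (.leaf 0xbe6866f)
(.leaf 0x2d36b687))
(.node (.leaf 0x1a4684f6)
(.leaf 0)))))
(.node (.node (.node (.node (.leaf 0x1ca40f6)
(.leaf 0x214a54ac))
(.node (.leaf 0x129c90f3)
(.leaf 0)))
(.node (.node (.leaf 0xa3466c8)
(.leaf 0x2a84984e))
(.node (.leaf 0x180e724c)
(.leaf 0))))
(.node (.node (.node (.leaf 0x6b6824b)
(.leaf 0x263c9115))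
(.node (.leaf 0x157693de)
(.leaf 0)))
(.node (.node (.leaf 0xee08e8d)
(.leaf 0x2e5ed688))
(.node (.leaf 0x1f148827)
(.leaf 0)))))))
(.node (.node (.node (.node (.node (.node (.leaf 0xc4618f)
(.leaf 0x1f98a74c))
(.node (.leaf 0x101c4b6a)
(.leaf 0x30425674)))
(.node (.node (.leaf 0x8ba63ca)
(.leaf 0x28647471))
(.node (.leaf 0x164e529c)
(.leaf 0))))
(.node (.node (.node (.leaf 0x304800d)
(.leaf 0x246ea5db))
(.node (.leaf 0x1494a679)
(.leaf 0)))
(.node (.node (.leaf 0xb606a32)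
(.leaf 5347))
(.node (.leaf 0x198ea9d9)
(.leaf 0)))))
(.node (.node (.node (.node (.leaf 0x18463dc)
(.leaf 0x20e487fc))
(.node (.leaf 0x1202cf71)
(.leaf 0)))
(.node (.node (.leaf 0x9eab476)
(.leaf 0x2a1ab601))
(.node (.leaf 0x17a2a60b)
(.leaf 0))))
(.node (.node (.node (.leaf 0x65ca03e)
(.leaf 0x25fea511))
(.node (.leaf 0x1540908a)
(.leaf 0)))
(.node (.node (.leaf 0xea8ac4c)
(.leaf 0x2de6765b))
(.node (.leaf 0x1d24acf6)
(.leaf 0))))))
(.node (.node (.node (.node (.node (.leaf 0x116a156)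
(.leaf 0x200eb05c))
(.node (.leaf 0x116cb1d4)
(.leaf 0)))
(.node (.node (.leaf 0x97acf4b)
(.leaf 0x2998b5b4))
(.node (.leaf 0x16dec5fc)
(.leaf 0))))
(.node (.node (.node (.leaf 0x4b282be)
(.leaf 0x259e34b7))
(.node (.leaf 0x14e687b7)
(.leaf 0)))
(.node (.node (.leaf 0xc748dc5)
(.leaf 0x2d605722))
(.node (.leaf 0x1b0884c5)
(.leaf 0)))))
(.node (.node (.node (.node (.leaf 0x2126154)
(.leaf 0x223a8c96))
(.node (.leaf 0x135a4790)
(.leaf 0)))
(.node (.node (.leaf 0xa80a9d4)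
(.leaf 0x2b1c9709))
(.node (.leaf 0x1898a943)
(.leaf 0))))
(.node (.node (.node (.leaf 0x786a28b)
(.leaf 0x26a8c6d4))
(.node (.leaf 0x15b85151)
(.leaf 0)))
(.node (.node (.leaf 0xf308f6b)
(.leaf 0x2f727859))
(.node (.leaf 0x1f3a692c)
(.leaf 0)))))))))
(.node (.node (.node (.node (.node (.node (.node (.node (.leaf 0x146001)
(.leaf 0x1f5aae3d))
(.node (.leaf 0xf704fcb)
(.leaf 0x2fec968b)))
(.node (.node (.leaf 0x7ba4408)
(.leaf 0x27684b4e))
(.node (.leaf 0x15ea70c9)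
(.leaf 0))))
(.node (.node (.node (.leaf 0x2546054)
(.leaf 0x2358b293))
(.node (.leaf 0x13fca519)
(.leaf 0)))
(.node (.node (.leaf 0xac84e45)
(.leaf 0x2c24b5ac))
(.node (.leaf 0x18e08d2c)
(.leaf 0)))))
(.node (.node (.node (.node (.leaf 0x13aa29d)
(.leaf 0x2066a5f6))
(.node (.leaf 0x11946763)
(.leaf 0)))
(.node (.node (.leaf 0x9a08e13)
(.leaf 0x29c0d5f7))
(.node (.leaf 0x17289014)
(.leaf 0))))
(.node (.node (.node (.leaf 0x616816d)
(.leaf 0x25b832da))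
(.node (.leaf 0x150446a2)
(.leaf 0)))
(.node (.node (.leaf 0xd08a50b)
(.leaf 0x2d8ed748))
(.node (.leaf 0x1bc6c997)
(.leaf 0))))))
(.node (.node (.node (.node (.node (.leaf 0xde2108)
(.leaf 0x1fc4ac90))
(.node (.leaf 0x10d6ada3)
(.leaf 0x31263626)))
(.node (.node (.leaf 0x91689a7)
(.leaf 0x289271a8))
(.node (.leaf 0x167ed1ae)
(.leaf 0))))
(.node (.node (.node (.leaf 0x37aa0dd)
(.leaf 0x24a27248))
(.node (.leaf 0x14b08677)
(.leaf 0)))
(.node (.node (.leaf 0xbcc2884)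
(.leaf 0x2d2857f1))
(.node (.leaf 0x19f8ad47)
(.leaf 0)))))
(.node (.node (.node (.node (.leaf 0x1b8603d)
(.leaf 0x2134cc06))
(.node (.leaf 0x1274cee8)
(.leaf 0)))
(.node (.node (.leaf 0xa1cab0b)
(.leaf 0x2a6296ac))
(.node (.leaf 0x17f05466)
(.leaf 0))))
(.node (.node (.node (.leaf 0x698c33e)
(.leaf 0x262c9497))
(.node (.leaf 0x156a4c5f)
(.leaf 0)))
(.node (.node (.leaf 0xecec7d4)
(.leaf 0x2e3e7772))
(.node (.leaf 0x1f0a6f82)
(.leaf 0)))))))
(.node (.node (.node (.node (.node (.node (.leaf 0x88c330)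
(.leaf 0x1f8c4f28))
(.node (.leaf 0xffc9000)
(.leaf 0x302e3804)))
(.node (.node (.leaf 0x8562412)
(.leaf 0x28568bcf))
(.node (.leaf 0x1626ad62)
(.leaf 0))))
(.node (.node (.node (.leaf 0x2d84314)
(.leaf 0x24624b97))
(.node (.leaf 0x148ab13f)
(.leaf 0)))
(.node (.node (.leaf 0xb46a53d)
(.leaf 0x2c649620))
(.node (.leaf 0x196e909d)
(.leaf 0)))))
(.node (.node (.node (.node (.leaf 0x17a811c)
(.leaf 0x20aeae78))
(.node (.leaf 0x11ec4ee9)
(.leaf 0)))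
(.node (.node (.leaf 0x9d67259)
(.leaf 0x2a0855c2))
(.node (.leaf 0x177489d1)
(.leaf 0))))
(.node (.node (.node (.leaf 0x6444318)
(.leaf 0x25f0d2d6))
(.node (.leaf 0x1536b286)
(.leaf 0)))
(.node (.node (.leaf 0xe9eab8e)
(.leaf 0x2dcc971b))
(.node (.leaf 0x1cdaa612)
(.leaf 0))))))
(.node (.node (.node (.node (.node (.leaf 0x10aa360)
(.leaf 0x1ffe6f41))
(.node (.leaf 0x115c72d4)
(.leaf 0)))
(.node (.node (.leaf 0x972a904)
(.leaf 0x298e9668))
(.node (.leaf 0x16cc6945)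
(.leaf 0))))
(.node (.node (.node (.leaf 0x44a8032)
(.leaf 0x2596ca64))
(.node (.leaf 0x14dab087)
(.leaf 0)))
(.node (.node (.leaf 0xc4a688b)
(.leaf 0x2d5297d0))
(.node (.leaf 0x1ad251e4)
(.leaf 0)))))
(.node (.node (.node (.node (.leaf 0x200c02d)
(.leaf 0x21daac85))
(.node (.leaf 0x131ca4f9)
(.leaf 0)))
(.node (.node (.leaf 0xa66895b)
(.leaf 0x2afc55cf))
(.node (.leaf 0x1886c676)
(.leaf 0))))
(.node (.node (.node (.leaf 0x77863f1)
(.leaf 0x26806d9a))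
(.node (.leaf 0x15aa4ba0)
(.leaf 0)))
(.node (.node (.leaf 0xf0e8ac4)
(.leaf 0x2f00973d))
(.node (.leaf 0x1f32c8d8)
(.leaf 0))))))))
(.node (.node (.node (.node (.node (.node (.node (.leaf 0x5ca193)
(.leaf 0x1f746f95))
(.node (.leaf 0xfa82e74)
(.leaf 0x300ad891)))
(.node (.node (.leaf 0x7ee642b)
(.leaf 0x28409177))
(.node (.leaf 0x160a8fb7)
(.leaf 0))))
(.node (.node (.node (.leaf 0x292a45d)
(.leaf 0x244c4d1f))
(.node (.leaf 0x145064a1)
(.leaf 0)))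
(.node (.node (.leaf 0xb088c3c)
(.leaf 0x2c3a5587))
(.node (.leaf 0x191cb042)
(.leaf 0)))))
(.node (.node (.node (.node (.leaf 0x156a039)
(.leaf 0x208647fa))
(.node (.leaf 0x11caaf07)
(.leaf 0)))
(.node (.node (.leaf 0x9b88838)
(.leaf 0x29e2966d))
(.node (.leaf 0x17509088)
(.leaf 0))))
(.node (.node (.node (.leaf 0x628c0a3)
(.leaf 0x25d6719a))
(.node (.leaf 0x151ec67f)
(.leaf 0)))
(.node (.node (.leaf 0xd962eab)
(.leaf 0x2da8b7ef))
(.node (.leaf 0x1c3ea72a)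
(.leaf 0))))))
(.node (.node (.node (.node (.node (.leaf 0xf22201)
(.leaf 0x1fdc8e26))
(.node (.leaf 0x11486e08)
(.leaf 0)))
(.node (.node (.leaf 0x95e4887)
(.leaf 0x28c8498d))
(.node (.leaf 0x16a48f5d)
(.leaf 0))))
(.node (.node (.node (.leaf 0x3e66255)
(.leaf 0x24ee8b88))
(.node (.leaf 0x14c4b409)
(.leaf 0)))
(.node (.node (.leaf 0xc00c73d)
(.leaf 0x2d407781))
(.node (.leaf 0x1a6649f0)
(.leaf 0)))))
(.node (.node (.node (.node (.leaf 0x1d861c5)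
(.leaf 0x2182d15b))
(.node (.leaf 0x12c8655f)
(.leaf 0)))
(.node (.node (.leaf 0xa4253bc)
(.leaf 0x2abc5685))
(.node (.leaf 0x1832c835)
(.leaf 0))))
(.node (.node (.node (.leaf 0x76242aa)
(.leaf 0x2650a6aa))
(.node (.leaf 0x15846e65)
(.leaf 0)))
(.node (.node (.leaf 0xeeca74b)
(.leaf 0x2e92978e))
(.node (.leaf 0x1f1cae0a)
(.leaf 0)))))))
(.node (.node (.node (.node (.node (.node (.leaf 0xcc4237)
(.leaf 0x1faa8b5f))
(.node (.leaf 0x1052a6e6)
(.leaf 0x305e7670)))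
(.node (.node (.leaf 0x8cca3af)
(.leaf 0x2876b089))
(.node (.leaf 0x16582b52)
(.leaf 0))))
(.node (.node (.node (.leaf 0x31ca2c2)
(.leaf 0x248286d7))
(.node (.leaf 0x149c283d)
(.leaf 0)))
(.node (.node (.leaf 0xb8a461f)
(.leaf 0x2cda5597))
(.node (.leaf 0x19aa745c)
(.leaf 0)))))
(.node (.node (.node (.node (.leaf 0x1984150)
(.leaf 0x20f66efd))
(.node (.leaf 0x122089f3)
(.leaf 0)))
(.node (.node (.leaf 0x9fc4b1b)
(.leaf 0x2a3ab52b))
(.node (.leaf 0x17c4cb7e)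
(.leaf 0))))
(.node (.node (.node (.leaf 0x66e2210)
(.leaf 0x260c33d1))
(.node (.leaf 0x154cadad)
(.leaf 0)))
(.node (.node (.leaf 0xeb4c7a5)
(.leaf 0x2e04958a))
(.node (.leaf 0x1e024e4c)
(.leaf 0))))))
(.node (.node (.node (.node (.node (.leaf 0x120617a)
(.leaf 0x2028319e))
(.node (.leaf 0x117a721b)
(.leaf 0)))
(.node (.node (.leaf 0x986a6b0)
(.leaf 0x29a47704))
(.node (.leaf 0x16f64941)
(.leaf 0))))
(.node (.node (.node (.leaf 0x52261e0)
(.leaf 0x25a8d004))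
(.node (.leaf 0x14f0915e)
(.leaf 0)))
(.node (.node (.leaf 0xc9c4773)
(.leaf 0x2d6c95a6))
(.node (.leaf 0x1b3e8b63)
(.leaf 0)))))
(.node (.node (.node (.node (.leaf 0x2286236)
(.leaf 0x226cb345))
(.node (.leaf 0x13e06552)
(.leaf 0)))
(.node (.node (.leaf 0xa8ccc44)
(.leaf 0x2b46b5fc))
(.node (.leaf 0x18ac44e4)
(.leaf 0))))
(.node (.node (.node (.leaf 0x790a398)
(.leaf 0x26d29107))
(.node (.leaf 0x15ca7406)
(.leaf 0)))
(.node (.node (.leaf 0xf4cccf2)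
(.leaf 0x2fd6b7ce))
(.node (.leaf 0x1f442e62)
(.leaf 0))))))))))
(.node (.node (.node (.node (.node (.node (.node (.node (.node (.leaf 663570)
(.leaf 0x1f568615))
(.node (.leaf 0xf6a2c8b)
(.leaf 0x2fe677eb)))
(.node (.node (.leaf 0x7b0a342)
(.leaf 0x273c51f5))
(.node (.leaf 0x15e4b2fd)
(.leaf 0))))
(.node (.node (.node (.leaf 0x242620f)
(.leaf 0x230eaa0f))
(.node (.leaf 0x13f2694b)
(.leaf 0)))
(.node (.node (.leaf 0xab689fd)
(.leaf 0x2bd2758d))
(.node (.leaf 0x18d45353)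
(.leaf 0)))))
(.node (.node (.node (.node (.leaf 0x132c406)
(.leaf 0x20546594))
(.node (.leaf 0x118c868b)
(.leaf 0)))
(.node (.node (.leaf 0x99ac837)
(.leaf 0x29bad553))
(.node (.leaf 0x171e6a3a)
(.leaf 0))))
(.node (.node (.node (.leaf 0x612c188)
(.leaf 0x25b669d7))
(.node (.leaf 0x14fe72ff)
(.leaf 0)))
(.node (.node (.leaf 0xcf6cf32)
(.leaf 0x2d80381e))
(.node (.leaf 0x1b9c6c1c)
(.leaf 0))))))
(.node (.node (.node (.node (.node (.leaf 0xda6021)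
(.leaf 0x1fbcab8a))
(.node (.leaf 0x10942e70)
(.leaf 0x30c4b68c)))
(.node (.node (.leaf 0x90c900b)
(.leaf 0x288e8a14))
(.node (.leaf 0x1672c501)
(.leaf 0))))
(.node (.node (.node (.leaf 0x36082e0)
(.leaf 0x2498459f))
(.node (.leaf 0x14acc6e4)
(.leaf 0)))
(.node (.node (.leaf 0xbc2ccb9)
(.leaf 0x2d0096cf))
(.node (.leaf 0x19e0683b)
(.leaf 0)))))
(.node (.node (.node (.node (.leaf 0x1ae80e4)
(.leaf 0x211e92e5))
(.node (.leaf 0x12564dca)
(.leaf 0)))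
(.node (.node (.leaf 0xa14c585)
(.leaf 0x2a5256e9))
(.node (.leaf 0x17ea6f3b)
(.leaf 0))))
(.node (.node (.node (.leaf 0x68a632f)
(.leaf 0x26262778))
(.node (.leaf 0x1560710e)
(.leaf 0)))
(.node (.node (.leaf 0xec64d77)
(.leaf 0x2e30983e))
(.node (.leaf 0x1f066910)
(.leaf 0)))))))
(.node (.node (.node (.node (.node (.node (.leaf 0x7841b9)
(.leaf 0x1f88abbc))
(.node (.leaf 0xfe8903a)
(.leaf 0x302877f0)))
(.node (.node (.leaf 0x8408426)
(.leaf 0x28529126))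
(.node (.leaf 0x16208c7c)
(.leaf 0))))
(.node (.node (.node (.leaf 0x2c660f8)
(.leaf 0x245ca7b9))
(.node (.leaf 0x14866db1)
(.leaf 0)))
(.node (.node (.leaf 0xb34ab59)
(.leaf 0x2c54d536))
(.node (.leaf 0x194c6a9f)
(.leaf 0)))))
(.node (.node (.node (.node (.leaf 0x170800c)
(.leaf 0x20a0acd6))
(.node (.leaf 0x11e42bcc)
(.leaf 0)))
(.node (.node (.leaf 0x9ca283f)
(.leaf 0x29f896ab))
(.node (.leaf 0x176cd393)
(.leaf 0))))
(.node (.node (.node (.leaf 0x63c23ee)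
(.leaf 0x25e89488))
(.node (.leaf 0x152e54a2)
(.leaf 0)))
(.node (.node (.leaf 0xe9ac4a0)
(.leaf 0x2dc0b7df))
(.node (.leaf 0x1c9a6dc9)
(.leaf 0))))))
(.node (.node (.node (.node (.node (.leaf 0x106c0bf)
(.leaf 0x1ff6cf94))
(.node (.leaf 0x1158740c)
(.leaf 0)))
(.node (.node (.leaf 0x96ec4d5)
(.leaf 0x298ad663))
(.node (.leaf 0x16c2505a)
(.leaf 0))))
(.node (.node (.node (.leaf 0x42c8031)
(.leaf 0x25927116))
(.node (.leaf 0x14d4ce88)
(.leaf 0)))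
(.node (.node (.leaf 0xc24c85f)
(.leaf 0x2d4e76eb))
(.node (.leaf 0x1a965376)
(.leaf 0)))))
(.node (.node (.node (.node (.leaf 0x1f64056)
(.leaf 0x21b84f0e))
(.node (.leaf 0x130aaf10)
(.leaf 0)))
(.node (.node (.leaf 0xa608b0c)
(.leaf 0x2aee970a))
(.node (.leaf 0x187a8500)
(.leaf 0))))
(.node (.node (.node (.leaf 0x7726474)
(.leaf 0x266eabb5))
(.node (.leaf 0x159c74b6)
(.leaf 0)))
(.node (.node (.leaf 0xf026852)
(.leaf 0x2eecb89a))
(.node (.leaf 0x1f2cae09)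
(.leaf 0))))))))
(.node (.node (.node (.node (.node (.node (.node (.leaf 0x58401e)
(.leaf 0x1f6eb1c0))
(.node (.leaf 0xf9aa546)
(.leaf 0x3000b7fe)))
(.node (.node (.leaf 0x7e2a47b)
(.leaf 0x283c69ef))
(.node (.leaf 0x16008bd0)
(.leaf 0))))
(.node (.node (.node (.leaf 0x282a3da)
(.leaf 0x2446c9eb))
(.node (.leaf 0x1426a518)
(.leaf 0)))
(.node (.node (.leaf 0xafacdf2)
(.leaf 0x2c34b697))
(.node (.leaf 0x18fe4f63)
(.leaf 0)))))
(.node (.node (.node (.node (.leaf 0x14e6246)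
(.leaf 0x207c2b01))
(.node (.leaf 0x11b02de7)
(.leaf 0)))
(.node (.node (.leaf 0x9b24702)
(.leaf 0x29d2d785))
(.node (.leaf 0x1748aa39)
(.leaf 0))))
(.node (.node (.node (.leaf 0x62461ca)
(.leaf 0x25ceaa67))
(.node (.leaf 0x1518a9e5)
(.leaf 0)))
(.node (.node (.leaf 0xd62aaf1)
(.leaf 0x2da0b88f))
(.node (.leaf 0x1c14ce2b)
(.leaf 0))))))
(.node (.node (.node (.node (.node (.leaf 0xeec312)
(.leaf 0x1fd6499d))
(.node (.leaf 0x11423280)
(.leaf 0)))
(.node (.node (.leaf 0x95ac48c)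
(.leaf 0x28bad145))
(.node (.leaf 0x1696539b)
(.leaf 0))))
(.node (.node (.node (.leaf 0x3b6c10b)
(.leaf 0x24e08be1))
(.node (.leaf 0x14beaec8)
(.leaf 0)))
(.node (.node (.leaf 0xbeecd1a)
(.leaf 0x2d3a75c0))
(.node (.leaf 0x1a504b62)
(.leaf 0)))))
(.node (.node (.node (.node (.leaf 0x1d260f9)
(.leaf 0x2164c8dd))
(.node (.leaf 0x12b68a96)
(.leaf 0)))
(.node (.node (.leaf 0xa3e49ba)
(.leaf 0x2a94577d))
(.node (.leaf 0x181c4fcd)
(.leaf 0))))
(.node (.node (.node (.leaf 0x6fe621f)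
(.leaf 0x26464a1c))
(.node (.leaf 0x1580c7d5)
(.leaf 0)))
(.node (.node (.leaf 0xee6a6ed)
(.leaf 0x2e729878))
(.node (.leaf 0x1f186a88)
(.leaf 0)))))))
(.node (.node (.node (.node (.node (.node (.leaf 0xc8c19e)
(.leaf 0x1fa26c09))
(.node (.leaf 0x103ea502)
(.leaf 0x304eb661)))
(.node (.node (.leaf 0x8c0447f)
(.leaf 0x286eb3c4))
(.node (.leaf 0x165292df)
(.leaf 0))))
(.node (.node (.node (.leaf 0x310a1c1)
(.leaf 0x247a8d72))
(.node (.leaf 0x1496908f)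
(.leaf 0)))
(.node (.node (.leaf 0xb72261d)
(.leaf 0x2cd49580))
(.node (.leaf 0x199e503c)
(.leaf 0)))))
(.node (.node (.node (.node (.leaf 0x18c2218)
(.leaf 0x20f0737c))
(.node (.leaf 0x120ab39f)
(.leaf 0)))
(.node (.node (.leaf 0x9f4702c)
(.leaf 0x2a2494f3))
(.node (.leaf 0x17b6adb2)
(.leaf 0))))
(.node (.node (.node (.leaf 0x6688146)
(.leaf 0x26084b2a))
(.node (.leaf 0x15467239)
(.leaf 0)))
(.node (.node (.leaf 0xeacd333)
(.leaf 0x2df4577c))
(.node (.leaf 0x1d644cef)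
(.leaf 0))))))
(.node (.node (.node (.node (.node (.leaf 0x11c805e)
(.leaf 0x20189496))
(.node (.leaf 0x11728aa1)
(.leaf 0)))
(.node (.node (.leaf 0x980a88f)
(.leaf 0x299e3628))
(.node (.leaf 0x16eec557)
(.leaf 0))))
(.node (.node (.node (.leaf 0x4d682d7)
(.leaf 0x25a45031))
(.node (.leaf 0x14ea8ebd)
(.leaf 0)))
(.node (.node (.leaf 0xc8c296e)
(.leaf 0x2d667876))
(.node (.leaf 0x1b1ccc73)
(.leaf 0)))))
(.node (.node (.node (.node (.leaf 0x21ca0b4)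
(.leaf 0x2258711c))
(.node (.leaf 0x13da24cf)
(.leaf 0)))
(.node (.node (.leaf 0xa849272)
(.leaf 0x2b2c7527))
(.node (.leaf 0x18a4a654)
(.leaf 0))))
(.node (.node (.node (.leaf 0x78a4465)
(.leaf 0x26c2a6d3))
(.node (.leaf 0x15c271de)
(.leaf 0)))
(.node (.node (.leaf 0xf46870f)
(.leaf 0x2fd2776f))
(.node (.leaf 0x1f40458e)
(.leaf 0)))))))))
(.node (.node (.node (.node (.node (.node (.node (.node (.leaf 0x228087)
(.leaf 0x1f5e68b0))
(.node (.leaf 0xf7c91ff)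
(.leaf 0x2ff05531)))
(.node (.node (.leaf 0x7cea3e5)
(.leaf 0x2832b0f9))
(.node (.leaf 0x15f4c6d9)
(.leaf 0))))
(.node (.node (.node (.leaf 0x25e436f)
(.leaf 0x23a26cb1))
(.node (.leaf 0x14044cfd)
(.leaf 0)))
(.node (.node (.leaf 0xae2250a)
(.leaf 0x2c2ad65c))
(.node (.leaf 0x18e8912e)
(.leaf 0)))))
(.node (.node (.node (.node (.leaf 0x13ec202)
(.leaf 0x2070aee5))
(.node (.leaf 0x119ccf26)
(.leaf 0)))
(.node (.node (.leaf 0x9a8c697)
(.leaf 0x29c834ea))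
(.node (.leaf 0x17346ede)
(.leaf 0))))
(.node (.node (.node (.leaf 0x61aa39f)
(.leaf 0x25bead23))
(.node (.leaf 0x150e9102)
(.leaf 0)))
(.node (.node (.leaf 0xd107313)
(.leaf 0x2d94758f))
(.node (.leaf 0x1bde4940)
(.leaf 0))))))
(.node (.node (.node (.node (.node (.leaf 0xe02443)
(.leaf 0x1fcc8cd9))
(.node (.leaf 0x113ac49d)
(.leaf 0x31343894)))
(.node (.node (.leaf 0x924875f)
(.leaf 0x2898b427))
(.node (.leaf 0x1688cd55)
(.leaf 0))))
(.node (.node (.node (.leaf 0x3888331)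
(.leaf 0x24b26fe4))
(.node (.leaf 0x14b4b14b)
(.leaf 0)))
(.node (.node (.leaf 0xbd667d0)
(.leaf 0x2d3297c3))
(.node (.leaf 0x1a22b4ab)
(.leaf 0)))))
(.node (.node (.node (.node (.leaf 0x1be6103)
(.leaf 0x21408786))
(.node (.leaf 0x1284c7c6)
(.leaf 0)))
(.node (.node (.leaf 0xa2887da)
(.leaf 0x2a6cb4ec))
(.node (.leaf 0x17fc8f9a)
(.leaf 0))))
(.node (.node (.node (.leaf 0x6aca063)
(.leaf 0x263666a5))
(.node (.leaf 0x1572c7a3)
(.leaf 0)))
(.node (.node (.leaf 0xed8904f)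
(.leaf 0x2e54b6ad))
(.node (.leaf 0x1f0ed11f)
(.leaf 0)))))))
(.node (.node (.node (.node (.node (.node (.leaf 0xa86133)
(.leaf 0x1f926f0a))
(.node (.leaf 0x100e5243)
(.leaf 0x30365794)))
(.node (.node (.leaf 0x8b44208)
(.leaf 0x285c87ae))
(.node (.leaf 0x1644af38)
(.leaf 0))))
(.node (.node (.node (.leaf 0x2f222a6)
(.leaf 0x24688d71))
(.node (.leaf 0x148ead5b)
(.leaf 0)))
(.node (.node (.leaf 0xb583040)
(.leaf 0x2c80d7c6))
(.node (.leaf 0x197eb0b7)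
(.leaf 0)))))
(.node (.node (.node (.node (.leaf 0x17ea08a)
(.leaf 0x20bccce5))
(.node (.leaf 0x11faa76a)
(.leaf 0)))
(.node (.node (.leaf 0x9e048d3)
(.leaf 0x2a14b6b4))
(.node (.leaf 0x1796ca48)
(.leaf 0))))
(.node (.node (.node (.leaf 0x64e82f0)
(.leaf 0x25f4946a))
(.node (.leaf 0x153c92fc)
(.leaf 0)))
(.node (.node (.leaf 0xea26d9e)
(.leaf 0x2dda77d8))
(.node (.leaf 0x1cf888c2)
(.leaf 0))))))
(.node (.node (.node (.node (.node (.leaf 0x110c281)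
(.leaf 0x2004cbdf))
(.node (.leaf 0x1166af24)
(.leaf 0)))
(.node (.node (.leaf 0x976a6cb)
(.leaf 0x29945654))
(.node (.leaf 0x16d2d2a6)
(.leaf 0))))
(.node (.node (.node (.leaf 0x498839d)
(.leaf 0x259ca77f))
(.node (.leaf 0x14e0927f)
(.leaf 0)))
(.node (.node (.leaf 0xc5e8eeb)
(.leaf 0x2d5ad610))
(.node (.leaf 0x1aeead37)
(.leaf 0)))))
(.node (.node (.node (.node (.leaf 0x20ac2b4)
(.leaf 0x21fad455))
(.node (.leaf 0x1346a7ea)
(.leaf 0)))
(.node (.node (.leaf 0xa74a6af)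
(.leaf 0x2b0c74ef))
(.node (.leaf 0x188e664e)
(.leaf 0))))
(.node (.node (.node (.leaf 0x780c438)
(.leaf 0x26949071))
(.node (.leaf 0x15b4c954)
(.leaf 0)))
(.node (.node (.leaf 0xf1c9231)
(.leaf 0x2f42b885))
(.node (.leaf 0x1f34d26b)
(.leaf 0))))))))
(.node (.node (.node (.node (.node (.node (.node (.leaf 0x68810f)
(.leaf 0x1f7c7037))
(.node (.leaf 0xfd4c581)
(.leaf 0x30167679)))
(.node (.node (.leaf 0x7f8a2f2)
(.leaf 0x2846d277))
(.node (.leaf 0x16146fe5)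
(.leaf 0))))
(.node (.node (.node (.leaf 0x2a08077)
(.leaf 0x2450d2fe))
(.node (.leaf 0x146aa4af)
(.leaf 0)))
(.node (.node (.leaf 0xb1caf46)
(.leaf 0x2c42955a))
(.node (.leaf 0x193668d0)
(.leaf 0)))))
(.node (.node (.node (.node (.leaf 0x15c62ac)
(.leaf 0x20922f83))
(.node (.leaf 0x11d228be)
(.leaf 0)))
(.node (.node (.leaf 0x9bc8b6e)
(.leaf 0x29e69701))
(.node (.leaf 0x175825ff)
(.leaf 0))))
(.node (.node (.node (.leaf 0x62ec1e8)
(.leaf 0x25dc7198))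
(.node (.leaf 0x1524d074)
(.leaf 0)))
(.node (.node (.leaf 0xdc8c5e8)
(.leaf 0x2db0d76d))
(.node (.leaf 0x1c7a538f)
(.leaf 0))))))
(.node (.node (.node (.node (.node (.leaf 0xfa6101)
(.leaf 0x1fe66cc0))
(.node (.leaf 0x114c4f36)
(.leaf 0)))
(.node (.node (.leaf 0x962684c)
(.leaf 0x2900b3a3))
(.node (.leaf 0x16b0aaa0)
(.leaf 0))))
(.node (.node (.node (.leaf 0x3fc8319)
(.leaf 0x2504ccff))
(.node (.leaf 0x14c888ee)
(.leaf 0)))
(.node (.node (.leaf 0xc0ea704)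
(.leaf 0x2d4497c2))
(.node (.leaf 0x1a7a84f7)
(.leaf 0)))))
(.node (.node (.node (.node (.leaf 0x1e421ea)
(.leaf 0x21902f35))
(.node (.leaf 0x12e89443)
(.leaf 0)))
(.node (.node (.leaf 0xa4c4c51)
(.leaf 0x2ad4777e))
(.node (.leaf 0x18468eff)
(.leaf 0))))
(.node (.node (.node (.leaf 0x76881bc)
(.leaf 0x265c494c))
(.node (.leaf 0x158c5130)
(.leaf 0)))
(.node (.node (.leaf 0xef2af97)
(.leaf 0x2ea0772c))
(.node (.leaf 0x1f20affe)
(.leaf 0)))))))
(.node (.node (.node (.node (.node (.node (.leaf 0xd0441c)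
(.leaf 0x1fb22bef))
(.node (.leaf 0x105ecadb)
(.leaf 0x3082967e)))
(.node (.node (.leaf 0x8da43b8)
(.leaf 0x287e73a6))
(.node (.leaf 0x1660af5e)
(.leaf 0))))
(.node (.node (.node (.leaf 0x32821e1)
(.leaf 0x248668fa))
(.node (.leaf 0x149e7449)
(.leaf 0)))
(.node (.node (.leaf 0xb9ccb0a)
(.leaf 0x2ce09696))
(.node (.leaf 0x19c0a949)
(.leaf 0)))))
(.node (.node (.node (.node (.leaf 0x1a0c0da)
(.leaf 0x2106d240))
(.node (.leaf 0x1234c4b1)
(.leaf 0)))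
(.node (.node (.leaf 0xa0266b3)
(.leaf 0x2a42b5df))
(.node (.leaf 0x17d24fab)
(.leaf 0))))
(.node (.node (.node (.leaf 0x6782253)
(.leaf 0x2616a931))
(.node (.leaf 0x15548902)
(.leaf 0)))
(.node (.node (.leaf 0xeb8d2a1)
(.leaf 0x2e0a963b))
(.node (.leaf 0x1e54ab28)
(.leaf 0))))))
(.node (.node (.node (.node (.node (.leaf 0x1288196)
(.leaf 0x2030346b))
(.node (.leaf 0x1180a80e)
(.leaf 0)))
(.node (.node (.leaf 0x98ea6b1)
(.leaf 0x29ac74e8))
(.node (.leaf 0x1700c9b9)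
(.leaf 0))))
(.node (.node (.node (.leaf 0x5ba81e6)
(.leaf 0x25acb0d7))
(.node (.leaf 0x14f68e34)
(.leaf 0)))
(.node (.node (.leaf 0xcbc857b)
(.leaf 0x2d74d836))
(.node (.leaf 0x1b5c8fc6)
(.leaf 0)))))
(.node (.node (.node (.node (.leaf 0x2322093)
(.leaf 0x22886ffd))
(.node (.leaf 0x13e6c86e)
(.leaf 0)))
(.node (.node (.leaf 0xa98a5a9)
(.leaf 0x2b80b80a))
(.node (.leaf 0x18b88f53)
(.leaf 0))))
(.node (.node (.node (.leaf 0x794a460)
(.leaf 0x26e6d457))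
(.node (.leaf 0x15d44aae)
(.leaf 0)))
(.node (.node (.leaf 0xf546f7c)
(.leaf 0x2fda77da))
(.node (.leaf 0x1f48b2de)
(.leaf 0)))))))))))))
(.node (.node (.node (.node (.node (.node (.node (.node (.node (.node (.node (.node (.leaf 24590)
(.leaf 0x1f4cd319))
(.node (.leaf 0xf5a274a)
(.leaf 0x2fdcd842)))
(.node (.node (.leaf 0x79e6458)
(.leaf 0x26eecb93))
(.node (.leaf 0x15d68fac)
(.leaf 0))))
(.node (.node (.node (.leaf 0x232c19b)
(.leaf 0x22904e11))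
(.node (.leaf 0x13e68b60)
(.leaf 0)))
(.node (.node (.leaf 0xa9ad04a)
(.leaf 0x2b8674d0))
(.node (.leaf 0x18be8e4f)
(.leaf 0)))))
(.node (.node (.node (.node (.leaf 0x12ac06c)
(.leaf 0x2036ae68))
(.node (.leaf 0x11828c4b)
(.leaf 0)))
(.node (.node (.leaf 0x9924bfc)
(.leaf 0x29aeb83f))
(.node (.leaf 0x1706b36f)
(.leaf 0))))
(.node (.node (.node (.leaf 0x5c480b8)
(.leaf 0x25ae51a6))
(.node (.leaf 0x14f88582)
(.leaf 0)))
(.node (.node (.leaf 0xcbea5a4)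
(.leaf 0x2d76b6c4))
(.node (.leaf 0x1b666a92)
(.leaf 0))))))
(.node (.node (.node (.node (.node (.leaf 0xd2a2cb)
(.leaf 0x1fb29296))
(.node (.leaf 0x1068498a)
(.leaf 0x308c979e)))
(.node (.node (.leaf 0x8de644c)
(.leaf 0x2880b491))
(.node (.leaf 0x16645354)
(.leaf 0))))
(.node (.node (.node (.leaf 0x33083f7)
(.leaf 0x248a6af4))
(.node (.leaf 0x14a0d2f5)
(.leaf 0)))
(.node (.node (.leaf 0xba26f3e)
(.leaf 0x2ce67516))
(.node (.leaf 0x19c4849a)
(.leaf 0)))))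
(.node (.node (.node (.node (.leaf 0x1a223b6)
(.leaf 0x210eceb9))
(.node (.leaf 0x1238cefb)
(.leaf 0)))
(.node (.node (.leaf 0xa04a598)
(.leaf 0x2a465621))
(.node (.leaf 0x17d2338b)
(.leaf 0))))
(.node (.node (.node (.leaf 0x678832d)
(.leaf 0x26185262))
(.node (.leaf 0x1556aae7)
(.leaf 0)))
(.node (.node (.leaf 0xeba8f68)
(.leaf 0x2e109870))
(.node (.leaf 1194)
(.leaf 0)))))))
(.node (.node (.node (.node (.node (.node (.leaf 0x6c818a)
(.leaf 0x1f7eb159))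
(.node (.leaf 0xfd8a4b8)
(.leaf 0x301eb68f)))
(.node (.node (.leaf 0x7fc6414)
(.leaf 0x28463481))
(.node (.leaf 0x1616abd6)
(.leaf 0))))
(.node (.node (.node (.leaf 0x2aa82d0)
(.leaf 0x245266e2))
(.node (.leaf 1177)
(.leaf 0)))
(.node (.node (.leaf 0xb2288d2)
(.leaf 0x2c44d82a))
(.node (.leaf 0x1938ab17)
(.leaf 0)))))
(.node (.node (.node (.node (.leaf 0x1602136)
(.leaf 0x2094aa66))
(.node (.leaf 0x11d2ce57)
(.leaf 0)))
(.node (.node (.leaf 0x9bea9de)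
(.leaf 0x29ecb4c7))
(.node (.leaf 0x175aad9f)
(.leaf 0))))
(.node (.node (.node (.leaf 0x6306286)
(.leaf 0x25e0509c))
(.node (.leaf 0x1526aed4)
(.leaf 0)))
(.node (.node (.leaf 0xde664da)
(.leaf 0x2db436f6))
(.node (.leaf 0x1c80d3d0)
(.leaf 0))))))
(.node (.node (.node (.node (.node (.leaf 0xfa8418)
(.leaf 0x1fecaa73))
(.node (.leaf 0x114eb246)
(.leaf 0)))
(.node (.node (.leaf 0x964a5cc)
(.leaf 5313))
(.node (.leaf 0x16b2743a)
(.leaf 0))))
(.node (.node (.node (.leaf 0x4068115)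
(.leaf 0x251090b9))
(.node (.leaf 0x14ca6a1a)
(.leaf 0)))
(.node (.node (.leaf 0xc126bed)
(.leaf 0x2d467818))
(.node (.leaf 0x1a80ca69)
(.leaf 0)))))
(.node (.node (.node (.node (.leaf 0x1e860fa)
(.leaf 0x219667d1))
(.node (.leaf 0x12f065ba)
(.leaf 0)))
(.node (.node (.leaf 0xa5084c2)
(.leaf 0x2ad8359d))
(.node (.leaf 0x184a31d2)
(.leaf 0))))
(.node (.node (.node (.leaf 0x7684357)
(.leaf 0x265e4f13))
(.node (.leaf 0x1590ab69)
(.leaf 0)))
(.node (.node (.leaf 0xef4af45)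
(.leaf 0x2ebe760e))
(.node (.leaf 0x1f22abc6)
(.leaf 0))))))))
(.node (.node (.node (.node (.node (.node (.node (.leaf 0x2a425b)
(.leaf 0x1f62d220))
(.node (.leaf 0xf80a8b2)
(.leaf 0x2ff2b75e)))
(.node (.node (.leaf 0x7d48386)
(.leaf 0x2834b1b7))
(.node (.leaf 0x15f66fda)
(.leaf 0))))
(.node (.node (.node (.leaf 0x262a222)
(.leaf 1196))
(.node (.leaf 0x140a6664)
(.leaf 0)))
(.node (.node (.leaf 0xae464d6)
(.leaf 0x2c2c36de))
(.node (.leaf 0x18f2a951)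
(.leaf 0)))))
(.node (.node (.node (.node (.leaf 0x140a1b2)
(.leaf 0x20728ea5))
(.node (.leaf 0x11a2a55b)
(.leaf 0)))
(.node (.node (.leaf 0x9aa27bd)
(.leaf 0x29ca76c8))
(.node (.leaf 0x173a4db4)
(.leaf 0))))
(.node (.node (.node (.leaf 0x61ea07a)
(.leaf 0x25c0b44c))
(.node (.leaf 0x151089f7)
(.leaf 0)))
(.node (.node (.leaf 0xd18a839)
(.leaf 0x2d96563a))
(.node (.leaf 0x1be04640)
(.leaf 0))))))
(.node (.node (.node (.node (.node (.leaf 0xe44298)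
(.leaf 0x1fccb04e))
(.node (.leaf 0x113aab6c)
(.leaf 0)))
(.node (.node (.leaf 0x9288637)
(.leaf 0x289c66e7))
(.node (.leaf 0x168aafbf)
(.leaf 0))))
(.node (.node (.node (.leaf 0x390a0a6)
(.leaf 0x24b84544))
(.node (.leaf 0x14b692cd)
(.leaf 0)))
(.node (.node (.leaf 0xbdaae1d)
(.leaf 0x2d347619))
(.node (.leaf 0x1a284d2b)
(.leaf 0)))))
(.node (.node (.node (.node (.leaf 0x1c4813d)
(.leaf 0x214847df))
(.node (.leaf 0x128c887f)
(.leaf 0)))
(.node (.node (.leaf 0xa2c6a77)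
(.leaf 0x2a78b4e9))
(.node (.leaf 0x18026feb)
(.leaf 0))))
(.node (.node (.node (.leaf 0x6b42211)
(.leaf 0x2638c995))
(.node (.leaf 0x15748d7a)
(.leaf 0)))
(.node (.node (.leaf 0xeda9046)
(.leaf 0x2e5ad612))
(.node (.leaf 0x1f10b157)
(.leaf 0)))))))
(.node (.node (.node (.node (.node (.node (.leaf 0xb4a01c)
(.leaf 0x1f94d437))
(.node (.leaf 0x10163343)
(.leaf 0x3038574c)))
(.node (.node (.leaf 0x8b48463)
(.leaf 0x285c30fa))
(.node (.leaf 0x164c8628)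
(.leaf 0))))
(.node (.node (.node (.leaf 0x2f8a2c7)
(.leaf 0x246a2dbd))
(.node (.leaf 0x1490ac11)
(.leaf 0)))
(.node (.node (.leaf 0xb5a4b50)
(.leaf 0x2c94b507))
(.node (.leaf 0x1982cea2)
(.leaf 0)))))
(.node (.node (.node (.node (.leaf 0x18081de)
(.leaf 0x20beceaf))
(.node (.leaf 0x11facde6)
(.leaf 0)))
(.node (.node (.leaf 0x9e03109)
(.leaf 0x2a1637a4))
(.node (.leaf 0x179a4d4d)
(.leaf 0))))
(.node (.node (.node (.leaf 0x6526280)
(.leaf 0x25fa6a02))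
(.node (.leaf 0x153ea985)
(.leaf 0)))
(.node (.node (.leaf 0xea4a72d)
(.leaf 0x2dde7838))
(.node (.leaf 0x1d0c880f)
(.leaf 0))))))
(.node (.node (.node (.node (.node (.leaf 0x11441c7)
(.leaf 0x2008cd57))
(.node (.leaf 0x11684d68)
(.leaf 0)))
(.node (.node (.leaf 0x976cdaa)
(.leaf 0x2996d56e))
(.node (.leaf 0x16d66c0e)
(.leaf 0))))
(.node (.node (.node (.leaf 0x49cc2cd)
(.leaf 0x259c94a3))
(.node (.leaf 0x14e4491a)
(.leaf 0)))
(.node (.node (.leaf 0xc6668ec)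
(.leaf 0x2d5c9716))
(.node (.leaf 0x1afcceb6)
(.leaf 0)))))
(.node (.node (.node (.node (.leaf 0x20c612f)
(.leaf 0x22188540))
(.node (.leaf 0x1350b0b1)
(.leaf 0)))
(.node (.node (.leaf 0xa768b22)
(.leaf 0x2b1474fd))
(.node (.leaf 0x189444e7)
(.leaf 0))))
(.node (.node (.node (.leaf 0x780447d)
(.leaf 0x269e52c9))
(.node (.leaf 0x15b648cf)
(.leaf 0)))
(.node (.node (.leaf 0xf226e72)
(.leaf 0x2f5697d9))
(.node (.leaf 0x1f368e93)
(.leaf 0)))))))))
(.node (.node (.node (.node (.node (.node (.node (.node (.leaf 942567)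
(.leaf 0x1f567292))
(.node (.leaf 0xf6c8749)
(.leaf 0x2fe83695)))
(.node (.node (.leaf 0x7b4c35e)
(.leaf 0x274cd28c))
(.node (.leaf 0x15e6b188)
(.leaf 0))))
(.node (.node (.node (.leaf 0x244a326)
(.leaf 0x2322b40a))
(.node (.leaf 0x13f6862b)
(.leaf 0)))
(.node (.node (.leaf 0xabc92b7)
(.leaf 0x2bd875bb))
(.node (.leaf 0x18d8cab0)
(.leaf 0)))))
(.node (.node (.node (.node (.leaf 0x13481d4)
(.leaf 0x205c2dde))
(.node (.leaf 0x118e8888)
(.leaf 0)))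
(.node (.node (.leaf 0x99caea8)
(.leaf 0x29bc95a7))
(.node (.leaf 0x17208947)
(.leaf 0))))
(.node (.node (.node (.leaf 0x614c086)
(.leaf 0x25b6d167))
(.node (.leaf 0x15008bdc)
(.leaf 0)))
(.node (.node (.leaf 0xcf8a7f2)
(.leaf 0x2d8477e6))
(.node (.leaf 0x1ba89170)
(.leaf 0))))))
(.node (.node (.node (.node (.node (.leaf 0xdac366)
(.leaf 0x1fc0aa12))
(.node (.leaf 0x10a8a503)
(.leaf 5453)))
(.node (.node (.leaf 0x91086ea)
(.leaf 0x28905060))
(.node (.leaf 0x16769386)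
(.leaf 0))))
(.node (.node (.node (.leaf 0x36c8439)
(.leaf 0x24988b89))
(.node (.leaf 0x14ac2bc5)
(.leaf 0)))
(.node (.node (.leaf 0xbc48ee3)
(.leaf 0x2d0eb5ad))
(.node (.leaf 0x19e48d8c)
(.leaf 0)))))
(.node (.node (.node (.node (.leaf 0x1b0a346)
(.leaf 0x212ec683))
(.node (.leaf 0x12688d50)
(.leaf 0)))
(.node (.node (.leaf 0xa162c46)
(.leaf 0x2a5ab53e))
(.node (.leaf 0x17ec4e1c)
(.leaf 0))))
(.node (.node (.node (.leaf 0x690c0cb)
(.leaf 0x2628ab3b))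
(.node (.leaf 0x15668f69)
(.leaf 0)))
(.node (.node (.leaf 0xeca9057)
(.leaf 0x2e3475bd))
(.node (.leaf 0x1f0844c4)
(.leaf 0)))))))
(.node (.node (.node (.node (.node (.node (.leaf 0x7e82d2)
(.leaf 0x1f8acd6d))
(.node (.leaf 0xfee88ba)
(.leaf 0x302a96ea)))
(.node (.node (.leaf 0x85083f8)
(.leaf 0x2854ca27))
(.node (.leaf 0x1622abf1)
(.leaf 0))))
(.node (.node (.node (.leaf 0x2cc421a)
(.leaf 0x245e880c))
(.node (.leaf 0x14886d38)
(.leaf 0)))
(.node (.node (.leaf 0xb3c6c16)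
(.leaf 0x2c58b598))
(.node (.leaf 0x19524e83)
(.leaf 0)))))
(.node (.node (.node (.node (.leaf 0x174a079)
(.leaf 0x20a67023))
(.node (.leaf 0x11e6a575)
(.leaf 0)))
(.node (.node (.leaf 0x9ce89df)
(.leaf 0x29fe559e))
(.node (.leaf 0x17704deb)
(.leaf 0))))
(.node (.node (.node (.leaf 0x63e83ef)
(.leaf 0x25eeb005))
(.node (.leaf 0x1532b093)
(.leaf 0)))
(.node (.node (.leaf 0xe9ab1db)
(.leaf 0x2dc476ed))
(.node (.leaf 0x1caa50d9)
(.leaf 0))))))
(.node (.node (.node (.node (.node (.leaf 0x10663c3)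
(.leaf 0x1ffa472e))
(.node (.leaf 0x115a2b45)
(.leaf 0)))
(.node (.node (.leaf 0x96e47cb)
(.leaf 0x298c965d))
(.node (.leaf 0x16c4a963)
(.leaf 0))))
(.node (.node (.node (.leaf 0x436814d)
(.leaf 0x25944651))
(.node (.leaf 0x14d64c12)
(.leaf 0)))
(.node (.node (.leaf 0xc404dc6)
(.leaf 0x2d50b6c5))
(.node (.leaf 0x1aa28ab5)
(.leaf 0)))))
(.node (.node (.node (.node (.leaf 0x1fa613c)
(.leaf 0x21c6901f))
(.node (.leaf 0x131089b3)
(.leaf 0)))
(.node (.node (.leaf 0xa62c84f)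
(.leaf 0x2af4b4c4))
(.node (.leaf 0x187c32d7)
(.leaf 0))))
(.node (.node (.node (.leaf 0x776a29b)
(.leaf 0x2676d0de))
(.node (.leaf 0x159ed45e)
(.leaf 0)))
(.node (.node (.leaf 0xf088ca6)
(.leaf 0x2ef276b2))
(.node (.leaf 0x1f2e8b12)
(.leaf 0))))))))
(.node (.node (.node (.node (.node (.node (.node (.leaf 0x5880f4)
(.leaf 0x1f7244e9))
(.node (.leaf 0xf9c2c40)
(.leaf 0x3006d802)))
(.node (.node (.leaf 0x7e8a3c5)
(.leaf 0x283c31b8))
(.node (.leaf 0x1604cf6c)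
(.leaf 0))))
(.node (.node (.node (.leaf 0x28aa2fd)
(.leaf 0x2448737e))
(.node (.leaf 0x14369383)
(.leaf 0)))
(.node (.node (.leaf 0xafc8ca3)
(.leaf 0x2c365605))
(.node (.leaf 0x19064a08)
(.leaf 0)))))
(.node (.node (.node (.node (.leaf 0x1522072)
(.leaf 0x2080a64c))
(.node (.leaf 0x11bc885e)
(.leaf 0)))
(.node (.node (.leaf 0x9b4884d)
(.leaf 0x29d6b66f))
(.node (.leaf 0x174ccd7f)
(.leaf 0))))
(.node (.node (.node (.leaf 0x626c04e)
(.leaf 0x25d049db))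
(.node (.leaf 0x1518347e)
(.leaf 0)))
(.node (.node (.leaf 0xd72459b)
(.leaf 0x2da27727))
(.node (.leaf 0x1c1a46f0)
(.leaf 0))))))
(.node (.node (.node (.node (.node (.leaf 0xf081f9)
(.leaf 0x1fd872b8))
(.node (.leaf 0x11448c71)
(.leaf 0)))
(.node (.node (.leaf 0x95aae6c)
(.leaf 0x28c08d94))
(.node (.leaf 0x16982d0d)
(.leaf 0))))
(.node (.node (.node (.leaf 0x3b841a8)
(.leaf 0x24e46da1))
(.node (.leaf 0x14c090db)
(.leaf 0)))
(.node (.node (.leaf 0xbf4304b)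
(.leaf 0x2d3cd73c))
(.node (.leaf 0x1a5c90a6)
(.leaf 0)))))
(.node (.node (.node (.node (.leaf 0x1d6815e)
(.leaf 0x216ca67e))
(.node (.leaf 0x12ba4817)
(.leaf 0)))
(.node (.node (.leaf 0xa3ed461)
(.leaf 0x2aa05821))
(.node (.leaf 0x18266afc)
(.leaf 0))))
(.node (.node (.node (.leaf 176)
(.leaf 0x264ad17b))
(.node (.leaf 0x158093f1)
(.leaf 0)))
(.node (.node (.leaf 0xee86d74)
(.leaf 0x2e7c758e))
(.node (.leaf 0x1f1850b8)
(.leaf 0)))))))
(.node (.node (.node (.node (.node (.node (.leaf 0xc88404)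
(.leaf 0x1fa67410))
(.node (.leaf 0x10486560)
(.leaf 0x305255b7)))
(.node (.node (.leaf 0x8c423d6)
(.leaf 0x287087a0))
(.node (.leaf 0x16568c36)
(.leaf 0))))
(.node (.node (.node (.leaf 0x3146064)
(.leaf 0x247ece77))
(.node (.leaf 0x1498d23e)
(.leaf 0)))
(.node (.node (.leaf 0xb74aa89)
(.leaf 0x2cd477e9))
(.node (.leaf 0x19a2d27a)
(.leaf 0)))))
(.node (.node (.node (.node (.leaf 0x1946308)
(.leaf 0x20f29267))
(.node (.leaf 0x120e8be7)
(.leaf 0)))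
(.node (.node (.leaf 0x9fa65c8)
(.leaf 0x2a30d583))
(.node (.leaf 0x17b8cab8)
(.leaf 0))))
(.node (.node (.node (.leaf 0x66842f1)
(.leaf 0x260aca57))
(.node (.leaf 0x1548d1c1)
(.leaf 0)))
(.node (.node (.leaf 0xeb0a4dc)
(.leaf 0x2e005554))
(.node (.leaf 0x1d7ab2d2)
(.leaf 0))))))
(.node (.node (.node (.node (.node (.leaf 0x11cc0c2)
(.leaf 0x201c6f1f))
(.node (.leaf 0x1176c821)
(.leaf 0)))
(.node (.node (.leaf 0x982488a)
(.leaf 0x29a0565f))
(.node (.leaf 0x16f0b486)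
(.leaf 0))))
(.node (.node (.node (.leaf 0x4f68118)
(.leaf 0x25a433b7))
(.node (.leaf 0x14ecaa9c)
(.leaf 0)))
(.node (.node (.leaf 0xc92658b)
(.leaf 0x2d68786e))
(.node (.leaf 0x1b228f84)
(.leaf 0)))))
(.node (.node (.node (.node (.leaf 0x22082d1)
(.leaf 0x225eb30d))
(.node (.leaf 0x13dcc4d0)
(.leaf 0)))
(.node (.node (.leaf 0xa866f91)
(.leaf 0x2b3e3715))
(.node (.leaf 0x18aa45fd)
(.leaf 0))))
(.node (.node (.node (.leaf 0x78c8370)
(.leaf 0x26c67055))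
(.node (.leaf 0x15c88cb0)
(.leaf 0)))
(.node (.node (.leaf 0xf464e3c)
(.leaf 0x2fd4d710))
(.node (.leaf 0x1f424b32)
(.leaf 0))))))))))
(.node (.node (.node (.node (.node (.node (.node (.node (.node (.leaf 425991)
(.leaf 0x1f504ed1))
(.node (.leaf 0xf628d3f)
(.leaf 0x2fe27739)))
(.node (.node (.leaf 0x7ac8422)
(.leaf 0x272e9215))
(.node (.leaf 0x15e2ca9d)
(.leaf 0))))
(.node (.node (.node (.leaf 0x23ca04a)
(.leaf 0x22e0acda))
(.node (.leaf 0x13ee66c5)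
(.leaf 0)))
(.node (.node (.leaf 0xab28c34)
(.leaf 0x2bb47510))
(.node (.leaf 0x18c86a3b)
(.leaf 0)))))
(.node (.node (.node (.node (.leaf 0x130a15c)
(.leaf 0x204a8b53))
(.node (.leaf 0x11866f50)
(.leaf 0)))
(.node (.node (.leaf 0x996c4c7)
(.leaf 0x29b65730))
(.node (.leaf 0x1712936b)
(.leaf 0))))
(.node (.node (.node (.leaf 47)
(.leaf 0x25b2922e))
(.node (.leaf 0x14fcd450)
(.leaf 0)))
(.node (.node (.leaf 0xcdcb1dc)
(.leaf 0x2d7e96a7))
(.node (.leaf 0x1b84b079)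
(.leaf 0))))))
(.node (.node (.node (.node (.node (.leaf 0xd68163)
(.leaf 0x1fb8cf73))
(.node (.leaf 0x107ea565)
(.leaf 0x30ba57fb)))
(.node (.node (.leaf 0x9088b20)
(.leaf 0x288a5149))
(.node (.leaf 0x166c66ca)
(.leaf 0))))
(.node (.node (.node (.leaf 0x356c157)
(.leaf 0x2490c85a))
(.node (.leaf 0x14a84e0e)
(.leaf 0)))
(.node (.node (.leaf 0xbbc4512)
(.leaf 0x2cea96c0))
(.node (.leaf 0x19ce302a)
(.leaf 0)))))
(.node (.node (.node (.node (.leaf 0x1ac60cd)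
(.leaf 0x2116aed5))
(.node (.leaf 0x1250cc03)
(.leaf 0)))
(.node (.node (.leaf 0xa0c8cc6)
(.leaf 0x2a5074fa))
(.node (.leaf 0x17de47f8)
(.leaf 0))))
(.node (.node (.node (.leaf 0x68463ea)
(.leaf 0x262053ef))
(.node (.leaf 0x155c72a3)
(.leaf 0)))
(.node (.node (.leaf 0xec24c79)
(.leaf 0x2e24d5c3))
(.node (.leaf 0x1f04858f)
(.leaf 0)))))))
(.node (.node (.node (.node (.node (.node (.leaf 0x764015)
(.leaf 0x1f84aad9))
(.node (.leaf 0xfe2897a)
(.leaf 0x3022b803)))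
(.node (.node (.leaf 0x81e236e)
(.leaf 0x284e9129))
(.node (.leaf 0x161ccdd6)
(.leaf 0))))
(.node (.node (.node (.leaf 0x2be40d2)
(.leaf 0x2456ce79))
(.node (.leaf 0x14844648)
(.leaf 0)))
(.node (.node (.leaf 0xb2c873e)
(.leaf 0x2c507544))
(.node (.leaf 0x19442732)
(.leaf 0)))))
(.node (.node (.node (.node (.leaf 0x16c4197)
(.leaf 0x209c8614))
(.node (.leaf 0x11de85af)
(.leaf 0)))
(.node (.node (.leaf 0x9c63308)
(.leaf 0x29f2d62b))
(.node (.leaf 0x1766a607)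
(.leaf 0))))
(.node (.node (.node (.leaf 0x63a226f)
(.leaf 0x25e67487))
(.node (.leaf 0x152cb1c9)
(.leaf 0)))
(.node (.node (.leaf 0xe78a485)
(.leaf 0x2dba77a0))
(.node (.leaf 0x1c8e31f0)
(.leaf 0))))))
(.node (.node (.node (.node (.node (.leaf 0x10260d1)
(.leaf 0x1ff08b2e))
(.node (.leaf 0x11548af8)
(.leaf 0)))
(.node (.node (.leaf 0x968afa1)
(.leaf 0x2988d543))
(.node (.leaf 0x16bc6718)
(.leaf 0))))
(.node (.node (.node (.leaf 0x42241d5)
(.leaf 1263))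
(.node (.leaf 0x14ce6ba4)
(.leaf 0)))
(.node (.node (.leaf 0xc2092ae)
(.leaf 0x2d4cd6b5))
(.node (.leaf 0x1a92901a)
(.leaf 0)))))
(.node (.node (.node (.node (.leaf 0x1ee644e)
(.leaf 0x21a05038))
(.node (.leaf 0x130269b5)
(.leaf 0)))
(.node (.node (.leaf 0xa582e6a)
(.leaf 0x2aea76d1))
(.node (.leaf 0x185e7048)
(.leaf 0))))
(.node (.node (.node (.leaf 0x76ea432)
(.leaf 0x2668afe6))
(.node (.leaf 0x159847eb)
(.leaf 0)))
(.node (.node (.leaf 0xefa506f)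
(.leaf 0x2ee2b776))
(.node (.leaf 0x1f2a8ae9)
(.leaf 0))))))))
(.node (.node (.node (.node (.node (.node (.node (.leaf 0x462010)
(.leaf 0x1f68b18f))
(.node (.leaf 0xf8c2b5d)
(.leaf 0x2ffa77e7)))
(.node (.node (.leaf 0x7da633b)
(.leaf 0x283853cd))
(.node (.leaf 0x15fcad46)
(.leaf 0))))
(.node (.node (.node (.leaf 0x27c4119)
(.leaf 0x24444739))
(.node (.leaf 0x141c2989)
(.leaf 0)))
(.node (.node (.leaf 0xaec862f)
(.leaf 0x2c32753a))
(.node (.leaf 0x18fa8b4a)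
(.leaf 0)))))
(.node (.node (.node (.node (.leaf 0x14c6168)
(.leaf 0x2078cbd3))
(.node (.leaf 0x11ac2c56)
(.leaf 0)))
(.node (.node (.leaf 0x9aea8bb)
(.leaf 0x29ceb6f2))
(.node (.leaf 0x174447c3)
(.leaf 0))))
(.node (.node (.node (.leaf 0x620823a)
(.leaf 0x25ca4a00))
(.node (.leaf 0x15164760)
(.leaf 0)))
(.node (.node (.leaf 0xd5a6543)
(.leaf 0x2d9cb62d))
(.node (.leaf 0x1c0ac783)
(.leaf 0))))))
(.node (.node (.node (.node (.node (.leaf 0xeca0f1)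
(.leaf 0x1fd270d0))
(.node (.leaf 0x1140cce1)
(.leaf 0)))
(.node (.node (.leaf 0x94a6494)
(.leaf 0x28b093be))
(.node (.leaf 0x16922a7e)
(.leaf 0))))
(.node (.node (.node (.leaf 0x3a6a0b2)
(.leaf 0x24c8d0f6))
(.node (.leaf 0x14bc88ad)
(.leaf 0)))
(.node (.node (.leaf 0xbe8af81)
(.leaf 0x2d383548))
(.node (.leaf 0x1a48263a)
(.leaf 0)))))
(.node (.node (.node (.node (.leaf 0x1cc6179)
(.leaf 0x215466e9))
(.node (.leaf 0x12ac8f6e)
(.leaf 0)))
(.node (.node (.leaf 0xa386836)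
(.leaf 0x2a88d5cc))
(.node (.leaf 0x18146969)
(.leaf 0))))
(.node (.node (.node (.leaf 0x6cc40e5)
(.leaf 0x2642716c))
(.node (.leaf 0x157a7467)
(.leaf 0)))
(.node (.node (.leaf 0xee248b1)
(.leaf 0x2e6097ab))
(.node (.leaf 0x1f16ccd0)
(.leaf 0)))))))
(.node (.node (.node (.node (.node (.node (.leaf 0xc6c028)
(.leaf 0x1f9a7155))
(.node (.leaf 0x102cacbd)
(.leaf 0x3048b7a7)))
(.node (.node (.leaf 0x8bc8462)
(.leaf 0x286671c6))
(.node (.leaf 0x16508f66)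
(.leaf 0))))
(.node (.node (.node (.leaf 0x30841eb)
(.leaf 0x2472a866))
(.node (.leaf 0x149429f5)
(.leaf 0)))
(.node (.node (.leaf 0xb66c5b1)
(.leaf 0x2cd03533))
(.node (.leaf 0x19924736)
(.leaf 0)))))
(.node (.node (.node (.node (.leaf 0x186c40d)
(.leaf 0x20ea8ccd))
(.node (.leaf 0x12064669)
(.leaf 0)))
(.node (.node (.leaf 0x9eea4d9)
(.leaf 0x2a1ed643))
(.node (.leaf 0x17aaad07)
(.leaf 0))))
(.node (.node (.node (.leaf 0x65e40e3)
(.leaf 0x26027134))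
(.node (.leaf 0x15427375)
(.leaf 0)))
(.node (.node (.leaf 0xeaa27a1)
(.leaf 0x2dec7792))
(.node (.leaf 0x1d584c72)
(.leaf 0))))))
(.node (.node (.node (.node (.node (.leaf 0x1184051)
(.leaf 0x2012b221))
(.node (.leaf 0x1170a5d1)
(.leaf 0)))
(.node (.node (.leaf 0x97ccdd3)
(.leaf 0x299ab6d6))
(.node (.leaf 0x16e66619)
(.leaf 0))))
(.node (.node (.node (.leaf 0x4bc804d)
(.leaf 0x25a0b4a6))
(.node (.leaf 0x14e88acd)
(.leaf 0)))
(.node (.node (.leaf 0xc7c64d8)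
(.leaf 0x2d62b5e8))
(.node (.leaf 0x1b10b1af)
(.leaf 0)))))
(.node (.node (.node (.node (.leaf 0x216c260)
(.leaf 0x224a3202))
(.node (.leaf 0x13604d51)
(.leaf 0)))
(.node (.node (.leaf 0xa82c9e0)
(.leaf 0x2b2296e1))
(.node (.leaf 0x189e4fb6)
(.leaf 0))))
(.node (.node (.node (.leaf 0x78883ac)
(.leaf 0x26aed117))
(.node (.leaf 0x15bcaf39)
(.leaf 0)))
(.node (.node (.leaf 0xf364dfb)
(.leaf 5420))
(.node (.leaf 0x1f3ab40f)
(.leaf 0)))))))))
(.node (.node (.node (.node (.node (.node (.node (.node (.leaf 0x162112)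
(.leaf 0x1f5c8772))
(.node (.leaf 0xf74c764)
(.leaf 0x2fec3844)))
(.node (.node (.leaf 0x7c4c285)
(.leaf 1279))
(.node (.leaf 0x15ee93e1)
(.leaf 0))))
(.node (.node (.node (.leaf 0x258610d)
(.leaf 0x2372532a))
(.node (.leaf 0x1400a65d)
(.leaf 0)))
(.node (.node (.leaf 0xacc4962)
(.leaf 0x2c26b6fc))
(.node (.leaf 0x18e464ec)
(.leaf 0)))))
(.node (.node (.node (.node (.leaf 0x13ca19a)
(.leaf 0x20685006))
(.node (.leaf 0x11964f72)
(.leaf 0)))
(.node (.node (.leaf 0x9a46868)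
(.leaf 0x29c4d574))
(.node (.leaf 0x172cb37d)
(.leaf 0))))
(.node (.node (.node (.leaf 0x61821f1)
(.leaf 0x25ba73f7))
(.node (.leaf 0x1506add7)
(.leaf 0)))
(.node (.node (.leaf 0xd0ca520)
(.leaf 0x2d90d7c5))
(.node (.leaf 0x1bcc86a3)
(.leaf 0))))))
(.node (.node (.node (.node (.node (.leaf 0xde636c)
(.leaf 0x1fc6d462))
(.node (.leaf 0x10ee656b)
(.leaf 0x3128d883)))
(.node (.node (.leaf 0x918256e)
(.leaf 0x2894307b))
(.node (.leaf 0x16848cfa)
(.leaf 0))))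
(.node (.node (.node (.leaf 0x37c814f)
(.leaf 0x24aa8721))
(.node (.leaf 0x14b0d3b9)
(.leaf 0)))
(.node (.node (.leaf 0xbceabf3)
(.leaf 5376))
(.node (.leaf 0x1a0e4ca0)
(.leaf 0)))))
(.node (.node (.node (.node (.leaf 0x1bac1b6)
(.leaf 0x213cc556))
(.node (.leaf 0x127a45c5)
(.leaf 0)))
(.node (.node (.leaf 0xa206f23)
(.leaf 0x2a68d755))
(.node (.leaf 0x17f684f3)
(.leaf 0))))
(.node (.node (.node (.leaf 0x69e838a)
(.leaf 0x26309225))
(.node (.leaf 0x156c7161)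
(.leaf 0)))
(.node (.node (.leaf 0xed2a8c5)
(.leaf 0x2e429703))
(.node (.leaf 0x1f0c68da)
(.leaf 0)))))))
(.node (.node (.node (.node (.node (.node (.leaf 0x8cc167)
(.leaf 0x1f8eb2dc))
(.node (.leaf 0x100888af)
(.leaf 0x3030b7d2)))
(.node (.node (.leaf 519)
(.leaf 0x2858cad4))
(.node (.leaf 0x16348a6c)
(.leaf 0))))
(.node (.node (.node (.leaf 0x2e6a1c3)
(.leaf 0x246425f4))
(.node (.leaf 0x148c5084)
(.leaf 0)))
(.node (.node (.leaf 0xb504aa7)
(.leaf 0x2c6ab7b8))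
(.node (.leaf 0x1974b4a9)
(.leaf 0)))))
(.node (.node (.node (.node (.leaf 0x17ca07d)
(.leaf 0x20b24ed6))
(.node (.leaf 0x11f0d30f)
(.leaf 0)))
(.node (.node (.leaf 0x9d84f12)
(.leaf 0x2a0e7521))
(.node (.leaf 0x1786945a)
(.leaf 0))))
(.node (.node (.node (.leaf 0x646a39a)
(.leaf 0x25f2d0ea))
(.node (.leaf 0x15388ea3)
(.leaf 0)))
(.node (.node (.leaf 0xea0c7a2)
(.leaf 0x2dd25532))
(.node (.leaf 0x1ce065a1)
(.leaf 0))))))
(.node (.node (.node (.node (.node (.leaf 0x10c8073)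
(.leaf 0x20004b42))
(.node (.leaf 0x1160492e)
(.leaf 0)))
(.node (.node (.leaf 0x9742716)
(.leaf 0x29909677))
(.node (.leaf 0x16cecff3)
(.leaf 0))))
(.node (.node (.node (.leaf 0x4728110)
(.leaf 0x2598ada6))
(.node (.leaf 0x14de90c7)
(.leaf 0)))
(.node (.node (.leaf 0xc50b04d)
(.leaf 0x2d56d6d4))
(.node (.leaf 0x1ada9320)
(.leaf 0)))))
(.node (.node (.node (.node (.leaf 0x204628c)
(.leaf 0x21e8890c))
(.node (.leaf 0x13388d5d)
(.leaf 0)))
(.node (.node (.leaf 0xa6a46a9)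
(.leaf 0x2b02b57d))
(.node (.leaf 0x1888c78d)
(.leaf 0))))
(.node (.node (.node (.leaf 0x77a237b)
(.leaf 0x268e72d8))
(.node (.leaf 0x15b08927)
(.leaf 0)))
(.node (.node (.leaf 0xf1285c2)
(.leaf 0x2f247647))
(.node (.leaf 0x1f32b304)
(.leaf 0))))))))
(.node (.node (.node (.node (.node (.node (.node (.leaf 0x60813a)
(.leaf 0x1f7865c9))
(.node (.leaf 0xfae874d)
(.leaf 0x300eb7ee)))
(.node (.node (.leaf 0x7f02352)
(.leaf 0x28428a22))
(.node (.leaf 0x160e8712)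
(.leaf 0))))
(.node (.node (.node (.leaf 0x296a140)
(.leaf 0x244e6ece))
(.node (.leaf 0x1460a698)
(.leaf 0)))
(.node (.node (.leaf 0xb126b99)
(.leaf 0x2c3e763e))
(.node (.leaf 0x192871e3)
(.leaf 0)))))
(.node (.node (.node (.node (.leaf 0x15683f4)
(.leaf 0x208850cf))
(.node (.leaf 0x11cec89a)
(.leaf 0)))
(.node (.node (.leaf 0x9b84ccf)
(.leaf 0x29e45636))
(.node (.leaf 0x17544606)
(.leaf 0))))
(.node (.node (.node (.leaf 0x62a620c)
(.leaf 0x25da8a51))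
(.node (.leaf 0x15208616)
(.leaf 0)))
(.node (.node (.leaf 0xd9e8bdb)
(.leaf 0x2daab79a))
(.node (.leaf 0x1c5473d9)
(.leaf 0))))))
(.node (.node (.node (.node (.node (.leaf 0xf641f6)
(.leaf 0x1fde7210))
(.node (.leaf 0x114aa80d)
(.leaf 0)))
(.node (.node (.leaf 0x960c7c9)
(.leaf 0x28c89490))
(.node (.leaf 0x16a82f4c)
(.leaf 0))))
(.node (.node (.node (.leaf 0x3eca353)
(.leaf 0x24fc4758))
(.node (.leaf 0x14c68863)
(.leaf 0)))
(.node (.node (.leaf 0xc04a76f)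
(.leaf 0x2d4235c1))
(.node (.leaf 0x1a6c708b)
(.leaf 0)))))
(.node (.node (.node (.node (.leaf 0x1dc62a9)
(.leaf 0x2188a97f))
(.node (.leaf 0x12d286f7)
(.leaf 0)))
(.node (.node (.leaf 0xa4664eb)
(.leaf 0x2ac256d3))
(.node (.leaf 0x183ecc39)
(.leaf 0))))
(.node (.node (.node (.leaf 0x766c1cf)
(.leaf 0x2656495e))
(.node (.leaf 0x15866c9b)
(.leaf 0)))
(.node (.node (.leaf 0xeeec8b8)
(.leaf 0x2e96d7dc))
(.node (.leaf 0x1f1e2620)
(.leaf 0)))))))
(.node (.node (.node (.node (.node (.node (.leaf 0xcea165)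
(.leaf 0x1faeaa0b))
(.node (.leaf 0x1058aa8c)
(.leaf 0x3066586c)))
(.node (.node (.leaf 0x8d0a217)
(.leaf 0x287a4aa5))
(.node (.leaf 0x165ccc08)
(.leaf 0))))
(.node (.node (.node (.leaf 0x3208421)
(.leaf 0x2482ccab))
(.node (.leaf 0x149c91e1)
(.leaf 0)))
(.node (.node (.leaf 0xb928983)
(.leaf 0x2cda374f))
(.node (.leaf 0x19b473a7)
(.leaf 0)))))
(.node (.node (.node (.node (.leaf 0x19a637a)
(.leaf 0x20fca741))
(.node (.leaf 0x12268971)
(.leaf 0)))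
(.node (.node (.leaf 0xa006e99)
(.leaf 0x2a3ed5e0))
(.node (.leaf 0x17c6ac95)
(.leaf 0))))
(.node (.node (.node (.leaf 0x670a22e)
(.leaf 0x260eb1ac))
(.node (.leaf 0x1550ac58)
(.leaf 0)))
(.node (.node (.leaf 0xeb6c576)
(.leaf 0x2e0697ad))
(.node (.leaf 0x1e1c3316)
(.leaf 0))))))
(.node (.node (.node (.node (.node (.leaf 0x122a341)
(.leaf 0x202e730b))
(.node (.leaf 0x117c938a)
(.leaf 0)))
(.node (.node (.leaf 0x98a4917)
(.leaf 0x29a8958c))
(.node (.leaf 0x16fa2959)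
(.leaf 0))))
(.node (.node (.node (.leaf 0x5368409)
(.leaf 0x25aa464d))
(.node (.leaf 0x14f2abde)
(.leaf 0)))
(.node (.node (.leaf 0xca8671d)
(.leaf 0x2d6e5773))
(.node (.leaf 0x1b4e72cb)
(.leaf 0)))))
(.node (.node (.node (.node (.leaf 0x22ac0ab)
(.leaf 0x227c93fc))
(.node (.leaf 0x13e04abb)
(.leaf 0)))
(.node (.node (.leaf 0xa928715)
(.leaf 0x2b547520))
(.node (.leaf 0x18ae7146)
(.leaf 0))))
(.node (.node (.node (.leaf 0x7928299)
(.leaf 0x26dc93d8))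
(.node (.leaf 0x15cead1b)
(.leaf 0)))
(.node (.node (.leaf 0xf4eb445)
(.leaf 0x2fd8774a))
(.node (.leaf 0x1f468987)
(.leaf 0)))))))))))
(.node (.node (.node (.node (.node (.node (.node (.node (.node (.node (.leaf 172096)
(.leaf 0x1f4ed124))
(.node (.leaf 0xf5c4a7b)
(.leaf 0x2fdeb889)))
(.node (.node (.leaf 0x7a66477)
(.leaf 0x2704726d))
(.node (.leaf 0x15da9419)
(.leaf 0))))
(.node (.node (.node (.leaf 0x238c1b8)
(.leaf 0x22964ab2))
(.node (.leaf 0x13ea9268)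
(.leaf 0)))
(.node (.node (.leaf 0xaa63309)
(.leaf 0x2b98b4ff))
(.node (.leaf 0x18c271f3)
(.leaf 0)))))
(.node (.node (.node (.node (.leaf 0x12c62db)
(.leaf 0x203e9361))
(.node (.leaf 0x11862743)
(.leaf 0)))
(.node (.node (.leaf 0x99272b3)
(.leaf 0x29b4970b))
(.node (.leaf 0x170c4b3f)
(.leaf 0))))
(.node (.node (.node (.leaf 0x606205b)
(.leaf 0x25b06a56))
(.node (.leaf 0x14fa7415)
(.leaf 0)))
(.node (.node (.leaf 0xcd6c4e1)
(.leaf 0x2d7ab7a2))
(.node (.leaf 0x1b7cacf8)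
(.leaf 0))))))
(.node (.node (.node (.node (.node (.leaf 0xd48420)
(.leaf 0x1fb66b87))
(.node (.leaf 0x1070a526)
(.leaf 0x30a4d7d6)))
(.node (.node (.leaf 0x906a75d)
(.leaf 0x28846aca))
(.node (.leaf 0x166848f6)
(.leaf 0))))
(.node (.node (.node (.leaf 0x34042e3)
(.leaf 0x248caf56))
(.node (.leaf 0x14a44a5e)
(.leaf 0)))
(.node (.node (.leaf 0xba8902e)
(.leaf 0x2ce8b824))
(.node (.leaf 0x19c88edc)
(.leaf 0)))))
(.node (.node (.node (.node (.leaf 0x1a8a321)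
(.leaf 0x2114b195))
(.node (.leaf 0x12468a87)
(.leaf 0)))
(.node (.node (.leaf 0xa06cee7)
(.leaf 0x2a487650))
(.node (.leaf 0x17dab337)
(.leaf 0))))
(.node (.node (.node (.leaf 0x680232a)
(.leaf 0x261ecff5))
(.node (.leaf 0x155a4725)
(.leaf 0)))
(.node (.node (.leaf 0xebe8c94)
(.leaf 0x2e20763c))
(.node (.leaf 0x1f02c6fa)
(.leaf 0)))))))
(.node (.node (.node (.node (.node (.node (.leaf 0x74c00f)
(.leaf 0x1f806e6d))
(.node (.leaf 0xfdea96d)
(.leaf 0x30207756)))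
(.node (.node (.leaf 0x80e8384)
(.leaf 0x284a71b4))
(.node (.leaf 0x1618d3dc)
(.leaf 0))))
(.node (.node (.node (.leaf 0x2b6a1cc)
(.leaf 0x2456a689))
(.node (.leaf 0x14826981)
(.leaf 0)))
(.node (.node (.leaf 0xb24c97c)
(.leaf 0x2c4a55e4))
(.node (.leaf 0x193acd3a)
(.leaf 0)))))
(.node (.node (.node (.node (.leaf 0x1648335)
(.leaf 0x2098cd73))
(.node (.leaf 0x11d8b0fe)
(.leaf 0)))
(.node (.node (.leaf 0x9c6a5d4)
(.leaf 0x29ee35a2))
(.node (.leaf 0x1762c7e7)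
(.leaf 0))))
(.node (.node (.node (.leaf 0x636a200)
(.leaf 0x25e25283))
(.node (.leaf 0x1528cf6f)
(.leaf 0)))
(.node (.node (.leaf 0xe262737)
(.leaf 0x2db63729))
(.node (.leaf 0x1c8c8901)
(.leaf 0))))))
(.node (.node (.node (.node (.node (.leaf 0xfec3b0)
(.leaf 0x1fee2986))
(.node (.leaf 0x115464bc)
(.leaf 0)))
(.node (.node (.leaf 0x9666e38)
(.leaf 0x2984956c))
(.node (.leaf 0x16b69366)
(.leaf 0))))
(.node (.node (.node (.leaf 0x4108402)
(.leaf 0x252a7446))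
(.node (.leaf 0x14cc4a19)
(.leaf 0)))
(.node (.node (.leaf 0xc1cac1a)
(.leaf 0x2d483887))
(.node (.leaf 0x1a8c4db7)
(.leaf 0)))))
(.node (.node (.node (.node (.leaf 0x1ecc1a3)
(.leaf 0x2198934b))
(.node (.leaf 0x12faa5b4)
(.leaf 0)))
(.node (.node (.leaf 0xa54a9d5)
(.leaf 0x2adad5e7))
(.node (.leaf 0x18502fd9)
(.leaf 0))))
(.node (.node (.node (.leaf 0x76c635c)
(.leaf 0x2662ab26))
(.node (.leaf 0x1594935b)
(.leaf 0)))
(.node (.node (.leaf 0xef8ccde)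
(.leaf 0x2ecad693))
(.node (.leaf 0x1f24b121)
(.leaf 0))))))))
(.node (.node (.node (.node (.node (.node (.node (.leaf 0x3621c2)
(.leaf 0x1f64adf5))
(.node (.leaf 0xf88c925)
(.leaf 0x2ff856ff)))
(.node (.node (.leaf 0x7d6626a)
(.leaf 0x283692ca))
(.node (.leaf 0x15f8afb0)
(.leaf 0))))
(.node (.node (.node (.leaf 0x26e4055)
(.leaf 0x24428c6d))
(.node (.leaf 0x141227bb)
(.leaf 0)))
(.node (.node (.leaf 0xae48cdd)
(.leaf 0x2c2eb657))
(.node (.leaf 0x18f6aa7c)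
(.leaf 0)))))
(.node (.node (.node (.node (.leaf 0x1444327)
(.leaf 0x20766abc))
(.node (.leaf 0x11aa9310)
(.leaf 0)))
(.node (.node (.leaf 0x9ac85e1)
(.leaf 0x29ccd5b0))
(.node (.leaf 0x173ecaab)
(.leaf 0))))
(.node (.node (.node (.leaf 0x61e43ad)
(.leaf 0x25c4b193))
(.node (.leaf 0x151273e5)
(.leaf 0)))
(.node (.node (.leaf 0xd1ed1ea)
(.leaf 0x2d985750))
(.node (.leaf 0x1bfa861c)
(.leaf 0))))))
(.node (.node (.node (.node (.node (.leaf 0xe643bf)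
(.leaf 0x1fd06cc1))
(.node (.leaf 0x113e6d60)
(.leaf 0)))
(.node (.node (.leaf 0x936a4c9)
(.leaf 0x28a431c5))
(.node (.leaf 0x168eb24a)
(.leaf 0))))
(.node (.node (.node (.leaf 0x39880ad)
(.leaf 0x24be93c6))
(.node (.leaf 0x14baa8ff)
(.leaf 0)))
(.node (.node (.leaf 0xbe06a04)
(.leaf 0x2d369649))
(.node (.leaf 0x1a365418)
(.leaf 0)))))
(.node (.node (.node (.node (.leaf 0x1c6a2cc)
(.leaf 0x214a3378))
(.node (.leaf 0x129a4bff)
(.leaf 0)))
(.node (.node (.leaf 0xa322661)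
(.leaf 0x2a807640))
(.node (.leaf 0x180eae97)
(.leaf 0))))
(.node (.node (.node (.leaf 0x6b6c130)
(.leaf 0x263ccd24))
(.node (.leaf 0x1576afee)
(.leaf 0)))
(.node (.node (.leaf 0xee0cd8f)
(.leaf 0x2e5cd832))
(.node (.leaf 0x1f14c6fd)
(.leaf 0)))))))
(.node (.node (.node (.node (.node (.node (.leaf 0xc4c085)
(.leaf 0x1f9846e8))
(.node (.leaf 0x101ca5aa)
(.leaf 0x304095dd)))
(.node (.node (.leaf 0x8baa3b4)
(.leaf 0x2864abc9))
(.node (.leaf 0x164eac7d)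
(.leaf 0))))
(.node (.node (.node (.leaf 0x2fa42b8)
(.leaf 0x246c8b27))
(.node (.leaf 0x14928eda)
(.leaf 0)))
(.node (.node (.leaf 0xb6049a4)
(.leaf 0x2cc0b4e5))
(.node (.leaf 0x198c4d79)
(.leaf 0)))))
(.node (.node (.node (.node (.leaf 0x184a027)
(.leaf 0x20d08ef8))
(.node (.leaf 0x1200aa16)
(.leaf 0)))
(.node (.node (.leaf 0x9e889a5)
(.leaf 0x2a1a555c))
(.node (.leaf 0x17a09160)
(.leaf 0))))
(.node (.node (.node (.leaf 0x65aa21b)
(.leaf 0x25fc918c))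
(.node (.leaf 0x1540ab73)
(.leaf 0)))
(.node (.node (.leaf 0xea6534a)
(.leaf 0x2de6b645))
(.node (.leaf 0x1d2272e0)
(.leaf 0))))))
(.node (.node (.node (.node (.node (.leaf 0x116211a)
(.leaf 0x200c92ed))
(.node (.leaf 0x116c4799)
(.leaf 0)))
(.node (.node (.leaf 0x97a6ea1)
(.leaf 0x2998d5a0))
(.node (.leaf 0x16dc937a)
(.leaf 0))))
(.node (.node (.node (.leaf 0x4aa81e3)
(.leaf 0x259e747c))
(.node (.leaf 0x14e43425)
(.leaf 0)))
(.node (.node (.leaf 0xc744811)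
(.leaf 0x2d60b641))
(.node (.leaf 0x1b06899c)
(.leaf 0)))))
(.node (.node (.node (.node (.leaf 0x210a3e3)
(.leaf 0x222a7401))
(.node (.leaf 0x1356af21)
(.leaf 0)))
(.node (.node (.leaf 0xa7ecfdc)
(.leaf 0x2b1c74e0))
(.node (.leaf 0x18963185)
(.leaf 0))))
(.node (.node (.node (.leaf 0x7846481)
(.leaf 0x26a6d1f6))
(.node (.leaf 0x15b8d0f5)
(.leaf 0)))
(.node (.node (.leaf 0xf30c5be)
(.leaf 0x2f70d70d))
(.node (.leaf 0x1f38d352)
(.leaf 0)))))))))
(.node (.node (.node (.node (.node (.node (.node (.node (.leaf 0x12a189)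
(.leaf 0x1f5a8e10))
(.node (.leaf 0xf708cf4)
(.leaf 0x2fec55b6)))
(.node (.node (.leaf 0x7ba834d)
(.leaf 0x2766d35d))
(.node (.leaf 0x15eaac6e)
(.leaf 0))))
(.node (.node (.node (.leaf 0x252827b)
(.leaf 0x23565424))
(.node (.leaf 0x13f8901b)
(.leaf 0)))
(.node (.node (.leaf 0xac888d4)
(.leaf 0x2c247546))
(.node (.leaf 0x18de66ad)
(.leaf 0)))))
(.node (.node (.node (.node (.leaf 0x138a170)
(.leaf 0x20648877))
(.node (.leaf 0x1192caf9)
(.leaf 0)))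
(.node (.node (.leaf 0x9a04dc4)
(.leaf 0x29c094c5))
(.node (.leaf 0x1726b341)
(.leaf 0))))
(.node (.node (.node (.leaf 0x616a14a)
(.leaf 0x25b85137))
(.node (.leaf 0x15027131)
(.leaf 0)))
(.node (.node (.leaf 0xd06a695)
(.leaf 0x2d8cb892))
(.node (.leaf 0x1bbc50a7)
(.leaf 0))))))
(.node (.node (.node (.node (.node (.leaf 0xde406a)
(.leaf 0x1fc4c9e9))
(.node (.leaf 0x10d665c3)
(.leaf 0x3124788c)))
(.node (.node (.leaf 0x9164636)
(.leaf 0x2890d4b8))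
(.node (.leaf 0x167a5284)
(.leaf 0))))
(.node (.node (.node (.leaf 0x3724388)
(.leaf 0x24a2c626))
(.node (.leaf 0x14aeb1d3)
(.leaf 0)))
(.node (.node (.leaf 0xbccc880)
(.leaf 0x2d26356d))
(.node (.leaf 0x19f6cc75)
(.leaf 0)))))
(.node (.node (.node (.node (.leaf 0x1b643a0)
(.leaf 0x21342bee))
(.node (.leaf 0x1272a610)
(.leaf 0)))
(.node (.node (.leaf 0xa1a4ef3)
(.leaf 0x2a60b7d5))
(.node (.leaf 0x17f0912f)
(.leaf 0))))
(.node (.node (.node (.leaf 0x696a46a)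
(.leaf 0x262cb192))
(.node (.leaf 0x156aac5e)
(.leaf 0)))
(.node (.node (.leaf 0xece2665)
(.leaf 0x2e3c56bc))
(.node (.leaf 0x1f08b180)
(.leaf 0)))))))
(.node (.node (.node (.node (.node (.node (.leaf 0x8860a2)
(.leaf 0x1f8c6eb0))
(.node (.leaf 0xffa6e76)
(.leaf 0x302e96d0)))
(.node (.node (.leaf 0x85682ff)
(.leaf 0x285647a4))
(.node (.leaf 0x1624b223)
(.leaf 0))))
(.node (.node (.node (.leaf 0x2d6a082)
(.leaf 0x2462aaf6))
(.node (.leaf 0x148a910f)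
(.leaf 0)))
(.node (.node (.leaf 0xb4664bd)
(.leaf 0x2c64d585))
(.node (.leaf 0x196c6fb2)
(.leaf 0)))))
(.node (.node (.node (.node (.leaf 0x178a175)
(.leaf 0x20ae4dac))
(.node (.leaf 0x11ec8990)
(.leaf 0)))
(.node (.node (.leaf 0x9d49314)
(.leaf 0x2a06766e))
(.node (.leaf 0x17724c4a)
(.leaf 0))))
(.node (.node (.node (.leaf 0x642844a)
(.leaf 0x25f0328b))
(.node (.leaf 0x1536d05f)
(.leaf 0)))
(.node (.node (.leaf 0xe9e6ae2)
(.leaf 0x2dca362a))
(.node (.leaf 0x1cce4d54)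
(.leaf 0))))))
(.node (.node (.node (.node (.node (.leaf 0x1084329)
(.leaf 0x1ffe499e))
(.node (.leaf 0x115c4e8b)
(.leaf 0)))
(.node (.node (.leaf 0x970ab4c)
(.leaf 0x298eb60f))
(.node (.leaf 0x16ca88c7)
(.leaf 0))))
(.node (.node (.node (.leaf 0x44482fb)
(.leaf 0x25966a59))
(.node (.leaf 0x14da6fe2)
(.leaf 0)))
(.node (.node (.leaf 0xc486ee4)
(.leaf 0x2d525741))
(.node (.leaf 0x1aaaa9be)
(.leaf 0)))))
(.node (.node (.node (.node (.leaf 0x200201f)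
(.leaf 0x21d8b176))
(.node (.leaf 0x131ad387)
(.leaf 0)))
(.node (.node (.leaf 0xa66c638)
(.leaf 0x2afa76e7))
(.node (.leaf 0x18845388)
(.leaf 0))))
(.node (.node (.node (.leaf 0x77823a7)
(.leaf 0x267ed3c2))
(.node (.leaf 0x15aa8ad7)
(.leaf 0)))
(.node (.node (.leaf 0xf0ec973)
(.leaf 0x2efe97c1))
(.node (.leaf 0x1f30b2c8)
(.leaf 0))))))))
(.node (.node (.node (.node (.node (.node (.node (.leaf 0x5c8060)
(.leaf 0x1f74ad6f))
(.node (.leaf 0xfa8c823)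
(.leaf 0x300a3880)))
(.node (.node (.leaf 0x7ec6441)
(.leaf 0x2840b0cc))
(.node (.leaf 0x160a470d)
(.leaf 0))))
(.node (.node (.node (.leaf 0x29260db)
(.leaf 0x244ca7c8))
(.node (.leaf 0x144e507e)
(.leaf 0)))
(.node (.node (.leaf 0xb068f74)
(.leaf 0x2c3a3542))
(.node (.leaf 0x191aae22)
(.leaf 0)))))
(.node (.node (.node (.node (.leaf 0x154a313)
(.leaf 0x2084aa47))
(.node (.leaf 0x11c87234)
(.leaf 0)))
(.node (.node (.leaf 0x9b6740e)
(.leaf 0x29e0778c))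
(.node (.leaf 0x1750d035)
(.leaf 0))))
(.node (.node (.node (.leaf 0x62683a4)
(.leaf 0x25d6b12d))
(.node (.leaf 0x151caff0)
(.leaf 0)))
(.node (.node (.leaf 0xd8a4693)
(.leaf 0x2da8d744))
(.node (.leaf 0x1c2ea761)
(.leaf 0))))))
(.node (.node (.node (.node (.node (.leaf 0xf261f8)
(.leaf 0x1fda327c))
(.node (.leaf 0x1148a6c2)
(.leaf 0)))
(.node (.node (.leaf 0x95ec871)
(.leaf 0x28c62bc8))
(.node (.leaf 0x16a28dfe)
(.leaf 0))))
(.node (.node (.node (.leaf 0x3e262ef)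
(.leaf 0x24ee46d5))
(.node (.leaf 0x14c4694e)
(.leaf 0)))
(.node (.node (.leaf 0xbfe8f2f)
(.leaf 0x2d3e7839))
(.node (.leaf 0x1a668656)
(.leaf 0)))))
(.node (.node (.node (.node (.leaf 0x1d8410c)
(.leaf 0x21822a2e))
(.node (.leaf 0x12c68667)
(.leaf 0)))
(.node (.node (.leaf 0xa428f18)
(.leaf 0x2abab50b))
(.node (.leaf 0x182a935e)
(.leaf 0))))
(.node (.node (.node (.leaf 0x7628203)
(.leaf 0x264ed1bc))
(.node (.leaf 0x15848d34)
(.leaf 0)))
(.node (.node (.leaf 0xeeaa7c4)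
(.leaf 0x2e88d85b))
(.node (.leaf 0x1f1c2d6b)
(.leaf 0)))))))
(.node (.node (.node (.node (.node (.node (.leaf 0xccc13b)
(.leaf 0x1faa68f3))
(.node (.leaf 0x10526545)
(.leaf 0x305e5600)))
(.node (.node (.leaf 0x8ca63c8)
(.leaf 0x287647d9))
(.node (.leaf 0x1658c6b2)
(.leaf 0))))
(.node (.node (.node (.leaf 0x31a834f)
(.leaf 0x24824522))
(.node (.leaf 0x149ca71b)
(.leaf 0)))
(.node (.node (.leaf 0xb848812)
(.leaf 0x2cd8b51e))
(.node (.leaf 0x19a890be)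
(.leaf 0)))))
(.node (.node (.node (.node (.leaf 0x19880ff)
(.leaf 0x20f6cd99))
(.node (.leaf 0x121e8db0)
(.leaf 0)))
(.node (.node (.leaf 0x9fc89c0)
(.leaf 0x2a389760))
(.node (.leaf 0x17c2a6f4)
(.leaf 0))))
(.node (.node (.node (.leaf 0x66ec20d)
(.leaf 0x260c73bf))
(.node (.leaf 0x154a720a)
(.leaf 0)))
(.node (.node (.leaf 0xeb465d5)
(.leaf 0x2e02d7b1))
(.node (.leaf 0x1dfa4e9c)
(.leaf 0))))))
(.node (.node (.node (.node (.node (.leaf 0x12040c4)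
(.leaf 0x2026b0a4))
(.node (.leaf 0x117aa690)
(.leaf 0)))
(.node (.node (.leaf 0x98665bf)
(.leaf 0x29a4557f))
(.node (.leaf 0x16f4b45b)
(.leaf 0))))
(.node (.node (.node (.leaf 0x51c60bb)
(.leaf 0x25a6713d))
(.node (.leaf 0x14f0c71c)
(.leaf 0)))
(.node (.node (.leaf 0xc9aa573)
(.leaf 0x2d6a3819))
(.node (.leaf 0x1b304eb2)
(.leaf 0)))))
(.node (.node (.node (.node (.leaf 0x2264369)
(.leaf 0x2264b11b))
(.node (.leaf 0x13deaef7)
(.leaf 0)))
(.node (.node (.leaf 0xa8a28c8)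
(.leaf 0x2b469577))
(.node (.leaf 0x18aa9479)
(.leaf 0))))
(.node (.node (.node (.leaf 0x78ea46f)
(.leaf 0x26d070c1))
(.node (.leaf 0x15ca4fde)
(.leaf 0)))
(.node (.node (.leaf 0xf4c693a)
(.leaf 0x2fd696dd))
(.node (.leaf 0x1f444dbc)
(.leaf 0))))))))))
(.node (.node (.node (.node (.node (.node (.node (.node (.node (.leaf 679940)
(.leaf 0x1f54cf96))
(.node (.leaf 0xf6ac738)
(.leaf 0x2fe6b75f)))
(.node (.node (.leaf 0x7ae2269)
(.leaf 0x273c8bbb))
(.node (.leaf 0x15e47133)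
(.leaf 0))))
(.node (.node (.node (.leaf 0x240c442)
(.leaf 0x22fead2f))
(.node (.leaf 0x13f2868f)
(.leaf 0)))
(.node (.node (.leaf 0xab452b4)
(.leaf 0x2bd056f3))
(.node (.leaf 0x18d46f70)
(.leaf 0)))))
(.node (.node (.node (.node (.leaf 0x132231a)
(.leaf 0x20526833))
(.node (.leaf 0x118ac570)
(.leaf 0)))
(.node (.node (.leaf 0x998a513)
(.leaf 0x29ba34f0))
(.node (.leaf 0x17166c81)
(.leaf 0))))
(.node (.node (.node (.leaf 0x61280e8)
(.leaf 0x25b494bf))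
(.node (.leaf 0x14fe916d)
(.leaf 0)))
(.node (.node (.leaf 0xcf62bfa)
(.leaf 0x2d807786))
(.node (.leaf 0x1b9aa9d8)
(.leaf 0))))))
(.node (.node (.node (.node (.node (.leaf 0xd8c340)
(.leaf 0x1fba8ffa))
(.node (.leaf 0x1094c8e6)
(.leaf 0x30c2b68a)))
(.node (.node (.leaf 0x90c4930)
(.leaf 0x288c547d))
(.node (.leaf 0x166ed2b0)
(.leaf 0))))
(.node (.node (.node (.leaf 0x35c829a)
(.leaf 0x24982537))
(.node (.leaf 0x14aad16e)
(.leaf 0)))
(.node (.node (.leaf 0xbc0ac05)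
(.leaf 0x2d003579))
(.node (.leaf 0x19de8957)
(.leaf 0)))))
(.node (.node (.node (.node (.leaf 0x1ac43d0)
(.leaf 0x211e4cdb))
(.node (.leaf 0x12548e48)
(.leaf 0)))
(.node (.node (.leaf 0xa12a847)
(.leaf 0x2a529635))
(.node (.leaf 0x17e68db3)
(.leaf 0))))
(.node (.node (.node (.leaf 0x68a4147)
(.leaf 0x2624d263))
(.node (.leaf 0x15608add)
(.leaf 0)))
(.node (.node (.leaf 0xec688ea)
(.leaf 0x2e2ed841))
(.node (.leaf 0x1f06c52c)
(.leaf 0)))))))
(.node (.node (.node (.node (.node (.node (.leaf 0x782152)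
(.leaf 0x1f8692ac))
(.node (.leaf 0xfe68f88)
(.leaf 0x302696e5)))
(.node (.node (.leaf 0x83ec47a)
(.leaf 0x2852cd2a))
(.node (.leaf 0x1620ca6a)
(.leaf 0))))
(.node (.node (.node (.leaf 0x2c060d3)
(.leaf 0x245ac826))
(.node (.leaf 0x1486ca46)
(.leaf 0)))
(.node (.node (.leaf 0xb32cc99)
(.leaf 0x2c5254e6))
(.node (.leaf 0x194a925c)
(.leaf 0)))))
(.node (.node (.node (.node (.leaf 0x16e8223)
(.leaf 0x209cd2bb))
(.node (.leaf 0x11e27412)
(.leaf 0)))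
(.node (.node (.leaf 0x9ca871e)
(.leaf 0x29f8b4dc))
(.node (.leaf 0x176c323f)
(.leaf 0))))
(.node (.node (.node (.leaf 0x63cc3b3)
(.leaf 0x25e83232))
(.node (.leaf 0x152e8abd)
(.leaf 0)))
(.node (.node (.leaf 1160)
(.leaf 0x2dc0d613))
(.node (.leaf 0x1c94b077)
(.leaf 0))))))
(.node (.node (.node (.node (.node (.leaf 0x1062035)
(.leaf 0x1ff629c9))
(.node (.leaf 0x11588caf)
(.leaf 0)))
(.node (.node (.leaf 0x96caf9f)
(.leaf 0x29885658))
(.node (.leaf 0x16c28f5c)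
(.leaf 0))))
(.node (.node (.node (.leaf 0x42862e4)
(.leaf 0x25928d5f))
(.node (.leaf 0x14d25249)
(.leaf 0)))
(.node (.node (.leaf 0xc24a797)
(.leaf 0x2d4c581b))
(.node (.leaf 0x1a96d1b6)
(.leaf 0)))))
(.node (.node (.node (.node (.leaf 0x1f481d2)
(.leaf 0x21b869e4))
(.node (.leaf 0x130a64cd)
(.leaf 0)))
(.node (.node (.leaf 0xa6048dc)
(.leaf 0x2aee35e2))
(.node (.leaf 0x186a86f1)
(.leaf 0))))
(.node (.node (.node (.leaf 0x7704467)
(.leaf 0x266c9003))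
(.node (.leaf 0x159ca792)
(.leaf 0)))
(.node (.node (.leaf 0xf008bda)
(.leaf 0x2eec7547))
(.node (.leaf 0x1f2ad22a)
(.leaf 0))))))))
(.node (.node (.node (.node (.node (.node (.node (.leaf 0x54a1c9)
(.leaf 0x1f6c2d49))
(.node (.leaf 0xf988c6b)
(.leaf 0x30007672)))
(.node (.node (.leaf 0x7e0833c)
(.leaf 0x283c463d))
(.node (.leaf 0x15fed330)
(.leaf 0))))
(.node (.node (.node (.leaf 0x28242c6)
(.leaf 0x24468824))
(.node (.leaf 0x14248508)
(.leaf 0)))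
(.node (.node (.leaf 0xaf452c0)
(.leaf 0x2c32d6a1))
(.node (.leaf 0x18fc6f60)
(.leaf 0)))))
(.node (.node (.node (.node (.leaf 0x14cc428)
(.leaf 0x207a6a44))
(.node (.leaf 0x11b0cbce)
(.leaf 0)))
(.node (.node (.leaf 0x9b284c6)
(.leaf 0x29d236cc))
(.node (.leaf 0x174673b0)
(.leaf 0))))
(.node (.node (.node (.leaf 0x624c18c)
(.leaf 0x25cc5470))
(.node (.leaf 0x15169325)
(.leaf 0)))
(.node (.node (.leaf 0xd626534)
(.leaf 0x2da07614))
(.node (.leaf 0x1c142be9)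
(.leaf 0))))))
(.node (.node (.node (.node (.node (.leaf 0xee62dd)
(.leaf 0x1fd68850))
(.node (.leaf 0x11427273)
(.leaf 0)))
(.node (.node (.leaf 1156)
(.leaf 0x28ba898e))
(.node (.leaf 0x16962dfa)
(.leaf 0))))
(.node (.node (.node (.leaf 0x3b4a1fb)
(.leaf 0x24e0a6c6))
(.node (.leaf 0x14be6822)
(.leaf 0)))
(.node (.node (.leaf 0xbee277b)
(.leaf 0x2d3857d3))
(.node (.leaf 0x1a508650)
(.leaf 0)))))
(.node (.node (.node (.node (.leaf 0x1d2c04f)
(.leaf 0x2162521c))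
(.node (.leaf 0x12b46d4b)
(.leaf 0)))
(.node (.node (.leaf 0xa3cb390)
(.leaf 0x2a90d6f5))
(.node (.leaf 0x181c8dc7)
(.leaf 0))))
(.node (.node (.node (.leaf 0x6f26252)
(.leaf 0x2644d183))
(.node (.leaf 0x157e8903)
(.leaf 0)))
(.node (.node (.leaf 0xee4a53f)
(.leaf 0x2e70b65a))
(.node (.leaf 0x1f1829a3)
(.leaf 0)))))))
(.node (.node (.node (.node (.node (.node (.leaf 0xc6a2ed)
(.leaf 0x1fa09362))
(.node (.leaf 0x10386769)
(.leaf 0x304e55d0)))
(.node (.node (.leaf 0x8c0646c)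
(.leaf 0x286c7241))
(.node (.leaf 0x1652cb1f)
(.leaf 0))))
(.node (.node (.node (.leaf 0x30e814c)
(.leaf 0x247a48a0))
(.node (.leaf 0x1496cddb)
(.leaf 0)))
(.node (.node (.leaf 0xb70c78f)
(.leaf 0x2cd2b6fa))
(.node (.leaf 0x199ecd22)
(.leaf 0)))))
(.node (.node (.node (.node (.leaf 0x18a6121)
(.leaf 0x20f04d86))
(.node (.leaf 0x120a4627)
(.leaf 0)))
(.node (.node (.leaf 0x9f28e47)
(.leaf 0x2a22b690))
(.node (.leaf 0x17b4b3e4)
(.leaf 0))))
(.node (.node (.node (.leaf 0x666a199)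
(.leaf 0x2606b030))
(.node (.leaf 0x1546b053)
(.leaf 0)))
(.node (.node (.leaf 0xeac32af)
(.leaf 0x2df2784d))
(.node (.leaf 0x1d608f7f)
(.leaf 0))))))
(.node (.node (.node (.node (.node (.leaf 0x11a60d9)
(.leaf 0x20182960))
(.node (.leaf 0x1172ca79)
(.leaf 0)))
(.node (.node (.leaf 0x98086f5)
(.leaf 0x299ed60b))
(.node (.leaf 0x16ec6f64)
(.leaf 0))))
(.node (.node (.node (.leaf 0x4d28345)
(.leaf 0x25a2b1aa))
(.node (.leaf 0x14ea2c5c)
(.leaf 0)))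
(.node (.node (.leaf 0xc88cfc9)
(.leaf 0x2d66d7e5))
(.node (.leaf 0x1b1c47f6)
(.leaf 0)))))
(.node (.node (.node (.node (.leaf 0x21a4322)
(.leaf 0x2254d0fd))
(.node (.leaf 1171)
(.leaf 0)))
(.node (.node (.leaf 0xa8429d3)
(.leaf 0x2b2a56c6))
(.node (.leaf 0x18a2d1fa)
(.leaf 0))))
(.node (.node (.node (.leaf 0x78a844f)
(.leaf 0x26c0cb0f))
(.node (.leaf 0x15c28e7a)
(.leaf 0)))
(.node (.node (.leaf 0xf4090ef)
(.leaf 0x2fd2b743))
(.node (.leaf 0x1f3e6fb5)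
(.leaf 0)))))))))
(.node (.node (.node (.node (.node (.node (.node (.node (.leaf 0x208100)
(.leaf 0x1f5ec7ec))
(.node (.leaf 0xf7c4ed0)
(.leaf 0x2fee984f)))
(.node (.node (.leaf 0x7ca4453)
(.leaf 0x28328b3d))
(.node (.leaf 0x15f2717d)
(.leaf 0))))
(.node (.node (.node (.leaf 0x25e235a)
(.leaf 0x239e6a0e))
(.node (.leaf 0x1402cb61)
(.leaf 0)))
(.node (.node (.leaf 0xade6cb5)
(.leaf 0x2c2ab608))
(.node (.leaf 0x18e8a9bf)
(.leaf 0)))))
(.node (.node (.node (.node (.leaf 0x13e215a)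
(.leaf 0x206eb355))
(.node (.leaf 0x119c2f1d)
(.leaf 0)))
(.node (.node (.leaf 0x9a82516)
(.leaf 0x29c8d4ca))
(.node (.leaf 0x173487f7)
(.leaf 0))))
(.node (.node (.node (.leaf 0x61a6367)
(.leaf 0x25bc4d3c))
(.node (.leaf 0x150e6e39)
(.leaf 0)))
(.node (.node (.leaf 0xd10a5ac)
(.leaf 0x2d92b6e3))
(.node (.leaf 0x1bde8766)
(.leaf 0))))))
(.node (.node (.node (.node (.node (.leaf 0xe0440c)
(.leaf 0x1fcaa7ff))
(.node (.leaf 1167)
(.leaf 0x3134d874)))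
(.node (.node (.leaf 0x922a76e)
(.leaf 0x2898716a))
(.node (.leaf 0x168690cd)
(.leaf 0))))
(.node (.node (.node (.leaf 0x386c2b7)
(.leaf 0x24b06fec))
(.node (.leaf 0x14b46e66)
(.leaf 0)))
(.node (.node (.leaf 0xbd46d5e)
(.leaf 0x2d32d683))
(.node (.leaf 0x1a1e71f4)
(.leaf 0)))))
(.node (.node (.node (.node (.leaf 0x1be4016)
(.leaf 0x213eb2dd))
(.node (.leaf 0x1284256f)
(.leaf 0)))
(.node (.node (.leaf 0xa26c8a2)
(.leaf 0x2a6a3808))
(.node (.leaf 0x17fa9187)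
(.leaf 0))))
(.node (.node (.node (.leaf 0x6a8a234)
(.leaf 0x2634b0bc))
(.node (.leaf 0x1570a8bd)
(.leaf 0)))
(.node (.node (.leaf 0xed8cc3f)
(.leaf 0x2e5296f7))
(.node (.leaf 0x1f0e2b46)
(.leaf 0)))))))
(.node (.node (.node (.node (.node (.node (.leaf 0x92c0c6)
(.leaf 0x1f92cacf))
(.node (.leaf 0x100e8b82)
(.leaf 0x3034b881)))
(.node (.node (.leaf 0x8b28476)
(.leaf 0x285a701d))
(.node (.leaf 0x1642c9f8)
(.leaf 0))))
(.node (.node (.node (.leaf 0x2f2c164)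
(.leaf 0x24682ae1))
(.node (.leaf 0x148e69ae)
(.leaf 0)))
(.node (.node (.leaf 0xb588788)
(.leaf 0x2c707506))
(.node (.leaf 0x197c86f2)
(.leaf 0)))))
(.node (.node (.node (.node (.leaf 0x17c8294)
(.leaf 0x20bc2891))
(.node (.leaf 0x11f86e5f)
(.leaf 0)))
(.node (.node (.leaf 0x9e0a541)
(.leaf 0x2a145560))
(.node (.leaf 0x1792d197)
(.leaf 0))))
(.node (.node (.node (.leaf 0x64e421d)
(.leaf 0x25f4d182))
(.node (.leaf 0x153c6cb4)
(.leaf 0)))
(.node (.node (.leaf 0xea22d9d)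
(.leaf 0x2dd89770))
(.node (.leaf 0x1cf4931e)
(.leaf 0))))))
(.node (.node (.node (.node (.node (.leaf 0x110a142)
(.leaf 0x2004283c))
(.node (.leaf 0x1164743d)
(.leaf 0)))
(.node (.node (.leaf 0x97645ab)
(.leaf 0x2994b551))
(.node (.leaf 0x16d28cca)
(.leaf 0))))
(.node (.node (.node (.leaf 0x4906213)
(.leaf 0x259ad250))
(.node (.leaf 0x14e0ce71)
(.leaf 0)))
(.node (.node (.leaf 0xc5ecbf2)
(.leaf 0x2d58d88b))
(.node (.leaf 0x1aecb291)
(.leaf 0)))))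
(.node (.node (.node (.node (.leaf 0x20aa17b)
(.leaf 0x21f48efc))
(.node (.leaf 0x134664fc)
(.leaf 0)))
(.node (.node (.leaf 0xa728641)
(.leaf 0x2b0ad651))
(.node (.leaf 0x188c3423)
(.leaf 0))))
(.node (.node (.node (.leaf 0x77e63e1)
(.leaf 0x2694cec4))
(.node (.leaf 0x15b2b41b)
(.leaf 0)))
(.node (.node (.leaf 0xf184f06)
(.leaf 0x2f405777))
(.node (.leaf 0x1f342c64)
(.leaf 0))))))))
(.node (.node (.node (.node (.node (.node (.node (.leaf 0x6682dc)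
(.leaf 0x1f7cc996))
(.node (.leaf 0xfce7001)
(.leaf 0x3014d890)))
(.node (.node (.leaf 0x7f82272)
(.leaf 0x2846b14e))
(.node (.leaf 0x16144da2)
(.leaf 0))))
(.node (.node (.node (.leaf 0x29e822a)
(.leaf 0x24506f2c))
(.node (.leaf 0x146647ee)
(.leaf 0)))
(.node (.node (.leaf 0xb1a9163)
(.leaf 0x2c42b50d))
(.node (.leaf 0x19346d83)
(.leaf 0)))))
(.node (.node (.node (.node (.leaf 0x15ca084)
(.leaf 0x2092c8e1))
(.node (.leaf 0x11d0adba)
(.leaf 0)))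
(.node (.node (.leaf 0x9bcc5d0)
(.leaf 0x29e6d637))
(.node (.leaf 0x17566acb)
(.leaf 0))))
(.node (.node (.node (.leaf 0x62cc1fd)
(.leaf 0x25dcd091))
(.node (.leaf 0x1522b33c)
(.leaf 0)))
(.node (.node (.leaf 0xdbe8c35)
(.leaf 0x2db0754f))
(.node (.leaf 0x1c78649b)
(.leaf 0))))))
(.node (.node (.node (.node (.node (.leaf 0xf8a381)
(.leaf 0x1fe45050))
(.node (.leaf 0x114cce8e)
(.leaf 0)))
(.node (.node (.leaf 0x962481f)
(.leaf 0x28fe7360))
(.node (.leaf 0x16b08a97)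
(.leaf 0))))
(.node (.node (.node (.leaf 0x3fa42bf)
(.leaf 0x25048b5b))
(.node (.leaf 0x14c8c875)
(.leaf 0)))
(.node (.node (.leaf 0xc0e6554)
(.leaf 0x2d447789))
(.node (.leaf 0x1a76ca2c)
(.leaf 0)))))
(.node (.node (.node (.node (.leaf 0x1e4808f)
(.leaf 0x21908bc0))
(.node (.leaf 0x12e090ca)
(.leaf 0)))
(.node (.node (.leaf 0xa4c8595)
(.leaf 0x2ad09736))
(.node (.leaf 0x18464a8f)
(.leaf 0))))
(.node (.node (.node (.leaf 0x7666471)
(.leaf 0x265aab36))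
(.node (.leaf 0x158acb1d)
(.leaf 0)))
(.node (.node (.leaf 0xef085cf)
(.leaf 0x2e9eb7f7))
(.node (.leaf 0x1f20ce7d)
(.leaf 0)))))))
(.node (.node (.node (.node (.node (.node (.leaf 0xd023c7)
(.leaf 0x1fb2c7d6))
(.node (.leaf 0x105e8aba)
(.leaf 0x307a7731)))
(.node (.node (.leaf 0x8d44419)
(.leaf 0x287ecde8))
(.node (.leaf 0x165eb114)
(.leaf 0))))
(.node (.node (.node (.leaf 0x328c0b5)
(.leaf 0x2486c68a))
(.node (.leaf 0x149ed2a5)
(.leaf 0)))
(.node (.node (.leaf 0xb9a91cd)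
(.leaf 0x2cde57ac))
(.node (.leaf 0x19baacc4)
(.leaf 0)))))
(.node (.node (.node (.node (.leaf 0x1a060c8)
(.leaf 0x21068961))
(.node (.leaf 0x123291da)
(.leaf 0)))
(.node (.node (.leaf 0xa00532d)
(.leaf 0x2a405780))
(.node (.leaf 0x17d2871a)
(.leaf 0))))
(.node (.node (.node (.leaf 0x6786137)
(.leaf 0x26144a3e))
(.node (.leaf 0x15546602)
(.leaf 0)))
(.node (.node (.leaf 0xeb870a0)
(.leaf 0x2e08785d))
(.node (.leaf 0x1e52a966)
(.leaf 0))))))
(.node (.node (.node (.node (.node (.leaf 0x1284089)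
(.leaf 0x203093ab))
(.node (.leaf 0x117e7301)
(.leaf 0)))
(.node (.node (.leaf 0x98e859e)
(.leaf 0x29aa95a5))
(.node (.leaf 0x16fe667a)
(.leaf 0))))
(.node (.node (.node (.leaf 0x5aea0cc)
(.leaf 0x25aa93c8))
(.node (.leaf 0x14f648ca)
(.leaf 0)))
(.node (.node (.leaf 0xcbac7db)
(.leaf 0x2d74379d))
(.node (.leaf 0x1b5868de)
(.leaf 0)))))
(.node (.node (.node (.node (.leaf 0x22ea293)
(.leaf 0x2286743c))
(.node (.leaf 0x13e6669f)
(.leaf 0)))
(.node (.node (.leaf 0xa96cec7)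
(.leaf 0x2b7e7724))
(.node (.leaf 0x18b8a77a)
(.leaf 0))))
(.node (.node (.node (.leaf 0x794c450)
(.leaf 0x26e64df8))
(.node (.leaf 0x15d26603)
(.leaf 0)))
(.node (.node (.leaf 0xf54c8e5)
(.leaf 0x2fdad7c9))
(.node (.leaf 0x1f4865d9)
(.leaf 0))))))))))))
(.node (.node (.node (.node (.node (.node (.node (.node (.node (.node (.node (.leaf 139267)
(.leaf 0x1f4e2b2f))
(.node (.leaf 0xf5accd4)
(.leaf 0x2fde96da)))
(.node (.node (.leaf 0x7a26482)
(.leaf 0x26f250d6))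
(.node (.leaf 0x15d8cc5b)
(.leaf 0))))
(.node (.node (.node (.leaf 0x234a144)
(.leaf 0x2294d1f8))
(.node (.leaf 0x13ea65a7)
(.leaf 0)))
(.node (.node (.leaf 0xaa685da)
(.leaf 0x2b8c7539))
(.node (.leaf 0x18c02fbe)
(.leaf 0)))))
(.node (.node (.node (.node (.leaf 0x12c4020)
(.leaf 0x203c942d))
(.node (.leaf 0x1184a58a)
(.leaf 0)))
(.node (.node (.leaf 0x9928ce4)
(.leaf 0x29b09550))
(.node (.leaf 0x170a8ca7)
(.leaf 0))))
(.node (.node (.node (.leaf 0x604612d)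
(.leaf 0x25ae33ec))
(.node (.leaf 0x14f8cf67)
(.leaf 0)))
(.node (.node (.leaf 0xcd4650f)
(.leaf 0x2d78b80b))
(.node (.leaf 0x1b70c592)
(.leaf 0))))))
(.node (.node (.node (.node (.node (.leaf 0xd4a0bd)
(.leaf 0x1fb46f29))
(.node (.leaf 0x106aa4bb)
(.leaf 0x309c5806)))
(.node (.node (.leaf 1155)
(.leaf 0x2882503f))
(.node (.leaf 0x1666ae33)
(.leaf 0))))
(.node (.node (.node (.leaf 0x33463ec)
(.leaf 0x248acca5))
(.node (.leaf 0x14a28ba8)
(.leaf 0)))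
(.node (.node (.leaf 0xba627e6)
(.leaf 0x2ce696b6))
(.node (.leaf 0x19c4314c)
(.leaf 0)))))
(.node (.node (.node (.node (.leaf 0x1a48036)
(.leaf 0x21104849))
(.node (.leaf 0x123a8e5a)
(.leaf 0)))
(.node (.node (.leaf 0xa044bfb)
(.leaf 0x2a4696b9))
(.node (.leaf 0x17d6695a)
(.leaf 0))))
(.node (.node (.node (.leaf 0x67ea03f)
(.leaf 0x261c5456))
(.node (.leaf 0x1558cbb0)
(.leaf 0)))
(.node (.node (.leaf 0xebc2da0)
(.leaf 0x2e1a9639))
(.node (.leaf 0x1f024539)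
(.leaf 0)))))))
(.node (.node (.node (.node (.node (.node (.leaf 0x7020fe)
(.leaf 0x1f7e340d))
(.node (.leaf 0xfdaa562)
(.leaf 0x301ed749)))
(.node (.node (.leaf 0x8064403)
(.leaf 0x28485184))
(.node (.leaf 0x16188674)
(.leaf 0))))
(.node (.node (.node (.leaf 0x2b2417e)
(.leaf 0x2454a688))
(.node (.leaf 0x148244f5)
(.leaf 0)))
(.node (.node (.leaf 0xb224ea4)
(.leaf 0x2c48b59c))
(.node (.leaf 0x1938906b)
(.leaf 0)))))
(.node (.node (.node (.node (.leaf 0x16042ab)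
(.leaf 0x209887aa))
(.node (.leaf 0x11d46896)
(.leaf 0)))
(.node (.node (.leaf 0x9c2acb8)
(.leaf 0x29ec961b))
(.node (.leaf 0x175e88f5)
(.leaf 0))))
(.node (.node (.node (.leaf 0x632a1dd)
(.leaf 0x25e2b073))
(.node (.leaf 0x1528ad11)
(.leaf 0)))
(.node (.node (.leaf 0xdec6496)
(.leaf 0x2db457b5))
(.node (.leaf 0x1c849475)
(.leaf 0))))))
(.node (.node (.node (.node (.node (.leaf 0xfc62b2)
(.leaf 0x1fee6845))
(.node (.leaf 0x1150a8bf)
(.leaf 0)))
(.node (.node (.leaf 0x9648b02)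
(.leaf 0x2984d4c9))
(.node (.leaf 0x16b4913a)
(.leaf 0))))
(.node (.node (.node (.leaf 0x408415d)
(.leaf 0x251cad31))
(.node (.leaf 0x14cad2fb)
(.leaf 0)))
(.node (.node (.leaf 0xc1aab57)
(.leaf 0x2d487848))
(.node (.leaf 0x1a84cfae)
(.leaf 0)))))
(.node (.node (.node (.node (.leaf 0x1ea6205)
(.leaf 0x219830b5))
(.node (.leaf 0x12f865b0)
(.leaf 0)))
(.node (.node (.leaf 0xa528b75)
(.leaf 0x2ada951d))
(.node (.leaf 0x184cc976)
(.leaf 0))))
(.node (.node (.node (.leaf 0x76a643c)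
(.leaf 0x265e9212))
(.node (.leaf 0x15943191)
(.leaf 0)))
(.node (.node (.leaf 0xef6ccac)
(.leaf 0x2ec4961c))
(.node (.leaf 0x1f24458c)
(.leaf 0))))))))
(.node (.node (.node (.node (.node (.node (.node (.leaf 0x2ea03b)
(.leaf 0x1f6293af))
(.node (.leaf 0xf825331)
(.leaf 0x2ff6d616)))
(.node (.node (.leaf 0x7d4c433)
(.leaf 0x28367069))
(.node (.leaf 0x15f82bf6)
(.leaf 0))))
(.node (.node (.node (.leaf 0x264a3d1)
(.leaf 0x2442453b))
(.node (.leaf 0x14106af0)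
(.leaf 0)))
(.node (.node (.leaf 0xae4c890)
(.leaf 0x2c2cd7d7))
(.node (.leaf 0x18f4c700)
(.leaf 0)))))
(.node (.node (.node (.node (.leaf 0x142a28d)
(.leaf 0x2074527d))
(.node (.leaf 0x11a66844)
(.leaf 0)))
(.node (.node (.leaf 0x9aa50ae)
(.leaf 0x29cc3519))
(.node (.leaf 0x173ca7a7)
(.leaf 0))))
(.node (.node (.node (.leaf 0x61ec338)
(.leaf 0x25c26a63))
(.node (.leaf 0x151051d0)
(.leaf 0)))
(.node (.node (.leaf 0xd1c652f)
(.leaf 0x2d9896a0))
(.node (.leaf 0x1bf073f4)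
(.leaf 0))))))
(.node (.node (.node (.node (.node (.leaf 0xe66071)
(.leaf 0x1fcead8d))
(.node (.leaf 0x113c6a83)
(.leaf 0)))
(.node (.node (.leaf 0x92e87c1)
(.leaf 0x28a0708e))
(.node (.leaf 0x168cd31d)
(.leaf 0))))
(.node (.node (.node (.leaf 0x3928273)
(.leaf 0x24ba879f))
(.node (.leaf 0x14b8d238)
(.leaf 0)))
(.node (.node (.leaf 0xbdccb1e)
(.leaf 0x2d349712))
(.node (.leaf 0x1a348dc8)
(.leaf 0)))))
(.node (.node (.node (.node (.leaf 0x1c6c186)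
(.leaf 0x21482933))
(.node (.leaf 0x1292cb76)
(.leaf 0)))
(.node (.node (.leaf 0xa2ec4de)
(.leaf 0x2a7e5830))
(.node (.leaf 0x18088f48)
(.leaf 0))))
(.node (.node (.node (.leaf 0x6b4431f)
(.leaf 0x263acd3e))
(.node (.leaf 0x157453fd)
(.leaf 0)))
(.node (.node (.leaf 0xedea807)
(.leaf 0x2e5c75d9))
(.node (.leaf 0x1f12abb1)
(.leaf 0)))))))
(.node (.node (.node (.node (.node (.node (.leaf 0xc42026)
(.leaf 0x1f96cbb6))
(.node (.leaf 0x10184f89)
(.leaf 0x303ad70e)))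
(.node (.node (.leaf 0x8b8a3ce)
(.leaf 0x28606a60))
(.node (.leaf 0x164c4e84)
(.leaf 0))))
(.node (.node (.node (.leaf 0x2faa1d9)
(.leaf 0x246a4fa2))
(.node (.leaf 0x149267e5)
(.leaf 0)))
(.node (.node (.leaf 0xb5cc942)
(.leaf 0x2c9c75ef))
(.node (.leaf 0x198a70bb)
(.leaf 0)))))
(.node (.node (.node (.node (.leaf 0x1804445)
(.leaf 0x20c869f6))
(.node (.leaf 0x11fc454a)
(.leaf 0)))
(.node (.node (.leaf 0x9e4665f)
(.leaf 0x2a18d5cd))
(.node (.leaf 0x179ecbc4)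
(.leaf 0))))
(.node (.node (.node (.leaf 0x654c2ce)
(.leaf 0x25fc4b35))
(.node (.leaf 0x153ecce3)
(.leaf 0)))
(.node (.node (.leaf 0xea667b3)
(.leaf 0x2de29872))
(.node (.leaf 0x1d1cc83a)
(.leaf 0))))))
(.node (.node (.node (.node (.node (.leaf 0x1164047)
(.leaf 0x200a74bc))
(.node (.leaf 0x116a4b6d)
(.leaf 0)))
(.node (.node (.leaf 0x9786c9d)
(.leaf 0x2996366b))
(.node (.leaf 0x16da4ccc)
(.leaf 0))))
(.node (.node (.node (.leaf 0x4a48377)
(.leaf 0x259e92f8))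
(.node (.leaf 0x14e48fe1)
(.leaf 0)))
(.node (.node (.leaf 0xc6a6800)
(.leaf 0x2d5e77d1))
(.node (.leaf 0x1b02a742)
(.leaf 0)))))
(.node (.node (.node (.node (.leaf 0x20ec050)
(.leaf 0x2222af08))
(.node (.leaf 0x135270a2)
(.leaf 0)))
(.node (.node (.leaf 0xa7853c0)
(.leaf 0x2b16b5b2))
(.node (.leaf 0x18968999)
(.leaf 0))))
(.node (.node (.node (.leaf 0x7848372)
(.leaf 0x26a4d0b0))
(.node (.leaf 0x15b82f1b)
(.leaf 0)))
(.node (.node (.leaf 0xf26897e)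
(.leaf 0x2f6256b0))
(.node (.leaf 0x1f384eaa)
(.leaf 0)))))))))
(.node (.node (.node (.node (.node (.node (.node (.node (.leaf 0x108111)
(.leaf 0x1f584909))
(.node (.leaf 0xf6e44be)
(.leaf 0x2fe8b7fa)))
(.node (.node (.leaf 0x7b6a410)
(.leaf 0x27627100))
(.node (.leaf 0x15e850c5)
(.leaf 0))))
(.node (.node (.node (.leaf 0x2468394)
(.leaf 0x2348add1))
(.node (.leaf 0x13f8254c)
(.leaf 0)))
(.node (.node (.leaf 0xabecb0e)
(.leaf 0x2c2434ed))
(.node (.leaf 0x18dab214)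
(.leaf 0)))))
(.node (.node (.node (.node (.leaf 0x136a29c)
(.leaf 0x205eb110))
(.node (.leaf 0x1190b403)
(.leaf 0)))
(.node (.node (.leaf 0x99e88b7)
(.leaf 0x29bc75f2))
(.node (.leaf 0x17248840)
(.leaf 0))))
(.node (.node (.node (.leaf 0x6146192)
(.leaf 0x25b8ad0f))
(.node (.leaf 0x1500d35c)
(.leaf 0)))
(.node (.node (.leaf 0xcfa6ca2)
(.leaf 0x2d86d831))
(.node (.leaf 0x1bb029fb)
(.leaf 0))))))
(.node (.node (.node (.node (.node (.leaf 0xdc6095)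
(.leaf 0x1fc26604))
(.node (.leaf 0x10d464d2)
(.leaf 0x31227796)))
(.node (.node (.leaf 0x9126d66)
(.leaf 0x2890925f))
(.node (.leaf 0x16786b7b)
(.leaf 0))))
(.node (.node (.node (.leaf 0x370c3b1)
(.leaf 0x249c6929))
(.node (.leaf 0x14aec93c)
(.leaf 0)))
(.node (.node (.leaf 0xbc8885c)
(.leaf 0x2d247667))
(.node (.leaf 0x19ec9156)
(.leaf 0)))))
(.node (.node (.node (.node (.leaf 0x1b46195)
(.leaf 0x2130d371))
(.node (.leaf 0x126c88d5)
(.leaf 0)))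
(.node (.node (.leaf 0xa1884a7)
(.leaf 0x2a5cb5fe))
(.node (.leaf 0x17ec3408)
(.leaf 0))))
(.node (.node (.node (.leaf 0x6908235)
(.leaf 0x262ab067))
(.node (.leaf 0x15688abf)
(.leaf 0)))
(.node (.node (.leaf 0xecc5307)
(.leaf 0x2e3c350a))
(.node (.leaf 0x1f088c88)
(.leaf 0)))))))
(.node (.node (.node (.node (.node (.node (.leaf 0x8260a0)
(.leaf 0x1f8a4ecb))
(.node (.leaf 0xff66747)
(.leaf 0x302cd782)))
(.node (.node (.leaf 0x854c46b)
(.leaf 0x28545072))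
(.node (.leaf 0x16244ab4)
(.leaf 0))))
(.node (.node (.node (.leaf 0x2d2a26e)
(.leaf 0x24606f55))
(.node (.leaf 0x148ac6a0)
(.leaf 0)))
(.node (.node (.leaf 0xb406574)
(.leaf 0x2c5c7581))
(.node (.leaf 0x195aac2d)
(.leaf 0)))))
(.node (.node (.node (.node (.leaf 0x176a023)
(.leaf 0x20aace3e))
(.node (.leaf 0x11ea68a1)
(.leaf 0)))
(.node (.node (.leaf 0x9d06ea6)
(.leaf 0x2a029732))
(.node (.leaf 0x1772889b)
(.leaf 0))))
(.node (.node (.node (.leaf 0x642205c)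
(.leaf 0x25f04b24))
(.node (.leaf 0x15347016)
(.leaf 0)))
(.node (.node (.leaf 0xe9cb335)
(.leaf 0x2dc8d671))
(.node (.leaf 0x1cc2a89f)
(.leaf 0))))))
(.node (.node (.node (.node (.node (.leaf 0x108c1a0)
(.leaf 0x1ffc457c))
(.node (.leaf 0x115ca507)
(.leaf 0)))
(.node (.node (.leaf 0x970c694)
(.leaf 0x298c5698))
(.node (.leaf 0x16c8940b)
(.leaf 0))))
(.node (.node (.node (.leaf 0x43e60a9)
(.leaf 0x25949219))
(.node (.leaf 0x14d8ad9b)
(.leaf 0)))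
(.node (.node (.leaf 0xc4244a6)
(.leaf 0x2d50377f))
(.node (.leaf 0x1aa6ac6f)
(.leaf 0)))))
(.node (.node (.node (.node (.leaf 0x1fc6091)
(.leaf 0x21d46e7c))
(.node (.leaf 0x131aa4ce)
(.leaf 0)))
(.node (.node (.leaf 0xa626ddd)
(.leaf 0x2af45852))
(.node (.leaf 0x18806a2f)
(.leaf 0))))
(.node (.node (.node (.leaf 0x7784275)
(.leaf 0x267c3194))
(.node (.leaf 0x15a8aa06)
(.leaf 0)))
(.node (.node (.leaf 0xf0ac984)
(.leaf 0x2ef8b856))
(.node (.leaf 0x1f2e548c)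
(.leaf 0))))))))
(.node (.node (.node (.node (.node (.node (.node (.leaf 0x5a416f)
(.leaf 0x1f728bd1))
(.node (.leaf 0xfa6a563)
(.leaf 0x3008782f)))
(.node (.node (.leaf 0x7eac3fb)
(.leaf 0x283eb14d))
(.node (.leaf 0x16088afa)
(.leaf 0))))
(.node (.node (.node (.leaf 0x28c62fa)
(.leaf 0x244ace82))
(.node (.leaf 0x144c6509)
(.leaf 0)))
(.node (.node (.leaf 0xafed379)
(.leaf 0x2c3a74eb))
(.node (.leaf 0x190a8642)
(.leaf 0)))))
(.node (.node (.node (.node (.leaf 0x152831b)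
(.leaf 0x20823351))
(.node (.leaf 0x11c69369)
(.leaf 0)))
(.node (.node (.leaf 0x9b4692f)
(.leaf 0x29d83517))
(.node (.leaf 0x174e66a1)
(.leaf 0))))
(.node (.node (.node (.leaf 0x62641a1)
(.leaf 0x25d4925a))
(.node (.leaf 0x151a731b)
(.leaf 0)))
(.node (.node (.leaf 0xd8626c0)
(.leaf 0x2da297db))
(.node (.leaf 0x1c20ab9e)
(.leaf 0))))))
(.node (.node (.node (.node (.node (.leaf 0xf0c22c)
(.leaf 0x1fdaccd7))
(.node (.leaf 0x11464886)
(.leaf 0)))
(.node (.node (.leaf 0x95ca8fe)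
(.leaf 0x28c45061))
(.node (.leaf 0x169c8ada)
(.leaf 0))))
(.node (.node (.node (.leaf 0x3e0817d)
(.leaf 0x24e84b72))
(.node (.leaf 0x14c24bca)
(.leaf 0)))
(.node (.node (.leaf 0xbfaa51b)
(.leaf 0x2d3e5775))
(.node (.leaf 0x1a64870e)
(.leaf 0)))))
(.node (.node (.node (.node (.leaf 0x1d62267)
(.leaf 0x217c8cb2))
(.node (.leaf 0x12c0929e)
(.leaf 0)))
(.node (.node (.leaf 0xa4046b9)
(.leaf 0x2aacb540))
(.node (.leaf 0x18288b9f)
(.leaf 0))))
(.node (.node (.node (.leaf 0x76221cd)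
(.leaf 0x264a53ad))
(.node (.leaf 0x158229fe)
(.leaf 0)))
(.node (.node (.leaf 0xeea24e0)
(.leaf 0x2e84b76a))
(.node (.leaf 0x1f1ab226)
(.leaf 0)))))))
(.node (.node (.node (.node (.node (.node (.leaf 0xcaa2e9)
(.leaf 0x1fa88f87))
(.node (.leaf 0x104aafd6)
(.leaf 0x3056b7b7)))
(.node (.node (.leaf 0x8c8a478)
(.leaf 0x287271a3))
(.node (.leaf 0x1656ad42)
(.leaf 0))))
(.node (.node (.node (.leaf 0x3186141)
(.leaf 0x2480c7b0))
(.node (.leaf 0x149a657d)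
(.leaf 0)))
(.node (.node (.leaf 0xb788ba6)
(.leaf 0x2cd6b6e0))
(.node (.leaf 0x19a6b108)
(.leaf 0)))))
(.node (.node (.node (.node (.leaf 0x196825f)
(.leaf 0x20f647a8))
(.node (.leaf 0x12188d5c)
(.leaf 0)))
(.node (.node (.leaf 0x9fcc4a3)
(.leaf 0x2a36957e))
(.node (.leaf 0x17bca724)
(.leaf 0))))
(.node (.node (.node (.leaf 0x66aa397)
(.leaf 0x260ab3f0))
(.node (.leaf 0x154ac5ca)
(.leaf 0)))
(.node (.node (.leaf 0xeb046e5)
(.leaf 0x2e00b779))
(.node (.leaf 0x1db0894d)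
(.leaf 0))))))
(.node (.node (.node (.node (.node (.leaf 0x11ec20a)
(.leaf 0x2024adcd))
(.node (.leaf 0x11782a1b)
(.leaf 0)))
(.node (.node (.leaf 0x9848491)
(.leaf 0x29a27686))
(.node (.leaf 0x16f44b8f)
(.leaf 0))))
(.node (.node (.node (.leaf 0x518840a)
(.leaf 0x25a6cb06))
(.node (.leaf 0x14ec8ec2)
(.leaf 0)))
(.node (.node (.leaf 0xc964d06)
(.leaf 0x2d6a9768))
(.node (.leaf 0x1b284a2a)
(.leaf 0)))))
(.node (.node (.node (.node (.leaf 0x22680f7)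
(.leaf 0x22628635))
(.node (.leaf 0x13dcb257)
(.leaf 0)))
(.node (.node (.leaf 0xa885275)
(.leaf 0x2b42353f))
(.node (.leaf 0x18aace06)
(.leaf 0))))
(.node (.node (.node (.leaf 0x78ec3c0)
(.leaf 0x26ca7256))
(.node (.leaf 0x15c8541f)
(.leaf 0)))
(.node (.node (.leaf 0xf48b269)
(.leaf 0x2fd6d5de))
(.node (.leaf 0x1f4290c3)
(.leaf 0))))))))))
(.node (.node (.node (.node (.node (.node (.node (.node (.node (.leaf 434807)
(.leaf 0x1f52b19f))
(.node (.leaf 0xf66ac70)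
(.leaf 0x2fe4d899)))
(.node (.node (.leaf 0x7acc479)
(.leaf 0x27385493))
(.node (.leaf 0x15e25141)
(.leaf 0))))
(.node (.node (.node (.leaf 0x23ec3be)
(.leaf 0x22ee26e3))
(.node (.leaf 0x13f0494a)
(.leaf 0)))
(.node (.node (.leaf 0xab4293b)
(.leaf 0x2bc055b3))
(.node (.leaf 0x18ce6c31)
(.leaf 0)))))
(.node (.node (.node (.node (.leaf 0x1324178)
(.leaf 0x204c90c6))
(.node (.leaf 0x11886ff2)
(.leaf 0)))
(.node (.node (.leaf 0x996a8f9)
(.leaf 0x29b8b62f))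
(.node (.leaf 0x17148eb4)
(.leaf 0))))
(.node (.node (.node (.leaf 0x61240af)
(.leaf 0x25b45103))
(.node (.leaf 0x14fec6dc)
(.leaf 0)))
(.node (.node (.leaf 0xce86cdf)
(.leaf 0x2d80d68d))
(.node (.leaf 0x1b98ac43)
(.leaf 0))))))
(.node (.node (.node (.node (.node (.leaf 0xd86080)
(.leaf 0x1fba6ebb))
(.node (.leaf 0x10882ae4)
(.leaf 0x30be767b)))
(.node (.node (.leaf 0x90a72ce)
(.leaf 0x288c93cc))
(.node (.leaf 0x166e89c7)
(.leaf 0))))
(.node (.node (.node (.leaf 0x358430c)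
(.leaf 0x24946f09))
(.node (.leaf 0x14aaacf1)
(.leaf 0)))
(.node (.node (.leaf 0xbbea745)
(.leaf 0x2cf05534))
(.node (.leaf 0x19d0ad8a)
(.leaf 0)))))
(.node (.node (.node (.node (.leaf 0x1ac8383)
(.leaf 0x2116d2bd))
(.node (.leaf 0x12524fdb)
(.leaf 0)))
(.node (.node (.leaf 0xa109350)
(.leaf 0x2a5235c6))
(.node (.leaf 0x17deb21f)
(.leaf 0))))
(.node (.node (.node (.leaf 0x68683ff)
(.leaf 0x26246b4f))
(.node (.leaf 0x155e944d)
(.leaf 0)))
(.node (.node (.leaf 0xec46663)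
(.leaf 0x2e2a987f))
(.node (.leaf 0x1f046fcc)
(.leaf 0)))))))
(.node (.node (.node (.node (.node (.node (.leaf 0x76805f)
(.leaf 0x1f866f7a))
(.node (.leaf 0xfe4a6cd)
(.leaf 0x30263691)))
(.node (.node (.leaf 0x82622ad)
(.leaf 0x2850b2bf))
(.node (.leaf 0x161eb0a5)
(.leaf 0))))
(.node (.node (.node (.leaf 0x2bec229)
(.leaf 0x24586af5))
(.node (.leaf 0x1484b36c)
(.leaf 0)))
(.node (.node (.leaf 0xb30a752)
(.leaf 0x2c50d69a))
(.node (.leaf 0x19466c2c)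
(.leaf 0)))))
(.node (.node (.node (.node (.leaf 0x16e4083)
(.leaf 0x209c2ba2))
(.node (.leaf 0x11e04c02)
(.leaf 0)))
(.node (.node (.leaf 0x9c86ec6)
(.leaf 0x29f496ae))
(.node (.leaf 0x176a7395)
(.leaf 0))))
(.node (.node (.node (.leaf 0x63ac411)
(.leaf 0x25e86d96))
(.node (.leaf 0x152c73f5)
(.leaf 0)))
(.node (.node (.leaf 0xe7c6486)
(.leaf 0x2dbe9659))
(.node (.leaf 0x1c904a07)
(.leaf 0))))))
(.node (.node (.node (.node (.node (.leaf 0x1046155)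
(.leaf 0x1ff44baa))
(.node (.leaf 0x11566c55)
(.leaf 0)))
(.node (.node (.leaf 0x96c84c8)
(.leaf 0x2988b57c))
(.node (.leaf 0x16c08b81)
(.leaf 0))))
(.node (.node (.node (.leaf 0x4266464)
(.leaf 0x2592463c))
(.node (.leaf 0x14d0b189)
(.leaf 0)))
(.node (.node (.leaf 0xc226f05)
(.leaf 0x2d4c7784))
(.node (.leaf 0x1a948b49)
(.leaf 0)))))
(.node (.node (.node (.node (.leaf 0x1f04244)
(.leaf 0x21a66aeb))
(.node (.leaf 0x1306661a)
(.leaf 0)))
(.node (.node (.leaf 0xa5e6b3a)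
(.leaf 0x2aec95ca))
(.node (.leaf 0x18666eec)
(.leaf 0))))
(.node (.node (.node (.leaf 0x770a3aa)
(.leaf 0x266a93d6))
(.node (.leaf 0x159aad59)
(.leaf 0)))
(.node (.node (.leaf 0xefc6c3e)
(.leaf 0x2ee8d6ef))
(.node (.leaf 0x1f2a4bd2)
(.leaf 0))))))))
(.node (.node (.node (.node (.node (.node (.node (.leaf 0x54c008)
(.leaf 0x1f6a4f76))
(.node (.leaf 0xf92ace9)
(.leaf 0x2ffe359a)))
(.node (.node (.leaf 0x7dea271)
(.leaf 0x283aabc7))
(.node (.leaf 0x15feb036)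
(.leaf 0))))
(.node (.node (.node (.leaf 0x28060ea)
(.leaf 0x24446e3b))
(.node (.leaf 0x141cc9f2)
(.leaf 0)))
(.node (.node (.leaf 0xaf04ad0)
(.leaf 0x2c325599))
(.node (.leaf 0x18fa3430)
(.leaf 0)))))
(.node (.node (.node (.node (.leaf 0x14c22af)
(.leaf 0x20788fbd))
(.node (.leaf 0x11ae6fca)
(.leaf 0)))
(.node (.node (.leaf 0x9b0c599)
(.leaf 0x29d07609))
(.node (.leaf 0x1746ad97)
(.leaf 0))))
(.node (.node (.node (.leaf 0x62261be)
(.leaf 0x25ccaa3d))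
(.node (.leaf 0x15162e4b)
(.leaf 0)))
(.node (.node (.leaf 0xd60671f)
(.leaf 0x2d9e982e))
(.node (.leaf 0x1c0c8a74)
(.leaf 0))))))
(.node (.node (.node (.node (.node (.leaf 0xee2169)
(.leaf 0x1fd4af3f))
(.node (.leaf 0x1142cb44)
(.leaf 0)))
(.node (.node (.leaf 0x94ca5c4)
(.leaf 0x28b46fa4))
(.node (.leaf 0x169251fb)
(.leaf 0))))
(.node (.node (.node (.leaf 0x3ae61af)
(.leaf 0x24cea6cf))
(.node (.leaf 0x14bc2a34)
(.leaf 0)))
(.node (.node (.leaf 0xbeab242)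
(.leaf 0x2d389682))
(.node (.leaf 0x1a488e95)
(.leaf 0)))))
(.node (.node (.node (.node (.leaf 0x1cc42f4)
(.leaf 0x215a6f0d))
(.node (.leaf 0x12b089dd)
(.leaf 0)))
(.node (.node (.leaf 0xa3852f1)
(.leaf 0x2a8ed54e))
(.node (.leaf 0x1816724d)
(.leaf 0))))
(.node (.node (.node (.leaf 0x6d8c455)
(.leaf 0x26442a4d))
(.node (.leaf 0x157cc67b)
(.leaf 0)))
(.node (.node (.leaf 0xee26cd3)
(.leaf 0x2e6ab88d))
(.node (.leaf 0x1f16b349)
(.leaf 0)))))))
(.node (.node (.node (.node (.node (.node (.leaf 0xc660ee)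
(.leaf 0x1f9eb346))
(.node (.leaf 0x1034cdc2)
(.leaf 0x304c5655)))
(.node (.node (.leaf 0x8c02440)
(.leaf 0x2868b2ec))
(.node (.leaf 0x1650d3e2)
(.leaf 0))))
(.node (.node (.node (.leaf 0x30a43a9)
(.leaf 0x247689e3))
(.node (.leaf 0x14966ba7)
(.leaf 0)))
(.node (.node (.leaf 0xb6c686c)
(.leaf 0x2cd075ed))
(.node (.leaf 0x199892ab)
(.leaf 0)))))
(.node (.node (.node (.node (.leaf 0x188c368)
(.leaf 0x20ee6935))
(.node (.leaf 0x1206cb04)
(.leaf 0)))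
(.node (.node (.leaf 0x9ee4e41)
(.leaf 0x2a2096ba))
(.node (.leaf 0x17b2ca17)
(.leaf 0))))
(.node (.node (.node (.leaf 0x65ec233)
(.leaf 0x2604d17a))
(.node (.leaf 0x1544923d)
(.leaf 0)))
(.node (.node (.leaf 0xeac6d9c)
(.leaf 0x2df07623))
(.node (.leaf 0x1d5c7494)
(.leaf 0))))))
(.node (.node (.node (.node (.node (.leaf 0x11862e2)
(.leaf 0x2014b2db))
(.node (.leaf 0x11726578)
(.leaf 0)))
(.node (.node (.leaf 0x97eaa84)
(.leaf 0x299e54d9))
(.node (.leaf 0x16eacbcd)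
(.leaf 0))))
(.node (.node (.node (.leaf 0x4c2c18e)
(.leaf 0x25a2ca1e))
(.node (.leaf 0x14e8508c)
(.leaf 0)))
(.node (.node (.leaf 0xc7c8916)
(.leaf 0x2d64b75a))
(.node (.leaf 0x1b1464ab)
(.leaf 0)))))
(.node (.node (.node (.node (.leaf 0x21aa0b6)
(.leaf 0x224c721a))
(.node (.leaf 0x1366a4b7)
(.leaf 0)))
(.node (.node (.leaf 0xa828dd5)
(.leaf 0x2b2476ee))
(.node (.leaf 0x18a22ab3)
(.leaf 0))))
(.node (.node (.node (.leaf 0x78aa1dc)
(.leaf 0x26b2b18d))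
(.node (.leaf 0x15c04b23)
(.leaf 0)))
(.node (.node (.leaf 0xf3c690e)
(.leaf 0x2fd235dc))
(.node (.leaf 0x1f3cb421)
(.leaf 0)))))))))
(.node (.node (.node (.node (.node (.node (.node (.node (.leaf 0x1ea337)
(.leaf 0x1f5c2c0a))
(.node (.leaf 0xf766c47)
(.leaf 0x2feeb74e)))
(.node (.node (.leaf 0x7ca83f0)
(.leaf 0x2832467d))
(.node (.leaf 0x15f287cc)
(.leaf 0))))
(.node (.node (.node (.leaf 0x25a63f9)
(.leaf 0x23804f00))
(.node (.leaf 0x14004cf5)
(.leaf 0)))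
(.node (.node (.leaf 0xad6a77c)
(.leaf 0x2c28b805))
(.node (.leaf 0x18e48d8b)
(.leaf 0)))))
(.node (.node (.node (.node (.leaf 0x13c4396)
(.leaf 0x206832c7))
(.node (.leaf 0x119ace1b)
(.leaf 0)))
(.node (.node (.leaf 0x9a666c4)
(.leaf 0x29c6556b))
(.node (.leaf 0x17306fdf)
(.leaf 0))))
(.node (.node (.node (.leaf 0x618c356)
(.leaf 0x25bcc781))
(.node (.leaf 0x150a6a26)
(.leaf 0)))
(.node (.node (.leaf 0xd0e64b6)
(.leaf 0x2d90781d))
(.node (.leaf 0x1bdaa591)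
(.leaf 0))))))
(.node (.node (.node (.node (.node (.leaf 0xe0c2ea)
(.leaf 0x1fc88e52))
(.node (.leaf 0x11002d81)
(.leaf 0x312eb862)))
(.node (.node (.leaf 0x91a8bd9)
(.leaf 0x28964ba9))
(.node (.leaf 0x16864955)
(.leaf 0))))
(.node (.node (.node (.leaf 0x37ea1da)
(.leaf 0x24ac920c))
(.node (.leaf 0x14b28de1)
(.leaf 0)))
(.node (.node (.leaf 0xbd2af14)
(.leaf 0x2d32557a))
(.node (.leaf 0x1a184600)
(.leaf 0)))))
(.node (.node (.node (.node (.leaf 0x1bca11b)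
(.leaf 0x213ca965))
(.node (.leaf 0x127e89b4)
(.leaf 0)))
(.node (.node (.leaf 0xa224808)
(.leaf 0x2a6ad783))
(.node (.leaf 0x17faa63f)
(.leaf 0))))
(.node (.node (.node (.leaf 0x6a6a3e2)
(.leaf 0x2634478b))
(.node (.leaf 0x156e44dd)
(.leaf 0)))
(.node (.node (.leaf 0xed47104)
(.leaf 0x2e46760d))
(.node (.leaf 0x1f0e46a8)
(.leaf 0)))))))
(.node (.node (.node (.node (.node (.node (.leaf 0x8e4046)
(.leaf 0x1f908df1))
(.node (.leaf 0x10086e92)
(.leaf 0x303256e4)))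
(.node (.node (.leaf 0x8b243bc)
(.leaf 0x28583217))
(.node (.leaf 0x1640afad)
(.leaf 0))))
(.node (.node (.node (.leaf 0x2ec81ec)
(.leaf 0x2466a5ad))
(.node (.leaf 0x148c31e8)
(.leaf 0)))
(.node (.node (.leaf 0xb568d0c)
(.leaf 0x2c6e74d5))
(.node (.leaf 0x19788726)
(.leaf 0)))))
(.node (.node (.node (.node (.leaf 0x17c41a9)
(.leaf 0x20ba6b85))
(.node (.leaf 0x11f4666d)
(.leaf 0)))
(.node (.node (.leaf 0x9dc725e)
(.leaf 0x2a127558))
(.node (.leaf 0x178e91ce)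
(.leaf 0))))
(.node (.node (.node (.leaf 0x64aa194)
(.leaf 0x25f44b91))
(.node (.leaf 0x153a4fa0)
(.leaf 0)))
(.node (.node (.leaf 0xea0a8ef)
(.leaf 0x2dd4b853))
(.node (.leaf 0x1cec5255)
(.leaf 0))))))
(.node (.node (.node (.node (.node (.leaf 0x10ca2d3)
(.leaf 0x2000d216))
(.node (.leaf 0x11627483)
(.leaf 0)))
(.node (.node (.leaf 0x974cc53)
(.leaf 0x2992b630))
(.node (.leaf 0x16d05338)
(.leaf 0))))
(.node (.node (.node (.leaf 0x4848120)
(.leaf 0x259aaa5d))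
(.node (.leaf 0x14e028f8)
(.leaf 0)))
(.node (.node (.leaf 0xc548e9d)
(.leaf 0x2d587791))
(.node (.leaf 0x1adeb49a)
(.leaf 0)))))
(.node (.node (.node (.node (.leaf 0x2086068)
(.leaf 0x21ecb34d))
(.node (.leaf 0x1342a57e)
(.leaf 0)))
(.node (.node (.leaf 0xa6ea5ae)
(.leaf 0x2b08d6ce))
(.node (.leaf 0x188c4e15)
(.leaf 0))))
(.node (.node (.node (.leaf 0x77a4413)
(.leaf 0x2692b164))
(.node (.leaf 0x15b031b5)
(.leaf 0)))
(.node (.node (.leaf 0xf16a830)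
(.leaf 0x2f2ed823))
(.node (.leaf 0x1f348937)
(.leaf 0))))))))
(.node (.node (.node (.node (.node (.node (.node (.leaf 0x62a022)
(.leaf 0x1f7c2939))
(.node (.leaf 0xfba87ca)
(.leaf 0x30125617)))
(.node (.node (.leaf 0x7f4631c)
(.leaf 0x28446d35))
(.node (.leaf 0x16108b67)
(.leaf 0))))
(.node (.node (.node (.leaf 0x2988243)
(.leaf 0x24504be3))
(.node (.leaf 0x1462a5b7)
(.leaf 0)))
(.node (.node (.leaf 0xb1a6495)
(.leaf 0x2c40955e))
(.node (.leaf 0x19309008)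
(.leaf 0)))))
(.node (.node (.node (.node (.leaf 0x15a2300)
(.leaf 0x208c705d))
(.node (.leaf 0x11ce2e64)
(.leaf 0)))
(.node (.node (.leaf 0x9baaff6)
(.leaf 0x29e63578))
(.node (.leaf 0x1754aa2d)
(.leaf 0))))
(.node (.node (.node (.leaf 0x62ac3d2)
(.leaf 0x25da70dc))
(.node (.leaf 0x15226905)
(.leaf 0)))
(.node (.node (.leaf 0xdac479a)
(.leaf 0x2dae56b1))
(.node (.leaf 0x1c66a5fe)
(.leaf 0))))))
(.node (.node (.node (.node (.node (.leaf 0xf6c216)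
(.leaf 0x1fe28832))
(.node (.leaf 0x114c8c01)
(.leaf 0)))
(.node (.node (.leaf 0x9606e46)
(.leaf 0x28e8860f))
(.node (.leaf 0x16aa65fb)
(.leaf 0))))
(.node (.node (.node (.leaf 0x3f08303)
(.leaf 0x24fe67af))
(.node (.leaf 0x14c64e05)
(.leaf 0)))
(.node (.node (.leaf 0xc08aeea)
(.leaf 0x2d429866))
(.node (.leaf 0x1a70ad56)
(.leaf 0)))))
(.node (.node (.node (.node (.leaf 0x1e08139)
(.leaf 0x218ab052))
(.node (.leaf 0x12d865a6)
(.leaf 0)))
(.node (.node (.leaf 0xa48cde3)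
(.leaf 0x2ac87555))
(.node (.leaf 0x1844a646)
(.leaf 0))))
(.node (.node (.node (.leaf 0x76683b9)
(.leaf 0x26584d1d))
(.node (.leaf 0x1588d2c6)
(.leaf 0)))
(.node (.node (.leaf 0xeee4fd8)
(.leaf 0x2e9c5771))
(.node (.leaf 0x1f1e6d05)
(.leaf 0)))))))
(.node (.node (.node (.node (.node (.node (.leaf 0xd060cf)
(.leaf 0x1fb0ad98))
(.node (.leaf 0x105a675a)
(.leaf 0x306a5869)))
(.node (.node (.leaf 0x8d4637c)
(.leaf 0x287a71bb))
(.node (.leaf 0x165c30f1)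
(.leaf 0))))
(.node (.node (.node (.leaf 0x3224250)
(.leaf 0x248472d5))
(.node (.leaf 0x149e2b7d)
(.leaf 0)))
(.node (.node (.leaf 0xb946eb7)
(.leaf 0x2cdeb50c))
(.node (.leaf 0x19b88856)
(.leaf 0)))))
(.node (.node (.node (.node (.leaf 0x19e6062)
(.leaf 0x20fc53e8))
(.node (.leaf 0x1228c4d3)
(.leaf 0)))
(.node (.node (.leaf 0xa009200)
(.leaf 0x2a3e5850))
(.node (.leaf 0x17ccc706)
(.leaf 0))))
(.node (.node (.node (.leaf 0x672c2c1)
(.leaf 0x261073ae))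
(.node (.leaf 0x155264ea)
(.leaf 0)))
(.node (.node (.leaf 0xeb647f0)
(.leaf 0x2e08b629))
(.node (.leaf 0x1e2448d1)
(.leaf 0))))))
(.node (.node (.node (.node (.node (.leaf 0x126a12a)
(.leaf 0x20304d26))
(.node (.leaf 0x117e48e3)
(.leaf 0)))
(.node (.node (.leaf 0x98c6f90)
(.leaf 0x29a8d70c))
(.node (.leaf 0x16fa9078)
(.leaf 0))))
(.node (.node (.node (.leaf 0x566a096)
(.leaf 0x25aad16f))
(.node (.leaf 0x14f4ccc9)
(.leaf 0)))
(.node (.node (.leaf 0xcb06c63)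
(.leaf 0x2d729718))
(.node (.leaf 0x1b5470fb)
(.leaf 0)))))
(.node (.node (.node (.node (.leaf 0x22a61ee)
(.leaf 0x2280b032))
(.node (.leaf 0x13e2b1a7)
(.leaf 0)))
(.node (.node (.leaf 0xa94c86a)
(.leaf 0x2b5ab59f))
(.node (.leaf 0x18b05152)
(.leaf 0))))
(.node (.node (.node (.leaf 0x792436a)
(.leaf 0x26e06a54))
(.node (.leaf 0x15d045e4)
(.leaf 0)))
(.node (.node (.leaf 0xf528bad)
(.leaf 0x2fda5726))
(.node (.leaf 0x1f466c30)
(.leaf 0)))))))))))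
(.node (.node (.node (.node (.node (.node (.node (.node (.node (.node (.leaf 278753)
(.leaf 0x1f50cbfd))
(.node (.leaf 0xf5ea894)
(.leaf 0x2fe0374d)))
(.node (.node (.leaf 0x7aa6391)
(.leaf 0x271c4d18))
(.node (.leaf 0x15dcd4bd)
(.leaf 0))))
(.node (.node (.node (.leaf 0x23a82b6)
(.leaf 0x22da743b))
(.node (.leaf 0x13ecc777)
(.leaf 0)))
(.node (.node (.leaf 0xaac8b07)
(.leaf 0x2bb034c3))
(.node (.leaf 0x18c68c8e)
(.leaf 0)))))
(.node (.node (.node (.node (.leaf 0x12e6048)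
(.leaf 0x2046b431))
(.node (.leaf 0x118649e6)
(.leaf 0)))
(.node (.node (.leaf 0x9948e20)
(.leaf 0x29b69526))
(.node (.leaf 0x170eb00f)
(.leaf 0))))
(.node (.node (.node (.leaf 0x60aa33d)
(.leaf 0x25b0d4b2))
(.node (.leaf 0x14fc4f6a)
(.leaf 0)))
(.node (.node (.leaf 0xcda64a2)
(.leaf 0x2d7cd6d5))
(.node (.leaf 0x1b7ed464)
(.leaf 0))))))
(.node (.node (.node (.node (.node (.leaf 0xd6c0ac)
(.leaf 0x1fb849ce))
(.node (.leaf 0x1072a4a8)
(.leaf 0x30b09633)))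
(.node (.node (.leaf 0x908a547)
(.leaf 0x2888d3fe))
(.node (.leaf 0x166a8d44)
(.leaf 0))))
(.node (.node (.node (.leaf 0x34ca1d0)
(.leaf 0x248e924f))
(.node (.leaf 0x14a6ab14)
(.leaf 0)))
(.node (.node (.leaf 0xbae869d)
(.leaf 0x2cea35bf))
(.node (.leaf 0x19caab66)
(.leaf 0)))))
(.node (.node (.node (.node (.leaf 0x1aaa296)
(.leaf 0x2116498c))
(.node (.leaf 0x124aa55c)
(.leaf 0)))
(.node (.node (.leaf 0xa0a9332)
(.leaf 0x2a4ab7cf))
(.node (.leaf 0x17dc2e35)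
(.leaf 0))))
(.node (.node (.node (.leaf 0x682a0e0)
(.leaf 0x262091e7))
(.node (.leaf 0x155a8e80)
(.leaf 0)))
(.node (.node (.leaf 0xebe72a8)
(.leaf 0x2e22b6a4))
(.node (.leaf 0x1f02ab37)
(.leaf 0)))))))
(.node (.node (.node (.node (.node (.node (.leaf 0x76200a)
(.leaf 0x1f828ddf))
(.node (.leaf 0xfe0b03b)
(.leaf 0x30229571)))
(.node (.node (.leaf 0x818c382)
(.leaf 0x284e4d93))
(.node (.leaf 0x161ad35f)
(.leaf 0))))
(.node (.node (.node (.leaf 0x2b88431)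
(.leaf 0x245648df))
(.node (.leaf 0x148291cc)
(.leaf 0)))
(.node (.node (.leaf 0xb28692b)
(.leaf 0x2c4eb7c4))
(.node (.leaf 0x193eaaad)
(.leaf 0)))))
(.node (.node (.node (.node (.leaf 0x16a20be)
(.leaf 0x209a6dd2))
(.node (.leaf 0x11dab044)
(.leaf 0)))
(.node (.node (.leaf 0x9c64cc7)
(.leaf 0x29f0b545))
(.node (.leaf 0x17648a21)
(.leaf 0))))
(.node (.node (.node (.leaf 0x638610a)
(.leaf 0x25e4d190))
(.node (.leaf 0x152a336a)
(.leaf 0)))
(.node (.node (.leaf 0xe2e4853)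
(.leaf 0x2db697b3))
(.node (.leaf 0x1c8e4d12)
(.leaf 0))))))
(.node (.node (.node (.node (.node (.leaf 0x10043cc)
(.leaf 0x1fee5252))
(.node (.leaf 0x1154486d)
(.leaf 0)))
(.node (.node (.leaf 0x9684705)
(.leaf 0x298675e5))
(.node (.leaf 0x16b86de2)
(.leaf 0))))
(.node (.node (.node (.leaf 0x41e63d5)
(.leaf 0x2544451c))
(.node (.leaf 0x14cc71e0)
(.leaf 0)))
(.node (.node (.leaf 0xc20c707)
(.leaf 0x2d4a7855))
(.node (.leaf 0x1a8c9299)
(.leaf 0)))))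
(.node (.node (.node (.node (.leaf 0x1ec22d9)
(.leaf 0x21a0a841))
(.node (.leaf 0x13008d30)
(.leaf 0)))
(.node (.node (.leaf 0xa58cccb)
(.leaf 0x2ada35f6))
(.node (.leaf 0x1858cf3a)
(.leaf 0))))
(.node (.node (.node (.leaf 0x76e4333)
(.leaf 0x2664910d))
(.node (.leaf 0x15964e0c)
(.leaf 0)))
(.node (.node (.leaf 0xefa2d0e)
(.leaf 0x2ed4b88a))
(.node (.leaf 0x1f26cfc3)
(.leaf 0))))))))
(.node (.node (.node (.node (.node (.node (.node (.leaf 0x44a226)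
(.leaf 0x1f665122))
(.node (.leaf 0xf8a6720)
(.leaf 0x2ff8778b)))
(.node (.node (.leaf 0x7d62395)
(.leaf 0x28382671))
(.node (.leaf 0x15fa87f5)
(.leaf 0))))
(.node (.node (.node (.leaf 0x2726134)
(.leaf 0x2444c538))
(.node (.leaf 0x14186a8b)
(.leaf 0)))
(.node (.node (.leaf 0xaeac5f1)
(.leaf 0x2c30d4f9))
(.node (.leaf 0x18f6544f)
(.leaf 0)))))
(.node (.node (.node (.node (.leaf 0x14a82de)
(.leaf 0x20764da8))
(.node (.leaf 0x11aca7c7)
(.leaf 0)))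
(.node (.node (.leaf 0x9ac4a38)
(.leaf 0x29ce74f4))
(.node (.leaf 0x174053ca)
(.leaf 0))))
(.node (.node (.node (.leaf 0x6202149)
(.leaf 0x25c870d2))
(.node (.leaf 0x15146cd8)
(.leaf 0)))
(.node (.node (.leaf 0xd3c8e85)
(.leaf 0x2d9ad72d))
(.node (.leaf 0x1c046f8d)
(.leaf 0))))))
(.node (.node (.node (.node (.node (.leaf 0xe8422d)
(.leaf 0x1fd24e42))
(.node (.leaf 0x1140455d)
(.leaf 0)))
(.node (.node (.leaf 0x9384cec)
(.leaf 0x28b0ad91))
(.node (.leaf 0x16906f4e)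
(.leaf 0))))
(.node (.node (.node (.leaf 0x39c8033)
(.leaf 0x24c6c87b))
(.node (.leaf 0x14ba4d78)
(.leaf 0)))
(.node (.node (.leaf 0xbe6a895)
(.leaf 0x2d36d6c9))
(.node (.leaf 0x1a464d85)
(.leaf 0)))))
(.node (.node (.node (.node (.leaf 0x1ccc06d)
(.leaf 0x21506882))
(.node (.leaf 0x129ecd39)
(.leaf 0)))
(.node (.node (.leaf 0xa34b38d)
(.leaf 0x2a867702))
(.node (.leaf 0x18108723)
(.leaf 0))))
(.node (.node (.node (.leaf 0x6bc623b)
(.leaf 0x263eaf17))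
(.node (.leaf 0x157885e0)
(.leaf 0)))
(.node (.node (.leaf 0xee225de)
(.leaf 0x2e5e9809))
(.node (.leaf 0x1f14aadc)
(.leaf 0)))))))
(.node (.node (.node (.node (.node (.node (.leaf 0xc483c1)
(.leaf 0x1f986a2b))
(.node (.leaf 0x101ecca8)
(.leaf 0x30429711)))
(.node (.node (.leaf 0x8bca3a1)
(.leaf 0x286649a8))
(.node (.leaf 0x16504c91)
(.leaf 0))))
(.node (.node (.node (.leaf 0x3066304)
(.leaf 0x246e477e))
(.node (.leaf 0x149486db)
(.leaf 0)))
(.node (.node (.leaf 0xb62a51d)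
(.leaf 0x2cccd4f6))
(.node (.leaf 0x1990ac60)
(.leaf 0)))))
(.node (.node (.node (.node (.leaf 0x186802b)
(.leaf 0x20e4aaec))
(.node (.leaf 0x1204ad2d)
(.leaf 0)))
(.node (.node (.leaf 0x9ec4efe)
(.leaf 0x2a1cb763))
(.node (.leaf 0x17a693aa)
(.leaf 0))))
(.node (.node (.node (.leaf 0x65c83f3)
(.leaf 0x25fe948f))
(.node (.leaf 0x15407230)
(.leaf 0)))
(.node (.node (.leaf 0xeaaa528)
(.leaf 0x2de6d6d7))
(.node (.leaf 0x1d4e8bd7)
(.leaf 0))))))
(.node (.node (.node (.node (.node (.leaf 0x116824c)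
(.leaf 0x201047e1))
(.node (.leaf 0x116eacf3)
(.leaf 0)))
(.node (.node (.leaf 0x97c2b95)
(.leaf 0x299a954b))
(.node (.leaf 0x16deb15d)
(.leaf 0))))
(.node (.node (.node (.leaf 0x4b662a8)
(.leaf 0x259ed4ba))
(.node (.leaf 0x14e647e8)
(.leaf 0)))
(.node (.node (.leaf 0xc788550)
(.leaf 0x2d60d7ea))
(.node (.leaf 0x1b084c19)
(.leaf 0)))))
(.node (.node (.node (.node (.leaf 0x21441ae)
(.leaf 0x223c9359))
(.node (.leaf 0x135c65b6)
(.leaf 0)))
(.node (.node (.leaf 0xa822625)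
(.leaf 0x2b20b4d6))
(.node (.leaf 0x189ccb1c)
(.leaf 0))))
(.node (.node (.node (.leaf 0x786c3ba)
(.leaf 0x26aa4b41))
(.node (.leaf 0x15b871ad)
(.leaf 0)))
(.node (.node (.leaf 0xf32882d)
(.leaf 0x2f74973a))
(.node (.leaf 0x1f3a4b30)
(.leaf 0)))))))))
(.node (.node (.node (.node (.node (.node (.node (.node (.leaf 0x1480d7)
(.leaf 0x1f5a507a))
(.node (.leaf 0xf70b0df)
(.leaf 0x2fec7778)))
(.node (.node (.leaf 0x7c0c470)
(.leaf 0x2768d441))
(.node (.leaf 0x15eccca1)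
(.leaf 0))))
(.node (.node (.node (.leaf 0x256a0ce)
(.leaf 0x236ab1c8))
(.node (.leaf 0x13fe8ce2)
(.leaf 0)))
(.node (.node (.leaf 0xaca6f01)
(.leaf 0x2c26d4d4))
(.node (.leaf 0x18e04fea)
(.leaf 0)))))
(.node (.node (.node (.node (.leaf 0x13ac2f3)
(.leaf 0x206667e3))
(.node (.leaf 0x1196a793)
(.leaf 0)))
(.node (.node (.leaf 0x9a284df)
(.leaf 0x29c2b810))
(.node (.leaf 0x172a491b)
(.leaf 0))))
(.node (.node (.node (.leaf 0x61661f3)
(.leaf 0x25b8d3d4))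
(.node (.leaf 0x150472f4)
(.leaf 0)))
(.node (.node (.leaf 0xd0aa6d2)
(.leaf 0x2d8e9815))
(.node (.leaf 0x1bca906d)
(.leaf 0))))))
(.node (.node (.node (.node (.node (.leaf 0xde8132)
(.leaf 0x1fc4719d))
(.node (.leaf 0x10dc45ed)
(.leaf 0x3126d797)))
(.node (.node (.leaf 0x9162ceb)
(.leaf 0x2894aa23))
(.node (.leaf 0x168289ea)
(.leaf 0))))
(.node (.node (.node (.leaf 0x37a61d8)
(.leaf 0x24a68859))
(.node (.leaf 0x14b03054)
(.leaf 0)))
(.node (.node (.leaf 0xbcc8d61)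
(.leaf 0x2d2ab860))
(.node (.leaf 0x19f87128)
(.leaf 0)))))
(.node (.node (.node (.node (.leaf 0x1b8a434)
(.leaf 0x21389281))
(.node (.leaf 0x1276a991)
(.leaf 0)))
(.node (.node (.leaf 0xa1eaf15)
(.leaf 0x2a68952f))
(.node (.leaf 0x17f29127)
(.leaf 0))))
(.node (.node (.node (.leaf 0x69aa279)
(.leaf 0x262eb49e))
(.node (.leaf 0x156a8f9c)
(.leaf 0)))
(.node (.node (.leaf 0xece8c29)
(.leaf 0x2e407728))
(.node (.leaf 0x1f0ab119)
(.leaf 0)))))))
(.node (.node (.node (.node (.node (.node (.leaf 0x8c8097)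
(.leaf 0x1f8c3085))
(.node (.leaf 0x10004e5b)
(.leaf 0x302ed865)))
(.node (.node (.leaf 0x856c446)
(.leaf 0x2856747f))
(.node (.leaf 0x16288787)
(.leaf 0))))
(.node (.node (.node (.leaf 0x2dca106)
(.leaf 0x24628edf))
(.node (.leaf 0x148a51cf)
(.leaf 0)))
(.node (.node (.leaf 0xb48b287)
(.leaf 0x2c66d4d7))
(.node (.leaf 0x19706d40)
(.leaf 0)))))
(.node (.node (.node (.node (.leaf 0x17a628e)
(.leaf 0x20b26748))
(.node (.leaf 0x11f08c69)
(.leaf 0)))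
(.node (.node (.leaf 0x9d8a753)
(.leaf 0x2a0a75be))
(.node (.leaf 0x1778ca71)
(.leaf 0))))
(.node (.node (.node (.leaf 0x6448390)
(.leaf 0x25f2a631))
(.node (.leaf 0x1538cd33)
(.leaf 0)))
(.node (.node (.leaf 0xea04561)
(.leaf 0x2dccb7b0))
(.node (.leaf 0x1cdca97b)
(.leaf 0))))))
(.node (.node (.node (.node (.node (.leaf 0x10a63d3)
(.leaf 0x1ffe942e))
(.node (.leaf 0x115ec7f4)
(.leaf 0)))
(.node (.node (.leaf 0x97273e0)
(.leaf 0x298e5761))
(.node (.leaf 0x16ce4d16)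
(.leaf 0))))
(.node (.node (.node (.leaf 0x45280b3)
(.leaf 0x2596b028))
(.node (.leaf 0x14dec64f)
(.leaf 0)))
(.node (.node (.leaf 0xc50c872)
(.leaf 0x2d52b868))
(.node (.leaf 0x1ad4b323)
(.leaf 0)))))
(.node (.node (.node (.node (.leaf 0x204c24f)
(.leaf 0x21e08fce))
(.node (.leaf 0x1332888c)
(.leaf 0)))
(.node (.node (.leaf 0xa6866ab)
(.leaf 0x2b00d564))
(.node (.leaf 0x1886a7ac)
(.leaf 0))))
(.node (.node (.node (.leaf 0x77aa1ed)
(.leaf 0x2684ab38))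
(.node (.leaf 0x15ac73b4)
(.leaf 0)))
(.node (.node (.leaf 0xf0e3047)
(.leaf 0x2f18d6f1))
(.node (.leaf 0x1f324b8d)
(.leaf 0))))))))
(.node (.node (.node (.node (.node (.node (.node (.leaf 0x5e8061)
(.leaf 0x1f762c93))
(.node (.leaf 0xfac66ff)
(.leaf 0x300cb664)))
(.node (.node (.leaf 0x7f0c1ac)
(.leaf 0x28407342))
(.node (.leaf 0x160ab118)
(.leaf 0))))
(.node (.node (.node (.leaf 0x294a41d)
(.leaf 0x244c2d21))
(.node (.leaf 0x1450a50c)
(.leaf 0)))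
(.node (.node (.leaf 0xb0a6ee2)
(.leaf 0x2c3a95ff))
(.node (.leaf 0x191ea96f)
(.leaf 0)))))
(.node (.node (.node (.node (.leaf 0x1566128)
(.leaf 0x2086aa49))
(.node (.leaf 0x11cc479c)
(.leaf 0)))
(.node (.node (.leaf 0x9b8ca9a)
(.leaf 0x29e4d5c9))
(.node (.leaf 0x17528ade)
(.leaf 0))))
(.node (.node (.node (.leaf 0x628a0c9)
(.leaf 0x25d8d251))
(.node (.leaf 0x151e72b1)
(.leaf 0)))
(.node (.node (.leaf 0xd96cf5a)
(.leaf 0x2da8987c))
(.node (.leaf 0x1c444633)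
(.leaf 0))))))
(.node (.node (.node (.node (.node (.leaf 0xf46025)
(.leaf 0x1fdcb2f0))
(.node (.leaf 0x114a45b3)
(.leaf 0)))
(.node (.node (.leaf 0x95ea8b3)
(.leaf 0x28c83090))
(.node (.leaf 0x16a64946)
(.leaf 0))))
(.node (.node (.node (.leaf 0x3ea81b1)
(.leaf 0x24f2a571))
(.node (.leaf 0x14c6a5e7)
(.leaf 0)))
(.node (.node (.leaf 0xc02a687)
(.leaf 0x2d40b82c))
(.node (.leaf 0x1a662b1a)
(.leaf 0)))))
(.node (.node (.node (.node (.leaf 0x1daa135)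
(.leaf 0x2184b0ad))
(.node (.leaf 0x12ccadcb)
(.leaf 0)))
(.node (.node (.leaf 0xa44a710)
(.leaf 0x2abe573e))
(.node (.leaf 0x1838890a)
(.leaf 0))))
(.node (.node (.node (.leaf 0x762637f)
(.leaf 0x2652d485))
(.node (.leaf 0x1584d20d)
(.leaf 0)))
(.node (.node (.leaf 0xeee6579)
(.leaf 0x2e94976b))
(.node (.leaf 0x1f1c4e61)
(.leaf 0)))))))
(.node (.node (.node (.node (.node (.node (.leaf 0xcca311)
(.leaf 0x1faa4bab))
(.node (.leaf 0x1056cce8)
(.leaf 0x30645871)))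
(.node (.node (.leaf 0x8ce23c9)
(.leaf 0x28769397))
(.node (.leaf 0x16585305)
(.leaf 0))))
(.node (.node (.node (.leaf 0x31ea361)
(.leaf 0x2482273a))
(.node (.leaf 0x149ccc62)
(.leaf 0)))
(.node (.node (.leaf 0xb8a8b39)
(.leaf 0x2cda95d4))
(.node (.leaf 0x19ac896c)
(.leaf 0)))))
(.node (.node (.node (.node (.leaf 0x1986262)
(.leaf 0x20f8abbe))
(.node (.leaf 0x1220539e)
(.leaf 0)))
(.node (.node (.leaf 0x9fe4806)
(.leaf 0x2a3cb52d))
(.node (.leaf 0x17c432a7)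
(.leaf 0))))
(.node (.node (.node (.leaf 0x66e8316)
(.leaf 0x260c93f3))
(.node (.leaf 0x154ea9f4)
(.leaf 0)))
(.node (.node (.leaf 0xeb4a90f)
(.leaf 0x2e04b766))
(.node (.leaf 0x1e1c4f03)
(.leaf 0))))))
(.node (.node (.node (.node (.node (.leaf 0x120a405)
(.leaf 0x202a72d0))
(.node (.leaf 0x117cce9e)
(.leaf 0)))
(.node (.node (.leaf 0x988712a)
(.leaf 0x29a67622))
(.node (.leaf 0x16f69140)
(.leaf 0))))
(.node (.node (.node (.leaf 0x52cc1aa)
(.leaf 0x25a83018))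
(.node (.leaf 0x14f0b1df)
(.leaf 0)))
(.node (.node (.leaf 0xc9e5282)
(.leaf 0x2d6c5653))
(.node (.leaf 0x1b3e4f30)
(.leaf 0)))))
(.node (.node (.node (.node (.leaf 0x228a2d4)
(.leaf 0x22707322))
(.node (.leaf 0x13e0860e)
(.leaf 0)))
(.node (.node (.leaf 0xa8ea553)
(.leaf 0x2b4e55d2))
(.node (.leaf 0x18ac7039)
(.leaf 0))))
(.node (.node (.node (.leaf 0x792c1ab)
(.leaf 0x26d2d440))
(.node (.leaf 0x15cc71ed)
(.leaf 0)))
(.node (.node (.leaf 0xf4e4b74)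
(.leaf 0x2fd65864))
(.node (.leaf 0x1f44b058)
(.leaf 0))))))))))
(.node (.node (.node (.node (.node (.node (.node (.node (.node (.leaf 819260)
(.leaf 0x1f56cee6))
(.node (.leaf 0xf6a4db8)
(.leaf 0x2fe855f0)))
(.node (.node (.leaf 0x7b2a295)
(.leaf 0x273e54aa))
(.node (.leaf 0x15e49336)
(.leaf 0))))
(.node (.node (.node (.leaf 0x2428371)
(.leaf 0x23108ae6))
(.node (.leaf 0x13f2cda9)
(.leaf 0)))
(.node (.node (.leaf 0xab8a4cb)
(.leaf 0x2bd4569f))
(.node (.leaf 0x18d66a86)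
(.leaf 0)))))
(.node (.node (.node (.node (.leaf 0x1344045)
(.leaf 0x205668d9))
(.node (.leaf 0x118c4ef6)
(.leaf 0)))
(.node (.node (.leaf 0x99a2e9b)
(.leaf 0x29ba5642))
(.node (.leaf 0x171e4c24)
(.leaf 0))))
(.node (.node (.node (.leaf 0x6126310)
(.leaf 0x25b68aa4))
(.node (.leaf 0x15004713)
(.leaf 0)))
(.node (.node (.leaf 0xcf6924e)
(.leaf 0x2d8296b7))
(.node (.leaf 0x1ba4923b)
(.leaf 0))))))
(.node (.node (.node (.node (.node (.leaf 0xda4209)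
(.leaf 0x1fbc7428))
(.node (.leaf 0x10a2a49f)
(.leaf 0x30ee77f2)))
(.node (.node (.leaf 0x90e24b0)
(.leaf 0x288eb227))
(.node (.leaf 0x1674867c)
(.leaf 0))))
(.node (.node (.node (.leaf 0x360a358)
(.leaf 0x2498a6b7))
(.node (.leaf 0x14ac89a9)
(.leaf 0)))
(.node (.node (.leaf 0xbc26dc1)
(.leaf 0x2d04b7ec))
(.node (.leaf 0x19e0d029)
(.leaf 0)))))
(.node (.node (.node (.node (.leaf 0x1ae43ab)
(.leaf 0x21244df0))
(.node (.leaf 0x1258cd1c)
(.leaf 0)))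
(.node (.node (.leaf 0xa1685d8)
(.leaf 0x2a58784a))
(.node (.leaf 0x17ecad43)
(.leaf 0))))
(.node (.node (.node (.leaf 0x68c8238)
(.leaf 0x2626cd10))
(.node (.leaf 0x1562acb7)
(.leaf 0)))
(.node (.node (.leaf 0xec86f42)
(.leaf 0x2e303851))
(.node (.leaf 0x1f06a9c8)
(.leaf 0)))))))
(.node (.node (.node (.node (.node (.node (.leaf 0x7aa009)
(.leaf 0x1f8a6730))
(.node (.leaf 0xfeca8ce)
(.leaf 0x3028b80d)))
(.node (.node (.leaf 0x840243f)
(.leaf 0x2852b3a2))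
(.node (.leaf 0x16203178)
(.leaf 0))))
(.node (.node (.node (.leaf 0x2c842ec)
(.leaf 0x245c6bba))
(.node (.leaf 0x1486ae25)
(.leaf 0)))
(.node (.node (.leaf 0xb347298)
(.leaf 0x2c5675e6))
(.node (.leaf 0x194e882a)
(.leaf 0)))))
(.node (.node (.node (.node (.leaf 0x1704017)
(.leaf 0x20a0713c))
(.node (.leaf 0x11e4905b)
(.leaf 0)))
(.node (.node (.leaf 0x9cac8f0)
(.leaf 0x29fa7505))
(.node (.leaf 0x176e6c10)
(.leaf 0))))
(.node (.node (.node (.leaf 0x63c63f2)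
(.leaf 0x25eab4b3))
(.node (.leaf 0x15308ac9)
(.leaf 0)))
(.node (.node (.leaf 0xe9a84a9)
(.leaf 0x2dc2773f))
(.node (.leaf 0x1ca06998)
(.leaf 0))))))
(.node (.node (.node (.node (.node (.leaf 0x1064190)
(.leaf 0x1ff6922c))
(.node (.leaf 0x115ac6ae)
(.leaf 0)))
(.node (.node (.leaf 0x96e65bc)
(.leaf 0x298a7681))
(.node (.leaf 0x16c467d8)
(.leaf 0))))
(.node (.node (.node (.leaf 0x4308069)
(.leaf 0x2592b1b0))
(.node (.leaf 0x14d4afe7)
(.leaf 0)))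
(.node (.node (.leaf 0xc3cb44e)
(.leaf 0x2d4eb6fb))
(.node (.leaf 0x1a9633a8)
(.leaf 0)))))
(.node (.node (.node (.node (.leaf 0x1f680c5)
(.leaf 0x21c08d2e))
(.node (.leaf 0x130ca57a)
(.leaf 0)))
(.node (.node (.leaf 0xa602d63)
(.leaf 0x2af2b4d3))
(.node (.leaf 0x187c4cf7)
(.leaf 0))))
(.node (.node (.node (.leaf 0x774a158)
(.leaf 0x2672cb11))
(.node (.leaf 0x159e8fbb)
(.leaf 0)))
(.node (.node (.leaf 0xf06a504)
(.leaf 0x2eee5606))
(.node (.leaf 0x1f2c8eb1)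
(.leaf 0))))))))
(.node (.node (.node (.node (.node (.node (.node (.leaf 0x582041)
(.leaf 0x1f6ed306))
(.node (.leaf 0xf9a6fd5)
(.leaf 0x3004b81c)))
(.node (.node (.leaf 0x7e4618d)
(.leaf 0x283cca6b))
(.node (.leaf 0x1602c744)
(.leaf 0))))
(.node (.node (.node (.leaf 0x284c185)
(.leaf 0x24466bb9))
(.node (.leaf 0x1428a6be)
(.leaf 0)))
(.node (.node (.leaf 0xafa6f7d)
(.leaf 0x2c367586))
(.node (.leaf 0x190049e1)
(.leaf 0)))))
(.node (.node (.node (.node (.leaf 0x14ea34a)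
(.leaf 0x207ccf3c))
(.node (.leaf 0x11b68d20)
(.leaf 0)))
(.node (.node (.leaf 0x9b2a865)
(.leaf 0x29d45514))
(.node (.leaf 0x17487482)
(.leaf 0))))
(.node (.node (.node (.leaf 0x624a23d)
(.leaf 0x25ce71e5))
(.node (.leaf 0x151851ee)
(.leaf 0)))
(.node (.node (.leaf 0xd6ca5c7)
(.leaf 0x2da2559b))
(.node (.leaf 0x1c16c848)
(.leaf 0))))))
(.node (.node (.node (.node (.node (.leaf 0xee8415)
(.leaf 0x1fd669d2))
(.node (.leaf 0x11429315)
(.leaf 0)))
(.node (.node (.leaf 0x95a653c)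
(.leaf 0x28bccd75))
(.node (.leaf 0x1696d3f6)
(.leaf 0))))
(.node (.node (.node (.leaf 0x3b64143)
(.leaf 0x24e26851))
(.node (.leaf 0x14c04b3c)
(.leaf 0)))
(.node (.node (.leaf 0xbf2a69e)
(.leaf 0x2d3ab898))
(.node (.leaf 0x1a56906e)
(.leaf 0)))))
(.node (.node (.node (.node (.leaf 0x1d281ef)
(.leaf 0x2164b1b1))
(.node (.leaf 0x12b8a5b2)
(.leaf 0)))
(.node (.node (.leaf 0xa3e8d14)
(.leaf 0x2a9437aa))
(.node (.leaf 0x18228daf)
(.leaf 0))))
(.node (.node (.node (.leaf 0x728821e)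
(.leaf 0x26468a6f))
(.node (.leaf 0x15804c5d)
(.leaf 0)))
(.node (.node (.leaf 0xee687b6)
(.leaf 0x2e789648))
(.node (.leaf 0x1f188d87)
(.leaf 0)))))))
(.node (.node (.node (.node (.node (.node (.leaf 0xc8a266)
(.leaf 0x1fa445dc))
(.node (.leaf 0x103e6572)
(.leaf 0x304e9733)))
(.node (.node (.leaf 0x8c2a400)
(.leaf 0x286e93ea))
(.node (.leaf 0x1654ac1f)
(.leaf 0))))
(.node (.node (.node (.leaf 0x3122212)
(.leaf 0x247c7266))
(.node (.leaf 0x149651a2)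
(.leaf 0)))
(.node (.node (.leaf 0xb72c9c1)
(.leaf 0x2cd43660))
(.node (.leaf 0x19a22b40)
(.leaf 0)))))
(.node (.node (.node (.node (.leaf 0x18ea24a)
(.leaf 0x20f22634))
(.node (.leaf 0x120ec9e8)
(.leaf 0)))
(.node (.node (.leaf 0x9f68ace)
(.leaf 0x2a2e9723))
(.node (.leaf 0x17b68fe9)
(.leaf 0))))
(.node (.node (.node (.leaf 0x668616c)
(.leaf 0x2608d0ac))
(.node (.leaf 0x15488a20)
(.leaf 0)))
(.node (.node (.leaf 0xeae856a)
(.leaf 0x2df4984c))
(.node (.leaf 0x1d648ecf)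
(.leaf 0))))))
(.node (.node (.node (.node (.node (.leaf 0x11c2070)
(.leaf 0x201aaec5))
(.node (.leaf 0x11724d08)
(.leaf 0)))
(.node (.node (.leaf 0x9804b78)
(.leaf 0x299e96ca))
(.node (.leaf 0x16ee262c)
(.leaf 0))))
(.node (.node (.node (.leaf 0x4e423d7)
(.leaf 0x25a4d09e))
(.node (.leaf 0x14ead339)
(.leaf 0)))
(.node (.node (.leaf 0xc8cd03d)
(.leaf 0x2d68b7c0))
(.node (.leaf 0x1b1c2f7e)
(.leaf 0)))))
(.node (.node (.node (.node (.leaf 0x21e80ae)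
(.leaf 0x225a5391))
(.node (.leaf 0x13dac5b8)
(.leaf 0)))
(.node (.node (.leaf 0xa86881c)
(.leaf 0x2b2ed4c8))
(.node (.leaf 0x18a6b010)
(.leaf 0))))
(.node (.node (.node (.leaf 0x78a246e)
(.leaf 0x26c2ca03))
(.node (.leaf 0x15c46e24)
(.leaf 0)))
(.node (.node (.leaf 0xf46c8c4)
(.leaf 0x2fd2583a))
(.node (.leaf 0x1f40b18e)
(.leaf 0)))))))))
(.node (.node (.node (.node (.node (.node (.node (.node (.leaf 0x22210e)
(.leaf 0x1f606b55))
(.node (.leaf 0xf7e8f27)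
(.leaf 0x2ff07713)))
(.node (.node (.leaf 0x7d0634c)
(.leaf 0x283467ab))
(.node (.leaf 0x15f4a72f)
(.leaf 0))))
(.node (.node (.node (.leaf 0x25ec3fd)
(.leaf 0x23ecca0a))
(.node (.leaf 0x14049013)
(.leaf 0)))
(.node (.node (.leaf 0xae2c548)
(.leaf 0x2c2c94f2))
(.node (.leaf 0x18e853a1)
(.leaf 0)))))
(.node (.node (.node (.node (.leaf 0x13e4284)
(.leaf 0x207228a8))
(.node (.leaf 0x119ea658)
(.leaf 0)))
(.node (.node (.leaf 0x9a8b38e)
(.leaf 0x29c8b720))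
(.node (.leaf 0x17368643)
(.leaf 0))))
(.node (.node (.node (.leaf 0x61ca0eb)
(.leaf 0x25bed0e9))
(.node (.leaf 0x150e525b)
(.leaf 0)))
(.node (.node (.leaf 0xd168f57)
(.leaf 0x2d94d638))
(.node (.leaf 0x1bded00e)
(.leaf 0))))))
(.node (.node (.node (.node (.node (.leaf 0xe2a2f6)
(.leaf 0x1fcc4dee))
(.node (.leaf 0x113a24bf)
(.leaf 0)))
(.node (.node (.leaf 0x9243086)
(.leaf 0x289ab2e6))
(.node (.leaf 0x168831c7)
(.leaf 0))))
(.node (.node (.node (.leaf 0x38c8354)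
(.leaf 0x24b44568))
(.node (.leaf 0x14b6681d)
(.leaf 0)))
(.node (.node (.leaf 0xbd6c861)
(.leaf 0x2d32b884))
(.node (.leaf 0x1a26a83e)
(.leaf 0)))))
(.node (.node (.node (.node (.leaf 0x1c0c1f4)
(.leaf 0x21404ef9))
(.node (.leaf 0x12848fcf)
(.leaf 0)))
(.node (.node (.leaf 0xa284b84)
(.leaf 0x2a6c77bd))
(.node (.leaf 0x17fe6ed2)
(.leaf 0))))
(.node (.node (.node (.leaf 0x6aea22f)
(.leaf 0x2636b015))
(.node (.leaf 0x15726eef)
(.leaf 0)))
(.node (.node (.leaf 0xedaa691)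
(.leaf 0x2e547843))
(.node (.leaf 0x1f0e93a9)
(.leaf 0)))))))
(.node (.node (.node (.node (.node (.node (.leaf 0xac606e)
(.leaf 0x1f948ead))
(.node (.leaf 0x101685ec)
(.leaf 0x303637f6)))
(.node (.node (.leaf 0x8b46389)
(.leaf 0x285cc9ee))
(.node (.leaf 0x16447392)
(.leaf 0))))
(.node (.node (.node (.leaf 0x2f481bf)
(.leaf 0x24684d90))
(.node (.leaf 0x148ed237)
(.leaf 0)))
(.node (.node (.leaf 0xb58d271)
(.leaf 0x2c8877b9))
(.node (.leaf 0x1980cea0)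
(.leaf 0)))))
(.node (.node (.node (.node (.leaf 0x17e6227)
(.leaf 0x20bc9034))
(.node (.leaf 0x11fa2be8)
(.leaf 0)))
(.node (.node (.leaf 0x9e08b9d)
(.leaf 0x2a167552))
(.node (.leaf 0x179653b6)
(.leaf 0))))
(.node (.node (.node (.leaf 0x64ea339)
(.leaf 0x25f6a69c))
(.node (.leaf 0x153c53a4)
(.leaf 0)))
(.node (.node (.leaf 0xea24e23)
(.leaf 0x2ddc986d))
(.node (.leaf 0x1cfa4cbb)
(.leaf 0))))))
(.node (.node (.node (.node (.node (.leaf 0x112a057)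
(.leaf 0x20069125))
(.node (.leaf 0x11686696)
(.leaf 0)))
(.node (.node (.leaf 0x976280b)
(.leaf 0x299654fb))
(.node (.leaf 0x16d2347b)
(.leaf 0))))
(.node (.node (.node (.leaf 0x49c2256)
(.leaf 0x259c50eb))
(.node (.leaf 0x14e26d6e)
(.leaf 0)))
(.node (.node (.leaf 0xc5e2efa)
(.leaf 0x2d5ab7af))
(.node (.leaf 0x1af24f8e)
(.leaf 0)))))
(.node (.node (.node (.node (.leaf 0x20a4355)
(.leaf 0x21fc91f7))
(.node (.leaf 0x134aa57f)
(.leaf 0)))
(.node (.node (.leaf 0xa762932)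
(.leaf 0x2b0cb694))
(.node (.leaf 0x1890c60d)
(.leaf 0))))
(.node (.node (.node (.leaf 0x780243e)
(.leaf 0x269a4d3d))
(.node (.leaf 0x15b48b6b)
(.leaf 0)))
(.node (.node (.leaf 0xf1ea899)
(.leaf 0x2f4437b2))
(.node (.leaf 0x1f366936)
(.leaf 0))))))))
(.node (.node (.node (.node (.node (.node (.node (.leaf 0x68413f)
(.leaf 0x1f7c9458))
(.node (.leaf 0xfd6cf1a)
(.leaf 0x3018983d)))
(.node (.node (.leaf 0x7f84364)
(.leaf 0x2846946f))
(.node (.leaf 0x1614b097)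
(.leaf 0))))
(.node (.node (.node (.leaf 0x2a8a379)
(.leaf 0x24528590))
(.node (.leaf 0x1470a4ca)
(.leaf 0)))
(.node (.node (.leaf 0xb1ece40)
(.leaf 0x2c425632))
(.node (.leaf 0x1936c953)
(.leaf 0)))))
(.node (.node (.node (.node (.leaf 0x15e60ed)
(.leaf 0x20928fe3))
(.node (.leaf 0x11d248c6)
(.leaf 0)))
(.node (.node (.leaf 0x9bc4d67)
(.leaf 0x29e87734))
(.node (.leaf 0x1758c8ac)
(.leaf 0))))
(.node (.node (.node (.leaf 0x62e2323)
(.leaf 0x25dc9324))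
(.node (.leaf 0x152492c3)
(.leaf 0)))
(.node (.node (.leaf 0xdc8290b)
(.leaf 0x2db2b863))
(.node (.leaf 0x1c7c2f6d)
(.leaf 0))))))
(.node (.node (.node (.node (.node (.leaf 0xfa427d)
(.leaf 0x1fe8b1c3))
(.node (.leaf 0x114c2f86)
(.leaf 0)))
(.node (.node (.leaf 0x962c8e8)
(.leaf 0x290674a1))
(.node (.leaf 0x16b2cb86)
(.leaf 0))))
(.node (.node (.node (.leaf 0x3fec1f0)
(.leaf 0x250a885b))
(.node (.leaf 0x14c849aa)
(.leaf 0)))
(.node (.node (.leaf 0xc10a86b)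
(.leaf 0x2d44b85e))
(.node (.leaf 0x1a7a4e0d)
(.leaf 0)))))
(.node (.node (.node (.node (.leaf 0x1e4c3a5)
(.leaf 0x2190cff8))
(.node (.leaf 0x12ea6795)
(.leaf 0)))
(.node (.node (.leaf 0xa4e6a15)
(.leaf 0x2ad4d7a6))
(.node (.leaf 0x1848aa5b)
(.leaf 0))))
(.node (.node (.node (.leaf 0x76822a4)
(.leaf 0x265c91fd))
(.node (.leaf 0x158ed233)
(.leaf 0)))
(.node (.node (.leaf 0xef4490d)
(.leaf 0x2eae979c))
(.node (.leaf 0x1f207367)
(.leaf 0)))))))
(.node (.node (.node (.node (.node (.node (.leaf 0xd0844d)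
(.leaf 0x1fb26cfe))
(.node (.leaf 0x105e315f)
(.leaf 0x3086b799)))
(.node (.node (.leaf 0x8dc6232)
(.leaf 0x2880d3fa))
(.node (.leaf 0x1662b3e3)
(.leaf 0))))
(.node (.node (.node (.leaf 0x3284429)
(.leaf 0x2488a5d6))
(.node (.leaf 0x14a0a6da)
(.leaf 0)))
(.node (.node (.leaf 0xb9e8f0b)
(.leaf 0x2ce25825))
(.node (.leaf 0x19c069c4)
(.leaf 0)))))
(.node (.node (.node (.node (.leaf 0x1a2407f)
(.leaf 0x210632ea))
(.node (.leaf 0x1236a5bb)
(.leaf 0)))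
(.node (.node (.leaf 0xa0288d7)
(.leaf 0x2a44d4c6))
(.node (.leaf 0x17d2d0c4)
(.leaf 0))))
(.node (.node (.node (.leaf 0x6784254)
(.leaf 0x26188ad2))
(.node (.leaf 0x1554ce60)
(.leaf 0)))
(.node (.node (.leaf 0xebaa765)
(.leaf 0x2e0cb6fe))
(.node (.leaf 0x1e5eb364)
(.leaf 0))))))
(.node (.node (.node (.node (.node (.leaf 0x12863c6)
(.leaf 0x2032d2e3))
(.node (.leaf 0x11806898)
(.leaf 0)))
(.node (.node (.leaf 0x9906755)
(.leaf 0x29acb5a8))
(.node (.leaf 0x1700b448)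
(.leaf 0))))
(.node (.node (.node (.leaf 0x5ba2220)
(.leaf 0x25ac7138))
(.node (.leaf 0x14f66e6b)
(.leaf 0)))
(.node (.node (.leaf 0xcbca7ef)
(.leaf 0x2d76d5d5))
(.node (.leaf 0x1b6289ac)
(.leaf 0)))))
(.node (.node (.node (.node (.leaf 0x232816e)
(.leaf 0x228a6938))
(.node (.leaf 0x13e64aef)
(.leaf 0)))
(.node (.node (.leaf 0xa986c21)
(.leaf 0x2b82b676))
(.node (.leaf 0x18ba6dea)
(.leaf 0))))
(.node (.node (.node (.leaf 0x79aa469)
(.leaf 0x26e8b2be))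
(.node (.leaf 0x15d48e00)
(.leaf 0)))
(.node (.node (.leaf 0xf568dec)
(.leaf 0x2fdcb5e1))
(.node (.leaf 0x1f4ab0b6)
(.leaf 0))))))))))))))

/-- The root of an index. -/
def posTree3 : Tree :=
(.node (.node (.node (.node (.node (.node (.node (.node (.node (.node (.node (.node (.node (.leaf 0)
(.leaf 1160))
(.node (.leaf 1156)
(.leaf 5420)))
(.node (.node (.leaf 519)
(.leaf 1263))
(.node (.leaf 1156)
(.leaf 0))))
(.node (.node (.node (.leaf 47)
(.leaf 1156))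
(.node (.leaf 1263)
(.leaf 0)))
(.node (.node (.leaf 1177)
(.leaf 5420))
(.node (.leaf 1177)
(.leaf 0)))))
(.node (.node (.node (.node (.leaf 0)
(.leaf 1263))
(.node (.leaf 1177)
(.leaf 0)))
(.node (.node (.leaf 1177)
(.leaf 5376))
(.node (.leaf 1155)
(.leaf 0))))
(.node (.node (.node (.leaf 11)
(.leaf 1156))
(.node (.leaf 1194)
(.leaf 0)))
(.node (.node (.leaf 1177)
(.leaf 5376))
(.node (.leaf 1194)
(.leaf 0))))))
(.node (.node (.node (.node (.node (.leaf 11)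
(.leaf 1194))
(.node (.leaf 1156)
(.leaf 5420)))
(.node (.node (.leaf 176)
(.leaf 1177))
(.node (.leaf 1167)
(.leaf 0))))
(.node (.node (.node (.leaf 47)
(.leaf 1167))
(.node (.leaf 1263)
(.leaf 0)))
(.node (.node (.leaf 1160)
(.leaf 5420))
(.node (.leaf 1177)
(.leaf 0)))))
(.node (.node (.node (.node (.leaf 11)
(.leaf 1194))
(.node (.leaf 1177)
(.leaf 0)))
(.node (.node (.leaf 1171)
(.leaf 5348))
(.node (.leaf 1196)
(.leaf 0))))
(.node (.node (.node (.leaf 176)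
(.leaf 1177))
(.node (.leaf 1196)
(.leaf 0)))
(.node (.node (.leaf 1263)
(.leaf 5314))
(.node (.leaf 1156)
(.leaf 0)))))))
(.node (.node (.node (.node (.node (.node (.leaf 0)
(.leaf 1156))
(.node (.leaf 1177)
(.leaf 5314)))
(.node (.node (.leaf 519)
(.leaf 1263))
(.node (.leaf 1160)
(.leaf 0))))
(.node (.node (.node (.leaf 47)
(.leaf 1194))
(.node (.leaf 1177)
(.leaf 0)))
(.node (.node (.leaf 1177)
(.leaf 5314))
(.node (.leaf 1156)
(.leaf 0)))))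
(.node (.node (.node (.node (.leaf 11)
(.leaf 1177))
(.node (.leaf 1177)
(.leaf 0)))
(.node (.node (.leaf 1194)
(.leaf 5314))
(.node (.leaf 1177)
(.leaf 0))))
(.node (.node (.node (.leaf 11)
(.leaf 1156))
(.node (.leaf 1177)
(.leaf 0)))
(.node (.node (.leaf 1156)
(.leaf 5323))
(.node (.leaf 1194)
(.leaf 0))))))
(.node (.node (.node (.node (.node (.leaf 47)
(.leaf 1279))
(.node (.leaf 1167)
(.leaf 0)))
(.node (.node (.leaf 1167)
(.leaf 1263))
(.node (.leaf 1194)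
(.leaf 0))))
(.node (.node (.node (.leaf 11)
(.leaf 1156))
(.node (.leaf 1263)
(.leaf 0)))
(.node (.node (.leaf 1156)
(.leaf 5348))
(.node (.leaf 1156)
(.leaf 0)))))
(.node (.node (.node (.node (.leaf 11)
(.leaf 1194))
(.node (.leaf 1156)
(.leaf 0)))
(.node (.node (.leaf 1167)
(.leaf 5376))
(.node (.leaf 1177)
(.leaf 0))))
(.node (.node (.node (.leaf 176)
(.leaf 1156))
(.node (.leaf 1194)
(.leaf 0)))
(.node (.node (.leaf 1155)
(.leaf 5376))
(.node (.leaf 1156)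
(.leaf 0))))))))
(.node (.node (.node (.node (.node (.node (.node (.leaf 11)
(.leaf 1194))
(.node (.leaf 1194)
(.leaf 5420)))
(.node (.node (.leaf 11)
(.leaf 1156))
(.node (.leaf 1177)
(.leaf 0))))
(.node (.node (.node (.leaf 11)
(.leaf 1194))
(.node (.leaf 1177)
(.leaf 0)))
(.node (.node (.leaf 1194)
(.leaf 5323))
(.node (.leaf 1156)
(.leaf 0)))))
(.node (.node (.node (.node (.leaf 11)
(.leaf 1177))
(.node (.leaf 1160)
(.leaf 0)))
(.node (.node (.leaf 1156)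
(.leaf 5314))
(.node (.leaf 1167)
(.leaf 0))))
(.node (.node (.node (.leaf 11)
(.leaf 1177))
(.node (.leaf 1155)
(.leaf 0)))
(.node (.node (.leaf 1160)
(.leaf 5314))
(.node (.leaf 1177)
(.leaf 0))))))
(.node (.node (.node (.node (.node (.leaf 2)
(.leaf 1160))
(.node (.leaf 1196)
(.leaf 0)))
(.node (.node (.leaf 1160)
(.leaf 1263))
(.node (.leaf 1177)
(.leaf 0))))
(.node (.node (.node (.leaf 11)
(.leaf 1177))
(.node (.leaf 1177)
(.leaf 0)))
(.node (.node (.leaf 1177)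
(.leaf 5376))
(.node (.leaf 1177)
(.leaf 0)))))
(.node (.node (.node (.node (.leaf 11)
(.leaf 1263))
(.node (.leaf 1156)
(.leaf 0)))
(.node (.node (.leaf 1156)
(.leaf 5314))
(.node (.leaf 1160)
(.leaf 0))))
(.node (.node (.node (.leaf 11)
(.leaf 1177))
(.node (.leaf 1177)
(.leaf 0)))
(.node (.node (.leaf 1279)
(.leaf 5376))
(.node (.leaf 1177)
(.leaf 0)))))))
(.node (.node (.node (.node (.node (.node (.leaf 2)
(.leaf 1279))
(.node (.leaf 1177)
(.leaf 5372)))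
(.node (.node (.leaf 176)
(.leaf 1279))
(.node (.leaf 1177)
(.leaf 0))))
(.node (.node (.node (.leaf 11)
(.leaf 1156))
(.node (.leaf 1279)
(.leaf 0)))
(.node (.node (.leaf 1156)
(.leaf 5348))
(.node (.leaf 1177)
(.leaf 0)))))
(.node (.node (.node (.node (.leaf 47)
(.leaf 1177))
(.node (.leaf 1194)
(.leaf 0)))
(.node (.node (.leaf 1160)
(.leaf 5314))
(.node (.leaf 1167)
(.leaf 0))))
(.node (.node (.node (.leaf 11)
(.leaf 1279))
(.node (.leaf 1171)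
(.leaf 0)))
(.node (.node (.leaf 1177)
(.leaf 5314))
(.node (.leaf 1177)
(.leaf 0))))))
(.node (.node (.node (.node (.node (.leaf 47)
(.leaf 1177))
(.node (.leaf 1194)
(.leaf 0)))
(.node (.node (.leaf 1160)
(.leaf 5314))
(.node (.leaf 1156)
(.leaf 0))))
(.node (.node (.node (.leaf 11)
(.leaf 1177))
(.node (.leaf 1194)
(.leaf 0)))
(.node (.node (.leaf 1177)
(.leaf 5348))
(.node (.leaf 1194)
(.leaf 0)))))
(.node (.node (.node (.node (.leaf 11)
(.leaf 1177))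
(.node (.leaf 1156)
(.leaf 0)))
(.node (.node (.leaf 1177)
(.leaf 5314))
(.node (.leaf 1177)
(.leaf 0))))
(.node (.node (.node (.leaf 176)
(.leaf 1156))
(.node (.leaf 1196)
(.leaf 0)))
(.node (.node (.leaf 1194)
(.leaf 5376))
(.node (.leaf 1160)
(.leaf 0)))))))))
(.node (.node (.node (.node (.node (.node (.node (.node (.leaf 0)
(.leaf 1177))
(.node (.leaf 1194)
(.leaf 5314)))
(.node (.node (.leaf 176)
(.leaf 1194))
(.node (.leaf 1177)
(.leaf 0))))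
(.node (.node (.node (.leaf 47)
(.leaf 1194))
(.node (.leaf 1177)
(.leaf 0)))
(.node (.node (.leaf 1167)
(.leaf 5376))
(.node (.leaf 1194)
(.leaf 0)))))
(.node (.node (.node (.node (.leaf 11)
(.leaf 1194))
(.node (.leaf 1194)
(.leaf 0)))
(.node (.node (.leaf 1177)
(.leaf 5314))
(.node (.leaf 1263)
(.leaf 0))))
(.node (.node (.node (.leaf 47)
(.leaf 1167))
(.node (.leaf 1263)
(.leaf 0)))
(.node (.node (.leaf 1156)
(.leaf 5420))
(.node (.leaf 1167)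
(.leaf 0))))))
(.node (.node (.node (.node (.node (.leaf 11)
(.leaf 1279))
(.node (.leaf 1156)
(.leaf 5420)))
(.node (.node (.leaf 1156)
(.leaf 1279))
(.node (.leaf 1194)
(.leaf 0))))
(.node (.node (.node (.leaf 11)
(.leaf 1177))
(.node (.leaf 1156)
(.leaf 0)))
(.node (.node (.leaf 1167)
(.leaf 5314))
(.node (.leaf 1177)
(.leaf 0)))))
(.node (.node (.node (.node (.leaf 11)
(.leaf 1263))
(.node (.leaf 1167)
(.leaf 0)))
(.node (.node (.leaf 1196)
(.leaf 5376))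
(.node (.leaf 1196)
(.leaf 0))))
(.node (.node (.node (.leaf 47)
(.leaf 1156))
(.node (.leaf 1263)
(.leaf 0)))
(.node (.node (.leaf 1167)
(.leaf 5376))
(.node (.leaf 1156)
(.leaf 0)))))))
(.node (.node (.node (.node (.node (.node (.leaf 11)
(.leaf 1194))
(.node (.leaf 1194)
(.leaf 5314)))
(.node (.node (.leaf 176)
(.leaf 1177))
(.node (.leaf 1156)
(.leaf 0))))
(.node (.node (.node (.leaf 11)
(.leaf 1263))
(.node (.leaf 1177)
(.leaf 0)))
(.node (.node (.leaf 1177)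
(.leaf 5314))
(.node (.leaf 1167)
(.leaf 0)))))
(.node (.node (.node (.node (.leaf 11)
(.leaf 1177))
(.node (.leaf 1194)
(.leaf 0)))
(.node (.node (.leaf 1156)
(.leaf 5314))
(.node (.leaf 1167)
(.leaf 0))))
(.node (.node (.node (.leaf 11)
(.leaf 1156))
(.node (.leaf 1156)
(.leaf 0)))
(.node (.node (.leaf 1194)
(.leaf 5376))
(.node (.leaf 1167)
(.leaf 0))))))
(.node (.node (.node (.node (.node (.leaf 0)
(.leaf 1194))
(.node (.leaf 1177)
(.leaf 0)))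
(.node (.node (.leaf 1171)
(.leaf 5314))
(.node (.leaf 1194)
(.leaf 0))))
(.node (.node (.node (.leaf 11)
(.leaf 1194))
(.node (.leaf 1156)
(.leaf 0)))
(.node (.node (.leaf 1177)
(.leaf 5420))
(.node (.leaf 1160)
(.leaf 0)))))
(.node (.node (.node (.node (.leaf 11)
(.leaf 1177))
(.node (.leaf 1167)
(.leaf 0)))
(.node (.node (.leaf 1156)
(.leaf 5420))
(.node (.leaf 1156)
(.leaf 0))))
(.node (.node (.node (.leaf 11)
(.leaf 1177))
(.node (.leaf 1177)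
(.leaf 0)))
(.node (.node (.leaf 1156)
(.leaf 5376))
(.node (.leaf 1194)
(.leaf 0))))))))
(.node (.node (.node (.node (.node (.node (.node (.leaf 0)
(.leaf 1263))
(.node (.leaf 1160)
(.leaf 5314)))
(.node (.node (.leaf 11)
(.leaf 1177))
(.node (.leaf 1194)
(.leaf 0))))
(.node (.node (.node (.leaf 47)
(.leaf 1177))
(.node (.leaf 1196)
(.leaf 0)))
(.node (.node (.leaf 1263)
(.leaf 5314))
(.node (.leaf 1194)
(.leaf 0)))))
(.node (.node (.node (.node (.leaf 47)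
(.leaf 1177))
(.node (.leaf 1155)
(.leaf 0)))
(.node (.node (.leaf 1177)
(.leaf 5323))
(.node (.leaf 1167)
(.leaf 0))))
(.node (.node (.node (.leaf 2)
(.leaf 1177))
(.node (.leaf 1194)
(.leaf 0)))
(.node (.node (.leaf 1194)
(.leaf 5314))
(.node (.leaf 1177)
(.leaf 0))))))
(.node (.node (.node (.node (.node (.leaf 176)
(.leaf 1263))
(.node (.leaf 1194)
(.leaf 0)))
(.node (.node (.leaf 1155)
(.leaf 1263))
(.node (.leaf 1177)
(.leaf 0))))
(.node (.node (.node (.leaf 11)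
(.leaf 1177))
(.node (.leaf 1177)
(.leaf 0)))
(.node (.node (.leaf 1156)
(.leaf 5376))
(.node (.leaf 1194)
(.leaf 0)))))
(.node (.node (.node (.node (.leaf 11)
(.leaf 1263))
(.node (.leaf 1263)
(.leaf 0)))
(.node (.node (.leaf 1167)
(.leaf 5314))
(.node (.leaf 1167)
(.leaf 0))))
(.node (.node (.node (.leaf 11)
(.leaf 1177))
(.node (.leaf 1177)
(.leaf 0)))
(.node (.node (.leaf 1196)
(.leaf 5376))
(.node (.leaf 1177)
(.leaf 0)))))))
(.node (.node (.node (.node (.node (.node (.leaf 11)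
(.leaf 1194))
(.node (.leaf 1194)
(.leaf 5376)))
(.node (.node (.leaf 176)
(.leaf 1263))
(.node (.leaf 1160)
(.leaf 0))))
(.node (.node (.node (.leaf 47)
(.leaf 1263))
(.node (.leaf 1155)
(.leaf 0)))
(.node (.node (.leaf 1279)
(.leaf 5420))
(.node (.leaf 1160)
(.leaf 0)))))
(.node (.node (.node (.node (.leaf 11)
(.leaf 1177))
(.node (.leaf 1177)
(.leaf 0)))
(.node (.node (.leaf 1167)
(.leaf 5314))
(.node (.leaf 1194)
(.leaf 0))))
(.node (.node (.node (.leaf 176)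
(.leaf 1194))
(.node (.leaf 1156)
(.leaf 0)))
(.node (.node (.leaf 1160)
(.leaf 5376))
(.node (.leaf 1177)
(.leaf 0))))))
(.node (.node (.node (.node (.node (.leaf 11)
(.leaf 1177))
(.node (.leaf 1156)
(.leaf 0)))
(.node (.node (.leaf 1155)
(.leaf 5314))
(.node (.leaf 1177)
(.leaf 0))))
(.node (.node (.node (.leaf 47)
(.leaf 1194))
(.node (.leaf 1171)
(.leaf 0)))
(.node (.node (.leaf 1177)
(.leaf 5376))
(.node (.leaf 1156)
(.leaf 0)))))
(.node (.node (.node (.node (.leaf 11)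
(.leaf 1177))
(.node (.leaf 1177)
(.leaf 0)))
(.node (.node (.leaf 1156)
(.leaf 5420))
(.node (.leaf 1194)
(.leaf 0))))
(.node (.node (.node (.leaf 176)
(.leaf 1263))
(.node (.leaf 1177)
(.leaf 0)))
(.node (.node (.leaf 1160)
(.leaf 5420))
(.node (.leaf 1177)
(.leaf 0))))))))))
(.node (.node (.node (.node (.node (.node (.node (.node (.node (.leaf 2)
(.leaf 1177))
(.node (.leaf 1156)
(.leaf 5314)))
(.node (.node (.leaf 176)
(.leaf 1177))
(.node (.leaf 1177)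
(.leaf 0))))
(.node (.node (.node (.leaf 519)
(.leaf 1263))
(.node (.leaf 1177)
(.leaf 0)))
(.node (.node (.leaf 1177)
(.leaf 5323))
(.node (.leaf 1167)
(.leaf 0)))))
(.node (.node (.node (.node (.leaf 11)
(.leaf 1177))
(.node (.leaf 1160)
(.leaf 0)))
(.node (.node (.leaf 1171)
(.leaf 5323))
(.node (.leaf 1167)
(.leaf 0))))
(.node (.node (.node (.leaf 11)
(.leaf 1156))
(.node (.leaf 1194)
(.leaf 0)))
(.node (.node (.leaf 1156)
(.leaf 5376))
(.node (.leaf 1194)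
(.leaf 0))))))
(.node (.node (.node (.node (.node (.leaf 11)
(.leaf 1177))
(.node (.leaf 1167)
(.leaf 5376)))
(.node (.node (.leaf 1160)
(.leaf 1263))
(.node (.leaf 1194)
(.leaf 0))))
(.node (.node (.node (.leaf 11)
(.leaf 1194))
(.node (.leaf 1194)
(.leaf 0)))
(.node (.node (.leaf 1196)
(.leaf 5376))
(.node (.leaf 1177)
(.leaf 0)))))
(.node (.node (.node (.node (.leaf 47)
(.leaf 1177))
(.node (.leaf 1171)
(.leaf 0)))
(.node (.node (.leaf 1171)
(.leaf 5376))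
(.node (.leaf 1194)
(.leaf 0))))
(.node (.node (.node (.leaf 11)
(.leaf 1177))
(.node (.leaf 1196)
(.leaf 0)))
(.node (.node (.leaf 1156)
(.leaf 5376))
(.node (.leaf 1160)
(.leaf 0)))))))
(.node (.node (.node (.node (.node (.node (.leaf 11)
(.leaf 1177))
(.node (.leaf 1177)
(.leaf 5376)))
(.node (.node (.leaf 11)
(.leaf 1177))
(.node (.leaf 1156)
(.leaf 0))))
(.node (.node (.node (.leaf 11)
(.leaf 1196))
(.node (.leaf 1177)
(.leaf 0)))
(.node (.node (.leaf 1177)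
(.leaf 5376))
(.node (.leaf 1167)
(.leaf 0)))))
(.node (.node (.node (.node (.leaf 11)
(.leaf 1156))
(.node (.leaf 1177)
(.leaf 0)))
(.node (.node (.leaf 1156)
(.leaf 5376))
(.node (.leaf 1177)
(.leaf 0))))
(.node (.node (.node (.leaf 11)
(.leaf 1160))
(.node (.leaf 1263)
(.leaf 0)))
(.node (.node (.leaf 1194)
(.leaf 5376))
(.node (.leaf 1177)
(.leaf 0))))))
(.node (.node (.node (.node (.node (.leaf 11)
(.leaf 1279))
(.node (.leaf 1156)
(.leaf 0)))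
(.node (.node (.leaf 1156)
(.leaf 5314))
(.node (.leaf 1177)
(.leaf 0))))
(.node (.node (.node (.leaf 11)
(.leaf 1194))
(.node (.leaf 1177)
(.leaf 0)))
(.node (.node (.leaf 1156)
(.leaf 5314))
(.node (.leaf 1177)
(.leaf 0)))))
(.node (.node (.node (.node (.leaf 11)
(.leaf 1194))
(.node (.leaf 1194)
(.leaf 0)))
(.node (.node (.leaf 1156)
(.leaf 5314))
(.node (.leaf 1177)
(.leaf 0))))
(.node (.node (.node (.leaf 519)
(.leaf 1263))
(.node (.leaf 1279)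
(.leaf 0)))
(.node (.node (.leaf 1196)
(.leaf 5376))
(.node (.leaf 1177)
(.leaf 0))))))))
(.node (.node (.node (.node (.node (.node (.node (.leaf 11)
(.leaf 1263))
(.node (.leaf 1177)
(.leaf 5420)))
(.node (.node (.leaf 11)
(.leaf 1194))
(.node (.leaf 1194)
(.leaf 0))))
(.node (.node (.node (.leaf 11)
(.leaf 1194))
(.node (.leaf 1177)
(.leaf 0)))
(.node (.node (.leaf 1177)
(.leaf 5314))
(.node (.leaf 1167)
(.leaf 0)))))
(.node (.node (.node (.node (.leaf 11)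
(.leaf 1177))
(.node (.leaf 1177)
(.leaf 0)))
(.node (.node (.leaf 1160)
(.leaf 5314))
(.node (.leaf 1194)
(.leaf 0))))
(.node (.node (.node (.leaf 11)
(.leaf 1194))
(.node (.leaf 1177)
(.leaf 0)))
(.node (.node (.leaf 1196)
(.leaf 5376))
(.node (.leaf 1194)
(.leaf 0))))))
(.node (.node (.node (.node (.node (.leaf 11)
(.leaf 1177))
(.node (.leaf 1194)
(.leaf 0)))
(.node (.node (.leaf 1160)
(.leaf 1177))
(.node (.leaf 1160)
(.leaf 0))))
(.node (.node (.node (.leaf 11)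
(.leaf 1160))
(.node (.leaf 1156)
(.leaf 0)))
(.node (.node (.leaf 1194)
(.leaf 5314))
(.node (.leaf 1156)
(.leaf 0)))))
(.node (.node (.node (.node (.leaf 11)
(.leaf 1279))
(.node (.leaf 1279)
(.leaf 0)))
(.node (.node (.leaf 1156)
(.leaf 5314))
(.node (.leaf 1194)
(.leaf 0))))
(.node (.node (.node (.leaf 11)
(.leaf 1177))
(.node (.leaf 1177)
(.leaf 0)))
(.node (.node (.leaf 1194)
(.leaf 5420))
(.node (.leaf 1194)
(.leaf 0)))))))
(.node (.node (.node (.node (.node (.node (.leaf 11)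
(.leaf 1263))
(.node (.leaf 1156)
(.leaf 5376)))
(.node (.node (.leaf 176)
(.leaf 1263))
(.node (.leaf 1160)
(.leaf 0))))
(.node (.node (.node (.leaf 11)
(.leaf 1171))
(.node (.leaf 1177)
(.leaf 0)))
(.node (.node (.leaf 1167)
(.leaf 5314))
(.node (.leaf 1194)
(.leaf 0)))))
(.node (.node (.node (.node (.leaf 11)
(.leaf 1177))
(.node (.leaf 1194)
(.leaf 0)))
(.node (.node (.leaf 1196)
(.leaf 5314))
(.node (.leaf 1167)
(.leaf 0))))
(.node (.node (.node (.leaf 11)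
(.leaf 1177))
(.node (.leaf 1177)
(.leaf 0)))
(.node (.node (.leaf 1171)
(.leaf 5376))
(.node (.leaf 1160)
(.leaf 0))))))
(.node (.node (.node (.node (.node (.leaf 47)
(.leaf 1279))
(.node (.leaf 1156)
(.leaf 0)))
(.node (.node (.leaf 1177)
(.leaf 5314))
(.node (.leaf 1160)
(.leaf 0))))
(.node (.node (.node (.leaf 2)
(.leaf 1194))
(.node (.leaf 1177)
(.leaf 0)))
(.node (.node (.leaf 1194)
(.leaf 5314))
(.node (.leaf 1167)
(.leaf 0)))))
(.node (.node (.node (.node (.leaf 47)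
(.leaf 1177))
(.node (.leaf 1167)
(.leaf 0)))
(.node (.node (.leaf 1156)
(.leaf 5376))
(.node (.leaf 1279)
(.leaf 0))))
(.node (.node (.node (.leaf 519)
(.leaf 1194))
(.node (.leaf 1167)
(.leaf 0)))
(.node (.node (.leaf 1177)
(.leaf 5314))
(.node (.leaf 1167)
(.leaf 0)))))))))
(.node (.node (.node (.node (.node (.node (.node (.node (.leaf 11)
(.leaf 1263))
(.node (.leaf 1160)
(.leaf 5376)))
(.node (.node (.leaf 11)
(.leaf 1177))
(.node (.leaf 1156)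
(.leaf 0))))
(.node (.node (.node (.leaf 11)
(.leaf 1156))
(.node (.leaf 1177)
(.leaf 0)))
(.node (.node (.leaf 1177)
(.leaf 5376))
(.node (.leaf 1167)
(.leaf 0)))))
(.node (.node (.node (.node (.leaf 11)
(.leaf 1177))
(.node (.leaf 1177)
(.leaf 0)))
(.node (.node (.leaf 1171)
(.leaf 5314))
(.node (.leaf 1263)
(.leaf 0))))
(.node (.node (.node (.leaf 47)
(.leaf 1194))
(.node (.leaf 1177)
(.leaf 0)))
(.node (.node (.leaf 1177)
(.leaf 5376))
(.node (.leaf 1156)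
(.leaf 0))))))
(.node (.node (.node (.node (.node (.leaf 11)
(.leaf 1177))
(.node (.leaf 1167)
(.leaf 5376)))
(.node (.node (.leaf 1156)
(.leaf 1263))
(.node (.leaf 1194)
(.leaf 0))))
(.node (.node (.node (.leaf 11)
(.leaf 1156))
(.node (.leaf 1156)
(.leaf 0)))
(.node (.node (.leaf 1171)
(.leaf 5314))
(.node (.leaf 1156)
(.leaf 0)))))
(.node (.node (.node (.node (.leaf 26)
(.leaf 1263))
(.node (.leaf 1177)
(.leaf 0)))
(.node (.node (.leaf 1156)
(.leaf 5323))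
(.node (.leaf 1194)
(.leaf 0))))
(.node (.node (.node (.leaf 176)
(.leaf 1263))
(.node (.leaf 1156)
(.leaf 0)))
(.node (.node (.leaf 1167)
(.leaf 5376))
(.node (.leaf 1263)
(.leaf 0)))))))
(.node (.node (.node (.node (.node (.node (.leaf 11)
(.leaf 1194))
(.node (.leaf 1177)
(.leaf 5376)))
(.node (.node (.leaf 176)
(.leaf 1194))
(.node (.leaf 1177)
(.leaf 0))))
(.node (.node (.node (.leaf 11)
(.leaf 1160))
(.node (.leaf 1177)
(.leaf 0)))
(.node (.node (.leaf 1167)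
(.leaf 5314))
(.node (.leaf 1194)
(.leaf 0)))))
(.node (.node (.node (.node (.leaf 176)
(.leaf 1279))
(.node (.leaf 1156)
(.leaf 0)))
(.node (.node (.leaf 1156)
(.leaf 5314))
(.node (.leaf 1177)
(.leaf 0))))
(.node (.node (.node (.leaf 11)
(.leaf 1177))
(.node (.leaf 1196)
(.leaf 0)))
(.node (.node (.leaf 1196)
(.leaf 5376))
(.node (.leaf 1160)
(.leaf 0))))))
(.node (.node (.node (.node (.node (.leaf 11)
(.leaf 1263))
(.node (.leaf 1194)
(.leaf 0)))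
(.node (.node (.leaf 1156)
(.leaf 5314))
(.node (.leaf 1177)
(.leaf 0))))
(.node (.node (.node (.leaf 47)
(.leaf 1263))
(.node (.leaf 1194)
(.leaf 0)))
(.node (.node (.leaf 1167)
(.leaf 5323))
(.node (.leaf 1177)
(.leaf 0)))))
(.node (.node (.node (.node (.leaf 11)
(.leaf 1171))
(.node (.leaf 1177)
(.leaf 0)))
(.node (.node (.leaf 1156)
(.leaf 5314))
(.node (.leaf 1177)
(.leaf 0))))
(.node (.node (.node (.leaf 47)
(.leaf 1263))
(.node (.leaf 1177)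
(.leaf 0)))
(.node (.node (.leaf 1177)
(.leaf 5376))
(.node (.leaf 1160)
(.leaf 0))))))))
(.node (.node (.node (.node (.node (.node (.node (.leaf 47)
(.leaf 1194))
(.node (.leaf 1156)
(.leaf 5376)))
(.node (.node (.leaf 176)
(.leaf 1156))
(.node (.leaf 1160)
(.leaf 0))))
(.node (.node (.node (.leaf 47)
(.leaf 1177))
(.node (.leaf 1156)
(.leaf 0)))
(.node (.node (.leaf 1156)
(.leaf 5376))
(.node (.leaf 1156)
(.leaf 0)))))
(.node (.node (.node (.node (.leaf 11)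
(.leaf 1263))
(.node (.leaf 1194)
(.leaf 0)))
(.node (.node (.leaf 1196)
(.leaf 5314))
(.node (.leaf 1177)
(.leaf 0))))
(.node (.node (.node (.leaf 47)
(.leaf 1177))
(.node (.leaf 1263)
(.leaf 0)))
(.node (.node (.leaf 1160)
(.leaf 5420))
(.node (.leaf 1177)
(.leaf 0))))))
(.node (.node (.node (.node (.node (.leaf 11)
(.leaf 1194))
(.node (.leaf 1160)
(.leaf 0)))
(.node (.node (.leaf 1160)
(.leaf 1279))
(.node (.leaf 1156)
(.leaf 0))))
(.node (.node (.node (.leaf 11)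
(.leaf 1194))
(.node (.leaf 1177)
(.leaf 0)))
(.node (.node (.leaf 1196)
(.leaf 5314))
(.node (.leaf 1177)
(.leaf 0)))))
(.node (.node (.node (.node (.leaf 11)
(.leaf 1279))
(.node (.leaf 1177)
(.leaf 0)))
(.node (.node (.leaf 1171)
(.leaf 5314))
(.node (.leaf 1160)
(.leaf 0))))
(.node (.node (.node (.leaf 519)
(.leaf 1177))
(.node (.leaf 1177)
(.leaf 0)))
(.node (.node (.leaf 1196)
(.leaf 5323))
(.node (.leaf 1160)
(.leaf 0)))))))
(.node (.node (.node (.node (.node (.node (.leaf 11)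
(.leaf 1177))
(.node (.leaf 1156)
(.leaf 5376)))
(.node (.node (.leaf 519)
(.leaf 1177))
(.node (.leaf 1196)
(.leaf 0))))
(.node (.node (.node (.leaf 47)
(.leaf 1194))
(.node (.leaf 1156)
(.leaf 0)))
(.node (.node (.leaf 1160)
(.leaf 5420))
(.node (.leaf 1194)
(.leaf 0)))))
(.node (.node (.node (.node (.leaf 11)
(.leaf 1177))
(.node (.leaf 1156)
(.leaf 0)))
(.node (.node (.leaf 1167)
(.leaf 5314))
(.node (.leaf 1177)
(.leaf 0))))
(.node (.node (.node (.leaf 11)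
(.leaf 1194))
(.node (.leaf 1156)
(.leaf 0)))
(.node (.node (.leaf 1263)
(.leaf 5420))
(.node (.leaf 1177)
(.leaf 0))))))
(.node (.node (.node (.node (.node (.leaf 11)
(.leaf 1279))
(.node (.leaf 1177)
(.leaf 0)))
(.node (.node (.leaf 1160)
(.leaf 5323))
(.node (.leaf 1177)
(.leaf 0))))
(.node (.node (.node (.leaf 47)
(.leaf 1263))
(.node (.leaf 1167)
(.leaf 0)))
(.node (.node (.leaf 1156)
(.leaf 5376))
(.node (.leaf 1194)
(.leaf 0)))))
(.node (.node (.node (.node (.leaf 11)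
(.leaf 1194))
(.node (.leaf 1177)
(.leaf 0)))
(.node (.node (.leaf 1194)
(.leaf 5376))
(.node (.leaf 1263)
(.leaf 0))))
(.node (.node (.node (.leaf 176)
(.leaf 1177))
(.node (.leaf 1177)
(.leaf 0)))
(.node (.node (.leaf 1177)
(.leaf 5420))
(.node (.leaf 1194)
(.leaf 0)))))))))))
(.node (.node (.node (.node (.node (.node (.node (.node (.node (.node (.leaf 0)
(.leaf 1263))
(.node (.leaf 1156)
(.leaf 5420)))
(.node (.node (.leaf 11)
(.leaf 1177))
(.node (.leaf 1167)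
(.leaf 0))))
(.node (.node (.node (.leaf 11)
(.leaf 1194))
(.node (.leaf 1156)
(.leaf 0)))
(.node (.node (.leaf 1194)
(.leaf 5323))
(.node (.leaf 1177)
(.leaf 0)))))
(.node (.node (.node (.node (.leaf 11)
(.leaf 1160))
(.node (.leaf 1156)
(.leaf 0)))
(.node (.node (.leaf 1160)
(.leaf 5323))
(.node (.leaf 1194)
(.leaf 0))))
(.node (.node (.node (.leaf 11)
(.leaf 1194))
(.node (.leaf 1167)
(.leaf 0)))
(.node (.node (.leaf 1156)
(.leaf 5314))
(.node (.leaf 1160)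
(.leaf 0))))))
(.node (.node (.node (.node (.node (.leaf 11)
(.leaf 1177))
(.node (.leaf 1156)
(.leaf 5376)))
(.node (.node (.leaf 1156)
(.leaf 1279))
(.node (.leaf 1156)
(.leaf 0))))
(.node (.node (.node (.leaf 11)
(.leaf 1177))
(.node (.leaf 1156)
(.leaf 0)))
(.node (.node (.leaf 1171)
(.leaf 5323))
(.node (.leaf 1177)
(.leaf 0)))))
(.node (.node (.node (.node (.leaf 11)
(.leaf 1279))
(.node (.leaf 1160)
(.leaf 0)))
(.node (.node (.leaf 1156)
(.leaf 5314))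
(.node (.leaf 1156)
(.leaf 0))))
(.node (.node (.node (.leaf 176)
(.leaf 1167))
(.node (.leaf 1156)
(.leaf 0)))
(.node (.node (.leaf 1194)
(.leaf 5376))
(.node (.leaf 1177)
(.leaf 0)))))))
(.node (.node (.node (.node (.node (.node (.leaf 11)
(.leaf 1167))
(.node (.leaf 1167)
(.leaf 5420)))
(.node (.node (.leaf 11)
(.leaf 1177))
(.node (.leaf 1156)
(.leaf 0))))
(.node (.node (.node (.leaf 11)
(.leaf 1156))
(.node (.leaf 1194)
(.leaf 0)))
(.node (.node (.leaf 1177)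
(.leaf 5420))
(.node (.leaf 1177)
(.leaf 0)))))
(.node (.node (.node (.node (.leaf 11)
(.leaf 1279))
(.node (.leaf 1177)
(.leaf 0)))
(.node (.node (.leaf 1196)
(.leaf 5323))
(.node (.leaf 1177)
(.leaf 0))))
(.node (.node (.node (.leaf 47)
(.leaf 1177))
(.node (.leaf 1167)
(.leaf 0)))
(.node (.node (.leaf 1177)
(.leaf 5376))
(.node (.leaf 1160)
(.leaf 0))))))
(.node (.node (.node (.node (.node (.leaf 11)
(.leaf 1177))
(.node (.leaf 1160)
(.leaf 0)))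
(.node (.node (.leaf 1194)
(.leaf 5314))
(.node (.leaf 1177)
(.leaf 0))))
(.node (.node (.node (.leaf 11)
(.leaf 1194))
(.node (.leaf 1160)
(.leaf 0)))
(.node (.node (.leaf 1156)
(.leaf 5376))
(.node (.leaf 1263)
(.leaf 0)))))
(.node (.node (.node (.node (.leaf 11)
(.leaf 1279))
(.node (.leaf 1177)
(.leaf 0)))
(.node (.node (.leaf 1155)
(.leaf 5376))
(.node (.leaf 1156)
(.leaf 0))))
(.node (.node (.node (.leaf 11)
(.leaf 1279))
(.node (.leaf 1177)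
(.leaf 0)))
(.node (.node (.leaf 1160)
(.leaf 5323))
(.node (.leaf 1194)
(.leaf 0))))))))
(.node (.node (.node (.node (.node (.node (.node (.leaf 11)
(.leaf 1194))
(.node (.leaf 1196)
(.leaf 5348)))
(.node (.node (.leaf 176)
(.leaf 1194))
(.node (.leaf 1177)
(.leaf 0))))
(.node (.node (.node (.leaf 11)
(.leaf 1177))
(.node (.leaf 1279)
(.leaf 0)))
(.node (.node (.leaf 1177)
(.leaf 5376))
(.node (.leaf 1177)
(.leaf 0)))))
(.node (.node (.node (.node (.leaf 11)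
(.leaf 1194))
(.node (.leaf 1156)
(.leaf 0)))
(.node (.node (.leaf 1177)
(.leaf 5314))
(.node (.leaf 1263)
(.leaf 0))))
(.node (.node (.node (.leaf 11)
(.leaf 1263))
(.node (.leaf 1263)
(.leaf 0)))
(.node (.node (.leaf 1177)
(.leaf 5314))
(.node (.leaf 1167)
(.leaf 0))))))
(.node (.node (.node (.node (.node (.leaf 11)
(.leaf 1194))
(.node (.leaf 1194)
(.leaf 0)))
(.node (.node (.leaf 1156)
(.leaf 1263))
(.node (.leaf 1156)
(.leaf 0))))
(.node (.node (.node (.leaf 176)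
(.leaf 1177))
(.node (.leaf 1263)
(.leaf 0)))
(.node (.node (.leaf 1177)
(.leaf 5376))
(.node (.leaf 1156)
(.leaf 0)))))
(.node (.node (.node (.node (.leaf 11)
(.leaf 1279))
(.node (.leaf 1156)
(.leaf 0)))
(.node (.node (.leaf 1156)
(.leaf 5314))
(.node (.leaf 1177)
(.leaf 0))))
(.node (.node (.node (.leaf 47)
(.leaf 1177))
(.node (.leaf 1177)
(.leaf 0)))
(.node (.node (.leaf 1279)
(.leaf 5314))
(.node (.leaf 1279)
(.leaf 0)))))))
(.node (.node (.node (.node (.node (.node (.leaf 11)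
(.leaf 1167))
(.node (.leaf 1177)
(.leaf 5420)))
(.node (.node (.leaf 11)
(.leaf 1177))
(.node (.leaf 1194)
(.leaf 0))))
(.node (.node (.node (.leaf 11)
(.leaf 1263))
(.node (.leaf 1263)
(.leaf 0)))
(.node (.node (.leaf 1171)
(.leaf 5420))
(.node (.leaf 1167)
(.leaf 0)))))
(.node (.node (.node (.node (.leaf 11)
(.leaf 1263))
(.node (.leaf 1194)
(.leaf 0)))
(.node (.node (.leaf 1160)
(.leaf 5314))
(.node (.leaf 1167)
(.leaf 0))))
(.node (.node (.node (.leaf 176)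
(.leaf 1177))
(.node (.leaf 1156)
(.leaf 0)))
(.node (.node (.leaf 1160)
(.leaf 5376))
(.node (.leaf 1177)
(.leaf 0))))))
(.node (.node (.node (.node (.node (.leaf 11)
(.leaf 1194))
(.node (.leaf 1160)
(.leaf 0)))
(.node (.node (.leaf 1177)
(.leaf 5348))
(.node (.leaf 1156)
(.leaf 0))))
(.node (.node (.node (.leaf 11)
(.leaf 1194))
(.node (.leaf 1160)
(.leaf 0)))
(.node (.node (.leaf 1177)
(.leaf 5420))
(.node (.leaf 1156)
(.leaf 0)))))
(.node (.node (.node (.node (.leaf 11)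
(.leaf 1177))
(.node (.leaf 1194)
(.leaf 0)))
(.node (.node (.leaf 1177)
(.leaf 5323))
(.node (.leaf 1279)
(.leaf 0))))
(.node (.node (.node (.leaf 47)
(.leaf 1177))
(.node (.leaf 1177)
(.leaf 0)))
(.node (.node (.leaf 1177)
(.leaf 5376))
(.node (.leaf 1196)
(.leaf 0)))))))))
(.node (.node (.node (.node (.node (.node (.node (.node (.leaf 0)
(.leaf 1177))
(.node (.leaf 1156)
(.leaf 5376)))
(.node (.node (.leaf 176)
(.leaf 1177))
(.node (.leaf 1156)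
(.leaf 0))))
(.node (.node (.node (.leaf 26)
(.leaf 1177))
(.node (.leaf 1279)
(.leaf 0)))
(.node (.node (.leaf 1194)
(.leaf 5376))
(.node (.leaf 1156)
(.leaf 0)))))
(.node (.node (.node (.node (.leaf 11)
(.leaf 1177))
(.node (.leaf 1194)
(.leaf 0)))
(.node (.node (.leaf 1156)
(.leaf 5314))
(.node (.leaf 1156)
(.leaf 0))))
(.node (.node (.node (.leaf 11)
(.leaf 1156))
(.node (.leaf 1177)
(.leaf 0)))
(.node (.node (.leaf 1156)
(.leaf 5314))
(.node (.leaf 1156)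
(.leaf 0))))))
(.node (.node (.node (.node (.node (.leaf 11)
(.leaf 1279))
(.node (.leaf 1160)
(.leaf 5453)))
(.node (.node (.leaf 1155)
(.leaf 1177))
(.node (.leaf 1160)
(.leaf 0))))
(.node (.node (.node (.leaf 11)
(.leaf 1177))
(.node (.leaf 1194)
(.leaf 0)))
(.node (.node (.leaf 1156)
(.leaf 5314))
(.node (.leaf 1160)
(.leaf 0)))))
(.node (.node (.node (.node (.leaf 47)
(.leaf 1263))
(.node (.leaf 1263)
(.leaf 0)))
(.node (.node (.leaf 1194)
(.leaf 5376))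
(.node (.leaf 1279)
(.leaf 0))))
(.node (.node (.node (.leaf 11)
(.leaf 1279))
(.node (.leaf 1263)
(.leaf 0)))
(.node (.node (.leaf 1167)
(.leaf 5420))
(.node (.leaf 1194)
(.leaf 0)))))))
(.node (.node (.node (.node (.node (.node (.leaf 11)
(.leaf 1177))
(.node (.leaf 1194)
(.leaf 5420)))
(.node (.node (.leaf 11)
(.leaf 1156))
(.node (.leaf 1194)
(.leaf 0))))
(.node (.node (.node (.leaf 47)
(.leaf 1263))
(.node (.leaf 1263)
(.leaf 0)))
(.node (.node (.leaf 1177)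
(.leaf 5314))
(.node (.leaf 1156)
(.leaf 0)))))
(.node (.node (.node (.node (.leaf 11)
(.leaf 1194))
(.node (.leaf 1177)
(.leaf 0)))
(.node (.node (.leaf 1156)
(.leaf 5376))
(.node (.leaf 1177)
(.leaf 0))))
(.node (.node (.node (.leaf 11)
(.leaf 1177))
(.node (.leaf 1279)
(.leaf 0)))
(.node (.node (.leaf 1160)
(.leaf 5323))
(.node (.leaf 1177)
(.leaf 0))))))
(.node (.node (.node (.node (.node (.leaf 47)
(.leaf 1194))
(.node (.leaf 1156)
(.leaf 0)))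
(.node (.node (.leaf 1156)
(.leaf 5323))
(.node (.leaf 1160)
(.leaf 0))))
(.node (.node (.node (.leaf 11)
(.leaf 1167))
(.node (.leaf 1279)
(.leaf 0)))
(.node (.node (.leaf 1263)
(.leaf 5376))
(.node (.leaf 1177)
(.leaf 0)))))
(.node (.node (.node (.node (.leaf 11)
(.leaf 1167))
(.node (.leaf 1156)
(.leaf 0)))
(.node (.node (.leaf 1156)
(.leaf 5348))
(.node (.leaf 1177)
(.leaf 0))))
(.node (.node (.node (.leaf 11)
(.leaf 1263))
(.node (.leaf 1177)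
(.leaf 0)))
(.node (.node (.leaf 1160)
(.leaf 5376))
(.node (.leaf 1160)
(.leaf 0))))))))
(.node (.node (.node (.node (.node (.node (.node (.leaf 11)
(.leaf 1194))
(.node (.leaf 1177)
(.leaf 5314)))
(.node (.node (.leaf 11)
(.leaf 1194))
(.node (.leaf 1156)
(.leaf 0))))
(.node (.node (.node (.leaf 47)
(.leaf 1167))
(.node (.leaf 1177)
(.leaf 0)))
(.node (.node (.leaf 1194)
(.leaf 5314))
(.node (.leaf 1177)
(.leaf 0)))))
(.node (.node (.node (.node (.leaf 11)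
(.leaf 1263))
(.node (.leaf 1194)
(.leaf 0)))
(.node (.node (.leaf 1156)
(.leaf 5348))
(.node (.leaf 1177)
(.leaf 0))))
(.node (.node (.node (.leaf 11)
(.leaf 1194))
(.node (.leaf 1156)
(.leaf 0)))
(.node (.node (.leaf 1160)
(.leaf 5314))
(.node (.leaf 1279)
(.leaf 0))))))
(.node (.node (.node (.node (.node (.leaf 11)
(.leaf 1177))
(.node (.leaf 1156)
(.leaf 0)))
(.node (.node (.leaf 1156)
(.leaf 1263))
(.node (.leaf 1177)
(.leaf 0))))
(.node (.node (.node (.leaf 11)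
(.leaf 1156))
(.node (.leaf 1177)
(.leaf 0)))
(.node (.node (.leaf 1263)
(.leaf 5314))
(.node (.leaf 1177)
(.leaf 0)))))
(.node (.node (.node (.node (.leaf 47)
(.leaf 1279))
(.node (.leaf 1167)
(.leaf 0)))
(.node (.node (.leaf 1167)
(.leaf 5314))
(.node (.leaf 1177)
(.leaf 0))))
(.node (.node (.node (.leaf 519)
(.leaf 1177))
(.node (.leaf 1177)
(.leaf 0)))
(.node (.node (.leaf 1196)
(.leaf 5376))
(.node (.leaf 1177)
(.leaf 0)))))))
(.node (.node (.node (.node (.node (.node (.leaf 11)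
(.leaf 1177))
(.node (.leaf 1160)
(.leaf 5453)))
(.node (.node (.leaf 176)
(.leaf 1263))
(.node (.leaf 1177)
(.leaf 0))))
(.node (.node (.node (.leaf 11)
(.leaf 1160))
(.node (.leaf 1177)
(.leaf 0)))
(.node (.node (.leaf 1177)
(.leaf 5420))
(.node (.leaf 1160)
(.leaf 0)))))
(.node (.node (.node (.node (.leaf 11)
(.leaf 1263))
(.node (.leaf 1160)
(.leaf 0)))
(.node (.node (.leaf 1156)
(.leaf 5314))
(.node (.leaf 1160)
(.leaf 0))))
(.node (.node (.node (.leaf 176)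
(.leaf 1167))
(.node (.leaf 1160)
(.leaf 0)))
(.node (.node (.leaf 1156)
(.leaf 5323))
(.node (.leaf 1156)
(.leaf 0))))))
(.node (.node (.node (.node (.node (.leaf 2)
(.leaf 1167))
(.node (.leaf 1160)
(.leaf 0)))
(.node (.node (.leaf 1177)
(.leaf 5314))
(.node (.leaf 1160)
(.leaf 0))))
(.node (.node (.node (.leaf 11)
(.leaf 1177))
(.node (.leaf 1196)
(.leaf 0)))
(.node (.node (.leaf 1177)
(.leaf 5376))
(.node (.leaf 1263)
(.leaf 0)))))
(.node (.node (.node (.node (.leaf 11)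
(.leaf 1177))
(.node (.leaf 1177)
(.leaf 0)))
(.node (.node (.leaf 1196)
(.leaf 5314))
(.node (.leaf 1194)
(.leaf 0))))
(.node (.node (.node (.leaf 11)
(.leaf 1177))
(.node (.leaf 1156)
(.leaf 0)))
(.node (.node (.leaf 1167)
(.leaf 5420))
(.node (.leaf 1177)
(.leaf 0))))))))))
(.node (.node (.node (.node (.node (.node (.node (.node (.node (.leaf 11)
(.leaf 1177))
(.node (.leaf 1196)
(.leaf 5314)))
(.node (.node (.leaf 11)
(.leaf 1167))
(.node (.leaf 1160)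
(.leaf 0))))
(.node (.node (.node (.leaf 47)
(.leaf 1196))
(.node (.leaf 1194)
(.leaf 0)))
(.node (.node (.leaf 1177)
(.leaf 5376))
(.node (.leaf 1177)
(.leaf 0)))))
(.node (.node (.node (.node (.leaf 11)
(.leaf 1177))
(.node (.leaf 1194)
(.leaf 0)))
(.node (.node (.leaf 1171)
(.leaf 5348))
(.node (.leaf 1156)
(.leaf 0))))
(.node (.node (.node (.leaf 11)
(.leaf 1194))
(.node (.leaf 1156)
(.leaf 0)))
(.node (.node (.leaf 1156)
(.leaf 5314))
(.node (.leaf 1194)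
(.leaf 0))))))
(.node (.node (.node (.node (.node (.leaf 47)
(.leaf 1177))
(.node (.leaf 1167)
(.leaf 5453)))
(.node (.node (.leaf 1156)
(.leaf 1194))
(.node (.leaf 1194)
(.leaf 0))))
(.node (.node (.node (.leaf 11)
(.leaf 1263))
(.node (.leaf 1160)
(.leaf 0)))
(.node (.node (.leaf 1167)
(.leaf 5420))
(.node (.leaf 1167)
(.leaf 0)))))
(.node (.node (.node (.node (.leaf 47)
(.leaf 1263))
(.node (.leaf 1194)
(.leaf 0)))
(.node (.node (.leaf 1194)
(.leaf 5314))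
(.node (.leaf 1177)
(.leaf 0))))
(.node (.node (.node (.leaf 176)
(.leaf 1167))
(.node (.leaf 1156)
(.leaf 0)))
(.node (.node (.leaf 1177)
(.leaf 5314))
(.node (.leaf 1167)
(.leaf 0)))))))
(.node (.node (.node (.node (.node (.node (.leaf 11)
(.leaf 1156))
(.node (.leaf 1156)
(.leaf 5376)))
(.node (.node (.leaf 519)
(.leaf 1263))
(.node (.leaf 1160)
(.leaf 0))))
(.node (.node (.node (.leaf 11)
(.leaf 1177))
(.node (.leaf 1263)
(.leaf 0)))
(.node (.node (.leaf 1194)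
(.leaf 5323))
(.node (.leaf 1177)
(.leaf 0)))))
(.node (.node (.node (.node (.leaf 11)
(.leaf 1177))
(.node (.leaf 1263)
(.leaf 0)))
(.node (.node (.leaf 1171)
(.leaf 5348))
(.node (.leaf 1194)
(.leaf 0))))
(.node (.node (.node (.leaf 176)
(.leaf 1194))
(.node (.leaf 1156)
(.leaf 0)))
(.node (.node (.leaf 1194)
(.leaf 5420))
(.node (.leaf 1177)
(.leaf 0))))))
(.node (.node (.node (.node (.node (.leaf 11)
(.leaf 1279))
(.node (.leaf 1160)
(.leaf 0)))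
(.node (.node (.leaf 1156)
(.leaf 5314))
(.node (.leaf 1177)
(.leaf 0))))
(.node (.node (.node (.leaf 11)
(.leaf 1263))
(.node (.leaf 1194)
(.leaf 0)))
(.node (.node (.leaf 1196)
(.leaf 5314))
(.node (.leaf 1194)
(.leaf 0)))))
(.node (.node (.node (.node (.leaf 11)
(.leaf 1177))
(.node (.leaf 1279)
(.leaf 0)))
(.node (.node (.leaf 1156)
(.leaf 5314))
(.node (.leaf 1194)
(.leaf 0))))
(.node (.node (.node (.leaf 11)
(.leaf 1279))
(.node (.leaf 1167)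
(.leaf 0)))
(.node (.node (.leaf 1177)
(.leaf 5420))
(.node (.leaf 1194)
(.leaf 0))))))))
(.node (.node (.node (.node (.node (.node (.node (.leaf 11)
(.leaf 1156))
(.node (.leaf 1167)
(.leaf 5376)))
(.node (.node (.leaf 176)
(.leaf 1177))
(.node (.leaf 1177)
(.leaf 0))))
(.node (.node (.node (.leaf 11)
(.leaf 1194))
(.node (.leaf 1177)
(.leaf 0)))
(.node (.node (.leaf 1177)
(.leaf 5376))
(.node (.leaf 1177)
(.leaf 0)))))
(.node (.node (.node (.node (.leaf 11)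
(.leaf 1263))
(.node (.leaf 1194)
(.leaf 0)))
(.node (.node (.leaf 1194)
(.leaf 5420))
(.node (.leaf 1177)
(.leaf 0))))
(.node (.node (.node (.leaf 11)
(.leaf 1194))
(.node (.leaf 1160)
(.leaf 0)))
(.node (.node (.leaf 1196)
(.leaf 5376))
(.node (.leaf 1196)
(.leaf 0))))))
(.node (.node (.node (.node (.node (.leaf 11)
(.leaf 1263))
(.node (.leaf 1177)
(.leaf 0)))
(.node (.node (.leaf 1196)
(.leaf 1194))
(.node (.leaf 1160)
(.leaf 0))))
(.node (.node (.node (.leaf 11)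
(.leaf 1194))
(.node (.leaf 1177)
(.leaf 0)))
(.node (.node (.leaf 1156)
(.leaf 5314))
(.node (.leaf 1194)
(.leaf 0)))))
(.node (.node (.node (.node (.leaf 176)
(.leaf 1263))
(.node (.leaf 1177)
(.leaf 0)))
(.node (.node (.leaf 1156)
(.leaf 5323))
(.node (.leaf 1194)
(.leaf 0))))
(.node (.node (.node (.leaf 176)
(.leaf 1177))
(.node (.leaf 1177)
(.leaf 0)))
(.node (.node (.leaf 1177)
(.leaf 5348))
(.node (.leaf 1177)
(.leaf 0)))))))
(.node (.node (.node (.node (.node (.node (.leaf 11)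
(.leaf 1177))
(.node (.leaf 1156)
(.leaf 5420)))
(.node (.node (.leaf 519)
(.leaf 1279))
(.node (.leaf 1177)
(.leaf 0))))
(.node (.node (.node (.leaf 11)
(.leaf 1263))
(.node (.leaf 1177)
(.leaf 0)))
(.node (.node (.leaf 1177)
(.leaf 5420))
(.node (.leaf 1156)
(.leaf 0)))))
(.node (.node (.node (.node (.leaf 47)
(.leaf 1263))
(.node (.leaf 1177)
(.leaf 0)))
(.node (.node (.leaf 1171)
(.leaf 5314))
(.node (.leaf 1160)
(.leaf 0))))
(.node (.node (.node (.leaf 11)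
(.leaf 1177))
(.node (.leaf 1167)
(.leaf 0)))
(.node (.node (.leaf 1196)
(.leaf 5420))
(.node (.leaf 1177)
(.leaf 0))))))
(.node (.node (.node (.node (.node (.leaf 47)
(.leaf 1167))
(.node (.leaf 1156)
(.leaf 0)))
(.node (.node (.leaf 1177)
(.leaf 5314))
(.node (.leaf 1155)
(.leaf 0))))
(.node (.node (.node (.leaf 11)
(.leaf 1279))
(.node (.leaf 1194)
(.leaf 0)))
(.node (.node (.leaf 1160)
(.leaf 5314))
(.node (.leaf 1177)
(.leaf 0)))))
(.node (.node (.node (.node (.leaf 11)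
(.leaf 1263))
(.node (.leaf 1156)
(.leaf 0)))
(.node (.node (.leaf 1160)
(.leaf 5348))
(.node (.leaf 1160)
(.leaf 0))))
(.node (.node (.node (.leaf 11)
(.leaf 1263))
(.node (.leaf 1156)
(.leaf 0)))
(.node (.node (.leaf 1194)
(.leaf 5348))
(.node (.leaf 1196)
(.leaf 0)))))))))
(.node (.node (.node (.node (.node (.node (.node (.node (.leaf 2)
(.leaf 1263))
(.node (.leaf 1156)
(.leaf 5420)))
(.node (.node (.leaf 11)
(.leaf 1177))
(.node (.leaf 1177)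
(.leaf 0))))
(.node (.node (.node (.leaf 11)
(.leaf 1194))
(.node (.leaf 1263)
(.leaf 0)))
(.node (.node (.leaf 1177)
(.leaf 5376))
(.node (.leaf 1177)
(.leaf 0)))))
(.node (.node (.node (.node (.leaf 11)
(.leaf 1194))
(.node (.leaf 1160)
(.leaf 0)))
(.node (.node (.leaf 1196)
(.leaf 5314))
(.node (.leaf 1167)
(.leaf 0))))
(.node (.node (.node (.leaf 176)
(.leaf 1194))
(.node (.leaf 1177)
(.leaf 0)))
(.node (.node (.leaf 1177)
(.leaf 5314))
(.node (.leaf 1156)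
(.leaf 0))))))
(.node (.node (.node (.node (.node (.leaf 11)
(.leaf 1263))
(.node (.leaf 1160)
(.leaf 5453)))
(.node (.node (.leaf 1155)
(.leaf 1177))
(.node (.leaf 1177)
(.leaf 0))))
(.node (.node (.node (.leaf 11)
(.leaf 1177))
(.node (.leaf 1177)
(.leaf 0)))
(.node (.node (.leaf 1263)
(.leaf 5376))
(.node (.leaf 1177)
(.leaf 0)))))
(.node (.node (.node (.node (.leaf 176)
(.leaf 1177))
(.node (.leaf 1177)
(.leaf 0)))
(.node (.node (.leaf 1156)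
(.leaf 5323))
(.node (.leaf 1160)
(.leaf 0))))
(.node (.node (.node (.leaf 11)
(.leaf 1194))
(.node (.leaf 1167)
(.leaf 0)))
(.node (.node (.leaf 1167)
(.leaf 5376))
(.node (.leaf 1177)
(.leaf 0)))))))
(.node (.node (.node (.node (.node (.node (.leaf 47)
(.leaf 1194))
(.node (.leaf 1156)
(.leaf 5376)))
(.node (.node (.leaf 176)
(.leaf 1177))
(.node (.leaf 1177)
(.leaf 0))))
(.node (.node (.node (.leaf 2)
(.leaf 1177))
(.node (.leaf 1194)
(.leaf 0)))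
(.node (.node (.leaf 1167)
(.leaf 5323))
(.node (.leaf 1160)
(.leaf 0)))))
(.node (.node (.node (.node (.leaf 11)
(.leaf 1263))
(.node (.leaf 1155)
(.leaf 0)))
(.node (.node (.leaf 1167)
(.leaf 5314))
(.node (.leaf 1167)
(.leaf 0))))
(.node (.node (.node (.leaf 176)
(.leaf 1177))
(.node (.leaf 1196)
(.leaf 0)))
(.node (.node (.leaf 1196)
(.leaf 5376))
(.node (.leaf 1177)
(.leaf 0))))))
(.node (.node (.node (.node (.node (.leaf 11)
(.leaf 1263))
(.node (.leaf 1156)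
(.leaf 0)))
(.node (.node (.leaf 1160)
(.leaf 5314))
(.node (.leaf 1167)
(.leaf 0))))
(.node (.node (.node (.leaf 2)
(.leaf 1194))
(.node (.leaf 1194)
(.leaf 0)))
(.node (.node (.leaf 1177)
(.leaf 5323))
(.node (.leaf 1177)
(.leaf 0)))))
(.node (.node (.node (.node (.leaf 176)
(.leaf 1156))
(.node (.leaf 1177)
(.leaf 0)))
(.node (.node (.leaf 1194)
(.leaf 5420))
(.node (.leaf 1194)
(.leaf 0))))
(.node (.node (.node (.leaf 11)
(.leaf 1177))
(.node (.leaf 1177)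
(.leaf 0)))
(.node (.node (.leaf 1177)
(.leaf 5376))
(.node (.leaf 1156)
(.leaf 0))))))))
(.node (.node (.node (.node (.node (.node (.node (.leaf 0)
(.leaf 1177))
(.node (.leaf 1194)
(.leaf 5314)))
(.node (.node (.leaf 176)
(.leaf 1194))
(.node (.leaf 1156)
(.leaf 0))))
(.node (.node (.node (.leaf 0)
(.leaf 1194))
(.node (.leaf 1263)
(.leaf 0)))
(.node (.node (.leaf 1263)
(.leaf 5376))
(.node (.leaf 1160)
(.leaf 0)))))
(.node (.node (.node (.node (.leaf 11)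
(.leaf 1194))
(.node (.leaf 1177)
(.leaf 0)))
(.node (.node (.leaf 1156)
(.leaf 5314))
(.node (.leaf 1263)
(.leaf 0))))
(.node (.node (.node (.leaf 176)
(.leaf 1177))
(.node (.leaf 1177)
(.leaf 0)))
(.node (.node (.leaf 1194)
(.leaf 5376))
(.node (.leaf 1194)
(.leaf 0))))))
(.node (.node (.node (.node (.node (.leaf 47)
(.leaf 1263))
(.node (.leaf 1177)
(.leaf 0)))
(.node (.node (.leaf 1167)
(.leaf 1194))
(.node (.leaf 1167)
(.leaf 0))))
(.node (.node (.node (.leaf 176)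
(.leaf 1177))
(.node (.leaf 1194)
(.leaf 0)))
(.node (.node (.leaf 1156)
(.leaf 5376))
(.node (.leaf 1194)
(.leaf 0)))))
(.node (.node (.node (.node (.leaf 176)
(.leaf 1263))
(.node (.leaf 1177)
(.leaf 0)))
(.node (.node (.leaf 1156)
(.leaf 5314))
(.node (.leaf 1194)
(.leaf 0))))
(.node (.node (.node (.leaf 519)
(.leaf 1156))
(.node (.leaf 1194)
(.leaf 0)))
(.node (.node (.leaf 1156)
(.leaf 5314))
(.node (.leaf 1177)
(.leaf 0)))))))
(.node (.node (.node (.node (.node (.node (.leaf 11)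
(.leaf 1156))
(.node (.leaf 1156)
(.leaf 5376)))
(.node (.node (.leaf 176)
(.leaf 1263))
(.node (.leaf 1177)
(.leaf 0))))
(.node (.node (.node (.leaf 2)
(.leaf 1194))
(.node (.leaf 1177)
(.leaf 0)))
(.node (.node (.leaf 1177)
(.leaf 5314))
(.node (.leaf 1194)
(.leaf 0)))))
(.node (.node (.node (.node (.leaf 11)
(.leaf 1177))
(.node (.leaf 1156)
(.leaf 0)))
(.node (.node (.leaf 1194)
(.leaf 5314))
(.node (.leaf 1279)
(.leaf 0))))
(.node (.node (.node (.leaf 519)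
(.leaf 1194))
(.node (.leaf 1167)
(.leaf 0)))
(.node (.node (.leaf 1156)
(.leaf 5376))
(.node (.leaf 1160)
(.leaf 0))))))
(.node (.node (.node (.node (.node (.leaf 11)
(.leaf 1177))
(.node (.leaf 1156)
(.leaf 0)))
(.node (.node (.leaf 1167)
(.leaf 5372))
(.node (.leaf 1167)
(.leaf 0))))
(.node (.node (.node (.leaf 11)
(.leaf 1177))
(.node (.leaf 1177)
(.leaf 0)))
(.node (.node (.leaf 1194)
(.leaf 5323))
(.node (.leaf 1194)
(.leaf 0)))))
(.node (.node (.node (.node (.leaf 176)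
(.leaf 1177))
(.node (.leaf 1263)
(.leaf 0)))
(.node (.node (.leaf 1177)
(.leaf 5314))
(.node (.leaf 1156)
(.leaf 0))))
(.node (.node (.node (.leaf 176)
(.leaf 1194))
(.node (.leaf 1156)
(.leaf 0)))
(.node (.node (.leaf 1194)
(.leaf 5314))
(.node (.leaf 1194)
(.leaf 0))))))))))))
(.node (.node (.node (.node (.node (.node (.node (.node (.node (.node (.node (.leaf 2)
(.leaf 1279))
(.node (.leaf 1156)
(.leaf 5420)))
(.node (.node (.leaf 11)
(.leaf 1177))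
(.node (.leaf 1167)
(.leaf 0))))
(.node (.node (.node (.leaf 11)
(.leaf 1194))
(.node (.leaf 1263)
(.leaf 0)))
(.node (.node (.leaf 1177)
(.leaf 5314))
(.node (.leaf 1177)
(.leaf 0)))))
(.node (.node (.node (.node (.leaf 2)
(.leaf 1177))
(.node (.leaf 1177)
(.leaf 0)))
(.node (.node (.leaf 1160)
(.leaf 5314))
(.node (.leaf 1196)
(.leaf 0))))
(.node (.node (.node (.leaf 47)
(.leaf 1177))
(.node (.leaf 1156)
(.leaf 0)))
(.node (.node (.leaf 1156)
(.leaf 5314))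
(.node (.leaf 1177)
(.leaf 0))))))
(.node (.node (.node (.node (.node (.leaf 11)
(.leaf 1196))
(.node (.leaf 1194)
(.leaf 5453)))
(.node (.node (.leaf 176)
(.leaf 1177))
(.node (.leaf 1194)
(.leaf 0))))
(.node (.node (.node (.leaf 176)
(.leaf 1156))
(.node (.leaf 1177)
(.leaf 0)))
(.node (.node (.leaf 1194)
(.leaf 5376))
(.node (.leaf 1196)
(.leaf 0)))))
(.node (.node (.node (.node (.leaf 11)
(.leaf 1263))
(.node (.leaf 1177)
(.leaf 0)))
(.node (.node (.leaf 1177)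
(.leaf 5323))
(.node (.leaf 1263)
(.leaf 0))))
(.node (.node (.node (.leaf 176)
(.leaf 1160))
(.node (.leaf 1160)
(.leaf 0)))
(.node (.node (.leaf 1194)
(.leaf 5420))
(.node (.leaf 1194)
(.leaf 0)))))))
(.node (.node (.node (.node (.node (.node (.leaf 0)
(.leaf 1177))
(.node (.leaf 1156)
(.leaf 5420)))
(.node (.node (.leaf 11)
(.leaf 1167))
(.node (.leaf 1156)
(.leaf 0))))
(.node (.node (.node (.leaf 11)
(.leaf 1156))
(.node (.leaf 1194)
(.leaf 0)))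
(.node (.node (.leaf 1177)
(.leaf 5314))
(.node (.leaf 1194)
(.leaf 0)))))
(.node (.node (.node (.node (.leaf 11)
(.leaf 1177))
(.node (.leaf 1156)
(.leaf 0)))
(.node (.node (.leaf 1156)
(.leaf 5323))
(.node (.leaf 1177)
(.leaf 0))))
(.node (.node (.node (.leaf 176)
(.leaf 1279))
(.node (.leaf 1194)
(.leaf 0)))
(.node (.node (.leaf 1177)
(.leaf 5314))
(.node (.leaf 1160)
(.leaf 0))))))
(.node (.node (.node (.node (.node (.leaf 11)
(.leaf 1194))
(.node (.leaf 1177)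
(.leaf 0)))
(.node (.node (.leaf 1156)
(.leaf 5314))
(.node (.leaf 1194)
(.leaf 0))))
(.node (.node (.node (.leaf 11)
(.leaf 1194))
(.node (.leaf 1263)
(.leaf 0)))
(.node (.node (.leaf 1167)
(.leaf 5376))
(.node (.leaf 1177)
(.leaf 0)))))
(.node (.node (.node (.node (.leaf 0)
(.leaf 1177))
(.node (.leaf 1156)
(.leaf 0)))
(.node (.node (.leaf 1160)
(.leaf 5314))
(.node (.leaf 1160)
(.leaf 0))))
(.node (.node (.node (.leaf 519)
(.leaf 1263))
(.node (.leaf 1194)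
(.leaf 0)))
(.node (.node (.leaf 1167)
(.leaf 5376))
(.node (.leaf 1194)
(.leaf 0))))))))
(.node (.node (.node (.node (.node (.node (.node (.leaf 2)
(.leaf 1196))
(.node (.leaf 1177)
(.leaf 5376)))
(.node (.node (.leaf 176)
(.leaf 1194))
(.node (.leaf 1156)
(.leaf 0))))
(.node (.node (.node (.leaf 11)
(.leaf 1177))
(.node (.leaf 1279)
(.leaf 0)))
(.node (.node (.leaf 1156)
(.leaf 5314))
(.node (.leaf 1177)
(.leaf 0)))))
(.node (.node (.node (.node (.leaf 11)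
(.leaf 1194))
(.node (.leaf 1263)
(.leaf 0)))
(.node (.node (.leaf 1196)
(.leaf 5376))
(.node (.leaf 1177)
(.leaf 0))))
(.node (.node (.node (.leaf 11)
(.leaf 1194))
(.node (.leaf 1156)
(.leaf 0)))
(.node (.node (.leaf 1177)
(.leaf 5376))
(.node (.leaf 1167)
(.leaf 0))))))
(.node (.node (.node (.node (.node (.leaf 2)
(.leaf 1167))
(.node (.leaf 1156)
(.leaf 0)))
(.node (.node (.leaf 1156)
(.leaf 1177))
(.node (.leaf 1156)
(.leaf 0))))
(.node (.node (.node (.leaf 11)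
(.leaf 1194))
(.node (.leaf 1156)
(.leaf 0)))
(.node (.node (.leaf 1177)
(.leaf 5420))
(.node (.leaf 1177)
(.leaf 0)))))
(.node (.node (.node (.node (.leaf 11)
(.leaf 1177))
(.node (.leaf 1194)
(.leaf 0)))
(.node (.node (.leaf 1196)
(.leaf 5314))
(.node (.leaf 1177)
(.leaf 0))))
(.node (.node (.node (.leaf 47)
(.leaf 1279))
(.node (.leaf 1194)
(.leaf 0)))
(.node (.node (.leaf 1160)
(.leaf 5376))
(.node (.leaf 1196)
(.leaf 0)))))))
(.node (.node (.node (.node (.node (.node (.leaf 11)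
(.leaf 1177))
(.node (.leaf 1177)
(.leaf 5453)))
(.node (.node (.leaf 519)
(.leaf 1194))
(.node (.leaf 1177)
(.leaf 0))))
(.node (.node (.node (.leaf 11)
(.leaf 1263))
(.node (.leaf 1263)
(.leaf 0)))
(.node (.node (.leaf 1171)
(.leaf 5348))
(.node (.leaf 1194)
(.leaf 0)))))
(.node (.node (.node (.node (.leaf 11)
(.leaf 1156))
(.node (.leaf 1156)
(.leaf 0)))
(.node (.node (.leaf 1160)
(.leaf 5323))
(.node (.leaf 1177)
(.leaf 0))))
(.node (.node (.node (.leaf 47)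
(.leaf 1194))
(.node (.leaf 1177)
(.leaf 0)))
(.node (.node (.leaf 1160)
(.leaf 5420))
(.node (.leaf 1177)
(.leaf 0))))))
(.node (.node (.node (.node (.node (.leaf 47)
(.leaf 1177))
(.node (.leaf 1194)
(.leaf 0)))
(.node (.node (.leaf 1196)
(.leaf 5314))
(.node (.leaf 1171)
(.leaf 0))))
(.node (.node (.node (.leaf 11)
(.leaf 1177))
(.node (.leaf 1160)
(.leaf 0)))
(.node (.node (.leaf 1196)
(.leaf 5314))
(.node (.leaf 1156)
(.leaf 0)))))
(.node (.node (.node (.node (.leaf 11)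
(.leaf 1177))
(.node (.leaf 1196)
(.leaf 0)))
(.node (.node (.leaf 1160)
(.leaf 5314))
(.node (.leaf 1177)
(.leaf 0))))
(.node (.node (.node (.leaf 47)
(.leaf 1177))
(.node (.leaf 1196)
(.leaf 0)))
(.node (.node (.leaf 1167)
(.leaf 5376))
(.node (.leaf 1177)
(.leaf 0)))))))))
(.node (.node (.node (.node (.node (.node (.node (.node (.leaf 0)
(.leaf 1194))
(.node (.leaf 1156)
(.leaf 5376)))
(.node (.node (.leaf 176)
(.leaf 1167))
(.node (.leaf 1177)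
(.leaf 0))))
(.node (.node (.node (.leaf 11)
(.leaf 1263))
(.node (.leaf 1194)
(.leaf 0)))
(.node (.node (.leaf 1177)
(.leaf 5376))
(.node (.leaf 1171)
(.leaf 0)))))
(.node (.node (.node (.node (.leaf 0)
(.leaf 1263))
(.node (.leaf 1194)
(.leaf 0)))
(.node (.node (.leaf 1156)
(.leaf 5314))
(.node (.leaf 1177)
(.leaf 0))))
(.node (.node (.node (.leaf 11)
(.leaf 1156))
(.node (.leaf 1194)
(.leaf 0)))
(.node (.node (.leaf 1177)
(.leaf 5376))
(.node (.leaf 1156)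
(.leaf 0))))))
(.node (.node (.node (.node (.node (.leaf 11)
(.leaf 1177))
(.node (.leaf 1156)
(.leaf 5376)))
(.node (.node (.leaf 1156)
(.leaf 1194))
(.node (.leaf 1177)
(.leaf 0))))
(.node (.node (.node (.leaf 11)
(.leaf 1194))
(.node (.leaf 1177)
(.leaf 0)))
(.node (.node (.leaf 1167)
(.leaf 5314))
(.node (.leaf 1160)
(.leaf 0)))))
(.node (.node (.node (.node (.leaf 47)
(.leaf 1263))
(.node (.leaf 1177)
(.leaf 0)))
(.node (.node (.leaf 1177)
(.leaf 5348))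
(.node (.leaf 1177)
(.leaf 0))))
(.node (.node (.node (.leaf 11)
(.leaf 1177))
(.node (.leaf 1263)
(.leaf 0)))
(.node (.node (.leaf 1177)
(.leaf 5376))
(.node (.leaf 1177)
(.leaf 0)))))))
(.node (.node (.node (.node (.node (.node (.leaf 11)
(.leaf 1194))
(.node (.leaf 1160)
(.leaf 5314)))
(.node (.node (.leaf 176)
(.leaf 1177))
(.node (.leaf 1156)
(.leaf 0))))
(.node (.node (.node (.leaf 47)
(.leaf 1194))
(.node (.leaf 1194)
(.leaf 0)))
(.node (.node (.leaf 1155)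
(.leaf 5420))
(.node (.leaf 1194)
(.leaf 0)))))
(.node (.node (.node (.node (.leaf 2)
(.leaf 1177))
(.node (.leaf 1194)
(.leaf 0)))
(.node (.node (.leaf 1171)
(.leaf 5314))
(.node (.leaf 1167)
(.leaf 0))))
(.node (.node (.node (.leaf 176)
(.leaf 1194))
(.node (.leaf 1177)
(.leaf 0)))
(.node (.node (.leaf 1156)
(.leaf 5420))
(.node (.leaf 1177)
(.leaf 0))))))
(.node (.node (.node (.node (.node (.leaf 11)
(.leaf 1263))
(.node (.leaf 1156)
(.leaf 0)))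
(.node (.node (.leaf 1160)
(.leaf 5314))
(.node (.leaf 1160)
(.leaf 0))))
(.node (.node (.node (.leaf 2)
(.leaf 1177))
(.node (.leaf 1263)
(.leaf 0)))
(.node (.node (.leaf 1156)
(.leaf 5376))
(.node (.leaf 1177)
(.leaf 0)))))
(.node (.node (.node (.node (.leaf 11)
(.leaf 1177))
(.node (.leaf 1194)
(.leaf 0)))
(.node (.node (.leaf 1160)
(.leaf 5314))
(.node (.leaf 1194)
(.leaf 0))))
(.node (.node (.node (.leaf 47)
(.leaf 1263))
(.node (.leaf 1194)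
(.leaf 0)))
(.node (.node (.leaf 1160)
(.leaf 5420))
(.node (.leaf 1177)
(.leaf 0))))))))
(.node (.node (.node (.node (.node (.node (.node (.leaf 11)
(.leaf 1194))
(.node (.leaf 1194)
(.leaf 5376)))
(.node (.node (.leaf 176)
(.leaf 1177))
(.node (.leaf 1177)
(.leaf 0))))
(.node (.node (.node (.leaf 519)
(.leaf 1263))
(.node (.leaf 1156)
(.leaf 0)))
(.node (.node (.leaf 1263)
(.leaf 5323))
(.node (.leaf 1177)
(.leaf 0)))))
(.node (.node (.node (.node (.leaf 11)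
(.leaf 1160))
(.node (.leaf 1156)
(.leaf 0)))
(.node (.node (.leaf 1177)
(.leaf 5376))
(.node (.leaf 1177)
(.leaf 0))))
(.node (.node (.node (.leaf 176)
(.leaf 1156))
(.node (.leaf 1194)
(.leaf 0)))
(.node (.node (.leaf 1177)
(.leaf 5314))
(.node (.leaf 1156)
(.leaf 0))))))
(.node (.node (.node (.node (.node (.leaf 11)
(.leaf 1194))
(.node (.leaf 1160)
(.leaf 0)))
(.node (.node (.leaf 1171)
(.leaf 1263))
(.node (.leaf 1194)
(.leaf 0))))
(.node (.node (.node (.leaf 11)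
(.leaf 1263))
(.node (.leaf 1194)
(.leaf 0)))
(.node (.node (.leaf 1177)
(.leaf 5376))
(.node (.leaf 1177)
(.leaf 0)))))
(.node (.node (.node (.node (.leaf 11)
(.leaf 1194))
(.node (.leaf 1279)
(.leaf 0)))
(.node (.node (.leaf 1167)
(.leaf 5314))
(.node (.leaf 1177)
(.leaf 0))))
(.node (.node (.node (.leaf 11)
(.leaf 1177))
(.node (.leaf 1279)
(.leaf 0)))
(.node (.node (.leaf 1194)
(.leaf 5376))
(.node (.leaf 1177)
(.leaf 0)))))))
(.node (.node (.node (.node (.node (.node (.leaf 11)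
(.leaf 1279))
(.node (.leaf 1156)
(.leaf 5376)))
(.node (.node (.leaf 519)
(.leaf 1279))
(.node (.leaf 1177)
(.leaf 0))))
(.node (.node (.node (.leaf 176)
(.leaf 1156))
(.node (.leaf 1177)
(.leaf 0)))
(.node (.node (.leaf 1177)
(.leaf 5420))
(.node (.leaf 1160)
(.leaf 0)))))
(.node (.node (.node (.node (.leaf 11)
(.leaf 1177))
(.node (.leaf 1160)
(.leaf 0)))
(.node (.node (.leaf 1160)
(.leaf 5420))
(.node (.leaf 1196)
(.leaf 0))))
(.node (.node (.node (.leaf 176)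
(.leaf 1177))
(.node (.leaf 1196)
(.leaf 0)))
(.node (.node (.leaf 1194)
(.leaf 5376))
(.node (.leaf 1167)
(.leaf 0))))))
(.node (.node (.node (.node (.node (.leaf 11)
(.leaf 1196))
(.node (.leaf 1177)
(.leaf 0)))
(.node (.node (.leaf 1177)
(.leaf 5323))
(.node (.leaf 1160)
(.leaf 0))))
(.node (.node (.node (.leaf 176)
(.leaf 1279))
(.node (.leaf 1177)
(.leaf 0)))
(.node (.node (.leaf 1177)
(.leaf 5314))
(.node (.leaf 1196)
(.leaf 0)))))
(.node (.node (.node (.node (.leaf 47)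
(.leaf 1194))
(.node (.leaf 1171)
(.leaf 0)))
(.node (.node (.leaf 1156)
(.leaf 5314))
(.node (.leaf 1156)
(.leaf 0))))
(.node (.node (.node (.leaf 47)
(.leaf 1171))
(.node (.leaf 1156)
(.leaf 0)))
(.node (.node (.leaf 1156)
(.leaf 5420))
(.node (.leaf 1167)
(.leaf 0))))))))))
(.node (.node (.node (.node (.node (.node (.node (.node (.node (.leaf 2)
(.leaf 1177))
(.node (.leaf 1171)
(.leaf 5314)))
(.node (.node (.leaf 11)
(.leaf 1194))
(.node (.leaf 1194)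
(.leaf 0))))
(.node (.node (.node (.leaf 11)
(.leaf 1177))
(.node (.leaf 1194)
(.leaf 0)))
(.node (.node (.leaf 1156)
(.leaf 5323))
(.node (.leaf 1194)
(.leaf 0)))))
(.node (.node (.node (.node (.leaf 47)
(.leaf 1177))
(.node (.leaf 1177)
(.leaf 0)))
(.node (.node (.leaf 1156)
(.leaf 5376))
(.node (.leaf 1171)
(.leaf 0))))
(.node (.node (.node (.leaf 47)
(.leaf 1177))
(.node (.leaf 1156)
(.leaf 0)))
(.node (.node (.leaf 1177)
(.leaf 5314))
(.node (.leaf 1194)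
(.leaf 0))))))
(.node (.node (.node (.node (.node (.leaf 11)
(.leaf 1177))
(.node (.leaf 1156)
(.leaf 5376)))
(.node (.node (.leaf 1160)
(.leaf 1194))
(.node (.leaf 1177)
(.leaf 0))))
(.node (.node (.node (.leaf 11)
(.leaf 1177))
(.node (.leaf 1156)
(.leaf 0)))
(.node (.node (.leaf 1196)
(.leaf 5420))
(.node (.leaf 1194)
(.leaf 0)))))
(.node (.node (.node (.node (.leaf 2)
(.leaf 1263))
(.node (.leaf 1160)
(.leaf 0)))
(.node (.node (.leaf 1167)
(.leaf 5376))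
(.node (.leaf 1177)
(.leaf 0))))
(.node (.node (.node (.leaf 47)
(.leaf 1167))
(.node (.leaf 1194)
(.leaf 0)))
(.node (.node (.leaf 1177)
(.leaf 5376))
(.node (.leaf 1194)
(.leaf 0)))))))
(.node (.node (.node (.node (.node (.node (.leaf 11)
(.leaf 1156))
(.node (.leaf 1194)
(.leaf 5314)))
(.node (.node (.leaf 47)
(.leaf 1177))
(.node (.leaf 1177)
(.leaf 0))))
(.node (.node (.node (.leaf 11)
(.leaf 1177))
(.node (.leaf 1171)
(.leaf 0)))
(.node (.node (.leaf 1177)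
(.leaf 5323))
(.node (.leaf 1167)
(.leaf 0)))))
(.node (.node (.node (.node (.leaf 47)
(.leaf 1177))
(.node (.leaf 1171)
(.leaf 0)))
(.node (.node (.leaf 1167)
(.leaf 5314))
(.node (.leaf 1167)
(.leaf 0))))
(.node (.node (.node (.leaf 11)
(.leaf 1160))
(.node (.leaf 1177)
(.leaf 0)))
(.node (.node (.leaf 1160)
(.leaf 5420))
(.node (.leaf 1177)
(.leaf 0))))))
(.node (.node (.node (.node (.node (.leaf 47)
(.leaf 1167))
(.node (.leaf 1177)
(.leaf 0)))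
(.node (.node (.leaf 1171)
(.leaf 5314))
(.node (.leaf 1177)
(.leaf 0))))
(.node (.node (.node (.leaf 176)
(.leaf 1279))
(.node (.leaf 1279)
(.leaf 0)))
(.node (.node (.leaf 1177)
(.leaf 5314))
(.node (.leaf 1177)
(.leaf 0)))))
(.node (.node (.node (.node (.leaf 47)
(.leaf 1194))
(.node (.leaf 1194)
(.leaf 0)))
(.node (.node (.leaf 1177)
(.leaf 5314))
(.node (.leaf 1167)
(.leaf 0))))
(.node (.node (.node (.leaf 519)
(.leaf 1177))
(.node (.leaf 1177)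
(.leaf 0)))
(.node (.node (.leaf 1160)
(.leaf 5376))
(.node (.leaf 1167)
(.leaf 0))))))))
(.node (.node (.node (.node (.node (.node (.node (.leaf 11)
(.leaf 1177))
(.node (.leaf 1177)
(.leaf 5323)))
(.node (.node (.leaf 11)
(.leaf 1263))
(.node (.leaf 1194)
(.leaf 0))))
(.node (.node (.node (.leaf 11)
(.leaf 1194))
(.node (.leaf 1177)
(.leaf 0)))
(.node (.node (.leaf 1279)
(.leaf 5376))
(.node (.leaf 1196)
(.leaf 0)))))
(.node (.node (.node (.node (.leaf 11)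
(.leaf 1156))
(.node (.leaf 1196)
(.leaf 0)))
(.node (.node (.leaf 1156)
(.leaf 5314))
(.node (.leaf 1279)
(.leaf 0))))
(.node (.node (.node (.leaf 47)
(.leaf 1194))
(.node (.leaf 1263)
(.leaf 0)))
(.node (.node (.leaf 1177)
(.leaf 5420))
(.node (.leaf 1167)
(.leaf 0))))))
(.node (.node (.node (.node (.node (.leaf 0)
(.leaf 1263))
(.node (.leaf 1160)
(.leaf 0)))
(.node (.node (.leaf 1194)
(.leaf 1263))
(.node (.leaf 1156)
(.leaf 0))))
(.node (.node (.node (.leaf 176)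
(.leaf 1177))
(.node (.leaf 1279)
(.leaf 0)))
(.node (.node (.leaf 1263)
(.leaf 5376))
(.node (.leaf 1194)
(.leaf 0)))))
(.node (.node (.node (.node (.leaf 11)
(.leaf 1263))
(.node (.leaf 1177)
(.leaf 0)))
(.node (.node (.leaf 1160)
(.leaf 5420))
(.node (.leaf 1156)
(.leaf 0))))
(.node (.node (.node (.leaf 176)
(.leaf 1177))
(.node (.leaf 1194)
(.leaf 0)))
(.node (.node (.leaf 1194)
(.leaf 5314))
(.node (.leaf 1156)
(.leaf 0)))))))
(.node (.node (.node (.node (.node (.node (.leaf 11)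
(.leaf 1194))
(.node (.leaf 1156)
(.leaf 5376)))
(.node (.node (.leaf 47)
(.leaf 1263))
(.node (.leaf 1196)
(.leaf 0))))
(.node (.node (.node (.leaf 176)
(.leaf 1194))
(.node (.leaf 1177)
(.leaf 0)))
(.node (.node (.leaf 1167)
(.leaf 5420))
(.node (.leaf 1156)
(.leaf 0)))))
(.node (.node (.node (.node (.leaf 11)
(.leaf 1279))
(.node (.leaf 1177)
(.leaf 0)))
(.node (.node (.leaf 1160)
(.leaf 5348))
(.node (.leaf 1167)
(.leaf 0))))
(.node (.node (.node (.leaf 176)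
(.leaf 1177))
(.node (.leaf 1160)
(.leaf 0)))
(.node (.node (.leaf 1167)
(.leaf 5376))
(.node (.leaf 1177)
(.leaf 0))))))
(.node (.node (.node (.node (.node (.leaf 11)
(.leaf 1263))
(.node (.leaf 1160)
(.leaf 0)))
(.node (.node (.leaf 1177)
(.leaf 5314))
(.node (.leaf 1194)
(.leaf 0))))
(.node (.node (.node (.leaf 11)
(.leaf 1194))
(.node (.leaf 1194)
(.leaf 0)))
(.node (.node (.leaf 1155)
(.leaf 5420))
(.node (.leaf 1156)
(.leaf 0)))))
(.node (.node (.node (.node (.leaf 11)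
(.leaf 1156))
(.node (.leaf 1177)
(.leaf 0)))
(.node (.node (.leaf 1194)
(.leaf 5420))
(.node (.leaf 1177)
(.leaf 0))))
(.node (.node (.node (.leaf 47)
(.leaf 1279))
(.node (.leaf 1177)
(.leaf 0)))
(.node (.node (.leaf 1167)
(.leaf 5376))
(.node (.leaf 1177)
(.leaf 0)))))))))
(.node (.node (.node (.node (.node (.node (.node (.node (.leaf 26)
(.leaf 1177))
(.node (.leaf 1194)
(.leaf 5376)))
(.node (.node (.leaf 176)
(.leaf 1177))
(.node (.leaf 1156)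
(.leaf 0))))
(.node (.node (.node (.leaf 11)
(.leaf 1194))
(.node (.leaf 1177)
(.leaf 0)))
(.node (.node (.leaf 1167)
(.leaf 5376))
(.node (.leaf 1167)
(.leaf 0)))))
(.node (.node (.node (.node (.leaf 11)
(.leaf 1177))
(.node (.leaf 1177)
(.leaf 0)))
(.node (.node (.leaf 1160)
(.leaf 5314))
(.node (.leaf 1156)
(.leaf 0))))
(.node (.node (.node (.leaf 11)
(.leaf 1156))
(.node (.leaf 1177)
(.leaf 0)))
(.node (.node (.leaf 1177)
(.leaf 5376))
(.node (.leaf 1160)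
(.leaf 0))))))
(.node (.node (.node (.node (.node (.leaf 11)
(.leaf 1177))
(.node (.leaf 1167)
(.leaf 5376)))
(.node (.node (.leaf 1177)
(.leaf 1177))
(.node (.leaf 1177)
(.leaf 0))))
(.node (.node (.node (.leaf 11)
(.leaf 1177))
(.node (.leaf 1156)
(.leaf 0)))
(.node (.node (.leaf 1156)
(.leaf 5323))
(.node (.leaf 1156)
(.leaf 0)))))
(.node (.node (.node (.node (.leaf 11)
(.leaf 1263))
(.node (.leaf 1263)
(.leaf 0)))
(.node (.node (.leaf 1194)
(.leaf 5420))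
(.node (.leaf 1263)
(.leaf 0))))
(.node (.node (.node (.leaf 47)
(.leaf 1177))
(.node (.leaf 1177)
(.leaf 0)))
(.node (.node (.leaf 1156)
(.leaf 5376))
(.node (.leaf 1177)
(.leaf 0)))))))
(.node (.node (.node (.node (.node (.node (.leaf 0)
(.leaf 1177))
(.node (.leaf 1196)
(.leaf 5376)))
(.node (.node (.leaf 11)
(.leaf 1177))
(.node (.leaf 1177)
(.leaf 0))))
(.node (.node (.node (.leaf 176)
(.leaf 1263))
(.node (.leaf 1177)
(.leaf 0)))
(.node (.node (.leaf 1160)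
(.leaf 5376))
(.node (.leaf 1167)
(.leaf 0)))))
(.node (.node (.node (.node (.leaf 11)
(.leaf 1177))
(.node (.leaf 1177)
(.leaf 0)))
(.node (.node (.leaf 1156)
(.leaf 5323))
(.node (.leaf 1167)
(.leaf 0))))
(.node (.node (.node (.leaf 11)
(.leaf 1177))
(.node (.leaf 1194)
(.leaf 0)))
(.node (.node (.leaf 1160)
(.leaf 5376))
(.node (.leaf 1156)
(.leaf 0))))))
(.node (.node (.node (.node (.node (.leaf 11)
(.leaf 1177))
(.node (.leaf 1194)
(.leaf 0)))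
(.node (.node (.leaf 1156)
(.leaf 5314))
(.node (.leaf 1194)
(.leaf 0))))
(.node (.node (.node (.leaf 47)
(.leaf 1263))
(.node (.leaf 1177)
(.leaf 0)))
(.node (.node (.leaf 1177)
(.leaf 5420))
(.node (.leaf 1177)
(.leaf 0)))))
(.node (.node (.node (.node (.leaf 11)
(.leaf 1167))
(.node (.leaf 1279)
(.leaf 0)))
(.node (.node (.leaf 1156)
(.leaf 5314))
(.node (.leaf 1177)
(.leaf 0))))
(.node (.node (.node (.leaf 11)
(.leaf 1177))
(.node (.leaf 1160)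
(.leaf 0)))
(.node (.node (.leaf 1156)
(.leaf 5420))
(.node (.leaf 1177)
(.leaf 0))))))))
(.node (.node (.node (.node (.node (.node (.node (.leaf 11)
(.leaf 1160))
(.node (.leaf 1177)
(.leaf 5420)))
(.node (.node (.leaf 176)
(.leaf 1177))
(.node (.leaf 1177)
(.leaf 0))))
(.node (.node (.node (.leaf 47)
(.leaf 1177))
(.node (.leaf 1177)
(.leaf 0)))
(.node (.node (.leaf 1177)
(.leaf 5376))
(.node (.leaf 1160)
(.leaf 0)))))
(.node (.node (.node (.node (.leaf 2)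
(.leaf 1177))
(.node (.leaf 1160)
(.leaf 0)))
(.node (.node (.leaf 1160)
(.leaf 5323))
(.node (.leaf 1177)
(.leaf 0))))
(.node (.node (.node (.leaf 11)
(.leaf 1177))
(.node (.leaf 1156)
(.leaf 0)))
(.node (.node (.leaf 1196)
(.leaf 5376))
(.node (.leaf 1177)
(.leaf 0))))))
(.node (.node (.node (.node (.node (.leaf 11)
(.leaf 1263))
(.node (.leaf 1160)
(.leaf 0)))
(.node (.node (.leaf 1160)
(.leaf 1263))
(.node (.leaf 1156)
(.leaf 0))))
(.node (.node (.node (.leaf 11)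
(.leaf 1156))
(.node (.leaf 1160)
(.leaf 0)))
(.node (.node (.leaf 1155)
(.leaf 5314))
(.node (.leaf 1177)
(.leaf 0)))))
(.node (.node (.node (.node (.leaf 47)
(.leaf 1177))
(.node (.leaf 1156)
(.leaf 0)))
(.node (.node (.leaf 1167)
(.leaf 5314))
(.node (.leaf 1167)
(.leaf 0))))
(.node (.node (.node (.leaf 176)
(.leaf 1177))
(.node (.leaf 1196)
(.leaf 0)))
(.node (.node (.leaf 1171)
(.leaf 5376))
(.node (.leaf 1177)
(.leaf 0)))))))
(.node (.node (.node (.node (.node (.node (.leaf 47)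
(.leaf 1194))
(.node (.leaf 1160)
(.leaf 5376)))
(.node (.node (.leaf 176)
(.leaf 1279))
(.node (.leaf 1194)
(.leaf 0))))
(.node (.node (.node (.leaf 11)
(.leaf 1177))
(.node (.leaf 1194)
(.leaf 0)))
(.node (.node (.leaf 1177)
(.leaf 5420))
(.node (.leaf 1177)
(.leaf 0)))))
(.node (.node (.node (.node (.leaf 11)
(.leaf 1263))
(.node (.leaf 1160)
(.leaf 0)))
(.node (.node (.leaf 1167)
(.leaf 5376))
(.node (.leaf 1177)
(.leaf 0))))
(.node (.node (.node (.leaf 11)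
(.leaf 1177))
(.node (.leaf 1177)
(.leaf 0)))
(.node (.node (.leaf 1177)
(.leaf 5376))
(.node (.leaf 1194)
(.leaf 0))))))
(.node (.node (.node (.node (.node (.leaf 11)
(.leaf 1279))
(.node (.leaf 1196)
(.leaf 0)))
(.node (.node (.leaf 1156)
(.leaf 5314))
(.node (.leaf 1177)
(.leaf 0))))
(.node (.node (.node (.leaf 11)
(.leaf 1194))
(.node (.leaf 1177)
(.leaf 0)))
(.node (.node (.leaf 1194)
(.leaf 5348))
(.node (.leaf 1156)
(.leaf 0)))))
(.node (.node (.node (.node (.leaf 47)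
(.leaf 1177))
(.node (.leaf 1167)
(.leaf 0)))
(.node (.node (.leaf 1177)
(.leaf 5420))
(.node (.leaf 1177)
(.leaf 0))))
(.node (.node (.node (.leaf 47)
(.leaf 1279))
(.node (.leaf 1156)
(.leaf 0)))
(.node (.node (.leaf 1194)
(.leaf 5420))
(.node (.leaf 1194)
(.leaf 0)))))))))))
(.node (.node (.node (.node (.node (.node (.node (.node (.node (.node (.leaf 2)
(.leaf 1194))
(.node (.leaf 1156)
(.leaf 5420)))
(.node (.node (.leaf 11)
(.leaf 1177))
(.node (.leaf 1194)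
(.leaf 0))))
(.node (.node (.node (.leaf 11)
(.leaf 1177))
(.node (.leaf 1177)
(.leaf 0)))
(.node (.node (.leaf 1177)
(.leaf 5376))
(.node (.leaf 1177)
(.leaf 0)))))
(.node (.node (.node (.node (.leaf 11)
(.leaf 1177))
(.node (.leaf 1177)
(.leaf 0)))
(.node (.node (.leaf 1196)
(.leaf 5323))
(.node (.leaf 1156)
(.leaf 0))))
(.node (.node (.node (.leaf 11)
(.leaf 1194))
(.node (.leaf 1263)
(.leaf 0)))
(.node (.node (.leaf 1177)
(.leaf 5420))
(.node (.leaf 1160)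
(.leaf 0))))))
(.node (.node (.node (.node (.node (.leaf 47)
(.leaf 1155))
(.node (.leaf 1167)
(.leaf 5376)))
(.node (.node (.leaf 1156)
(.leaf 1177))
(.node (.leaf 1194)
(.leaf 0))))
(.node (.node (.node (.leaf 47)
(.leaf 1177))
(.node (.leaf 1177)
(.leaf 0)))
(.node (.node (.leaf 1156)
(.leaf 5314))
(.node (.leaf 1177)
(.leaf 0)))))
(.node (.node (.node (.node (.leaf 11)
(.leaf 1263))
(.node (.leaf 1194)
(.leaf 0)))
(.node (.node (.leaf 1156)
(.leaf 5323))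
(.node (.leaf 1194)
(.leaf 0))))
(.node (.node (.node (.leaf 176)
(.leaf 1177))
(.node (.leaf 1177)
(.leaf 0)))
(.node (.node (.leaf 1194)
(.leaf 5376))
(.node (.leaf 1167)
(.leaf 0)))))))
(.node (.node (.node (.node (.node (.node (.leaf 2)
(.leaf 1160))
(.node (.leaf 1194)
(.leaf 5376)))
(.node (.node (.leaf 176)
(.leaf 1196))
(.node (.leaf 1156)
(.leaf 0))))
(.node (.node (.node (.leaf 11)
(.leaf 1167))
(.node (.leaf 1177)
(.leaf 0)))
(.node (.node (.leaf 1177)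
(.leaf 5376))
(.node (.leaf 1156)
(.leaf 0)))))
(.node (.node (.node (.node (.leaf 47)
(.leaf 1177))
(.node (.leaf 1177)
(.leaf 0)))
(.node (.node (.leaf 1160)
(.leaf 5323))
(.node (.leaf 1177)
(.leaf 0))))
(.node (.node (.node (.leaf 11)
(.leaf 1194))
(.node (.leaf 1194)
(.leaf 0)))
(.node (.node (.leaf 1156)
(.leaf 5314))
(.node (.leaf 1156)
(.leaf 0))))))
(.node (.node (.node (.node (.node (.leaf 2)
(.leaf 1194))
(.node (.leaf 1167)
(.leaf 0)))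
(.node (.node (.leaf 1156)
(.leaf 5314))
(.node (.leaf 1156)
(.leaf 0))))
(.node (.node (.node (.leaf 11)
(.leaf 1177))
(.node (.leaf 1177)
(.leaf 0)))
(.node (.node (.leaf 1196)
(.leaf 5314))
(.node (.leaf 1156)
(.leaf 0)))))
(.node (.node (.node (.node (.leaf 11)
(.leaf 1279))
(.node (.leaf 1194)
(.leaf 0)))
(.node (.node (.leaf 1155)
(.leaf 5314))
(.node (.leaf 1156)
(.leaf 0))))
(.node (.node (.node (.leaf 11)
(.leaf 1196))
(.node (.leaf 1194)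
(.leaf 0)))
(.node (.node (.leaf 1167)
(.leaf 5323))
(.node (.leaf 1177)
(.leaf 0))))))))
(.node (.node (.node (.node (.node (.node (.node (.leaf 11)
(.leaf 1177))
(.node (.leaf 1196)
(.leaf 5376)))
(.node (.node (.leaf 176)
(.leaf 1177))
(.node (.leaf 1156)
(.leaf 0))))
(.node (.node (.node (.leaf 0)
(.leaf 1194))
(.node (.leaf 1177)
(.leaf 0)))
(.node (.node (.leaf 1196)
(.leaf 5453))
(.node (.leaf 1194)
(.leaf 0)))))
(.node (.node (.node (.node (.leaf 0)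
(.leaf 1279))
(.node (.leaf 1160)
(.leaf 0)))
(.node (.node (.leaf 1160)
(.leaf 5314))
(.node (.leaf 1194)
(.leaf 0))))
(.node (.node (.node (.leaf 11)
(.leaf 1177))
(.node (.leaf 1263)
(.leaf 0)))
(.node (.node (.leaf 1177)
(.leaf 5420))
(.node (.leaf 1167)
(.leaf 0))))))
(.node (.node (.node (.node (.node (.leaf 11)
(.leaf 1177))
(.node (.leaf 1156)
(.leaf 0)))
(.node (.node (.leaf 1156)
(.leaf 1263))
(.node (.leaf 1160)
(.leaf 0))))
(.node (.node (.node (.leaf 11)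
(.leaf 1177))
(.node (.leaf 1177)
(.leaf 0)))
(.node (.node (.leaf 1263)
(.leaf 5323))
(.node (.leaf 1156)
(.leaf 0)))))
(.node (.node (.node (.node (.leaf 11)
(.leaf 1263))
(.node (.leaf 1177)
(.leaf 0)))
(.node (.node (.leaf 1167)
(.leaf 5376))
(.node (.leaf 1263)
(.leaf 0))))
(.node (.node (.node (.leaf 176)
(.leaf 1279))
(.node (.leaf 1156)
(.leaf 0)))
(.node (.node (.leaf 1160)
(.leaf 5314))
(.node (.leaf 1156)
(.leaf 0)))))))
(.node (.node (.node (.node (.node (.node (.leaf 47)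
(.leaf 1279))
(.node (.leaf 1196)
(.leaf 5376)))
(.node (.node (.leaf 11)
(.leaf 1177))
(.node (.leaf 1156)
(.leaf 0))))
(.node (.node (.node (.leaf 11)
(.leaf 1196))
(.node (.leaf 1194)
(.leaf 0)))
(.node (.node (.leaf 1167)
(.leaf 5420))
(.node (.leaf 1177)
(.leaf 0)))))
(.node (.node (.node (.node (.leaf 11)
(.leaf 1177))
(.node (.leaf 1177)
(.leaf 0)))
(.node (.node (.leaf 1194)
(.leaf 5323))
(.node (.leaf 1155)
(.leaf 0))))
(.node (.node (.node (.leaf 11)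
(.leaf 1177))
(.node (.leaf 1177)
(.leaf 0)))
(.node (.node (.leaf 1177)
(.leaf 5376))
(.node (.leaf 1177)
(.leaf 0))))))
(.node (.node (.node (.node (.node (.leaf 47)
(.leaf 1279))
(.node (.leaf 1160)
(.leaf 0)))
(.node (.node (.leaf 1177)
(.leaf 5323))
(.node (.leaf 1156)
(.leaf 0))))
(.node (.node (.node (.leaf 176)
(.leaf 1279))
(.node (.leaf 1194)
(.leaf 0)))
(.node (.node (.leaf 1160)
(.leaf 5314))
(.node (.leaf 1194)
(.leaf 0)))))
(.node (.node (.node (.node (.leaf 11)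
(.leaf 1263))
(.node (.leaf 1167)
(.leaf 0)))
(.node (.node (.leaf 1177)
(.leaf 5323))
(.node (.leaf 1167)
(.leaf 0))))
(.node (.node (.node (.leaf 519)
(.leaf 1194))
(.node (.leaf 1177)
(.leaf 0)))
(.node (.node (.leaf 1156)
(.leaf 5376))
(.node (.leaf 1263)
(.leaf 0)))))))))
(.node (.node (.node (.node (.node (.node (.node (.node (.leaf 11)
(.leaf 1177))
(.node (.leaf 1194)
(.leaf 5376)))
(.node (.node (.leaf 176)
(.leaf 1160))
(.node (.leaf 1156)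
(.leaf 0))))
(.node (.node (.node (.leaf 11)
(.leaf 1194))
(.node (.leaf 1167)
(.leaf 0)))
(.node (.node (.leaf 1177)
(.leaf 5420))
(.node (.leaf 1160)
(.leaf 0)))))
(.node (.node (.node (.node (.leaf 176)
(.leaf 1263))
(.node (.leaf 1156)
(.leaf 0)))
(.node (.node (.leaf 1156)
(.leaf 5348))
(.node (.leaf 1177)
(.leaf 0))))
(.node (.node (.node (.leaf 47)
(.leaf 1177))
(.node (.leaf 1177)
(.leaf 0)))
(.node (.node (.leaf 1156)
(.leaf 5376))
(.node (.leaf 1177)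
(.leaf 0))))))
(.node (.node (.node (.node (.node (.leaf 11)
(.leaf 1156))
(.node (.leaf 1167)
(.leaf 5372)))
(.node (.node (.leaf 1156)
(.leaf 1194))
(.node (.leaf 1194)
(.leaf 0))))
(.node (.node (.node (.leaf 11)
(.leaf 1194))
(.node (.leaf 1167)
(.leaf 0)))
(.node (.node (.leaf 1167)
(.leaf 5348))
(.node (.leaf 1177)
(.leaf 0)))))
(.node (.node (.node (.node (.leaf 11)
(.leaf 1177))
(.node (.leaf 1194)
(.leaf 0)))
(.node (.node (.leaf 1177)
(.leaf 5348))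
(.node (.leaf 1263)
(.leaf 0))))
(.node (.node (.node (.leaf 11)
(.leaf 1177))
(.node (.leaf 1167)
(.leaf 0)))
(.node (.node (.leaf 1167)
(.leaf 5453))
(.node (.leaf 1194)
(.leaf 0)))))))
(.node (.node (.node (.node (.node (.node (.leaf 11)
(.leaf 1177))
(.node (.leaf 1177)
(.leaf 5376)))
(.node (.node (.leaf 176)
(.leaf 1263))
(.node (.leaf 1167)
(.leaf 0))))
(.node (.node (.node (.leaf 11)
(.leaf 1263))
(.node (.leaf 1263)
(.leaf 0)))
(.node (.node (.leaf 1177)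
(.leaf 5420))
(.node (.leaf 1156)
(.leaf 0)))))
(.node (.node (.node (.node (.leaf 11)
(.leaf 1177))
(.node (.leaf 1177)
(.leaf 0)))
(.node (.node (.leaf 1194)
(.leaf 5314))
(.node (.leaf 1177)
(.leaf 0))))
(.node (.node (.node (.leaf 47)
(.leaf 1160))
(.node (.leaf 1156)
(.leaf 0)))
(.node (.node (.leaf 1167)
(.leaf 5420))
(.node (.leaf 1196)
(.leaf 0))))))
(.node (.node (.node (.node (.node (.leaf 11)
(.leaf 1263))
(.node (.leaf 1156)
(.leaf 0)))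
(.node (.node (.leaf 1156)
(.leaf 5314))
(.node (.leaf 1194)
(.leaf 0))))
(.node (.node (.node (.leaf 176)
(.leaf 1263))
(.node (.leaf 1194)
(.leaf 0)))
(.node (.node (.leaf 1196)
(.leaf 5314))
(.node (.leaf 1194)
(.leaf 0)))))
(.node (.node (.node (.node (.leaf 176)
(.leaf 1177))
(.node (.leaf 1263)
(.leaf 0)))
(.node (.node (.leaf 1196)
(.leaf 5376))
(.node (.leaf 1177)
(.leaf 0))))
(.node (.node (.node (.leaf 519)
(.leaf 1263))
(.node (.leaf 1177)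
(.leaf 0)))
(.node (.node (.leaf 1194)
(.leaf 5420))
(.node (.leaf 1160)
(.leaf 0))))))))
(.node (.node (.node (.node (.node (.node (.node (.leaf 11)
(.leaf 1177))
(.node (.leaf 1156)
(.leaf 5376)))
(.node (.node (.leaf 11)
(.leaf 1194))
(.node (.leaf 1177)
(.leaf 0))))
(.node (.node (.node (.leaf 11)
(.leaf 1160))
(.node (.leaf 1177)
(.leaf 0)))
(.node (.node (.leaf 1155)
(.leaf 5314))
(.node (.leaf 1177)
(.leaf 0)))))
(.node (.node (.node (.node (.leaf 11)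
(.leaf 1177))
(.node (.leaf 1194)
(.leaf 0)))
(.node (.node (.leaf 1196)
(.leaf 5323))
(.node (.leaf 1194)
(.leaf 0))))
(.node (.node (.node (.leaf 47)
(.leaf 1177))
(.node (.leaf 1263)
(.leaf 0)))
(.node (.node (.leaf 1177)
(.leaf 5314))
(.node (.leaf 1167)
(.leaf 0))))))
(.node (.node (.node (.node (.node (.leaf 11)
(.leaf 1194))
(.node (.leaf 1196)
(.leaf 0)))
(.node (.node (.leaf 1156)
(.leaf 1177))
(.node (.leaf 1156)
(.leaf 0))))
(.node (.node (.node (.leaf 11)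
(.leaf 1167))
(.node (.leaf 1160)
(.leaf 0)))
(.node (.node (.leaf 1196)
(.leaf 5348))
(.node (.leaf 1177)
(.leaf 0)))))
(.node (.node (.node (.node (.leaf 11)
(.leaf 1177))
(.node (.leaf 1177)
(.leaf 0)))
(.node (.node (.leaf 1167)
(.leaf 5420))
(.node (.leaf 1167)
(.leaf 0))))
(.node (.node (.node (.leaf 11)
(.leaf 1177))
(.node (.leaf 1194)
(.leaf 0)))
(.node (.node (.leaf 1160)
(.leaf 5314))
(.node (.leaf 1177)
(.leaf 0)))))))
(.node (.node (.node (.node (.node (.node (.leaf 11)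
(.leaf 1194))
(.node (.leaf 1156)
(.leaf 5376)))
(.node (.node (.leaf 519)
(.leaf 1156))
(.node (.leaf 1194)
(.leaf 0))))
(.node (.node (.node (.leaf 11)
(.leaf 1279))
(.node (.leaf 1155)
(.leaf 0)))
(.node (.node (.leaf 1177)
(.leaf 5314))
(.node (.leaf 1160)
(.leaf 0)))))
(.node (.node (.node (.node (.leaf 11)
(.leaf 1194))
(.node (.leaf 1177)
(.leaf 0)))
(.node (.node (.leaf 1160)
(.leaf 5376))
(.node (.leaf 1279)
(.leaf 0))))
(.node (.node (.node (.leaf 11)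
(.leaf 1177))
(.node (.leaf 1167)
(.leaf 0)))
(.node (.node (.leaf 1171)
(.leaf 5376))
(.node (.leaf 1194)
(.leaf 0))))))
(.node (.node (.node (.node (.node (.leaf 11)
(.leaf 1196))
(.node (.leaf 1177)
(.leaf 0)))
(.node (.node (.leaf 1177)
(.leaf 5347))
(.node (.leaf 1177)
(.leaf 0))))
(.node (.node (.node (.leaf 11)
(.leaf 1177))
(.node (.leaf 1196)
(.leaf 0)))
(.node (.node (.leaf 1156)
(.leaf 5376))
(.node (.leaf 1167)
(.leaf 0)))))
(.node (.node (.node (.node (.leaf 11)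
(.leaf 1263))
(.node (.leaf 1194)
(.leaf 0)))
(.node (.node (.leaf 1194)
(.leaf 5314))
(.node (.leaf 1177)
(.leaf 0))))
(.node (.node (.node (.leaf 176)
(.leaf 1177))
(.node (.leaf 1177)
(.leaf 0)))
(.node (.node (.leaf 1177)
(.leaf 5420))
(.node (.leaf 1156)
(.leaf 0))))))))))
(.node (.node (.node (.node (.node (.node (.node (.node (.node (.leaf 0)
(.leaf 1177))
(.node (.leaf 1167)
(.leaf 5376)))
(.node (.node (.leaf 11)
(.leaf 1156))
(.node (.leaf 1177)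
(.leaf 0))))
(.node (.node (.node (.leaf 47)
(.leaf 1177))
(.node (.leaf 1194)
(.leaf 0)))
(.node (.node (.leaf 1171)
(.leaf 5376))
(.node (.leaf 1177)
(.leaf 0)))))
(.node (.node (.node (.node (.leaf 0)
(.leaf 1177))
(.node (.leaf 1160)
(.leaf 0)))
(.node (.node (.leaf 1156)
(.leaf 5323))
(.node (.leaf 1160)
(.leaf 0))))
(.node (.node (.node (.leaf 519)
(.leaf 1194))
(.node (.leaf 1156)
(.leaf 0)))
(.node (.node (.leaf 1177)
(.leaf 5420))
(.node (.leaf 1194)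
(.leaf 0))))))
(.node (.node (.node (.node (.node (.leaf 47)
(.leaf 1279))
(.node (.leaf 1156)
(.leaf 5376)))
(.node (.node (.leaf 1160)
(.leaf 1263))
(.node (.leaf 1177)
(.leaf 0))))
(.node (.node (.node (.leaf 11)
(.leaf 1263))
(.node (.leaf 1156)
(.leaf 0)))
(.node (.node (.leaf 1171)
(.leaf 5314))
(.node (.leaf 1167)
(.leaf 0)))))
(.node (.node (.node (.node (.leaf 11)
(.leaf 1194))
(.node (.leaf 1279)
(.leaf 0)))
(.node (.node (.leaf 1194)
(.leaf 5376))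
(.node (.leaf 1160)
(.leaf 0))))
(.node (.node (.node (.leaf 176)
(.leaf 1156))
(.node (.leaf 1160)
(.leaf 0)))
(.node (.node (.leaf 1156)
(.leaf 5376))
(.node (.leaf 1177)
(.leaf 0)))))))
(.node (.node (.node (.node (.node (.node (.leaf 47)
(.leaf 1194))
(.node (.leaf 1156)
(.leaf 5314)))
(.node (.node (.leaf 11)
(.leaf 1156))
(.node (.leaf 1156)
(.leaf 0))))
(.node (.node (.node (.leaf 11)
(.leaf 1156))
(.node (.leaf 1177)
(.leaf 0)))
(.node (.node (.leaf 1177)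
(.leaf 5420))
(.node (.leaf 1177)
(.leaf 0)))))
(.node (.node (.node (.node (.leaf 11)
(.leaf 1279))
(.node (.leaf 1177)
(.leaf 0)))
(.node (.node (.leaf 1196)
(.leaf 5314))
(.node (.leaf 1263)
(.leaf 0))))
(.node (.node (.node (.leaf 519)
(.leaf 1194))
(.node (.leaf 1263)
(.leaf 0)))
(.node (.node (.leaf 1194)
(.leaf 5420))
(.node (.leaf 1177)
(.leaf 0))))))
(.node (.node (.node (.node (.node (.leaf 11)
(.leaf 1177))
(.node (.leaf 1160)
(.leaf 0)))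
(.node (.node (.leaf 1167)
(.leaf 5314))
(.node (.leaf 1194)
(.leaf 0))))
(.node (.node (.node (.leaf 47)
(.leaf 1155))
(.node (.leaf 1156)
(.leaf 0)))
(.node (.node (.leaf 1194)
(.leaf 5314))
(.node (.leaf 1196)
(.leaf 0)))))
(.node (.node (.node (.node (.leaf 176)
(.leaf 1177))
(.node (.leaf 1194)
(.leaf 0)))
(.node (.node (.leaf 1196)
(.leaf 5420))
(.node (.leaf 1177)
(.leaf 0))))
(.node (.node (.node (.leaf 519)
(.leaf 1279))
(.node (.leaf 1167)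
(.leaf 0)))
(.node (.node (.leaf 1167)
(.leaf 5420))
(.node (.leaf 1194)
(.leaf 0))))))))
(.node (.node (.node (.node (.node (.node (.node (.leaf 11)
(.leaf 1156))
(.node (.leaf 1196)
(.leaf 5376)))
(.node (.node (.leaf 11)
(.leaf 1194))
(.node (.leaf 1194)
(.leaf 0))))
(.node (.node (.node (.leaf 47)
(.leaf 1263))
(.node (.leaf 1194)
(.leaf 0)))
(.node (.node (.leaf 1167)
(.leaf 5314))
(.node (.leaf 1156)
(.leaf 0)))))
(.node (.node (.node (.node (.leaf 11)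
(.leaf 1177))
(.node (.leaf 1167)
(.leaf 0)))
(.node (.node (.leaf 1156)
(.leaf 5314))
(.node (.leaf 1194)
(.leaf 0))))
(.node (.node (.node (.leaf 519)
(.leaf 1156))
(.node (.leaf 1194)
(.leaf 0)))
(.node (.node (.leaf 1194)
(.leaf 5420))
(.node (.leaf 1194)
(.leaf 0))))))
(.node (.node (.node (.node (.node (.leaf 11)
(.leaf 1156))
(.node (.leaf 1156)
(.leaf 0)))
(.node (.node (.leaf 1156)
(.leaf 1177))
(.node (.leaf 1177)
(.leaf 0))))
(.node (.node (.node (.leaf 176)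
(.leaf 1156))
(.node (.leaf 1177)
(.leaf 0)))
(.node (.node (.leaf 1167)
(.leaf 5314))
(.node (.leaf 1194)
(.leaf 0)))))
(.node (.node (.node (.node (.leaf 11)
(.leaf 1177))
(.node (.leaf 1177)
(.leaf 0)))
(.node (.node (.leaf 1156)
(.leaf 5348))
(.node (.leaf 1177)
(.leaf 0))))
(.node (.node (.node (.leaf 176)
(.leaf 1263))
(.node (.leaf 1160)
(.leaf 0)))
(.node (.node (.leaf 1279)
(.leaf 5376))
(.node (.leaf 1177)
(.leaf 0)))))))
(.node (.node (.node (.node (.node (.node (.leaf 2)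
(.leaf 1177))
(.node (.leaf 1171)
(.leaf 5376)))
(.node (.node (.leaf 176)
(.leaf 1177))
(.node (.leaf 1177)
(.leaf 0))))
(.node (.node (.node (.leaf 11)
(.leaf 1263))
(.node (.leaf 1177)
(.leaf 0)))
(.node (.node (.leaf 1156)
(.leaf 5314))
(.node (.leaf 1177)
(.leaf 0)))))
(.node (.node (.node (.node (.leaf 11)
(.leaf 1177))
(.node (.leaf 1156)
(.leaf 0)))
(.node (.node (.leaf 1155)
(.leaf 5314))
(.node (.leaf 1177)
(.leaf 0))))
(.node (.node (.node (.leaf 176)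
(.leaf 1177))
(.node (.leaf 1156)
(.leaf 0)))
(.node (.node (.leaf 1155)
(.leaf 5420))
(.node (.leaf 1167)
(.leaf 0))))))
(.node (.node (.node (.node (.node (.leaf 11)
(.leaf 1177))
(.node (.leaf 1177)
(.leaf 0)))
(.node (.node (.leaf 1177)
(.leaf 5314))
(.node (.leaf 1167)
(.leaf 0))))
(.node (.node (.node (.leaf 47)
(.leaf 1194))
(.node (.leaf 1194)
(.leaf 0)))
(.node (.node (.leaf 1196)
(.leaf 5314))
(.node (.leaf 1177)
(.leaf 0)))))
(.node (.node (.node (.node (.leaf 11)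
(.leaf 1177))
(.node (.leaf 1279)
(.leaf 0)))
(.node (.node (.leaf 1160)
(.leaf 5348))
(.node (.leaf 1194)
(.leaf 0))))
(.node (.node (.node (.leaf 47)
(.leaf 1279))
(.node (.leaf 1194)
(.leaf 0)))
(.node (.node (.leaf 1171)
(.leaf 5420))
(.node (.leaf 1177)
(.leaf 0)))))))))
(.node (.node (.node (.node (.node (.node (.node (.node (.leaf 2)
(.leaf 1156))
(.node (.leaf 1167)
(.leaf 5376)))
(.node (.node (.leaf 11)
(.leaf 1177))
(.node (.leaf 1177)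
(.leaf 0))))
(.node (.node (.node (.leaf 47)
(.leaf 1177))
(.node (.leaf 1263)
(.leaf 0)))
(.node (.node (.leaf 1156)
(.leaf 5376))
(.node (.leaf 1160)
(.leaf 0)))))
(.node (.node (.node (.node (.leaf 11)
(.leaf 1194))
(.node (.leaf 1160)
(.leaf 0)))
(.node (.node (.leaf 1156)
(.leaf 5348))
(.node (.leaf 1177)
(.leaf 0))))
(.node (.node (.node (.leaf 11)
(.leaf 1177))
(.node (.leaf 1156)
(.leaf 0)))
(.node (.node (.leaf 1156)
(.leaf 5314))
(.node (.leaf 1177)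
(.leaf 0))))))
(.node (.node (.node (.node (.node (.leaf 11)
(.leaf 1263))
(.node (.leaf 1155)
(.leaf 5376)))
(.node (.node (.leaf 1167)
(.leaf 1263))
(.node (.leaf 1177)
(.leaf 0))))
(.node (.node (.node (.leaf 11)
(.leaf 1167))
(.node (.leaf 1167)
(.leaf 0)))
(.node (.node (.leaf 1156)
(.leaf 5314))
(.node (.leaf 1167)
(.leaf 0)))))
(.node (.node (.node (.node (.leaf 11)
(.leaf 1194))
(.node (.leaf 1194)
(.leaf 0)))
(.node (.node (.leaf 1156)
(.leaf 5314))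
(.node (.leaf 1160)
(.leaf 0))))
(.node (.node (.node (.leaf 26)
(.leaf 1167))
(.node (.leaf 1177)
(.leaf 0)))
(.node (.node (.leaf 1194)
(.leaf 5420))
(.node (.leaf 1177)
(.leaf 0)))))))
(.node (.node (.node (.node (.node (.node (.leaf 11)
(.leaf 1160))
(.node (.leaf 1167)
(.leaf 5376)))
(.node (.node (.leaf 519)
(.leaf 1177))
(.node (.leaf 1177)
(.leaf 0))))
(.node (.node (.node (.leaf 11)
(.leaf 1156))
(.node (.leaf 1177)
(.leaf 0)))
(.node (.node (.leaf 1167)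
(.leaf 5314))
(.node (.leaf 1177)
(.leaf 0)))))
(.node (.node (.node (.node (.leaf 11)
(.leaf 1177))
(.node (.leaf 1263)
(.leaf 0)))
(.node (.node (.leaf 1167)
(.leaf 5323))
(.node (.leaf 1156)
(.leaf 0))))
(.node (.node (.node (.leaf 176)
(.leaf 1177))
(.node (.leaf 1177)
(.leaf 0)))
(.node (.node (.leaf 1156)
(.leaf 5420))
(.node (.leaf 1177)
(.leaf 0))))))
(.node (.node (.node (.node (.node (.leaf 47)
(.leaf 1263))
(.node (.leaf 1177)
(.leaf 0)))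
(.node (.node (.leaf 1156)
(.leaf 5314))
(.node (.leaf 1160)
(.leaf 0))))
(.node (.node (.node (.leaf 11)
(.leaf 1194))
(.node (.leaf 1177)
(.leaf 0)))
(.node (.node (.leaf 1160)
(.leaf 5323))
(.node (.leaf 1177)
(.leaf 0)))))
(.node (.node (.node (.node (.leaf 11)
(.leaf 1177))
(.node (.leaf 1156)
(.leaf 0)))
(.node (.node (.leaf 1160)
(.leaf 5420))
(.node (.leaf 1194)
(.leaf 0))))
(.node (.node (.node (.leaf 519)
(.leaf 1177))
(.node (.leaf 1177)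
(.leaf 0)))
(.node (.node (.leaf 1194)
(.leaf 5376))
(.node (.leaf 1177)
(.leaf 0))))))))
(.node (.node (.node (.node (.node (.node (.node (.leaf 47)
(.leaf 1177))
(.node (.leaf 1177)
(.leaf 5376)))
(.node (.node (.leaf 176)
(.leaf 1194))
(.node (.leaf 1160)
(.leaf 0))))
(.node (.node (.node (.leaf 47)
(.leaf 1177))
(.node (.leaf 1263)
(.leaf 0)))
(.node (.node (.leaf 1177)
(.leaf 5323))
(.node (.leaf 1194)
(.leaf 0)))))
(.node (.node (.node (.node (.leaf 47)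
(.leaf 1263))
(.node (.leaf 1177)
(.leaf 0)))
(.node (.node (.leaf 1156)
(.leaf 5314))
(.node (.leaf 1263)
(.leaf 0))))
(.node (.node (.node (.leaf 47)
(.leaf 1194))
(.node (.leaf 1177)
(.leaf 0)))
(.node (.node (.leaf 1156)
(.leaf 5314))
(.node (.leaf 1156)
(.leaf 0))))))
(.node (.node (.node (.node (.node (.leaf 11)
(.leaf 1177))
(.node (.leaf 1167)
(.leaf 0)))
(.node (.node (.leaf 1160)
(.leaf 1177))
(.node (.leaf 1156)
(.leaf 0))))
(.node (.node (.node (.leaf 11)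
(.leaf 1263))
(.node (.leaf 1177)
(.leaf 0)))
(.node (.node (.leaf 1171)
(.leaf 5376))
(.node (.leaf 1177)
(.leaf 0)))))
(.node (.node (.node (.node (.leaf 47)
(.leaf 1177))
(.node (.leaf 1177)
(.leaf 0)))
(.node (.node (.leaf 1160)
(.leaf 5314))
(.node (.leaf 1156)
(.leaf 0))))
(.node (.node (.node (.leaf 11)
(.leaf 1279))
(.node (.leaf 1194)
(.leaf 0)))
(.node (.node (.leaf 1156)
(.leaf 5420))
(.node (.leaf 1177)
(.leaf 0)))))))
(.node (.node (.node (.node (.node (.node (.leaf 11)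
(.leaf 1171))
(.node (.leaf 1177)
(.leaf 5376)))
(.node (.node (.leaf 11)
(.leaf 1177))
(.node (.leaf 1160)
(.leaf 0))))
(.node (.node (.node (.leaf 11)
(.leaf 1177))
(.node (.leaf 1177)
(.leaf 0)))
(.node (.node (.leaf 1194)
(.leaf 5420))
(.node (.leaf 1177)
(.leaf 0)))))
(.node (.node (.node (.node (.leaf 11)
(.leaf 1177))
(.node (.leaf 1160)
(.leaf 0)))
(.node (.node (.leaf 1167)
(.leaf 5314))
(.node (.leaf 1160)
(.leaf 0))))
(.node (.node (.node (.leaf 176)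
(.leaf 1196))
(.node (.leaf 1177)
(.leaf 0)))
(.node (.node (.leaf 1196)
(.leaf 5314))
(.node (.leaf 1177)
(.leaf 0))))))
(.node (.node (.node (.node (.node (.leaf 2)
(.leaf 1167))
(.node (.leaf 1156)
(.leaf 0)))
(.node (.node (.leaf 1167)
(.leaf 5314))
(.node (.leaf 1194)
(.leaf 0))))
(.node (.node (.node (.leaf 11)
(.leaf 1196))
(.node (.leaf 1167)
(.leaf 0)))
(.node (.node (.leaf 1194)
(.leaf 5376))
(.node (.leaf 1156)
(.leaf 0)))))
(.node (.node (.node (.node (.leaf 11)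
(.leaf 1160))
(.node (.leaf 1177)
(.leaf 0)))
(.node (.node (.leaf 1177)
(.leaf 5314))
(.node (.leaf 1177)
(.leaf 0))))
(.node (.node (.node (.leaf 47)
(.leaf 1279))
(.node (.leaf 1194)
(.leaf 0)))
(.node (.node (.leaf 1156)
(.leaf 5420))
(.node (.leaf 1194)
(.leaf 0)))))))))))))
(.node (.node (.node (.node (.node (.node (.node (.node (.node (.node (.node (.node (.leaf 0)
(.leaf 1160))
(.node (.leaf 1156)
(.leaf 5376)))
(.node (.node (.leaf 176)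
(.leaf 1194))
(.node (.leaf 1167)
(.leaf 0))))
(.node (.node (.node (.leaf 11)
(.leaf 1156))
(.node (.leaf 1263)
(.leaf 0)))
(.node (.node (.leaf 1177)
(.leaf 5314))
(.node (.leaf 1177)
(.leaf 0)))))
(.node (.node (.node (.node (.leaf 11)
(.leaf 1194))
(.node (.leaf 1177)
(.leaf 0)))
(.node (.node (.leaf 1177)
(.leaf 5348))
(.node (.leaf 1177)
(.leaf 0))))
(.node (.node (.node (.leaf 47)
(.leaf 1167))
(.node (.leaf 1194)
(.leaf 0)))
(.node (.node (.leaf 1156)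
(.leaf 5314))
(.node (.leaf 1156)
(.leaf 0))))))
(.node (.node (.node (.node (.node (.leaf 11)
(.leaf 1194))
(.node (.leaf 1167)
(.leaf 5420)))
(.node (.node (.leaf 176)
(.leaf 1279))
(.node (.leaf 1177)
(.leaf 0))))
(.node (.node (.node (.leaf 11)
(.leaf 1194))
(.node (.leaf 1177)
(.leaf 0)))
(.node (.node (.leaf 1160)
(.leaf 5314))
(.node (.leaf 1177)
(.leaf 0)))))
(.node (.node (.node (.node (.leaf 11)
(.leaf 1177))
(.node (.leaf 1177)
(.leaf 0)))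
(.node (.node (.leaf 1160)
(.leaf 5323))
(.node (.leaf 1160)
(.leaf 0))))
(.node (.node (.node (.leaf 11)
(.leaf 1263))
(.node (.leaf 1177)
(.leaf 0)))
(.node (.node (.leaf 1263)
(.leaf 5376))
(.node (.leaf 1156)
(.leaf 0)))))))
(.node (.node (.node (.node (.node (.node (.leaf 2)
(.leaf 1177))
(.node (.leaf 1194)
(.leaf 5376)))
(.node (.node (.leaf 176)
(.leaf 1263))
(.node (.leaf 1194)
(.leaf 0))))
(.node (.node (.node (.leaf 47)
(.leaf 1279))
(.node (.leaf 1177)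
(.leaf 0)))
(.node (.node (.leaf 1156)
(.leaf 5376))
(.node (.leaf 1156)
(.leaf 0)))))
(.node (.node (.node (.node (.leaf 11)
(.leaf 1177))
(.node (.leaf 1177)
(.leaf 0)))
(.node (.node (.leaf 1156)
(.leaf 5323))
(.node (.leaf 1177)
(.leaf 0))))
(.node (.node (.node (.leaf 11)
(.leaf 1177))
(.node (.leaf 1263)
(.leaf 0)))
(.node (.node (.leaf 1194)
(.leaf 5376))
(.node (.leaf 1194)
(.leaf 0))))))
(.node (.node (.node (.node (.node (.leaf 0)
(.leaf 1263))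
(.node (.leaf 1160)
(.leaf 0)))
(.node (.node (.leaf 1167)
(.leaf 5313))
(.node (.leaf 1194)
(.leaf 0))))
(.node (.node (.node (.leaf 47)
(.leaf 1156))
(.node (.leaf 1177)
(.leaf 0)))
(.node (.node (.leaf 1177)
(.leaf 5323))
(.node (.leaf 1156)
(.leaf 0)))))
(.node (.node (.node (.node (.leaf 11)
(.leaf 1177))
(.node (.leaf 1156)
(.leaf 0)))
(.node (.node (.leaf 1160)
(.leaf 5376))
(.node (.leaf 1156)
(.leaf 0))))
(.node (.node (.node (.leaf 11)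
(.leaf 1167))
(.node (.leaf 1194)
(.leaf 0)))
(.node (.node (.leaf 1155)
(.leaf 5376))
(.node (.leaf 1194)
(.leaf 0))))))))
(.node (.node (.node (.node (.node (.node (.node (.leaf 11)
(.leaf 1177))
(.node (.leaf 1167)
(.leaf 5314)))
(.node (.node (.leaf 11)
(.leaf 1194))
(.node (.leaf 1156)
(.leaf 0))))
(.node (.node (.node (.leaf 11)
(.leaf 1194))
(.node (.leaf 1177)
(.leaf 0)))
(.node (.node (.leaf 1194)
(.leaf 5314))
(.node (.leaf 1156)
(.leaf 0)))))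
(.node (.node (.node (.node (.leaf 11)
(.leaf 1194))
(.node (.leaf 1196)
(.leaf 0)))
(.node (.node (.leaf 1156)
(.leaf 5314))
(.node (.leaf 1196)
(.leaf 0))))
(.node (.node (.node (.leaf 11)
(.leaf 1177))
(.node (.leaf 1263)
(.leaf 0)))
(.node (.node (.leaf 1196)
(.leaf 5376))
(.node (.leaf 1167)
(.leaf 0))))))
(.node (.node (.node (.node (.node (.leaf 11)
(.leaf 1167))
(.node (.leaf 1167)
(.leaf 0)))
(.node (.node (.leaf 1171)
(.leaf 1279))
(.node (.leaf 1177)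
(.leaf 0))))
(.node (.node (.node (.leaf 11)
(.leaf 1160))
(.node (.leaf 1167)
(.leaf 0)))
(.node (.node (.leaf 1177)
(.leaf 5323))
(.node (.leaf 1156)
(.leaf 0)))))
(.node (.node (.node (.node (.leaf 47)
(.leaf 1177))
(.node (.leaf 1194)
(.leaf 0)))
(.node (.node (.leaf 1177)
(.leaf 5314))
(.node (.leaf 1196)
(.leaf 0))))
(.node (.node (.node (.leaf 519)
(.leaf 1177))
(.node (.leaf 1177)
(.leaf 0)))
(.node (.node (.leaf 1160)
(.leaf 5376))
(.node (.leaf 1156)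
(.leaf 0)))))))
(.node (.node (.node (.node (.node (.node (.leaf 2)
(.leaf 1279))
(.node (.leaf 1156)
(.leaf 5376)))
(.node (.node (.leaf 11)
(.leaf 1156))
(.node (.leaf 1177)
(.leaf 0))))
(.node (.node (.node (.leaf 2)
(.leaf 1177))
(.node (.leaf 1177)
(.leaf 0)))
(.node (.node (.leaf 1156)
(.leaf 5420))
(.node (.leaf 1194)
(.leaf 0)))))
(.node (.node (.node (.node (.leaf 11)
(.leaf 1177))
(.node (.leaf 1194)
(.leaf 0)))
(.node (.node (.leaf 1160)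
(.leaf 5420))
(.node (.leaf 1156)
(.leaf 0))))
(.node (.node (.node (.leaf 11)
(.leaf 1194))
(.node (.leaf 1171)
(.leaf 0)))
(.node (.node (.leaf 1177)
(.leaf 5314))
(.node (.leaf 1177)
(.leaf 0))))))
(.node (.node (.node (.node (.node (.leaf 0)
(.leaf 1263))
(.node (.leaf 1194)
(.leaf 0)))
(.node (.node (.leaf 1156)
(.leaf 5314))
(.node (.leaf 1167)
(.leaf 0))))
(.node (.node (.node (.leaf 11)
(.leaf 1194))
(.node (.leaf 1196)
(.leaf 0)))
(.node (.node (.leaf 1177)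
(.leaf 5314))
(.node (.leaf 1156)
(.leaf 0)))))
(.node (.node (.node (.node (.leaf 11)
(.leaf 1177))
(.node (.leaf 1177)
(.leaf 0)))
(.node (.node (.leaf 1156)
(.leaf 5420))
(.node (.leaf 1177)
(.leaf 0))))
(.node (.node (.node (.leaf 176)
(.leaf 1177))
(.node (.leaf 1196)
(.leaf 0)))
(.node (.node (.leaf 1194)
(.leaf 5376))
(.node (.leaf 1177)
(.leaf 0)))))))))
(.node (.node (.node (.node (.node (.node (.node (.node (.leaf 0)
(.leaf 1177))
(.node (.leaf 1156)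
(.leaf 5314)))
(.node (.node (.leaf 47)
(.leaf 1177))
(.node (.leaf 1177)
(.leaf 0))))
(.node (.node (.node (.leaf 47)
(.leaf 1167))
(.node (.leaf 1194)
(.leaf 0)))
(.node (.node (.leaf 1263)
(.leaf 5376))
(.node (.leaf 1194)
(.leaf 0)))))
(.node (.node (.node (.node (.leaf 0)
(.leaf 1263))
(.node (.leaf 1167)
(.leaf 0)))
(.node (.node (.leaf 1263)
(.leaf 5314))
(.node (.leaf 1177)
(.leaf 0))))
(.node (.node (.node (.leaf 11)
(.leaf 1177))
(.node (.leaf 1263)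
(.leaf 0)))
(.node (.node (.leaf 1156)
(.leaf 5420))
(.node (.leaf 1167)
(.leaf 0))))))
(.node (.node (.node (.node (.node (.leaf 11)
(.leaf 1263))
(.node (.leaf 1194)
(.leaf 5420)))
(.node (.node (.leaf 1156)
(.leaf 1279))
(.node (.leaf 1177)
(.leaf 0))))
(.node (.node (.node (.leaf 11)
(.leaf 1177))
(.node (.leaf 1167)
(.leaf 0)))
(.node (.node (.leaf 1160)
(.leaf 5420))
(.node (.leaf 1167)
(.leaf 0)))))
(.node (.node (.node (.node (.leaf 0)
(.leaf 1177))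
(.node (.leaf 1167)
(.leaf 0)))
(.node (.node (.leaf 1177)
(.leaf 5376))
(.node (.leaf 1279)
(.leaf 0))))
(.node (.node (.node (.leaf 176)
(.leaf 1194))
(.node (.leaf 1263)
(.leaf 0)))
(.node (.node (.leaf 1177)
(.leaf 5376))
(.node (.leaf 1156)
(.leaf 0)))))))
(.node (.node (.node (.node (.node (.node (.leaf 11)
(.leaf 1177))
(.node (.leaf 1196)
(.leaf 5376)))
(.node (.node (.leaf 176)
(.leaf 1194))
(.node (.leaf 1156)
(.leaf 0))))
(.node (.node (.node (.leaf 11)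
(.leaf 1263))
(.node (.leaf 1263)
(.leaf 0)))
(.node (.node (.leaf 1263)
(.leaf 5314))
(.node (.leaf 1196)
(.leaf 0)))))
(.node (.node (.node (.node (.leaf 2)
(.leaf 1177))
(.node (.leaf 1177)
(.leaf 0)))
(.node (.node (.leaf 1156)
(.leaf 5314))
(.node (.leaf 1167)
(.leaf 0))))
(.node (.node (.node (.leaf 11)
(.leaf 1194))
(.node (.leaf 1177)
(.leaf 0)))
(.node (.node (.leaf 1156)
(.leaf 5314))
(.node (.leaf 1167)
(.leaf 0))))))
(.node (.node (.node (.node (.node (.leaf 11)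
(.leaf 1263))
(.node (.leaf 1177)
(.leaf 0)))
(.node (.node (.leaf 1160)
(.leaf 5314))
(.node (.leaf 1160)
(.leaf 0))))
(.node (.node (.node (.leaf 11)
(.leaf 1263))
(.node (.leaf 1177)
(.leaf 0)))
(.node (.node (.leaf 1156)
(.leaf 5314))
(.node (.leaf 1194)
(.leaf 0)))))
(.node (.node (.node (.node (.leaf 176)
(.leaf 1177))
(.node (.leaf 1177)
(.leaf 0)))
(.node (.node (.leaf 1167)
(.leaf 5314))
(.node (.leaf 1194)
(.leaf 0))))
(.node (.node (.node (.leaf 11)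
(.leaf 1263))
(.node (.leaf 1194)
(.leaf 0)))
(.node (.node (.leaf 1194)
(.leaf 5376))
(.node (.leaf 1177)
(.leaf 0))))))))
(.node (.node (.node (.node (.node (.node (.node (.leaf 11)
(.leaf 1263))
(.node (.leaf 1194)
(.leaf 5376)))
(.node (.node (.leaf 11)
(.leaf 1194))
(.node (.leaf 1177)
(.leaf 0))))
(.node (.node (.node (.leaf 47)
(.leaf 1160))
(.node (.leaf 1156)
(.leaf 0)))
(.node (.node (.leaf 1263)
(.leaf 5314))
(.node (.leaf 1156)
(.leaf 0)))))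
(.node (.node (.node (.node (.leaf 47)
(.leaf 1177))
(.node (.leaf 1263)
(.leaf 0)))
(.node (.node (.leaf 1177)
(.leaf 5420))
(.node (.leaf 1196)
(.leaf 0))))
(.node (.node (.node (.leaf 11)
(.leaf 1160))
(.node (.leaf 1194)
(.leaf 0)))
(.node (.node (.leaf 1194)
(.leaf 5420))
(.node (.leaf 1177)
(.leaf 0))))))
(.node (.node (.node (.node (.node (.leaf 11)
(.leaf 1167))
(.node (.leaf 1160)
(.leaf 0)))
(.node (.node (.leaf 1167)
(.leaf 1177))
(.node (.leaf 1194)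
(.leaf 0))))
(.node (.node (.node (.leaf 11)
(.leaf 1177))
(.node (.leaf 1263)
(.leaf 0)))
(.node (.node (.leaf 1156)
(.leaf 5376))
(.node (.leaf 1194)
(.leaf 0)))))
(.node (.node (.node (.node (.leaf 11)
(.leaf 1194))
(.node (.leaf 1177)
(.leaf 0)))
(.node (.node (.leaf 1156)
(.leaf 5314))
(.node (.leaf 1177)
(.leaf 0))))
(.node (.node (.node (.leaf 11)
(.leaf 1167))
(.node (.leaf 1194)
(.leaf 0)))
(.node (.node (.leaf 1196)
(.leaf 5376))
(.node (.leaf 1177)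
(.leaf 0)))))))
(.node (.node (.node (.node (.node (.node (.leaf 11)
(.leaf 1263))
(.node (.leaf 1156)
(.leaf 5420)))
(.node (.node (.leaf 176)
(.leaf 1279))
(.node (.leaf 1167)
(.leaf 0))))
(.node (.node (.node (.leaf 176)
(.leaf 1156))
(.node (.leaf 1177)
(.leaf 0)))
(.node (.node (.leaf 1279)
(.leaf 5376))
(.node (.leaf 1177)
(.leaf 0)))))
(.node (.node (.node (.node (.leaf 176)
(.leaf 1279))
(.node (.leaf 1167)
(.leaf 0)))
(.node (.node (.leaf 1196)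
(.leaf 5420))
(.node (.leaf 1196)
(.leaf 0))))
(.node (.node (.node (.leaf 11)
(.leaf 1194))
(.node (.leaf 1196)
(.leaf 0)))
(.node (.node (.leaf 1167)
(.leaf 5376))
(.node (.leaf 1167)
(.leaf 0))))))
(.node (.node (.node (.node (.node (.leaf 11)
(.leaf 1177))
(.node (.leaf 1156)
(.leaf 0)))
(.node (.node (.leaf 1177)
(.leaf 5314))
(.node (.leaf 1177)
(.leaf 0))))
(.node (.node (.node (.leaf 47)
(.leaf 1156))
(.node (.leaf 1156)
(.leaf 0)))
(.node (.node (.leaf 1177)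
(.leaf 5376))
(.node (.leaf 1156)
(.leaf 0)))))
(.node (.node (.node (.node (.leaf 47)
(.leaf 1177))
(.node (.leaf 1177)
(.leaf 0)))
(.node (.node (.leaf 1156)
(.leaf 5323))
(.node (.leaf 1194)
(.leaf 0))))
(.node (.node (.node (.leaf 176)
(.leaf 1177))
(.node (.leaf 1177)
(.leaf 0)))
(.node (.node (.leaf 1160)
(.leaf 5372))
(.node (.leaf 1194)
(.leaf 0))))))))))
(.node (.node (.node (.node (.node (.node (.node (.node (.node (.leaf 2)
(.leaf 1177))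
(.node (.leaf 1194)
(.leaf 5376)))
(.node (.node (.leaf 11)
(.leaf 1177))
(.node (.leaf 1194)
(.leaf 0))))
(.node (.node (.node (.leaf 11)
(.leaf 1194))
(.node (.leaf 1177)
(.leaf 0)))
(.node (.node (.leaf 1160)
(.leaf 5314))
(.node (.leaf 1194)
(.leaf 0)))))
(.node (.node (.node (.node (.leaf 11)
(.leaf 1156))
(.node (.leaf 1194)
(.leaf 0)))
(.node (.node (.leaf 1171)
(.leaf 5376))
(.node (.leaf 1177)
(.leaf 0))))
(.node (.node (.node (.leaf 11)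
(.leaf 1156))
(.node (.leaf 1194)
(.leaf 0)))
(.node (.node (.leaf 1156)
(.leaf 5314))
(.node (.leaf 1196)
(.leaf 0))))))
(.node (.node (.node (.node (.node (.leaf 11)
(.leaf 1279))
(.node (.leaf 1156)
(.leaf 5420)))
(.node (.node (.leaf 1156)
(.leaf 1263))
(.node (.leaf 1196)
(.leaf 0))))
(.node (.node (.node (.leaf 11)
(.leaf 1177))
(.node (.leaf 1156)
(.leaf 0)))
(.node (.node (.leaf 1196)
(.leaf 5376))
(.node (.leaf 1196)
(.leaf 0)))))
(.node (.node (.node (.node (.leaf 0)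
(.leaf 1177))
(.node (.leaf 1171)
(.leaf 0)))
(.node (.node (.leaf 1156)
(.leaf 5323))
(.node (.leaf 1263)
(.leaf 0))))
(.node (.node (.node (.leaf 519)
(.leaf 1177))
(.node (.leaf 1196)
(.leaf 0)))
(.node (.node (.leaf 1177)
(.leaf 5376))
(.node (.leaf 1160)
(.leaf 0)))))))
(.node (.node (.node (.node (.node (.node (.leaf 11)
(.leaf 1196))
(.node (.leaf 1194)
(.leaf 5376)))
(.node (.node (.leaf 11)
(.leaf 1177))
(.node (.leaf 1177)
(.leaf 0))))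
(.node (.node (.node (.leaf 11)
(.leaf 1177))
(.node (.leaf 1194)
(.leaf 0)))
(.node (.node (.leaf 1177)
(.leaf 5376))
(.node (.leaf 1177)
(.leaf 0)))))
(.node (.node (.node (.node (.leaf 47)
(.leaf 1279))
(.node (.leaf 1177)
(.leaf 0)))
(.node (.node (.leaf 1155)
(.leaf 5376))
(.node (.leaf 1194)
(.leaf 0))))
(.node (.node (.node (.leaf 11)
(.leaf 1194))
(.node (.leaf 1177)
(.leaf 0)))
(.node (.node (.leaf 1160)
(.leaf 5420))
(.node (.leaf 1177)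
(.leaf 0))))))
(.node (.node (.node (.node (.node (.leaf 47)
(.leaf 1177))
(.node (.leaf 1177)
(.leaf 0)))
(.node (.node (.leaf 1155)
(.leaf 5314))
(.node (.leaf 1177)
(.leaf 0))))
(.node (.node (.node (.leaf 47)
(.leaf 1263))
(.node (.leaf 1177)
(.leaf 0)))
(.node (.node (.leaf 1167)
(.leaf 5376))
(.node (.leaf 1156)
(.leaf 0)))))
(.node (.node (.node (.node (.leaf 2)
(.leaf 1177))
(.node (.leaf 1194)
(.leaf 0)))
(.node (.node (.leaf 1194)
(.leaf 5314))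
(.node (.leaf 1177)
(.leaf 0))))
(.node (.node (.node (.leaf 519)
(.leaf 1194))
(.node (.leaf 1279)
(.leaf 0)))
(.node (.node (.leaf 1156)
(.leaf 5420))
(.node (.leaf 1156)
(.leaf 0))))))))
(.node (.node (.node (.node (.node (.node (.node (.leaf 11)
(.leaf 1177))
(.node (.leaf 1196)
(.leaf 5376)))
(.node (.node (.leaf 11)
(.leaf 1177))
(.node (.leaf 1160)
(.leaf 0))))
(.node (.node (.node (.leaf 11)
(.leaf 1194))
(.node (.leaf 1177)
(.leaf 0)))
(.node (.node (.leaf 1177)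
(.leaf 5376))
(.node (.leaf 1156)
(.leaf 0)))))
(.node (.node (.node (.node (.leaf 11)
(.leaf 1279))
(.node (.leaf 1196)
(.leaf 0)))
(.node (.node (.leaf 1177)
(.leaf 5314))
(.node (.leaf 1177)
(.leaf 0))))
(.node (.node (.node (.leaf 11)
(.leaf 1194))
(.node (.leaf 1167)
(.leaf 0)))
(.node (.node (.leaf 1177)
(.leaf 5376))
(.node (.leaf 1194)
(.leaf 0))))))
(.node (.node (.node (.node (.node (.leaf 11)
(.leaf 1177))
(.node (.leaf 1194)
(.leaf 0)))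
(.node (.node (.leaf 1160)
(.leaf 1177))
(.node (.leaf 1194)
(.leaf 0))))
(.node (.node (.node (.leaf 11)
(.leaf 1156))
(.node (.leaf 1156)
(.leaf 0)))
(.node (.node (.leaf 1156)
(.leaf 5376))
(.node (.leaf 1194)
(.leaf 0)))))
(.node (.node (.node (.node (.leaf 11)
(.leaf 1177))
(.node (.leaf 1177)
(.leaf 0)))
(.node (.node (.leaf 1156)
(.leaf 5314))
(.node (.leaf 1171)
(.leaf 0))))
(.node (.node (.node (.leaf 11)
(.leaf 1194))
(.node (.leaf 1279)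
(.leaf 0)))
(.node (.node (.leaf 1194)
(.leaf 5376))
(.node (.leaf 1194)
(.leaf 0)))))))
(.node (.node (.node (.node (.node (.node (.leaf 11)
(.leaf 1279))
(.node (.leaf 1156)
(.leaf 5420)))
(.node (.node (.leaf 176)
(.leaf 1263))
(.node (.leaf 1167)
(.leaf 0))))
(.node (.node (.node (.leaf 176)
(.leaf 1160))
(.node (.leaf 1177)
(.leaf 0)))
(.node (.node (.leaf 1167)
(.leaf 5420))
(.node (.leaf 1167)
(.leaf 0)))))
(.node (.node (.node (.node (.leaf 11)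
(.leaf 1263))
(.node (.leaf 1177)
(.leaf 0)))
(.node (.node (.leaf 1160)
(.leaf 5314))
(.node (.leaf 1177)
(.leaf 0))))
(.node (.node (.node (.leaf 11)
(.leaf 1167))
(.node (.leaf 1177)
(.leaf 0)))
(.node (.node (.leaf 1160)
(.leaf 5314))
(.node (.leaf 1177)
(.leaf 0))))))
(.node (.node (.node (.node (.node (.leaf 11)
(.leaf 1263))
(.node (.leaf 1160)
(.leaf 0)))
(.node (.node (.leaf 1194)
(.leaf 5314))
(.node (.leaf 1160)
(.leaf 0))))
(.node (.node (.node (.leaf 11)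
(.leaf 1177))
(.node (.leaf 1194)
(.leaf 0)))
(.node (.node (.leaf 1194)
(.leaf 5314))
(.node (.leaf 1167)
(.leaf 0)))))
(.node (.node (.node (.node (.leaf 176)
(.leaf 1263))
(.node (.leaf 1194)
(.leaf 0)))
(.node (.node (.leaf 1156)
(.leaf 5420))
(.node (.leaf 1177)
(.leaf 0))))
(.node (.node (.node (.leaf 47)
(.leaf 1279))
(.node (.leaf 1177)
(.leaf 0)))
(.node (.node (.leaf 1167)
(.leaf 5348))
(.node (.leaf 1177)
(.leaf 0)))))))))
(.node (.node (.node (.node (.node (.node (.node (.node (.leaf 0)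
(.leaf 1279))
(.node (.leaf 1177)
(.leaf 5376)))
(.node (.node (.leaf 519)
(.leaf 1177))
(.node (.leaf 1177)
(.leaf 0))))
(.node (.node (.node (.leaf 11)
(.leaf 1263))
(.node (.leaf 1177)
(.leaf 0)))
(.node (.node (.leaf 1177)
(.leaf 5376))
(.node (.leaf 1167)
(.leaf 0)))))
(.node (.node (.node (.node (.leaf 11)
(.leaf 1194))
(.node (.leaf 1177)
(.leaf 0)))
(.node (.node (.leaf 1171)
(.leaf 5314))
(.node (.leaf 1177)
(.leaf 0))))
(.node (.node (.node (.leaf 11)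
(.leaf 1194))
(.node (.leaf 1279)
(.leaf 0)))
(.node (.node (.leaf 1177)
(.leaf 5376))
(.node (.leaf 1177)
(.leaf 0))))))
(.node (.node (.node (.node (.node (.leaf 11)
(.leaf 1177))
(.node (.leaf 1160)
(.leaf 5420)))
(.node (.node (.leaf 1177)
(.leaf 1279))
(.node (.leaf 1156)
(.leaf 0))))
(.node (.node (.node (.leaf 176)
(.leaf 1177))
(.node (.leaf 1177)
(.leaf 0)))
(.node (.node (.leaf 1171)
(.leaf 5348))
(.node (.leaf 1156)
(.leaf 0)))))
(.node (.node (.node (.node (.leaf 47)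
(.leaf 1263))
(.node (.leaf 1177)
(.leaf 0)))
(.node (.node (.leaf 1156)
(.leaf 5323))
(.node (.leaf 1194)
(.leaf 0))))
(.node (.node (.node (.leaf 47)
(.leaf 1279))
(.node (.leaf 1156)
(.leaf 0)))
(.node (.node (.leaf 1167)
(.leaf 5420))
(.node (.leaf 1177)
(.leaf 0)))))))
(.node (.node (.node (.node (.node (.node (.leaf 11)
(.leaf 1194))
(.node (.leaf 1196)
(.leaf 5376)))
(.node (.node (.leaf 176)
(.leaf 1177))
(.node (.leaf 1177)
(.leaf 0))))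
(.node (.node (.node (.leaf 2)
(.leaf 1156))
(.node (.leaf 1263)
(.leaf 0)))
(.node (.node (.leaf 1160)
(.leaf 5376))
(.node (.leaf 1167)
(.leaf 0)))))
(.node (.node (.node (.node (.leaf 11)
(.leaf 1194))
(.node (.leaf 1177)
(.leaf 0)))
(.node (.node (.leaf 1156)
(.leaf 5376))
(.node (.leaf 1177)
(.leaf 0))))
(.node (.node (.node (.leaf 11)
(.leaf 1194))
(.node (.leaf 1156)
(.leaf 0)))
(.node (.node (.leaf 1160)
(.leaf 5314))
(.node (.leaf 1167)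
(.leaf 0))))))
(.node (.node (.node (.node (.node (.leaf 11)
(.leaf 1177))
(.node (.leaf 1194)
(.leaf 0)))
(.node (.node (.leaf 1156)
(.leaf 5314))
(.node (.leaf 1194)
(.leaf 0))))
(.node (.node (.node (.leaf 11)
(.leaf 1263))
(.node (.leaf 1194)
(.leaf 0)))
(.node (.node (.leaf 1177)
(.leaf 5314))
(.node (.leaf 1177)
(.leaf 0)))))
(.node (.node (.node (.node (.leaf 11)
(.leaf 1156))
(.node (.leaf 1177)
(.leaf 0)))
(.node (.node (.leaf 1194)
(.leaf 5376))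
(.node (.leaf 1177)
(.leaf 0))))
(.node (.node (.node (.leaf 519)
(.leaf 1177))
(.node (.leaf 1155)
(.leaf 0)))
(.node (.node (.leaf 1279)
(.leaf 5376))
(.node (.leaf 1177)
(.leaf 0))))))))
(.node (.node (.node (.node (.node (.node (.node (.leaf 11)
(.leaf 1177))
(.node (.leaf 1156)
(.leaf 5376)))
(.node (.node (.leaf 11)
(.leaf 1156))
(.node (.leaf 1177)
(.leaf 0))))
(.node (.node (.node (.leaf 11)
(.leaf 1177))
(.node (.leaf 1177)
(.leaf 0)))
(.node (.node (.leaf 1177)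
(.leaf 5376))
(.node (.leaf 1177)
(.leaf 0)))))
(.node (.node (.node (.node (.leaf 11)
(.leaf 1156))
(.node (.leaf 1194)
(.leaf 0)))
(.node (.node (.leaf 1194)
(.leaf 5314))
(.node (.leaf 1167)
(.leaf 0))))
(.node (.node (.node (.leaf 47)
(.leaf 1177))
(.node (.leaf 1156)
(.leaf 0)))
(.node (.node (.leaf 1196)
(.leaf 5420))
(.node (.leaf 1177)
(.leaf 0))))))
(.node (.node (.node (.node (.node (.leaf 11)
(.leaf 1196))
(.node (.leaf 1177)
(.leaf 0)))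
(.node (.node (.leaf 1160)
(.leaf 1194))
(.node (.leaf 1156)
(.leaf 0))))
(.node (.node (.node (.leaf 11)
(.leaf 1177))
(.node (.leaf 1177)
(.leaf 0)))
(.node (.node (.leaf 1156)
(.leaf 5314))
(.node (.leaf 1194)
(.leaf 0)))))
(.node (.node (.node (.node (.leaf 2)
(.leaf 1177))
(.node (.leaf 1177)
(.leaf 0)))
(.node (.node (.leaf 1156)
(.leaf 5314))
(.node (.leaf 1167)
(.leaf 0))))
(.node (.node (.node (.leaf 176)
(.leaf 1177))
(.node (.leaf 1196)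
(.leaf 0)))
(.node (.node (.leaf 1196)
(.leaf 5323))
(.node (.leaf 1156)
(.leaf 0)))))))
(.node (.node (.node (.node (.node (.node (.leaf 11)
(.leaf 1177))
(.node (.leaf 1156)
(.leaf 5376)))
(.node (.node (.leaf 176)
(.leaf 1177))
(.node (.leaf 1160)
(.leaf 0))))
(.node (.node (.node (.leaf 47)
(.leaf 1177))
(.node (.leaf 1167)
(.leaf 0)))
(.node (.node (.leaf 1177)
(.leaf 5420))
(.node (.leaf 1196)
(.leaf 0)))))
(.node (.node (.node (.node (.leaf 11)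
(.leaf 1194))
(.node (.leaf 1156)
(.leaf 0)))
(.node (.node (.leaf 1160)
(.leaf 5348))
(.node (.leaf 1177)
(.leaf 0))))
(.node (.node (.node (.leaf 11)
(.leaf 1156))
(.node (.leaf 1160)
(.leaf 0)))
(.node (.node (.leaf 1177)
(.leaf 5376))
(.node (.leaf 1167)
(.leaf 0))))))
(.node (.node (.node (.node (.node (.leaf 11)
(.leaf 1279))
(.node (.leaf 1156)
(.leaf 0)))
(.node (.node (.leaf 1167)
(.leaf 5323))
(.node (.leaf 1171)
(.leaf 0))))
(.node (.node (.node (.leaf 11)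
(.leaf 1194))
(.node (.leaf 1167)
(.leaf 0)))
(.node (.node (.leaf 1194)
(.leaf 5376))
(.node (.leaf 1194)
(.leaf 0)))))
(.node (.node (.node (.node (.leaf 11)
(.leaf 1156))
(.node (.leaf 1160)
(.leaf 0)))
(.node (.node (.leaf 1263)
(.leaf 5376))
(.node (.leaf 1263)
(.leaf 0))))
(.node (.node (.node (.leaf 11)
(.leaf 1177))
(.node (.leaf 1156)
(.leaf 0)))
(.node (.node (.leaf 1160)
(.leaf 5420))
(.node (.leaf 1177)
(.leaf 0)))))))))))
(.node (.node (.node (.node (.node (.node (.node (.node (.node (.node (.leaf 0)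
(.leaf 1263))
(.node (.leaf 1156)
(.leaf 5323)))
(.node (.node (.leaf 11)
(.leaf 1194))
(.node (.leaf 1156)
(.leaf 0))))
(.node (.node (.node (.leaf 11)
(.leaf 1177))
(.node (.leaf 1177)
(.leaf 0)))
(.node (.node (.leaf 1194)
(.leaf 5323))
(.node (.leaf 1177)
(.leaf 0)))))
(.node (.node (.node (.node (.leaf 11)
(.leaf 1167))
(.node (.leaf 1177)
(.leaf 0)))
(.node (.node (.leaf 1156)
(.leaf 5314))
(.node (.leaf 1194)
(.leaf 0))))
(.node (.node (.node (.leaf 11)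
(.leaf 1177))
(.node (.leaf 1156)
(.leaf 0)))
(.node (.node (.leaf 1156)
(.leaf 5314))
(.node (.leaf 1156)
(.leaf 0))))))
(.node (.node (.node (.node (.node (.leaf 11)
(.leaf 1194))
(.node (.leaf 1167)
(.leaf 5376)))
(.node (.node (.leaf 1156)
(.leaf 1263))
(.node (.leaf 1194)
(.leaf 0))))
(.node (.node (.node (.leaf 176)
(.leaf 1194))
(.node (.leaf 1167)
(.leaf 0)))
(.node (.node (.leaf 1171)
(.leaf 5314))
(.node (.leaf 1156)
(.leaf 0)))))
(.node (.node (.node (.node (.leaf 11)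
(.leaf 1177))
(.node (.leaf 1177)
(.leaf 0)))
(.node (.node (.leaf 1156)
(.leaf 5323))
(.node (.leaf 1177)
(.leaf 0))))
(.node (.node (.node (.leaf 11)
(.leaf 1177))
(.node (.leaf 1194)
(.leaf 0)))
(.node (.node (.leaf 1194)
(.leaf 5314))
(.node (.leaf 1156)
(.leaf 0)))))))
(.node (.node (.node (.node (.node (.node (.leaf 11)
(.leaf 1160))
(.node (.leaf 1194)
(.leaf 5376)))
(.node (.node (.leaf 11)
(.leaf 1160))
(.node (.leaf 1156)
(.leaf 0))))
(.node (.node (.node (.leaf 11)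
(.leaf 1177))
(.node (.leaf 1177)
(.leaf 0)))
(.node (.node (.leaf 1194)
(.leaf 5376))
(.node (.leaf 1156)
(.leaf 0)))))
(.node (.node (.node (.node (.leaf 11)
(.leaf 1279))
(.node (.leaf 1177)
(.leaf 0)))
(.node (.node (.leaf 1160)
(.leaf 5314))
(.node (.leaf 1156)
(.leaf 0))))
(.node (.node (.node (.leaf 11)
(.leaf 1194))
(.node (.leaf 1167)
(.leaf 0)))
(.node (.node (.leaf 1156)
(.leaf 5314))
(.node (.leaf 1160)
(.leaf 0))))))
(.node (.node (.node (.node (.node (.leaf 11)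
(.leaf 1177))
(.node (.leaf 1160)
(.leaf 0)))
(.node (.node (.leaf 1177)
(.leaf 5314))
(.node (.leaf 1177)
(.leaf 0))))
(.node (.node (.node (.leaf 11)
(.leaf 1177))
(.node (.leaf 1160)
(.leaf 0)))
(.node (.node (.leaf 1171)
(.leaf 5376))
(.node (.leaf 1194)
(.leaf 0)))))
(.node (.node (.node (.node (.leaf 11)
(.leaf 1279))
(.node (.leaf 1263)
(.leaf 0)))
(.node (.node (.leaf 1167)
(.leaf 5314))
(.node (.leaf 1156)
(.leaf 0))))
(.node (.node (.node (.leaf 176)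
(.leaf 1177))
(.node (.leaf 1177)
(.leaf 0)))
(.node (.node (.leaf 1167)
(.leaf 5376))
(.node (.leaf 1194)
(.leaf 0))))))))
(.node (.node (.node (.node (.node (.node (.node (.leaf 11)
(.leaf 1177))
(.node (.leaf 1196)
(.leaf 5348)))
(.node (.node (.leaf 11)
(.leaf 1177))
(.node (.leaf 1156)
(.leaf 0))))
(.node (.node (.node (.leaf 11)
(.leaf 1263))
(.node (.leaf 1156)
(.leaf 0)))
(.node (.node (.leaf 1156)
(.leaf 5348))
(.node (.leaf 1177)
(.leaf 0)))))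
(.node (.node (.node (.node (.leaf 11)
(.leaf 1194))
(.node (.leaf 1160)
(.leaf 0)))
(.node (.node (.leaf 1160)
(.leaf 5314))
(.node (.leaf 1160)
(.leaf 0))))
(.node (.node (.node (.leaf 11)
(.leaf 1177))
(.node (.leaf 1177)
(.leaf 0)))
(.node (.node (.leaf 1177)
(.leaf 5420))
(.node (.leaf 1177)
(.leaf 0))))))
(.node (.node (.node (.node (.node (.leaf 2)
(.leaf 1177))
(.node (.leaf 1160)
(.leaf 0)))
(.node (.node (.leaf 1160)
(.leaf 1263))
(.node (.leaf 1196)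
(.leaf 0))))
(.node (.node (.node (.leaf 11)
(.leaf 1177))
(.node (.leaf 1279)
(.leaf 0)))
(.node (.node (.leaf 1263)
(.leaf 5376))
(.node (.leaf 1194)
(.leaf 0)))))
(.node (.node (.node (.node (.leaf 2)
(.leaf 1279))
(.node (.leaf 1156)
(.leaf 0)))
(.node (.node (.leaf 1156)
(.leaf 5314))
(.node (.leaf 1279)
(.leaf 0))))
(.node (.node (.node (.leaf 11)
(.leaf 1263))
(.node (.leaf 1177)
(.leaf 0)))
(.node (.node (.leaf 1160)
(.leaf 5314))
(.node (.leaf 1194)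
(.leaf 0)))))))
(.node (.node (.node (.node (.node (.node (.leaf 2)
(.leaf 1177))
(.node (.leaf 1156)
(.leaf 5420)))
(.node (.node (.leaf 176)
(.leaf 1177))
(.node (.leaf 1156)
(.leaf 0))))
(.node (.node (.node (.leaf 11)
(.leaf 1263))
(.node (.leaf 1194)
(.leaf 0)))
(.node (.node (.leaf 1160)
(.leaf 5420))
(.node (.leaf 1177)
(.leaf 0)))))
(.node (.node (.node (.node (.leaf 11)
(.leaf 1263))
(.node (.leaf 1194)
(.leaf 0)))
(.node (.node (.leaf 1160)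
(.leaf 5323))
(.node (.leaf 1167)
(.leaf 0))))
(.node (.node (.node (.leaf 176)
(.leaf 1194))
(.node (.leaf 1156)
(.leaf 0)))
(.node (.node (.leaf 1160)
(.leaf 5323))
(.node (.leaf 1177)
(.leaf 0))))))
(.node (.node (.node (.node (.node (.leaf 47)
(.leaf 1279))
(.node (.leaf 1160)
(.leaf 0)))
(.node (.node (.leaf 1177)
(.leaf 5323))
(.node (.leaf 1194)
(.leaf 0))))
(.node (.node (.node (.leaf 11)
(.leaf 1194))
(.node (.leaf 1177)
(.leaf 0)))
(.node (.node (.leaf 1160)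
(.leaf 5420))
(.node (.leaf 1194)
(.leaf 0)))))
(.node (.node (.node (.node (.leaf 11)
(.leaf 1263))
(.node (.leaf 1177)
(.leaf 0)))
(.node (.node (.leaf 1156)
(.leaf 5314))
(.node (.leaf 1279)
(.leaf 0))))
(.node (.node (.node (.leaf 176)
(.leaf 1177))
(.node (.leaf 1177)
(.leaf 0)))
(.node (.node (.leaf 1177)
(.leaf 5376))
(.node (.leaf 1177)
(.leaf 0)))))))))
(.node (.node (.node (.node (.node (.node (.node (.node (.leaf 2)
(.leaf 1263))
(.node (.leaf 1194)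
(.leaf 5376)))
(.node (.node (.leaf 11)
(.leaf 1177))
(.node (.leaf 1156)
(.leaf 0))))
(.node (.node (.node (.leaf 11)
(.leaf 1263))
(.node (.leaf 1156)
(.leaf 0)))
(.node (.node (.leaf 1194)
(.leaf 5314))
(.node (.leaf 1177)
(.leaf 0)))))
(.node (.node (.node (.node (.leaf 11)
(.leaf 1263))
(.node (.leaf 1177)
(.leaf 0)))
(.node (.node (.leaf 1196)
(.leaf 5348))
(.node (.leaf 1177)
(.leaf 0))))
(.node (.node (.node (.leaf 11)
(.leaf 1167))
(.node (.leaf 1177)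
(.leaf 0)))
(.node (.node (.leaf 1156)
(.leaf 5314))
(.node (.leaf 1156)
(.leaf 0))))))
(.node (.node (.node (.node (.node (.leaf 11)
(.leaf 1279))
(.node (.leaf 1156)
(.leaf 5376)))
(.node (.node (.leaf 1156)
(.leaf 1177))
(.node (.leaf 1177)
(.leaf 0))))
(.node (.node (.node (.leaf 176)
(.leaf 1194))
(.node (.leaf 1177)
(.leaf 0)))
(.node (.node (.leaf 1156)
(.leaf 5420))
(.node (.leaf 1177)
(.leaf 0)))))
(.node (.node (.node (.node (.leaf 11)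
(.leaf 1194))
(.node (.leaf 1263)
(.leaf 0)))
(.node (.node (.leaf 1156)
(.leaf 5314))
(.node (.leaf 1177)
(.leaf 0))))
(.node (.node (.node (.leaf 176)
(.leaf 1177))
(.node (.leaf 1156)
(.leaf 0)))
(.node (.node (.leaf 1167)
(.leaf 5376))
(.node (.leaf 1194)
(.leaf 0)))))))
(.node (.node (.node (.node (.node (.node (.leaf 11)
(.leaf 1263))
(.node (.leaf 1177)
(.leaf 5376)))
(.node (.node (.leaf 47)
(.leaf 1194))
(.node (.leaf 1167)
(.leaf 0))))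
(.node (.node (.node (.leaf 11)
(.leaf 1177))
(.node (.leaf 1194)
(.leaf 0)))
(.node (.node (.leaf 1177)
(.leaf 5420))
(.node (.leaf 1156)
(.leaf 0)))))
(.node (.node (.node (.node (.leaf 11)
(.leaf 1194))
(.node (.leaf 1177)
(.leaf 0)))
(.node (.node (.leaf 1263)
(.leaf 5314))
(.node (.leaf 1177)
(.leaf 0))))
(.node (.node (.node (.leaf 11)
(.leaf 1194))
(.node (.leaf 1194)
(.leaf 0)))
(.node (.node (.leaf 1156)
(.leaf 5314))
(.node (.leaf 1196)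
(.leaf 0))))))
(.node (.node (.node (.node (.node (.leaf 11)
(.leaf 1156))
(.node (.leaf 1167)
(.leaf 0)))
(.node (.node (.leaf 1156)
(.leaf 5323))
(.node (.leaf 1194)
(.leaf 0))))
(.node (.node (.node (.leaf 11)
(.leaf 1196))
(.node (.leaf 1167)
(.leaf 0)))
(.node (.node (.leaf 1196)
(.leaf 5376))
(.node (.leaf 1194)
(.leaf 0)))))
(.node (.node (.node (.node (.leaf 11)
(.leaf 1156))
(.node (.leaf 1156)
(.leaf 0)))
(.node (.node (.leaf 1160)
(.leaf 5376))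
(.node (.leaf 1156)
(.leaf 0))))
(.node (.node (.node (.leaf 11)
(.leaf 1263))
(.node (.leaf 1194)
(.leaf 0)))
(.node (.node (.leaf 1177)
(.leaf 5314))
(.node (.leaf 1160)
(.leaf 0))))))))
(.node (.node (.node (.node (.node (.node (.node (.leaf 11)
(.leaf 1177))
(.node (.leaf 1177)
(.leaf 5314)))
(.node (.node (.leaf 11)
(.leaf 1177))
(.node (.leaf 1156)
(.leaf 0))))
(.node (.node (.node (.leaf 47)
(.leaf 1160))
(.node (.leaf 1156)
(.leaf 0)))
(.node (.node (.leaf 1194)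
(.leaf 5314))
(.node (.leaf 1177)
(.leaf 0)))))
(.node (.node (.node (.node (.leaf 11)
(.leaf 1263))
(.node (.leaf 1194)
(.leaf 0)))
(.node (.node (.leaf 1177)
(.leaf 5323))
(.node (.leaf 1279)
(.leaf 0))))
(.node (.node (.node (.leaf 11)
(.leaf 1160))
(.node (.leaf 1263)
(.leaf 0)))
(.node (.node (.leaf 1160)
(.leaf 5314))
(.node (.leaf 1194)
(.leaf 0))))))
(.node (.node (.node (.node (.node (.leaf 11)
(.leaf 1194))
(.node (.leaf 1177)
(.leaf 0)))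
(.node (.node (.leaf 1156)
(.leaf 1263))
(.node (.leaf 1156)
(.leaf 0))))
(.node (.node (.node (.leaf 11)
(.leaf 1263))
(.node (.leaf 1177)
(.leaf 0)))
(.node (.node (.leaf 1156)
(.leaf 5376))
(.node (.leaf 1177)
(.leaf 0)))))
(.node (.node (.node (.node (.leaf 176)
(.leaf 1177))
(.node (.leaf 1167)
(.leaf 0)))
(.node (.node (.leaf 1156)
(.leaf 5323))
(.node (.leaf 1156)
(.leaf 0))))
(.node (.node (.node (.leaf 176)
(.leaf 1177))
(.node (.leaf 1263)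
(.leaf 0)))
(.node (.node (.leaf 1160)
(.leaf 5376))
(.node (.leaf 1194)
(.leaf 0)))))))
(.node (.node (.node (.node (.node (.node (.leaf 2)
(.leaf 1196))
(.node (.leaf 1177)
(.leaf 5376)))
(.node (.node (.leaf 176)
(.leaf 1177))
(.node (.leaf 1177)
(.leaf 0))))
(.node (.node (.node (.leaf 176)
(.leaf 1156))
(.node (.leaf 1279)
(.leaf 0)))
(.node (.node (.leaf 1177)
(.leaf 5420))
(.node (.leaf 1167)
(.leaf 0)))))
(.node (.node (.node (.node (.leaf 11)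
(.leaf 1194))
(.node (.leaf 1156)
(.leaf 0)))
(.node (.node (.leaf 1167)
(.leaf 5376))
(.node (.leaf 1279)
(.leaf 0))))
(.node (.node (.node (.leaf 47)
(.leaf 1177))
(.node (.leaf 1156)
(.leaf 0)))
(.node (.node (.leaf 1167)
(.leaf 5376))
(.node (.leaf 1167)
(.leaf 0))))))
(.node (.node (.node (.node (.node (.leaf 47)
(.leaf 1177))
(.node (.leaf 1177)
(.leaf 0)))
(.node (.node (.leaf 1177)
(.leaf 5348))
(.node (.leaf 1171)
(.leaf 0))))
(.node (.node (.node (.leaf 11)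
(.leaf 1177))
(.node (.leaf 1196)
(.leaf 0)))
(.node (.node (.leaf 1156)
(.leaf 5314))
(.node (.leaf 1156)
(.leaf 0)))))
(.node (.node (.node (.node (.leaf 11)
(.leaf 1263))
(.node (.leaf 1177)
(.leaf 0)))
(.node (.node (.leaf 1156)
(.leaf 5323))
(.node (.leaf 1194)
(.leaf 0))))
(.node (.node (.node (.leaf 11)
(.leaf 1177))
(.node (.leaf 1196)
(.leaf 0)))
(.node (.node (.leaf 1177)
(.leaf 5420))
(.node (.leaf 1263)
(.leaf 0))))))))))
(.node (.node (.node (.node (.node (.node (.node (.node (.node (.leaf 11)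
(.leaf 1279))
(.node (.leaf 1167)
(.leaf 5420)))
(.node (.node (.leaf 11)
(.leaf 1194))
(.node (.leaf 1156)
(.leaf 0))))
(.node (.node (.node (.leaf 47)
(.leaf 1177))
(.node (.leaf 1194)
(.leaf 0)))
(.node (.node (.leaf 1177)
(.leaf 5376))
(.node (.leaf 1177)
(.leaf 0)))))
(.node (.node (.node (.node (.leaf 11)
(.leaf 1263))
(.node (.leaf 1160)
(.leaf 0)))
(.node (.node (.leaf 1156)
(.leaf 5323))
(.node (.leaf 1177)
(.leaf 0))))
(.node (.node (.node (.leaf 176)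
(.leaf 1194))
(.node (.leaf 1177)
(.leaf 0)))
(.node (.node (.leaf 1177)
(.leaf 5376))
(.node (.leaf 1194)
(.leaf 0))))))
(.node (.node (.node (.node (.node (.leaf 2)
(.leaf 1194))
(.node (.leaf 1167)
(.leaf 5376)))
(.node (.node (.leaf 1156)
(.leaf 1263))
(.node (.leaf 1177)
(.leaf 0))))
(.node (.node (.node (.leaf 11)
(.leaf 1177))
(.node (.leaf 1171)
(.leaf 0)))
(.node (.node (.leaf 1177)
(.leaf 5376))
(.node (.leaf 1160)
(.leaf 0)))))
(.node (.node (.node (.node (.leaf 176)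
(.leaf 1263))
(.node (.leaf 1279)
(.leaf 0)))
(.node (.node (.leaf 1194)
(.leaf 5314))
(.node (.leaf 1194)
(.leaf 0))))
(.node (.node (.node (.leaf 176)
(.leaf 1156))
(.node (.leaf 1194)
(.leaf 0)))
(.node (.node (.leaf 1177)
(.leaf 5314))
(.node (.leaf 1177)
(.leaf 0)))))))
(.node (.node (.node (.node (.node (.node (.leaf 11)
(.leaf 1156))
(.node (.leaf 1156)
(.leaf 5376)))
(.node (.node (.leaf 11)
(.leaf 1177))
(.node (.leaf 1156)
(.leaf 0))))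
(.node (.node (.node (.leaf 11)
(.leaf 1177))
(.node (.leaf 1263)
(.leaf 0)))
(.node (.node (.leaf 1263)
(.leaf 5376))
(.node (.leaf 1160)
(.leaf 0)))))
(.node (.node (.node (.node (.leaf 11)
(.leaf 1279))
(.node (.leaf 1177)
(.leaf 0)))
(.node (.node (.leaf 1171)
(.leaf 5453))
(.node (.leaf 1177)
(.leaf 0))))
(.node (.node (.node (.leaf 176)
(.leaf 1194))
(.node (.leaf 1177)
(.leaf 0)))
(.node (.node (.leaf 1160)
(.leaf 5420))
(.node (.leaf 1156)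
(.leaf 0))))))
(.node (.node (.node (.node (.node (.leaf 11)
(.leaf 1177))
(.node (.leaf 1196)
(.leaf 0)))
(.node (.node (.leaf 1167)
(.leaf 5314))
(.node (.leaf 1194)
(.leaf 0))))
(.node (.node (.node (.leaf 11)
(.leaf 1177))
(.node (.leaf 1177)
(.leaf 0)))
(.node (.node (.leaf 1160)
(.leaf 5376))
(.node (.leaf 1160)
(.leaf 0)))))
(.node (.node (.node (.node (.leaf 176)
(.leaf 1156))
(.node (.leaf 1194)
(.leaf 0)))
(.node (.node (.leaf 1156)
(.leaf 5314))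
(.node (.leaf 1194)
(.leaf 0))))
(.node (.node (.node (.leaf 47)
(.leaf 1279))
(.node (.leaf 1177)
(.leaf 0)))
(.node (.node (.leaf 1156)
(.leaf 5420))
(.node (.leaf 1177)
(.leaf 0))))))))
(.node (.node (.node (.node (.node (.node (.node (.leaf 11)
(.leaf 1177))
(.node (.leaf 1160)
(.leaf 5376)))
(.node (.node (.leaf 11)
(.leaf 1194))
(.node (.leaf 1177)
(.leaf 0))))
(.node (.node (.node (.leaf 11)
(.leaf 1194))
(.node (.leaf 1177)
(.leaf 0)))
(.node (.node (.leaf 1177)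
(.leaf 5376))
(.node (.leaf 1177)
(.leaf 0)))))
(.node (.node (.node (.node (.leaf 26)
(.leaf 1263))
(.node (.leaf 1194)
(.leaf 0)))
(.node (.node (.leaf 1194)
(.leaf 5314))
(.node (.leaf 1167)
(.leaf 0))))
(.node (.node (.node (.leaf 47)
(.leaf 1156))
(.node (.leaf 1177)
(.leaf 0)))
(.node (.node (.leaf 1160)
(.leaf 5376))
(.node (.leaf 1156)
(.leaf 0))))))
(.node (.node (.node (.node (.node (.leaf 11)
(.leaf 1194))
(.node (.leaf 1177)
(.leaf 0)))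
(.node (.node (.leaf 1156)
(.leaf 1279))
(.node (.leaf 1194)
(.leaf 0))))
(.node (.node (.node (.leaf 176)
(.leaf 1194))
(.node (.leaf 1177)
(.leaf 0)))
(.node (.node (.leaf 1177)
(.leaf 5376))
(.node (.leaf 1194)
(.leaf 0)))))
(.node (.node (.node (.node (.leaf 11)
(.leaf 1177))
(.node (.leaf 1177)
(.leaf 0)))
(.node (.node (.leaf 1196)
(.leaf 5348))
(.node (.leaf 1177)
(.leaf 0))))
(.node (.node (.node (.leaf 47)
(.leaf 1263))
(.node (.leaf 1160)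
(.leaf 0)))
(.node (.node (.leaf 1160)
(.leaf 5376))
(.node (.leaf 1177)
(.leaf 0)))))))
(.node (.node (.node (.node (.node (.node (.leaf 11)
(.leaf 1177))
(.node (.leaf 1167)
(.leaf 5376)))
(.node (.node (.leaf 176)
(.leaf 1263))
(.node (.leaf 1196)
(.leaf 0))))
(.node (.node (.node (.leaf 2)
(.leaf 1263))
(.node (.leaf 1177)
(.leaf 0)))
(.node (.node (.leaf 1167)
(.leaf 5314))
(.node (.leaf 1194)
(.leaf 0)))))
(.node (.node (.node (.node (.leaf 47)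
(.leaf 1177))
(.node (.leaf 1160)
(.leaf 0)))
(.node (.node (.leaf 1156)
(.leaf 5372))
(.node (.leaf 1194)
(.leaf 0))))
(.node (.node (.node (.leaf 11)
(.leaf 1177))
(.node (.leaf 1167)
(.leaf 0)))
(.node (.node (.leaf 1196)
(.leaf 5376))
(.node (.leaf 1177)
(.leaf 0))))))
(.node (.node (.node (.node (.node (.leaf 11)
(.leaf 1167))
(.node (.leaf 1196)
(.leaf 0)))
(.node (.node (.leaf 1177)
(.leaf 5323))
(.node (.leaf 1177)
(.leaf 0))))
(.node (.node (.node (.leaf 11)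
(.leaf 1194))
(.node (.leaf 1194)
(.leaf 0)))
(.node (.node (.leaf 1160)
(.leaf 5376))
(.node (.leaf 1156)
(.leaf 0)))))
(.node (.node (.node (.node (.leaf 176)
(.leaf 1177))
(.node (.leaf 1160)
(.leaf 0)))
(.node (.node (.leaf 1160)
(.leaf 5348))
(.node (.leaf 1177)
(.leaf 0))))
(.node (.node (.node (.leaf 519)
(.leaf 1263))
(.node (.leaf 1156)
(.leaf 0)))
(.node (.node (.leaf 1171)
(.leaf 5376))
(.node (.leaf 1196)
(.leaf 0)))))))))
(.node (.node (.node (.node (.node (.node (.node (.node (.leaf 2)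
(.leaf 1279))
(.node (.leaf 1177)
(.leaf 5376)))
(.node (.node (.leaf 11)
(.leaf 1177))
(.node (.leaf 1167)
(.leaf 0))))
(.node (.node (.node (.leaf 47)
(.leaf 1177))
(.node (.leaf 1263)
(.leaf 0)))
(.node (.node (.leaf 1156)
(.leaf 5376))
(.node (.leaf 1156)
(.leaf 0)))))
(.node (.node (.node (.node (.leaf 11)
(.leaf 1156))
(.node (.leaf 1160)
(.leaf 0)))
(.node (.node (.leaf 1156)
(.leaf 5314))
(.node (.leaf 1263)
(.leaf 0))))
(.node (.node (.node (.leaf 11)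
(.leaf 1177))
(.node (.leaf 1177)
(.leaf 0)))
(.node (.node (.leaf 1156)
(.leaf 5314))
(.node (.leaf 1167)
(.leaf 0))))))
(.node (.node (.node (.node (.node (.leaf 11)
(.leaf 1177))
(.node (.leaf 1160)
(.leaf 5376)))
(.node (.node (.leaf 1167)
(.leaf 1263))
(.node (.leaf 1156)
(.leaf 0))))
(.node (.node (.node (.leaf 11)
(.leaf 1177))
(.node (.leaf 1177)
(.leaf 0)))
(.node (.node (.leaf 1156)
(.leaf 5376))
(.node (.leaf 1156)
(.leaf 0)))))
(.node (.node (.node (.node (.leaf 11)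
(.leaf 1194))
(.node (.leaf 1194)
(.leaf 0)))
(.node (.node (.leaf 1156)
(.leaf 5314))
(.node (.leaf 1160)
(.leaf 0))))
(.node (.node (.node (.leaf 11)
(.leaf 1177))
(.node (.leaf 1156)
(.leaf 0)))
(.node (.node (.leaf 1160)
(.leaf 5376))
(.node (.leaf 1177)
(.leaf 0)))))))
(.node (.node (.node (.node (.node (.node (.leaf 11)
(.leaf 1194))
(.node (.leaf 1194)
(.leaf 5376)))
(.node (.node (.leaf 11)
(.leaf 1279))
(.node (.leaf 1177)
(.leaf 0))))
(.node (.node (.node (.leaf 176)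
(.leaf 1177))
(.node (.leaf 1263)
(.leaf 0)))
(.node (.node (.leaf 1171)
(.leaf 5314))
(.node (.leaf 1160)
(.leaf 0)))))
(.node (.node (.node (.node (.leaf 11)
(.leaf 1177))
(.node (.leaf 1167)
(.leaf 0)))
(.node (.node (.leaf 1167)
(.leaf 5376))
(.node (.leaf 1167)
(.leaf 0))))
(.node (.node (.node (.leaf 519)
(.leaf 1263))
(.node (.leaf 1160)
(.leaf 0)))
(.node (.node (.leaf 1155)
(.leaf 5376))
(.node (.leaf 1177)
(.leaf 0))))))
(.node (.node (.node (.node (.node (.leaf 11)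
(.leaf 1263))
(.node (.leaf 1194)
(.leaf 0)))
(.node (.node (.leaf 1177)
(.leaf 5314))
(.node (.leaf 1156)
(.leaf 0))))
(.node (.node (.node (.leaf 11)
(.leaf 1194))
(.node (.leaf 1177)
(.leaf 0)))
(.node (.node (.leaf 1194)
(.leaf 5420))
(.node (.leaf 1177)
(.leaf 0)))))
(.node (.node (.node (.node (.leaf 47)
(.leaf 1177))
(.node (.leaf 1167)
(.leaf 0)))
(.node (.node (.leaf 1160)
(.leaf 5420))
(.node (.leaf 1156)
(.leaf 0))))
(.node (.node (.node (.leaf 47)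
(.leaf 1167))
(.node (.leaf 1177)
(.leaf 0)))
(.node (.node (.leaf 1177)
(.leaf 5420))
(.node (.leaf 1177)
(.leaf 0))))))))
(.node (.node (.node (.node (.node (.node (.node (.leaf 11)
(.leaf 1156))
(.node (.leaf 1177)
(.leaf 5420)))
(.node (.node (.leaf 176)
(.leaf 1167))
(.node (.leaf 1156)
(.leaf 0))))
(.node (.node (.node (.leaf 47)
(.leaf 1177))
(.node (.leaf 1263)
(.leaf 0)))
(.node (.node (.leaf 1279)
(.leaf 5314))
(.node (.leaf 1194)
(.leaf 0)))))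
(.node (.node (.node (.node (.leaf 11)
(.leaf 1263))
(.node (.leaf 1263)
(.leaf 0)))
(.node (.node (.leaf 1156)
(.leaf 5314))
(.node (.leaf 1263)
(.leaf 0))))
(.node (.node (.node (.leaf 26)
(.leaf 1177))
(.node (.leaf 1279)
(.leaf 0)))
(.node (.node (.leaf 1156)
(.leaf 5376))
(.node (.leaf 1177)
(.leaf 0))))))
(.node (.node (.node (.node (.node (.leaf 11)
(.leaf 1177))
(.node (.leaf 1177)
(.leaf 0)))
(.node (.node (.leaf 1156)
(.leaf 1177))
(.node (.leaf 1160)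
(.leaf 0))))
(.node (.node (.node (.leaf 11)
(.leaf 1194))
(.node (.leaf 1177)
(.leaf 0)))
(.node (.node (.leaf 1171)
(.leaf 5376))
(.node (.leaf 1177)
(.leaf 0)))))
(.node (.node (.node (.node (.leaf 11)
(.leaf 1177))
(.node (.leaf 1167)
(.leaf 0)))
(.node (.node (.leaf 1156)
(.leaf 5376))
(.node (.leaf 1196)
(.leaf 0))))
(.node (.node (.node (.leaf 47)
(.leaf 1263))
(.node (.leaf 1177)
(.leaf 0)))
(.node (.node (.leaf 1156)
(.leaf 5314))
(.node (.leaf 1194)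
(.leaf 0)))))))
(.node (.node (.node (.node (.node (.node (.leaf 11)
(.leaf 1177))
(.node (.leaf 1160)
(.leaf 5420)))
(.node (.node (.leaf 176)
(.leaf 1279))
(.node (.leaf 1177)
(.leaf 0))))
(.node (.node (.node (.leaf 11)
(.leaf 1194))
(.node (.leaf 1177)
(.leaf 0)))
(.node (.node (.leaf 1279)
(.leaf 5314))
(.node (.leaf 1194)
(.leaf 0)))))
(.node (.node (.node (.node (.leaf 11)
(.leaf 1177))
(.node (.leaf 1177)
(.leaf 0)))
(.node (.node (.leaf 1177)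
(.leaf 5314))
(.node (.leaf 1279)
(.leaf 0))))
(.node (.node (.node (.leaf 11)
(.leaf 1177))
(.node (.leaf 1177)
(.leaf 0)))
(.node (.node (.leaf 1167)
(.leaf 5314))
(.node (.leaf 1156)
(.leaf 0))))))
(.node (.node (.node (.node (.node (.leaf 11)
(.leaf 1194))
(.node (.leaf 1194)
(.leaf 0)))
(.node (.node (.leaf 1167)
(.leaf 5314))
(.node (.leaf 1171)
(.leaf 0))))
(.node (.node (.node (.leaf 11)
(.leaf 1177))
(.node (.leaf 1177)
(.leaf 0)))
(.node (.node (.leaf 1194)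
(.leaf 5376))
(.node (.leaf 1194)
(.leaf 0)))))
(.node (.node (.node (.node (.leaf 47)
(.leaf 1263))
(.node (.leaf 1156)
(.leaf 0)))
(.node (.node (.leaf 1177)
(.leaf 5314))
(.node (.leaf 1279)
(.leaf 0))))
(.node (.node (.node (.leaf 11)
(.leaf 1177))
(.node (.leaf 1194)
(.leaf 0)))
(.node (.node (.leaf 1177)
(.leaf 5376))
(.node (.leaf 1194)
(.leaf 0))))))))))))
(.node (.node (.node (.node (.node (.node (.node (.node (.node (.node (.node (.leaf 0)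
(.leaf 1263))
(.node (.leaf 1177)
(.leaf 5420)))
(.node (.node (.leaf 176)
(.leaf 1167))
(.node (.leaf 1167)
(.leaf 0))))
(.node (.node (.node (.leaf 176)
(.leaf 1263))
(.node (.leaf 1263)
(.leaf 0)))
(.node (.node (.leaf 1177)
(.leaf 5314))
(.node (.leaf 1177)
(.leaf 0)))))
(.node (.node (.node (.node (.leaf 11)
(.leaf 1263))
(.node (.leaf 1177)
(.leaf 0)))
(.node (.node (.leaf 1160)
(.leaf 5314))
(.node (.leaf 1194)
(.leaf 0))))
(.node (.node (.node (.leaf 11)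
(.leaf 1160))
(.node (.leaf 1156)
(.leaf 0)))
(.node (.node (.leaf 1156)
(.leaf 5376))
(.node (.leaf 1177)
(.leaf 0))))))
(.node (.node (.node (.node (.node (.leaf 11)
(.leaf 1156))
(.node (.leaf 1263)
(.leaf 5453)))
(.node (.node (.leaf 1155)
(.leaf 1167))
(.node (.leaf 1167)
(.leaf 0))))
(.node (.node (.node (.leaf 11)
(.leaf 1263))
(.node (.leaf 1167)
(.leaf 0)))
(.node (.node (.leaf 1194)
(.leaf 5376))
(.node (.leaf 1177)
(.leaf 0)))))
(.node (.node (.node (.node (.leaf 47)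
(.leaf 1263))
(.node (.leaf 1156)
(.leaf 0)))
(.node (.node (.leaf 1194)
(.leaf 5314))
(.node (.leaf 1177)
(.leaf 0))))
(.node (.node (.node (.leaf 11)
(.leaf 1171))
(.node (.leaf 1156)
(.leaf 0)))
(.node (.node (.leaf 1177)
(.leaf 5314))
(.node (.leaf 1194)
(.leaf 0)))))))
(.node (.node (.node (.node (.node (.node (.leaf 11)
(.leaf 1177))
(.node (.leaf 1156)
(.leaf 5376)))
(.node (.node (.leaf 11)
(.leaf 1167))
(.node (.leaf 1177)
(.leaf 0))))
(.node (.node (.node (.leaf 11)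
(.leaf 1160))
(.node (.leaf 1177)
(.leaf 0)))
(.node (.node (.leaf 1177)
(.leaf 5314))
(.node (.leaf 1171)
(.leaf 0)))))
(.node (.node (.node (.node (.leaf 11)
(.leaf 1194))
(.node (.leaf 1177)
(.leaf 0)))
(.node (.node (.leaf 1156)
(.leaf 5314))
(.node (.leaf 1177)
(.leaf 0))))
(.node (.node (.node (.leaf 11)
(.leaf 1160))
(.node (.leaf 1167)
(.leaf 0)))
(.node (.node (.leaf 1167)
(.leaf 5420))
(.node (.leaf 1160)
(.leaf 0))))))
(.node (.node (.node (.node (.node (.leaf 11)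
(.leaf 1194))
(.node (.leaf 1196)
(.leaf 0)))
(.node (.node (.leaf 1156)
(.leaf 5314))
(.node (.leaf 1156)
(.leaf 0))))
(.node (.node (.node (.leaf 11)
(.leaf 1177))
(.node (.leaf 1160)
(.leaf 0)))
(.node (.node (.leaf 1160)
(.leaf 5420))
(.node (.leaf 1156)
(.leaf 0)))))
(.node (.node (.node (.node (.leaf 11)
(.leaf 1194))
(.node (.leaf 1263)
(.leaf 0)))
(.node (.node (.leaf 1160)
(.leaf 5376))
(.node (.leaf 1156)
(.leaf 0))))
(.node (.node (.node (.leaf 11)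
(.leaf 1279))
(.node (.leaf 1177)
(.leaf 0)))
(.node (.node (.leaf 1177)
(.leaf 5376))
(.node (.leaf 1194)
(.leaf 0))))))))
(.node (.node (.node (.node (.node (.node (.node (.leaf 11)
(.leaf 1194))
(.node (.leaf 1160)
(.leaf 5376)))
(.node (.node (.leaf 11)
(.leaf 1177))
(.node (.leaf 1156)
(.leaf 0))))
(.node (.node (.node (.leaf 11)
(.leaf 1177))
(.node (.leaf 1279)
(.leaf 0)))
(.node (.node (.leaf 1177)
(.leaf 5376))
(.node (.leaf 1160)
(.leaf 0)))))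
(.node (.node (.node (.node (.leaf 11)
(.leaf 1177))
(.node (.leaf 1156)
(.leaf 0)))
(.node (.node (.leaf 1177)
(.leaf 5314))
(.node (.leaf 1263)
(.leaf 0))))
(.node (.node (.node (.leaf 47)
(.leaf 1177))
(.node (.leaf 1177)
(.leaf 0)))
(.node (.node (.leaf 1177)
(.leaf 5314))
(.node (.leaf 1156)
(.leaf 0))))))
(.node (.node (.node (.node (.node (.leaf 47)
(.leaf 1279))
(.node (.leaf 1155)
(.leaf 0)))
(.node (.node (.leaf 1156)
(.leaf 1263))
(.node (.leaf 1156)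
(.leaf 0))))
(.node (.node (.node (.leaf 11)
(.leaf 1177))
(.node (.leaf 1156)
(.leaf 0)))
(.node (.node (.leaf 1177)
(.leaf 5314))
(.node (.leaf 1177)
(.leaf 0)))))
(.node (.node (.node (.node (.leaf 11)
(.leaf 1279))
(.node (.leaf 1194)
(.leaf 0)))
(.node (.node (.leaf 1196)
(.leaf 5314))
(.node (.leaf 1160)
(.leaf 0))))
(.node (.node (.node (.leaf 47)
(.leaf 1279))
(.node (.leaf 1177)
(.leaf 0)))
(.node (.node (.leaf 1177)
(.leaf 5420))
(.node (.leaf 1196)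
(.leaf 0)))))))
(.node (.node (.node (.node (.node (.node (.leaf 47)
(.leaf 1167))
(.node (.leaf 1177)
(.leaf 5376)))
(.node (.node (.leaf 519)
(.leaf 1177))
(.node (.leaf 1156)
(.leaf 0))))
(.node (.node (.node (.leaf 47)
(.leaf 1263))
(.node (.leaf 1263)
(.leaf 0)))
(.node (.node (.leaf 1160)
(.leaf 5314))
(.node (.leaf 1177)
(.leaf 0)))))
(.node (.node (.node (.node (.leaf 11)
(.leaf 1156))
(.node (.leaf 1177)
(.leaf 0)))
(.node (.node (.leaf 1160)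
(.leaf 5314))
(.node (.leaf 1156)
(.leaf 0))))
(.node (.node (.node (.leaf 11)
(.leaf 1167))
(.node (.leaf 1177)
(.leaf 0)))
(.node (.node (.leaf 1167)
(.leaf 5314))
(.node (.leaf 1177)
(.leaf 0))))))
(.node (.node (.node (.node (.node (.leaf 47)
(.leaf 1177))
(.node (.leaf 1167)
(.leaf 0)))
(.node (.node (.leaf 1194)
(.leaf 5347))
(.node (.leaf 1177)
(.leaf 0))))
(.node (.node (.node (.leaf 11)
(.leaf 1194))
(.node (.leaf 1160)
(.leaf 0)))
(.node (.node (.leaf 1194)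
(.leaf 5376))
(.node (.leaf 1156)
(.leaf 0)))))
(.node (.node (.node (.node (.leaf 11)
(.leaf 1177))
(.node (.leaf 1196)
(.leaf 0)))
(.node (.node (.leaf 1177)
(.leaf 5376))
(.node (.leaf 1156)
(.leaf 0))))
(.node (.node (.node (.leaf 11)
(.leaf 1177))
(.node (.leaf 1196)
(.leaf 0)))
(.node (.node (.leaf 1194)
(.leaf 5376))
(.node (.leaf 1194)
(.leaf 0)))))))))
(.node (.node (.node (.node (.node (.node (.node (.node (.leaf 2)
(.leaf 1171))
(.node (.leaf 1156)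
(.leaf 5314)))
(.node (.node (.leaf 176)
(.leaf 1177))
(.node (.leaf 1177)
(.leaf 0))))
(.node (.node (.node (.leaf 11)
(.leaf 1177))
(.node (.leaf 1155)
(.leaf 0)))
(.node (.node (.leaf 1194)
(.leaf 5376))
(.node (.leaf 1156)
(.leaf 0)))))
(.node (.node (.node (.node (.leaf 47)
(.leaf 1263))
(.node (.leaf 1194)
(.leaf 0)))
(.node (.node (.leaf 1156)
(.leaf 5314))
(.node (.leaf 1177)
(.leaf 0))))
(.node (.node (.node (.leaf 11)
(.leaf 1156))
(.node (.leaf 1171)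
(.leaf 0)))
(.node (.node (.leaf 1177)
(.leaf 5420))
(.node (.leaf 1263)
(.leaf 0))))))
(.node (.node (.node (.node (.node (.leaf 11)
(.leaf 1177))
(.node (.leaf 1177)
(.leaf 5453)))
(.node (.node (.leaf 1171)
(.leaf 1263))
(.node (.leaf 1194)
(.leaf 0))))
(.node (.node (.node (.leaf 11)
(.leaf 1194))
(.node (.leaf 1167)
(.leaf 0)))
(.node (.node (.leaf 1156)
(.leaf 5376))
(.node (.leaf 1194)
(.leaf 0)))))
(.node (.node (.node (.node (.leaf 2)
(.leaf 1263))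
(.node (.leaf 1263)
(.leaf 0)))
(.node (.node (.leaf 1177)
(.leaf 5314))
(.node (.leaf 1279)
(.leaf 0))))
(.node (.node (.node (.leaf 176)
(.leaf 1177))
(.node (.leaf 1263)
(.leaf 0)))
(.node (.node (.leaf 1167)
(.leaf 5420))
(.node (.leaf 1177)
(.leaf 0)))))))
(.node (.node (.node (.node (.node (.node (.leaf 0)
(.leaf 1177))
(.node (.leaf 1156)
(.leaf 5376)))
(.node (.node (.leaf 176)
(.leaf 1177))
(.node (.leaf 1156)
(.leaf 0))))
(.node (.node (.node (.leaf 47)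
(.leaf 1177))
(.node (.leaf 1194)
(.leaf 0)))
(.node (.node (.leaf 1177)
(.leaf 5376))
(.node (.leaf 1194)
(.leaf 0)))))
(.node (.node (.node (.node (.leaf 11)
(.leaf 1263))
(.node (.leaf 1177)
(.leaf 0)))
(.node (.node (.leaf 1156)
(.leaf 5314))
(.node (.leaf 1194)
(.leaf 0))))
(.node (.node (.node (.leaf 11)
(.leaf 1177))
(.node (.leaf 1194)
(.leaf 0)))
(.node (.node (.leaf 1156)
(.leaf 5420))
(.node (.leaf 1177)
(.leaf 0))))))
(.node (.node (.node (.node (.node (.leaf 11)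
(.leaf 1263))
(.node (.leaf 1156)
(.leaf 0)))
(.node (.node (.leaf 1167)
(.leaf 5314))
(.node (.leaf 1160)
(.leaf 0))))
(.node (.node (.node (.leaf 11)
(.leaf 1177))
(.node (.leaf 1279)
(.leaf 0)))
(.node (.node (.leaf 1263)
(.leaf 5314))
(.node (.leaf 1177)
(.leaf 0)))))
(.node (.node (.node (.node (.leaf 11)
(.leaf 1177))
(.node (.leaf 1156)
(.leaf 0)))
(.node (.node (.leaf 1156)
(.leaf 5314))
(.node (.leaf 1156)
(.leaf 0))))
(.node (.node (.node (.leaf 11)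
(.leaf 1194))
(.node (.leaf 1194)
(.leaf 0)))
(.node (.node (.leaf 1156)
(.leaf 5376))
(.node (.leaf 1160)
(.leaf 0))))))))
(.node (.node (.node (.node (.node (.node (.node (.leaf 11)
(.leaf 1194))
(.node (.leaf 1194)
(.leaf 5376)))
(.node (.node (.leaf 176)
(.leaf 1177))
(.node (.leaf 1177)
(.leaf 0))))
(.node (.node (.node (.leaf 47)
(.leaf 1177))
(.node (.leaf 1156)
(.leaf 0)))
(.node (.node (.leaf 1177)
(.leaf 5420))
(.node (.leaf 1177)
(.leaf 0)))))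
(.node (.node (.node (.node (.leaf 2)
(.leaf 1177))
(.node (.leaf 1194)
(.leaf 0)))
(.node (.node (.leaf 1177)
(.leaf 5348))
(.node (.leaf 1177)
(.leaf 0))))
(.node (.node (.node (.leaf 176)
(.leaf 1160))
(.node (.leaf 1263)
(.leaf 0)))
(.node (.node (.leaf 1194)
(.leaf 5420))
(.node (.leaf 1156)
(.leaf 0))))))
(.node (.node (.node (.node (.node (.leaf 11)
(.leaf 1177))
(.node (.leaf 1156)
(.leaf 0)))
(.node (.node (.leaf 1156)
(.leaf 1263))
(.node (.leaf 1156)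
(.leaf 0))))
(.node (.node (.node (.leaf 11)
(.leaf 1156))
(.node (.leaf 1177)
(.leaf 0)))
(.node (.node (.leaf 1156)
(.leaf 5376))
(.node (.leaf 1156)
(.leaf 0)))))
(.node (.node (.node (.node (.leaf 11)
(.leaf 1263))
(.node (.leaf 1167)
(.leaf 0)))
(.node (.node (.leaf 1167)
(.leaf 5314))
(.node (.leaf 1177)
(.leaf 0))))
(.node (.node (.node (.leaf 47)
(.leaf 1194))
(.node (.leaf 1177)
(.leaf 0)))
(.node (.node (.leaf 1160)
(.leaf 5376))
(.node (.leaf 1177)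
(.leaf 0)))))))
(.node (.node (.node (.node (.node (.node (.leaf 11)
(.leaf 1263))
(.node (.leaf 1160)
(.leaf 5420)))
(.node (.node (.leaf 176)
(.leaf 1177))
(.node (.leaf 1177)
(.leaf 0))))
(.node (.node (.node (.leaf 11)
(.leaf 1167))
(.node (.leaf 1194)
(.leaf 0)))
(.node (.node (.leaf 1177)
(.leaf 5420))
(.node (.leaf 1160)
(.leaf 0)))))
(.node (.node (.node (.node (.leaf 11)
(.leaf 1279))
(.node (.leaf 1160)
(.leaf 0)))
(.node (.node (.leaf 1156)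
(.leaf 5314))
(.node (.leaf 1194)
(.leaf 0))))
(.node (.node (.node (.leaf 176)
(.leaf 1177))
(.node (.leaf 1177)
(.leaf 0)))
(.node (.node (.leaf 1156)
(.leaf 5376))
(.node (.leaf 1194)
(.leaf 0))))))
(.node (.node (.node (.node (.node (.leaf 11)
(.leaf 1167))
(.node (.leaf 1194)
(.leaf 0)))
(.node (.node (.leaf 1177)
(.leaf 5314))
(.node (.leaf 1167)
(.leaf 0))))
(.node (.node (.node (.leaf 11)
(.leaf 1167))
(.node (.leaf 1194)
(.leaf 0)))
(.node (.node (.leaf 1194)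
(.leaf 5314))
(.node (.leaf 1156)
(.leaf 0)))))
(.node (.node (.node (.node (.leaf 47)
(.leaf 1177))
(.node (.leaf 1167)
(.leaf 0)))
(.node (.node (.leaf 1196)
(.leaf 5314))
(.node (.leaf 1194)
(.leaf 0))))
(.node (.node (.node (.leaf 47)
(.leaf 1263))
(.node (.leaf 1156)
(.leaf 0)))
(.node (.node (.leaf 1177)
(.leaf 5420))
(.node (.leaf 1177)
(.leaf 0))))))))))
(.node (.node (.node (.node (.node (.node (.node (.node (.node (.leaf 11)
(.leaf 1155))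
(.node (.leaf 1156)
(.leaf 5376)))
(.node (.node (.leaf 11)
(.leaf 1177))
(.node (.leaf 1156)
(.leaf 0))))
(.node (.node (.node (.leaf 176)
(.leaf 1263))
(.node (.leaf 1194)
(.leaf 0)))
(.node (.node (.leaf 1177)
(.leaf 5314))
(.node (.leaf 1177)
(.leaf 0)))))
(.node (.node (.node (.node (.leaf 11)
(.leaf 1177))
(.node (.leaf 1156)
(.leaf 0)))
(.node (.node (.leaf 1156)
(.leaf 5314))
(.node (.leaf 1171)
(.leaf 0))))
(.node (.node (.node (.leaf 176)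
(.leaf 1194))
(.node (.leaf 1156)
(.leaf 0)))
(.node (.node (.leaf 1177)
(.leaf 5314))
(.node (.leaf 1156)
(.leaf 0))))))
(.node (.node (.node (.node (.node (.leaf 0)
(.leaf 1177))
(.node (.leaf 1156)
(.leaf 5376)))
(.node (.node (.leaf 1156)
(.leaf 1263))
(.node (.leaf 1160)
(.leaf 0))))
(.node (.node (.node (.leaf 176)
(.leaf 1263))
(.node (.leaf 1171)
(.leaf 0)))
(.node (.node (.leaf 1167)
(.leaf 5420))
(.node (.leaf 1167)
(.leaf 0)))))
(.node (.node (.node (.node (.leaf 11)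
(.leaf 1263))
(.node (.leaf 1194)
(.leaf 0)))
(.node (.node (.leaf 1156)
(.leaf 5376))
(.node (.leaf 1177)
(.leaf 0))))
(.node (.node (.node (.leaf 176)
(.leaf 1177))
(.node (.leaf 1194)
(.leaf 0)))
(.node (.node (.leaf 1263)
(.leaf 5420))
(.node (.leaf 1160)
(.leaf 0)))))))
(.node (.node (.node (.node (.node (.node (.leaf 11)
(.leaf 1156))
(.node (.leaf 1156)
(.leaf 5314)))
(.node (.node (.leaf 519)
(.leaf 1177))
(.node (.leaf 1167)
(.leaf 0))))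
(.node (.node (.node (.leaf 47)
(.leaf 1177))
(.node (.leaf 1279)
(.leaf 0)))
(.node (.node (.leaf 1177)
(.leaf 5323))
(.node (.leaf 1177)
(.leaf 0)))))
(.node (.node (.node (.node (.leaf 11)
(.leaf 1177))
(.node (.leaf 1171)
(.leaf 0)))
(.node (.node (.leaf 1160)
(.leaf 5314))
(.node (.leaf 1167)
(.leaf 0))))
(.node (.node (.node (.leaf 11)
(.leaf 1194))
(.node (.leaf 1156)
(.leaf 0)))
(.node (.node (.leaf 1160)
(.leaf 5376))
(.node (.leaf 1156)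
(.leaf 0))))))
(.node (.node (.node (.node (.node (.leaf 47)
(.leaf 1167))
(.node (.leaf 1160)
(.leaf 0)))
(.node (.node (.leaf 1156)
(.leaf 5323))
(.node (.leaf 1156)
(.leaf 0))))
(.node (.node (.node (.leaf 11)
(.leaf 1177))
(.node (.leaf 1177)
(.leaf 0)))
(.node (.node (.leaf 1156)
(.leaf 5314))
(.node (.leaf 1194)
(.leaf 0)))))
(.node (.node (.node (.node (.leaf 11)
(.leaf 1160))
(.node (.leaf 1263)
(.leaf 0)))
(.node (.node (.leaf 1160)
(.leaf 5314))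
(.node (.leaf 1167)
(.leaf 0))))
(.node (.node (.node (.leaf 11)
(.leaf 1194))
(.node (.leaf 1194)
(.leaf 0)))
(.node (.node (.leaf 1156)
(.leaf 5376))
(.node (.leaf 1160)
(.leaf 0))))))))
(.node (.node (.node (.node (.node (.node (.node (.leaf 11)
(.leaf 1263))
(.node (.leaf 1177)
(.leaf 5376)))
(.node (.node (.leaf 176)
(.leaf 1177))
(.node (.leaf 1177)
(.leaf 0))))
(.node (.node (.node (.leaf 11)
(.leaf 1194))
(.node (.leaf 1194)
(.leaf 0)))
(.node (.node (.leaf 1171)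
(.leaf 5314))
(.node (.leaf 1177)
(.leaf 0)))))
(.node (.node (.node (.node (.leaf 11)
(.leaf 1167))
(.node (.leaf 1156)
(.leaf 0)))
(.node (.node (.leaf 1194)
(.leaf 5314))
(.node (.leaf 1177)
(.leaf 0))))
(.node (.node (.node (.leaf 11)
(.leaf 1156))
(.node (.leaf 1194)
(.leaf 0)))
(.node (.node (.leaf 1196)
(.leaf 5420))
(.node (.leaf 1177)
(.leaf 0))))))
(.node (.node (.node (.node (.node (.leaf 11)
(.leaf 1263))
(.node (.leaf 1177)
(.leaf 0)))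
(.node (.node (.leaf 1177)
(.leaf 1177))
(.node (.leaf 1196)
(.leaf 0))))
(.node (.node (.node (.leaf 11)
(.leaf 1177))
(.node (.leaf 1177)
(.leaf 0)))
(.node (.node (.leaf 1156)
(.leaf 5314))
(.node (.leaf 1156)
(.leaf 0)))))
(.node (.node (.node (.node (.leaf 176)
(.leaf 1263))
(.node (.leaf 1177)
(.leaf 0)))
(.node (.node (.leaf 1156)
(.leaf 5314))
(.node (.leaf 1160)
(.leaf 0))))
(.node (.node (.node (.leaf 11)
(.leaf 1194))
(.node (.leaf 1194)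
(.leaf 0)))
(.node (.node (.leaf 1279)
(.leaf 5376))
(.node (.leaf 1177)
(.leaf 0)))))))
(.node (.node (.node (.node (.node (.node (.leaf 11)
(.leaf 1177))
(.node (.leaf 1156)
(.leaf 5314)))
(.node (.node (.leaf 176)
(.leaf 1194))
(.node (.leaf 1160)
(.leaf 0))))
(.node (.node (.node (.leaf 11)
(.leaf 1194))
(.node (.leaf 1279)
(.leaf 0)))
(.node (.node (.leaf 1160)
(.leaf 5314))
(.node (.leaf 1177)
(.leaf 0)))))
(.node (.node (.node (.node (.leaf 11)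
(.leaf 1263))
(.node (.leaf 1177)
(.leaf 0)))
(.node (.node (.leaf 1160)
(.leaf 5314))
(.node (.leaf 1194)
(.leaf 0))))
(.node (.node (.node (.leaf 11)
(.leaf 1177))
(.node (.leaf 1177)
(.leaf 0)))
(.node (.node (.leaf 1171)
(.leaf 5376))
(.node (.leaf 1160)
(.leaf 0))))))
(.node (.node (.node (.node (.node (.leaf 47)
(.leaf 1263))
(.node (.leaf 1160)
(.leaf 0)))
(.node (.node (.leaf 1156)
(.leaf 5323))
(.node (.leaf 1155)
(.leaf 0))))
(.node (.node (.node (.leaf 11)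
(.leaf 1194))
(.node (.leaf 1194)
(.leaf 0)))
(.node (.node (.leaf 1156)
(.leaf 5376))
(.node (.leaf 1156)
(.leaf 0)))))
(.node (.node (.node (.node (.leaf 11)
(.leaf 1156))
(.node (.leaf 1196)
(.leaf 0)))
(.node (.node (.leaf 1177)
(.leaf 5376))
(.node (.leaf 1177)
(.leaf 0))))
(.node (.node (.node (.leaf 176)
(.leaf 1279))
(.node (.leaf 1177)
(.leaf 0)))
(.node (.node (.leaf 1177)
(.leaf 5420))
(.node (.leaf 1177)
(.leaf 0)))))))))
(.node (.node (.node (.node (.node (.node (.node (.node (.leaf 2)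
(.leaf 1171))
(.node (.leaf 1194)
(.leaf 5376)))
(.node (.node (.leaf 11)
(.leaf 1177))
(.node (.leaf 1194)
(.leaf 0))))
(.node (.node (.node (.leaf 47)
(.leaf 1167))
(.node (.leaf 1167)
(.leaf 0)))
(.node (.node (.leaf 1177)
(.leaf 5314))
(.node (.leaf 1167)
(.leaf 0)))))
(.node (.node (.node (.node (.leaf 11)
(.leaf 1194))
(.node (.leaf 1177)
(.leaf 0)))
(.node (.node (.leaf 1156)
(.leaf 5314))
(.node (.leaf 1177)
(.leaf 0))))
(.node (.node (.node (.leaf 11)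
(.leaf 1177))
(.node (.leaf 1156)
(.leaf 0)))
(.node (.node (.leaf 1177)
(.leaf 5376))
(.node (.leaf 1177)
(.leaf 0))))))
(.node (.node (.node (.node (.node (.leaf 11)
(.leaf 1167))
(.node (.leaf 1177)
(.leaf 5420)))
(.node (.node (.leaf 1177)
(.leaf 1279))
(.node (.leaf 1177)
(.leaf 0))))
(.node (.node (.node (.leaf 176)
(.leaf 1177))
(.node (.leaf 1167)
(.leaf 0)))
(.node (.node (.leaf 1156)
(.leaf 5376))
(.node (.leaf 1156)
(.leaf 0)))))
(.node (.node (.node (.node (.leaf 11)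
(.leaf 1177))
(.node (.leaf 1177)
(.leaf 0)))
(.node (.node (.leaf 1156)
(.leaf 5376))
(.node (.leaf 1177)
(.leaf 0))))
(.node (.node (.node (.leaf 11)
(.leaf 1177))
(.node (.leaf 1167)
(.leaf 0)))
(.node (.node (.leaf 1167)
(.leaf 5420))
(.node (.leaf 1177)
(.leaf 0)))))))
(.node (.node (.node (.node (.node (.node (.leaf 26)
(.leaf 1167))
(.node (.leaf 1196)
(.leaf 5376)))
(.node (.node (.leaf 176)
(.leaf 1177))
(.node (.leaf 1177)
(.leaf 0))))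
(.node (.node (.node (.leaf 0)
(.leaf 1177))
(.node (.leaf 1177)
(.leaf 0)))
(.node (.node (.leaf 1177)
(.leaf 5376))
(.node (.leaf 1160)
(.leaf 0)))))
(.node (.node (.node (.node (.leaf 47)
(.leaf 1194))
(.node (.leaf 1156)
(.leaf 0)))
(.node (.node (.leaf 1167)
(.leaf 5323))
(.node (.leaf 1177)
(.leaf 0))))
(.node (.node (.node (.leaf 11)
(.leaf 1177))
(.node (.leaf 1196)
(.leaf 0)))
(.node (.node (.leaf 1160)
(.leaf 5376))
(.node (.leaf 1194)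
(.leaf 0))))))
(.node (.node (.node (.node (.node (.leaf 11)
(.leaf 1177))
(.node (.leaf 1177)
(.leaf 0)))
(.node (.node (.leaf 1156)
(.leaf 5314))
(.node (.leaf 1194)
(.leaf 0))))
(.node (.node (.node (.leaf 11)
(.leaf 1194))
(.node (.leaf 1160)
(.leaf 0)))
(.node (.node (.leaf 1177)
(.leaf 5376))
(.node (.leaf 1177)
(.leaf 0)))))
(.node (.node (.node (.node (.leaf 11)
(.leaf 1160))
(.node (.leaf 1263)
(.leaf 0)))
(.node (.node (.leaf 1196)
(.leaf 5376))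
(.node (.leaf 1177)
(.leaf 0))))
(.node (.node (.node (.leaf 11)
(.leaf 1177))
(.node (.leaf 1156)
(.leaf 0)))
(.node (.node (.leaf 1156)
(.leaf 5376))
(.node (.leaf 1167)
(.leaf 0))))))))
(.node (.node (.node (.node (.node (.node (.node (.leaf 0)
(.leaf 1160))
(.node (.leaf 1177)
(.leaf 5314)))
(.node (.node (.leaf 11)
(.leaf 1194))
(.node (.leaf 1194)
(.leaf 0))))
(.node (.node (.node (.leaf 47)
(.leaf 1177))
(.node (.leaf 1177)
(.leaf 0)))
(.node (.node (.leaf 1177)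
(.leaf 5376))
(.node (.leaf 1196)
(.leaf 0)))))
(.node (.node (.node (.node (.leaf 11)
(.leaf 1194))
(.node (.leaf 1156)
(.leaf 0)))
(.node (.node (.leaf 1196)
(.leaf 5314))
(.node (.leaf 1279)
(.leaf 0))))
(.node (.node (.node (.leaf 176)
(.leaf 1177))
(.node (.leaf 1263)
(.leaf 0)))
(.node (.node (.leaf 1196)
(.leaf 5420))
(.node (.leaf 1177)
(.leaf 0))))))
(.node (.node (.node (.node (.node (.leaf 11)
(.leaf 1177))
(.node (.leaf 1156)
(.leaf 0)))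
(.node (.node (.leaf 1160)
(.leaf 1263))
(.node (.leaf 1177)
(.leaf 0))))
(.node (.node (.node (.leaf 11)
(.leaf 1194))
(.node (.leaf 1171)
(.leaf 0)))
(.node (.node (.leaf 1156)
(.leaf 5314))
(.node (.leaf 1194)
(.leaf 0)))))
(.node (.node (.node (.node (.leaf 11)
(.leaf 1279))
(.node (.leaf 1177)
(.leaf 0)))
(.node (.node (.leaf 1167)
(.leaf 5314))
(.node (.leaf 1167)
(.leaf 0))))
(.node (.node (.node (.leaf 176)
(.leaf 1263))
(.node (.leaf 1263)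
(.leaf 0)))
(.node (.node (.leaf 1171)
(.leaf 5376))
(.node (.leaf 1177)
(.leaf 0)))))))
(.node (.node (.node (.node (.node (.node (.leaf 11)
(.leaf 1279))
(.node (.leaf 1196)
(.leaf 5420)))
(.node (.node (.leaf 176)
(.leaf 1177))
(.node (.leaf 1177)
(.leaf 0))))
(.node (.node (.node (.leaf 11)
(.leaf 1263))
(.node (.leaf 1160)
(.leaf 0)))
(.node (.node (.leaf 1177)
(.leaf 5420))
(.node (.leaf 1167)
(.leaf 0)))))
(.node (.node (.node (.node (.leaf 11)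
(.leaf 1263))
(.node (.leaf 1177)
(.leaf 0)))
(.node (.node (.leaf 1156)
(.leaf 5420))
(.node (.leaf 1177)
(.leaf 0))))
(.node (.node (.node (.leaf 176)
(.leaf 1194))
(.node (.leaf 1177)
(.leaf 0)))
(.node (.node (.leaf 1156)
(.leaf 5314))
(.node (.leaf 1194)
(.leaf 0))))))
(.node (.node (.node (.node (.node (.leaf 11)
(.leaf 1177))
(.node (.leaf 1156)
(.leaf 0)))
(.node (.node (.leaf 1160)
(.leaf 5314))
(.node (.leaf 1160)
(.leaf 0))))
(.node (.node (.node (.leaf 11)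
(.leaf 1177))
(.node (.leaf 1177)
(.leaf 0)))
(.node (.node (.leaf 1167)
(.leaf 5376))
(.node (.leaf 1167)
(.leaf 0)))))
(.node (.node (.node (.node (.leaf 11)
(.leaf 1177))
(.node (.leaf 1177)
(.leaf 0)))
(.node (.node (.leaf 1177)
(.leaf 5314))
(.node (.leaf 1160)
(.leaf 0))))
(.node (.node (.node (.leaf 176)
(.leaf 1263))
(.node (.leaf 1156)
(.leaf 0)))
(.node (.node (.leaf 1194)
(.leaf 5420))
(.node (.leaf 1263)
(.leaf 0)))))))))))
(.node (.node (.node (.node (.node (.node (.node (.node (.node (.node (.leaf 0)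
(.leaf 1263))
(.node (.leaf 1160)
(.leaf 5420)))
(.node (.node (.leaf 176)
(.leaf 1177))
(.node (.leaf 1194)
(.leaf 0))))
(.node (.node (.node (.leaf 519)
(.leaf 1177))
(.node (.leaf 1177)
(.leaf 0)))
(.node (.node (.leaf 1177)
(.leaf 5420))
(.node (.leaf 1263)
(.leaf 0)))))
(.node (.node (.node (.node (.leaf 47)
(.leaf 1263))
(.node (.leaf 1177)
(.leaf 0)))
(.node (.node (.leaf 1167)
(.leaf 5323))
(.node (.leaf 1177)
(.leaf 0))))
(.node (.node (.node (.leaf 11)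
(.leaf 1160))
(.node (.leaf 1156)
(.leaf 0)))
(.node (.node (.leaf 1156)
(.leaf 5376))
(.node (.leaf 1167)
(.leaf 0))))))
(.node (.node (.node (.node (.node (.leaf 0)
(.leaf 1177))
(.node (.leaf 1156)
(.leaf 5376)))
(.node (.node (.leaf 1155)
(.leaf 1263))
(.node (.leaf 1194)
(.leaf 0))))
(.node (.node (.node (.leaf 11)
(.leaf 1156))
(.node (.leaf 1167)
(.leaf 0)))
(.node (.node (.leaf 1156)
(.leaf 5376))
(.node (.leaf 1177)
(.leaf 0)))))
(.node (.node (.node (.node (.leaf 11)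
(.leaf 1177))
(.node (.leaf 1194)
(.leaf 0)))
(.node (.node (.leaf 1155)
(.leaf 5323))
(.node (.leaf 1194)
(.leaf 0))))
(.node (.node (.node (.leaf 176)
(.leaf 1167))
(.node (.leaf 1194)
(.leaf 0)))
(.node (.node (.leaf 1177)
(.leaf 5376))
(.node (.leaf 1194)
(.leaf 0)))))))
(.node (.node (.node (.node (.node (.node (.leaf 11)
(.leaf 1160))
(.node (.leaf 1156)
(.leaf 5376)))
(.node (.node (.leaf 176)
(.leaf 1194))
(.node (.leaf 1160)
(.leaf 0))))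
(.node (.node (.node (.leaf 176)
(.leaf 1177))
(.node (.leaf 1194)
(.leaf 0)))
(.node (.node (.leaf 1194)
(.leaf 5376))
(.node (.leaf 1156)
(.leaf 0)))))
(.node (.node (.node (.node (.leaf 47)
(.leaf 1177))
(.node (.leaf 1177)
(.leaf 0)))
(.node (.node (.leaf 1155)
(.leaf 5376))
(.node (.leaf 1177)
(.leaf 0))))
(.node (.node (.node (.leaf 47)
(.leaf 1196))
(.node (.leaf 1156)
(.leaf 0)))
(.node (.node (.leaf 1160)
(.leaf 5376))
(.node (.leaf 1177)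
(.leaf 0))))))
(.node (.node (.node (.node (.node (.leaf 47)
(.leaf 1177))
(.node (.leaf 1177)
(.leaf 0)))
(.node (.node (.leaf 1156)
(.leaf 5314))
(.node (.leaf 1156)
(.leaf 0))))
(.node (.node (.node (.leaf 11)
(.leaf 1194))
(.node (.leaf 1177)
(.leaf 0)))
(.node (.node (.leaf 1196)
(.leaf 5314))
(.node (.leaf 1156)
(.leaf 0)))))
(.node (.node (.node (.node (.leaf 11)
(.leaf 1177))
(.node (.leaf 1177)
(.leaf 0)))
(.node (.node (.leaf 1156)
(.leaf 5314))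
(.node (.leaf 1177)
(.leaf 0))))
(.node (.node (.node (.leaf 11)
(.leaf 1263))
(.node (.leaf 1279)
(.leaf 0)))
(.node (.node (.leaf 1167)
(.leaf 5376))
(.node (.leaf 1177)
(.leaf 0))))))))
(.node (.node (.node (.node (.node (.node (.node (.leaf 11)
(.leaf 1160))
(.node (.leaf 1194)
(.leaf 5348)))
(.node (.node (.leaf 47)
(.leaf 1279))
(.node (.leaf 1194)
(.leaf 0))))
(.node (.node (.node (.leaf 11)
(.leaf 1279))
(.node (.leaf 1279)
(.leaf 0)))
(.node (.node (.leaf 1167)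
(.leaf 5453))
(.node (.leaf 1194)
(.leaf 0)))))
(.node (.node (.node (.node (.leaf 11)
(.leaf 1177))
(.node (.leaf 1177)
(.leaf 0)))
(.node (.node (.leaf 1155)
(.leaf 5314))
(.node (.leaf 1156)
(.leaf 0))))
(.node (.node (.node (.leaf 11)
(.leaf 1177))
(.node (.leaf 1196)
(.leaf 0)))
(.node (.node (.leaf 1196)
(.leaf 5376))
(.node (.leaf 1160)
(.leaf 0))))))
(.node (.node (.node (.node (.node (.leaf 47)
(.leaf 1177))
(.node (.leaf 1196)
(.leaf 0)))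
(.node (.node (.leaf 1156)
(.leaf 1177))
(.node (.leaf 1177)
(.leaf 0))))
(.node (.node (.node (.leaf 0)
(.leaf 1177))
(.node (.leaf 1156)
(.leaf 0)))
(.node (.node (.leaf 1263)
(.leaf 5376))
(.node (.leaf 1156)
(.leaf 0)))))
(.node (.node (.node (.node (.leaf 11)
(.leaf 1171))
(.node (.leaf 1155)
(.leaf 0)))
(.node (.node (.leaf 1171)
(.leaf 5314))
(.node (.leaf 1196)
(.leaf 0))))
(.node (.node (.node (.leaf 176)
(.leaf 1177))
(.node (.leaf 1177)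
(.leaf 0)))
(.node (.node (.leaf 1177)
(.leaf 5420))
(.node (.leaf 1177)
(.leaf 0)))))))
(.node (.node (.node (.node (.node (.node (.leaf 47)
(.leaf 1263))
(.node (.leaf 1156)
(.leaf 5376)))
(.node (.node (.leaf 176)
(.leaf 1177))
(.node (.leaf 1177)
(.leaf 0))))
(.node (.node (.node (.leaf 11)
(.leaf 1194))
(.node (.leaf 1263)
(.leaf 0)))
(.node (.node (.leaf 1167)
(.leaf 5372))
(.node (.leaf 1160)
(.leaf 0)))))
(.node (.node (.node (.node (.leaf 2)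
(.leaf 1263))
(.node (.leaf 1177)
(.leaf 0)))
(.node (.node (.leaf 1279)
(.leaf 5314))
(.node (.leaf 1156)
(.leaf 0))))
(.node (.node (.node (.leaf 47)
(.leaf 1194))
(.node (.leaf 1177)
(.leaf 0)))
(.node (.node (.leaf 1171)
(.leaf 5420))
(.node (.leaf 1177)
(.leaf 0))))))
(.node (.node (.node (.node (.node (.leaf 11)
(.leaf 1279))
(.node (.leaf 1160)
(.leaf 0)))
(.node (.node (.leaf 1177)
(.leaf 5314))
(.node (.leaf 1167)
(.leaf 0))))
(.node (.node (.node (.leaf 2)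
(.leaf 1194))
(.node (.leaf 1177)
(.leaf 0)))
(.node (.node (.leaf 1279)
(.leaf 5314))
(.node (.leaf 1156)
(.leaf 0)))))
(.node (.node (.node (.node (.leaf 0)
(.leaf 1263))
(.node (.leaf 1167)
(.leaf 0)))
(.node (.node (.leaf 1177)
(.leaf 5314))
(.node (.leaf 1167)
(.leaf 0))))
(.node (.node (.node (.leaf 11)
(.leaf 1194))
(.node (.leaf 1167)
(.leaf 0)))
(.node (.node (.leaf 1177)
(.leaf 5420))
(.node (.leaf 1177)
(.leaf 0)))))))))
(.node (.node (.node (.node (.node (.node (.node (.node (.leaf 11)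
(.leaf 1177))
(.node (.leaf 1167)
(.leaf 5376)))
(.node (.node (.leaf 519)
(.leaf 1177))
(.node (.leaf 1156)
(.leaf 0))))
(.node (.node (.node (.leaf 519)
(.leaf 1279))
(.node (.leaf 1177)
(.leaf 0)))
(.node (.node (.leaf 1177)
(.leaf 5420))
(.node (.leaf 1177)
(.leaf 0)))))
(.node (.node (.node (.node (.leaf 11)
(.leaf 1263))
(.node (.leaf 1156)
(.leaf 0)))
(.node (.node (.leaf 1171)
(.leaf 5314))
(.node (.leaf 1177)
(.leaf 0))))
(.node (.node (.node (.leaf 47)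
(.leaf 1177))
(.node (.leaf 1177)
(.leaf 0)))
(.node (.node (.leaf 1167)
(.leaf 5376))
(.node (.leaf 1263)
(.leaf 0))))))
(.node (.node (.node (.node (.node (.leaf 2)
(.leaf 1177))
(.node (.leaf 1167)
(.leaf 5453)))
(.node (.node (.leaf 1156)
(.leaf 1263))
(.node (.leaf 1194)
(.leaf 0))))
(.node (.node (.node (.leaf 11)
(.leaf 1177))
(.node (.leaf 1177)
(.leaf 0)))
(.node (.node (.leaf 1156)
(.leaf 5323))
(.node (.leaf 1177)
(.leaf 0)))))
(.node (.node (.node (.node (.leaf 11)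
(.leaf 1177))
(.node (.leaf 1177)
(.leaf 0)))
(.node (.node (.leaf 1156)
(.leaf 5348))
(.node (.leaf 1177)
(.leaf 0))))
(.node (.node (.node (.leaf 47)
(.leaf 1279))
(.node (.leaf 1196)
(.leaf 0)))
(.node (.node (.leaf 1156)
(.leaf 5453))
(.node (.leaf 1160)
(.leaf 0)))))))
(.node (.node (.node (.node (.node (.node (.leaf 11)
(.leaf 1160))
(.node (.leaf 1160)
(.leaf 5376)))
(.node (.node (.leaf 519)
(.leaf 1263))
(.node (.leaf 1167)
(.leaf 0))))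
(.node (.node (.node (.leaf 11)
(.leaf 1171))
(.node (.leaf 1263)
(.leaf 0)))
(.node (.node (.leaf 1156)
(.leaf 5323))
(.node (.leaf 1167)
(.leaf 0)))))
(.node (.node (.node (.node (.leaf 11)
(.leaf 1194))
(.node (.leaf 1177)
(.leaf 0)))
(.node (.node (.leaf 1177)
(.leaf 5314))
(.node (.leaf 1194)
(.leaf 0))))
(.node (.node (.node (.leaf 176)
(.leaf 1194))
(.node (.leaf 1156)
(.leaf 0)))
(.node (.node (.leaf 1171)
(.leaf 5376))
(.node (.leaf 1156)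
(.leaf 0))))))
(.node (.node (.node (.node (.node (.leaf 0)
(.leaf 1263))
(.node (.leaf 1156)
(.leaf 0)))
(.node (.node (.leaf 1155)
(.leaf 5323))
(.node (.leaf 1194)
(.leaf 0))))
(.node (.node (.node (.leaf 11)
(.leaf 1177))
(.node (.leaf 1177)
(.leaf 0)))
(.node (.node (.leaf 1196)
(.leaf 5376))
(.node (.leaf 1194)
(.leaf 0)))))
(.node (.node (.node (.node (.leaf 11)
(.leaf 1160))
(.node (.leaf 1263)
(.leaf 0)))
(.node (.node (.leaf 1177)
(.leaf 5314))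
(.node (.leaf 1177)
(.leaf 0))))
(.node (.node (.node (.leaf 11)
(.leaf 1177))
(.node (.leaf 1177)
(.leaf 0)))
(.node (.node (.leaf 1167)
(.leaf 5323))
(.node (.leaf 1194)
(.leaf 0))))))))
(.node (.node (.node (.node (.node (.node (.node (.leaf 2)
(.leaf 1194))
(.node (.leaf 1156)
(.leaf 5372)))
(.node (.node (.leaf 11)
(.leaf 1194))
(.node (.leaf 1177)
(.leaf 0))))
(.node (.node (.node (.leaf 11)
(.leaf 1177))
(.node (.leaf 1177)
(.leaf 0)))
(.node (.node (.leaf 1155)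
(.leaf 5314))
(.node (.leaf 1177)
(.leaf 0)))))
(.node (.node (.node (.node (.leaf 47)
(.leaf 1263))
(.node (.leaf 1194)
(.leaf 0)))
(.node (.node (.leaf 1196)
(.leaf 5323))
(.node (.leaf 1177)
(.leaf 0))))
(.node (.node (.node (.leaf 0)
(.leaf 1177))
(.node (.leaf 1194)
(.leaf 0)))
(.node (.node (.leaf 1156)
(.leaf 5314))
(.node (.leaf 1194)
(.leaf 0))))))
(.node (.node (.node (.node (.node (.leaf 11)
(.leaf 1177))
(.node (.leaf 1156)
(.leaf 0)))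
(.node (.node (.leaf 1167)
(.leaf 1263))
(.node (.leaf 1177)
(.leaf 0))))
(.node (.node (.node (.leaf 11)
(.leaf 1156))
(.node (.leaf 1177)
(.leaf 0)))
(.node (.node (.leaf 1196)
(.leaf 5376))
(.node (.leaf 1156)
(.leaf 0)))))
(.node (.node (.node (.node (.leaf 2)
(.leaf 1279))
(.node (.leaf 1177)
(.leaf 0)))
(.node (.node (.leaf 1171)
(.leaf 5420))
(.node (.leaf 1177)
(.leaf 0))))
(.node (.node (.node (.leaf 11)
(.leaf 1263))
(.node (.leaf 1263)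
(.leaf 0)))
(.node (.node (.leaf 1177)
(.leaf 5420))
(.node (.leaf 1177)
(.leaf 0)))))))
(.node (.node (.node (.node (.node (.node (.leaf 11)
(.leaf 1177))
(.node (.leaf 1194)
(.leaf 5420)))
(.node (.node (.leaf 176)
(.leaf 1177))
(.node (.leaf 1196)
(.leaf 0))))
(.node (.node (.node (.leaf 0)
(.leaf 1279))
(.node (.leaf 1156)
(.leaf 0)))
(.node (.node (.leaf 1177)
(.leaf 5314))
(.node (.leaf 1196)
(.leaf 0)))))
(.node (.node (.node (.node (.leaf 11)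
(.leaf 1279))
(.node (.leaf 1156)
(.leaf 0)))
(.node (.node (.leaf 1160)
(.leaf 5314))
(.node (.leaf 1160)
(.leaf 0))))
(.node (.node (.node (.leaf 11)
(.leaf 1177))
(.node (.leaf 1177)
(.leaf 0)))
(.node (.node (.leaf 1171)
(.leaf 5376))
(.node (.leaf 1194)
(.leaf 0))))))
(.node (.node (.node (.node (.node (.leaf 11)
(.leaf 1196))
(.node (.leaf 1177)
(.leaf 0)))
(.node (.node (.leaf 1177)
(.leaf 5314))
(.node (.leaf 1177)
(.leaf 0))))
(.node (.node (.node (.leaf 11)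
(.leaf 1167))
(.node (.leaf 1160)
(.leaf 0)))
(.node (.node (.leaf 1167)
(.leaf 5376))
(.node (.leaf 1171)
(.leaf 0)))))
(.node (.node (.node (.node (.leaf 47)
(.leaf 1194))
(.node (.leaf 1177)
(.leaf 0)))
(.node (.node (.leaf 1194)
(.leaf 5314))
(.node (.leaf 1177)
(.leaf 0))))
(.node (.node (.node (.leaf 11)
(.leaf 1263))
(.node (.leaf 1196)
(.leaf 0)))
(.node (.node (.leaf 1177)
(.leaf 5376))
(.node (.leaf 1194)
(.leaf 0))))))))))
(.node (.node (.node (.node (.node (.node (.node (.node (.node (.leaf 2)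
(.leaf 1177))
(.node (.leaf 1177)
(.leaf 5420)))
(.node (.node (.leaf 176)
(.leaf 1194))
(.node (.leaf 1167)
(.leaf 0))))
(.node (.node (.node (.leaf 11)
(.leaf 1177))
(.node (.leaf 1194)
(.leaf 0)))
(.node (.node (.leaf 1279)
(.leaf 5314))
(.node (.leaf 1194)
(.leaf 0)))))
(.node (.node (.node (.node (.leaf 2)
(.leaf 1177))
(.node (.leaf 1160)
(.leaf 0)))
(.node (.node (.leaf 1156)
(.leaf 5314))
(.node (.leaf 1263)
(.leaf 0))))
(.node (.node (.node (.leaf 176)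
(.leaf 1167))
(.node (.leaf 1263)
(.leaf 0)))
(.node (.node (.leaf 1160)
(.leaf 5420))
(.node (.leaf 1156)
(.leaf 0))))))
(.node (.node (.node (.node (.node (.leaf 11)
(.leaf 1177))
(.node (.leaf 1156)
(.leaf 5376)))
(.node (.node (.leaf 1167)
(.leaf 1263))
(.node (.leaf 1194)
(.leaf 0))))
(.node (.node (.node (.leaf 11)
(.leaf 1279))
(.node (.leaf 1177)
(.leaf 0)))
(.node (.node (.leaf 1171)
(.leaf 5420))
(.node (.leaf 1167)
(.leaf 0)))))
(.node (.node (.node (.node (.leaf 11)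
(.leaf 1194))
(.node (.leaf 1167)
(.leaf 0)))
(.node (.node (.leaf 1194)
(.leaf 5376))
(.node (.leaf 1160)
(.leaf 0))))
(.node (.node (.node (.leaf 11)
(.leaf 1177))
(.node (.leaf 1177)
(.leaf 0)))
(.node (.node (.leaf 1156)
(.leaf 5376))
(.node (.leaf 1156)
(.leaf 0)))))))
(.node (.node (.node (.node (.node (.node (.leaf 11)
(.leaf 1160))
(.node (.leaf 1156)
(.leaf 5420)))
(.node (.node (.leaf 176)
(.leaf 1177))
(.node (.leaf 1156)
(.leaf 0))))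
(.node (.node (.node (.leaf 11)
(.leaf 1196))
(.node (.leaf 1177)
(.leaf 0)))
(.node (.node (.leaf 1177)
(.leaf 5314))
(.node (.leaf 1177)
(.leaf 0)))))
(.node (.node (.node (.node (.leaf 11)
(.leaf 1279))
(.node (.leaf 1177)
(.leaf 0)))
(.node (.node (.leaf 1156)
(.leaf 5376))
(.node (.leaf 1167)
(.leaf 0))))
(.node (.node (.node (.leaf 11)
(.leaf 1194))
(.node (.leaf 1263)
(.leaf 0)))
(.node (.node (.leaf 1194)
(.leaf 5348))
(.node (.leaf 1177)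
(.leaf 0))))))
(.node (.node (.node (.node (.node (.leaf 11)
(.leaf 1194))
(.node (.leaf 1177)
(.leaf 0)))
(.node (.node (.leaf 1171)
(.leaf 5323))
(.node (.leaf 1156)
(.leaf 0))))
(.node (.node (.node (.leaf 47)
(.leaf 1263))
(.node (.leaf 1194)
(.leaf 0)))
(.node (.node (.leaf 1196)
(.leaf 5348))
(.node (.leaf 1177)
(.leaf 0)))))
(.node (.node (.node (.node (.leaf 176)
(.leaf 1177))
(.node (.leaf 1194)
(.leaf 0)))
(.node (.node (.leaf 1160)
(.leaf 5314))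
(.node (.leaf 1156)
(.leaf 0))))
(.node (.node (.node (.leaf 11)
(.leaf 1263))
(.node (.leaf 1279)
(.leaf 0)))
(.node (.node (.leaf 1167)
(.leaf 5314))
(.node (.leaf 1167)
(.leaf 0))))))))
(.node (.node (.node (.node (.node (.node (.node (.leaf 47)
(.leaf 1167))
(.node (.leaf 1167)
(.leaf 5420)))
(.node (.node (.leaf 11)
(.leaf 1194))
(.node (.leaf 1177)
(.leaf 0))))
(.node (.node (.node (.leaf 47)
(.leaf 1177))
(.node (.leaf 1177)
(.leaf 0)))
(.node (.node (.leaf 1156)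
(.leaf 5314))
(.node (.leaf 1156)
(.leaf 0)))))
(.node (.node (.node (.node (.leaf 11)
(.leaf 1177))
(.node (.leaf 1156)
(.leaf 0)))
(.node (.node (.leaf 1156)
(.leaf 5314))
(.node (.leaf 1194)
(.leaf 0))))
(.node (.node (.node (.leaf 47)
(.leaf 1156))
(.node (.leaf 1194)
(.leaf 0)))
(.node (.node (.leaf 1177)
(.leaf 5420))
(.node (.leaf 1156)
(.leaf 0))))))
(.node (.node (.node (.node (.node (.leaf 47)
(.leaf 1194))
(.node (.leaf 1160)
(.leaf 0)))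
(.node (.node (.leaf 1171)
(.leaf 1263))
(.node (.leaf 1167)
(.leaf 0))))
(.node (.node (.node (.leaf 11)
(.leaf 1160))
(.node (.leaf 1177)
(.leaf 0)))
(.node (.node (.leaf 1156)
(.leaf 5420))
(.node (.leaf 1194)
(.leaf 0)))))
(.node (.node (.node (.node (.leaf 11)
(.leaf 1177))
(.node (.leaf 1279)
(.leaf 0)))
(.node (.node (.leaf 1167)
(.leaf 5348))
(.node (.leaf 1177)
(.leaf 0))))
(.node (.node (.node (.leaf 519)
(.leaf 1194))
(.node (.leaf 1177)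
(.leaf 0)))
(.node (.node (.leaf 1196)
(.leaf 5376))
(.node (.leaf 1194)
(.leaf 0)))))))
(.node (.node (.node (.node (.node (.node (.leaf 11)
(.leaf 1160))
(.node (.leaf 1194)
(.leaf 5376)))
(.node (.node (.leaf 176)
(.leaf 1279))
(.node (.leaf 1177)
(.leaf 0))))
(.node (.node (.node (.leaf 47)
(.leaf 1194))
(.node (.leaf 1263)
(.leaf 0)))
(.node (.node (.leaf 1156)
(.leaf 5314))
(.node (.leaf 1167)
(.leaf 0)))))
(.node (.node (.node (.node (.leaf 2)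
(.leaf 1263))
(.node (.leaf 1177)
(.leaf 0)))
(.node (.node (.leaf 1167)
(.leaf 5314))
(.node (.leaf 1194)
(.leaf 0))))
(.node (.node (.node (.leaf 11)
(.leaf 1177))
(.node (.leaf 1177)
(.leaf 0)))
(.node (.node (.leaf 1156)
(.leaf 5420))
(.node (.leaf 1177)
(.leaf 0))))))
(.node (.node (.node (.node (.node (.leaf 2)
(.leaf 1160))
(.node (.leaf 1160)
(.leaf 0)))
(.node (.node (.leaf 1263)
(.leaf 5314))
(.node (.leaf 1177)
(.leaf 0))))
(.node (.node (.node (.leaf 11)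
(.leaf 1167))
(.node (.leaf 1171)
(.leaf 0)))
(.node (.node (.leaf 1177)
(.leaf 5376))
(.node (.leaf 1177)
(.leaf 0)))))
(.node (.node (.node (.node (.leaf 11)
(.leaf 1177))
(.node (.leaf 1279)
(.leaf 0)))
(.node (.node (.leaf 1196)
(.leaf 5323))
(.node (.leaf 1194)
(.leaf 0))))
(.node (.node (.node (.leaf 47)
(.leaf 1263))
(.node (.leaf 1194)
(.leaf 0)))
(.node (.node (.leaf 1156)
(.leaf 5376))
(.node (.leaf 1263)
(.leaf 0)))))))))
(.node (.node (.node (.node (.node (.node (.node (.node (.leaf 11)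
(.leaf 1194))
(.node (.leaf 1156)
(.leaf 5314)))
(.node (.node (.leaf 176)
(.leaf 1177))
(.node (.leaf 1177)
(.leaf 0))))
(.node (.node (.node (.leaf 47)
(.leaf 1177))
(.node (.leaf 1194)
(.leaf 0)))
(.node (.node (.leaf 1156)
(.leaf 5376))
(.node (.leaf 1177)
(.leaf 0)))))
(.node (.node (.node (.node (.leaf 11)
(.leaf 1194))
(.node (.leaf 1194)
(.leaf 0)))
(.node (.node (.leaf 1160)
(.leaf 5376))
(.node (.leaf 1196)
(.leaf 0))))
(.node (.node (.node (.leaf 47)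
(.leaf 1167))
(.node (.leaf 1177)
(.leaf 0)))
(.node (.node (.leaf 1156)
(.leaf 5376))
(.node (.leaf 1194)
(.leaf 0))))))
(.node (.node (.node (.node (.node (.leaf 11)
(.leaf 1177))
(.node (.leaf 1177)
(.leaf 0)))
(.node (.node (.leaf 1160)
(.leaf 1279))
(.node (.leaf 1177)
(.leaf 0))))
(.node (.node (.node (.leaf 11)
(.leaf 1177))
(.node (.leaf 1177)
(.leaf 0)))
(.node (.node (.leaf 1171)
(.leaf 5314))
(.node (.leaf 1177)
(.leaf 0)))))
(.node (.node (.node (.node (.leaf 11)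
(.leaf 1194))
(.node (.leaf 1171)
(.leaf 0)))
(.node (.node (.leaf 1196)
(.leaf 5314))
(.node (.leaf 1177)
(.leaf 0))))
(.node (.node (.node (.leaf 47)
(.leaf 1167))
(.node (.leaf 1177)
(.leaf 0)))
(.node (.node (.leaf 1196)
(.leaf 5376))
(.node (.leaf 1156)
(.leaf 0)))))))
(.node (.node (.node (.node (.node (.node (.leaf 2)
(.leaf 1177))
(.node (.leaf 1156)
(.leaf 5376)))
(.node (.node (.leaf 11)
(.leaf 1177))
(.node (.leaf 1177)
(.leaf 0))))
(.node (.node (.node (.leaf 11)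
(.leaf 1279))
(.node (.leaf 1177)
(.leaf 0)))
(.node (.node (.leaf 1156)
(.leaf 5314))
(.node (.leaf 1167)
(.leaf 0)))))
(.node (.node (.node (.node (.leaf 11)
(.leaf 1160))
(.node (.leaf 1194)
(.leaf 0)))
(.node (.node (.leaf 1167)
(.leaf 5314))
(.node (.leaf 1263)
(.leaf 0))))
(.node (.node (.node (.leaf 11)
(.leaf 1177))
(.node (.leaf 1194)
(.leaf 0)))
(.node (.node (.leaf 1155)
(.leaf 5420))
(.node (.leaf 1160)
(.leaf 0))))))
(.node (.node (.node (.node (.node (.leaf 47)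
(.leaf 1160))
(.node (.leaf 1196)
(.leaf 0)))
(.node (.node (.leaf 1156)
(.leaf 5314))
(.node (.leaf 1156)
(.leaf 0))))
(.node (.node (.node (.leaf 176)
(.leaf 1177))
(.node (.leaf 1177)
(.leaf 0)))
(.node (.node (.leaf 1177)
(.leaf 5348))
(.node (.leaf 1196)
(.leaf 0)))))
(.node (.node (.node (.node (.leaf 47)
(.leaf 1177))
(.node (.leaf 1156)
(.leaf 0)))
(.node (.node (.leaf 1160)
(.leaf 5314))
(.node (.leaf 1194)
(.leaf 0))))
(.node (.node (.node (.leaf 519)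
(.leaf 1156))
(.node (.leaf 1194)
(.leaf 0)))
(.node (.node (.leaf 1194)
(.leaf 5376))
(.node (.leaf 1177)
(.leaf 0))))))))
(.node (.node (.node (.node (.node (.node (.node (.leaf 47)
(.leaf 1279))
(.node (.leaf 1156)
(.leaf 5314)))
(.node (.node (.leaf 176)
(.leaf 1263))
(.node (.leaf 1160)
(.leaf 0))))
(.node (.node (.node (.leaf 11)
(.leaf 1177))
(.node (.leaf 1177)
(.leaf 0)))
(.node (.node (.leaf 1177)
(.leaf 5323))
(.node (.leaf 1160)
(.leaf 0)))))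
(.node (.node (.node (.node (.leaf 2)
(.leaf 1177))
(.node (.leaf 1177)
(.leaf 0)))
(.node (.node (.leaf 1160)
(.leaf 5314))
(.node (.leaf 1160)
(.leaf 0))))
(.node (.node (.node (.leaf 11)
(.leaf 1177))
(.node (.leaf 1177)
(.leaf 0)))
(.node (.node (.leaf 1156)
(.leaf 5376))
(.node (.leaf 1194)
(.leaf 0))))))
(.node (.node (.node (.node (.node (.leaf 11)
(.leaf 1279))
(.node (.leaf 1167)
(.leaf 0)))
(.node (.node (.leaf 1167)
(.leaf 1263))
(.node (.leaf 1156)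
(.leaf 0))))
(.node (.node (.node (.leaf 11)
(.leaf 1279))
(.node (.leaf 1177)
(.leaf 0)))
(.node (.node (.leaf 1171)
(.leaf 5420))
(.node (.leaf 1156)
(.leaf 0)))))
(.node (.node (.node (.node (.leaf 11)
(.leaf 1177))
(.node (.leaf 1177)
(.leaf 0)))
(.node (.node (.leaf 1156)
(.leaf 5348))
(.node (.leaf 1156)
(.leaf 0))))
(.node (.node (.node (.leaf 11)
(.leaf 1263))
(.node (.leaf 1194)
(.leaf 0)))
(.node (.node (.leaf 1167)
(.leaf 5376))
(.node (.leaf 1177)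
(.leaf 0)))))))
(.node (.node (.node (.node (.node (.node (.leaf 11)
(.leaf 1194))
(.node (.leaf 1167)
(.leaf 5376)))
(.node (.node (.leaf 519)
(.leaf 1279))
(.node (.leaf 1196)
(.leaf 0))))
(.node (.node (.node (.leaf 176)
(.leaf 1177))
(.node (.leaf 1177)
(.leaf 0)))
(.node (.node (.leaf 1177)
(.leaf 5420))
(.node (.leaf 1167)
(.leaf 0)))))
(.node (.node (.node (.node (.leaf 11)
(.leaf 1177))
(.node (.leaf 1194)
(.leaf 0)))
(.node (.node (.leaf 1167)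
(.leaf 5314))
(.node (.leaf 1177)
(.leaf 0))))
(.node (.node (.node (.leaf 176)
(.leaf 1177))
(.node (.leaf 1156)
(.leaf 0)))
(.node (.node (.leaf 1263)
(.leaf 5376))
(.node (.leaf 1177)
(.leaf 0))))))
(.node (.node (.node (.node (.node (.leaf 11)
(.leaf 1194))
(.node (.leaf 1177)
(.leaf 0)))
(.node (.node (.leaf 1279)
(.leaf 5314))
(.node (.leaf 1196)
(.leaf 0))))
(.node (.node (.node (.leaf 176)
(.leaf 1177))
(.node (.leaf 1156)
(.leaf 0)))
(.node (.node (.leaf 1160)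
(.leaf 5420))
(.node (.leaf 1177)
(.leaf 0)))))
(.node (.node (.node (.node (.leaf 0)
(.leaf 1160))
(.node (.leaf 1263)
(.leaf 0)))
(.node (.node (.leaf 1177)
(.leaf 5323))
(.node (.leaf 1194)
(.leaf 0))))
(.node (.node (.node (.leaf 47)
(.leaf 1177))
(.node (.leaf 1167)
(.leaf 0)))
(.node (.node (.leaf 1194)
(.leaf 5376))
(.node (.leaf 1177)
(.leaf 0))))))))))))))

/-- The generators: a code and an involution. -/
def orbGens3 : List (ℕ × ℕ) :=
  [(0, 0),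
   (0, 1),
   (0, 3),
   (0, 5),
   (0, 48),
   (0, 1155)]

/-- Root (6303 for the identity), orbit length, order, word of a transporter, count. -/
def orbRows3 : List (ℕ × ℕ × ℕ × List ℕ × ℕ) :=
  [(6303, 1, 2, [], 0),
   (0, 42, 2, [], 0),
   (2, 56, 4, [1], 0),
   (11, 672, 6, [0, 4], 0),
   (26, 7, 2, [0, 0, 1], 0),
   (47, 168, 4, [0, 2, 4], 0),
   (176, 168, 4, [1, 3, 2, 4], 0),
   (519, 42, 2, [0, 4, 2, 3, 4], 0),
   (1155, 42, 2, [], 0),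
   (1156, 672, 6, [0], 0),
   (1160, 336, 6, [0, 0], 0),
   (1167, 336, 12, [2, 1], 0),
   (1171, 84, 6, [0, 2], 0),
   (1177, 1344, 24, [0, 4], 0),
   (1194, 672, 8, [0, 4, 0], 0),
   (1196, 168, 4, [2, 4, 0], 0),
   (1263, 336, 12, [0, 2, 4], 0),
   (1279, 168, 4, [0, 4, 0, 0], 0),
   (5313, 1, 1, [], 1),
   (5314, 336, 3, [0], 16),
   (5323, 84, 6, [2, 1], 0),
   (5347, 2, 3, [0, 5, 0], 64),
   (5348, 42, 2, [1, 5, 0], 0),
   (5372, 7, 2, [1, 3, 2], 0),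
   (5376, 336, 12, [0, 4, 2], 0),
   (5420, 168, 4, [1, 3, 4, 0], 0),
   (5453, 14, 6, [1, 5, 3, 1], 0)]

end CfsgLib.J4Type.Order
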