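import Cfsg.Agent.Lib.J4Type.Order.TList
import Cfsg.Agent.Lib.J4Type.Order.Fast
import Cfsg.Agent.Lib.J4Type.Order.OrbData0
import Cfsg.Agent.Lib.J4Type.Order.OrbData1
import Cfsg.Agent.Lib.J4Type.Order.OrbData2
import Cfsg.Agent.Lib.J4Type.Order.OrbData3

/-!
The four representatives of the conjugates of the central involution in its centraliser and the
count attached to a row of their tables.
-/

set_option autoImplicit false

namespace CfsgLib.J4Type.Order

open CfsgLib.J4Type
open CfsgLib.Fusion.TableSylow (Tree)

/-- The class of the matrix of a representative. -/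
def repC (r : ℕ) : ℕ := [0, 1, 1, 3].getD r 0

/-- The code of a representative. -/
def repA (r : ℕ) : ℕ := [5, 1, 4, 0].getD r 0

/-- The matrix of a representative. -/
def repK (r : ℕ) : List ℕ := kr (repC r)

/-- The orbit certificate of a representative. -/
def orbTree (r : ℕ) : Tree := [orbTree0, orbTree1, orbTree2, orbTree3].getD r orbTree0

/-- The roots of a representative. -/
def posTree (r : ℕ) : Tree := [posTree0, posTree1, posTree2, posTree3].getD r posTree0

/-- The generators of a representative: a code and an index. -/
def orbGens (r : ℕ) : List (ℕ × ℕ) := [orbGens0, orbGens1, orbGens2, orbGens3].getD r []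

/-- The rows of a representative. -/
def orbRows (r : ℕ) : List (ℕ × ℕ × ℕ × List ℕ × ℕ) :=
  [orbRows0, orbRows1, orbRows2, orbRows3].getD r []

/-- A generator commutes with the matrix and fixes the code of a representative. -/
def genOK (r : ℕ) (q : ℕ × ℕ) : Bool :=
  Nat.blt q.2 6303 && mm (invM q.2) (repK r) == mm (repK r) (invM q.2) &&
    Nat.beq (shift (repK r) q.1 (eact (invM q.2) (linB (invM q.2)) (repA r))) (repA r)

/-- The matrix of the involution of a row. -/
def rowM (i : ℕ) : List ℕ := bif Nat.blt i 6303 then invM i else idM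

/-- The transporter from the root to the involution of a row. -/
def rowG (r i m : ℕ) (w : List ℕ) : List ℕ :=
  bif Nat.blt i 6303 && (m.testBit 0 && !Nat.beq (repC r) 0) then
    powM (mm (repK r) (rowM i)) ((m - 1) / 2)
  else wordM w

/-- The side conditions of a row. -/
def rowOK (r : ℕ) (q : ℕ × ℕ × ℕ × List ℕ × ℕ) : Bool :=
  let i := q.1
  let m := q.2.2.1
  let w := q.2.2.2.1
  let g := rowG r i m w
  exactOrd (mm (repK r) (rowM i)) m && mm g (kr (clsOf i)) == mm (rowM i) g &&
    (w.all fun x => Nat.blt x 6) &&
    (!(Nat.blt i 6303 && (m.testBit 0 && !Nat.beq (repC r) 0)) || Nat.beq (clsOf i) (repC r))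

/-- The radical part of the power of the product of a representative and an involution of a row. -/
def rowE (r i m : ℕ) (g : List ℕ) (b : ℕ) : ℕ :=
  fepow (mm (repK r) (rowM i)) (linB (mm (repK r) (rowM i)))
    (femul (repA r) (feact (repK r) (linB (repK r)) (feact g (linB g) b))) m

/-- The number of codes counted in a row. -/
def rowCnt (r : ℕ) (q : ℕ × ℕ × ℕ × List ℕ × ℕ) : ℕ :=
  let g := rowG r q.1 q.2.2.1 q.2.2.2.1
  ((tList (clsOf q.1)).filter fun b => hitZ (rowE r q.1 q.2.2.1 g b)).length

/-- The values of the four counts. -/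
def repF (r : ℕ) : ℕ := [257408, 255776, 9217, 5505].getD r 0

end CfsgLib.J4Type.Order
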