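import Cfsg.Agent.Lib.J4Type.Order.HTypes
import Cfsg.Agent.Lib.J4Type.Order.OrbDefs

/-!
The number of partners of an involution in the centraliser of the central involution.
-/

set_option autoImplicit false
set_option linter.unusedSectionVars false

namespace CfsgLib.J4Type

open Cfsg Subgroup CfsgLib.J4Type.Order

variable {G : Type*} [Group G] [Finite G] {z : G} {P : Subgroup G}

namespace Frame

/-- The involutions outside the class of the central involution in its centraliser whose product
with the given element has the central involution as a power. -/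
noncomputable def hitN (F : Frame z P) (u : G) : ℕ :=
  Nat.card {v : G // v ∈ Cen z ∧ F.isT v ∧ z ∈ zpowers (u * v)}

/-- The four representatives. -/
noncomputable def repU {F : Frame z P} (D : VData F) (r : ℕ) : G :=
  F.dec (repA r) * xr D (repC r)

theorem hitN_conj (F : Frame z P) {g : G} (hg : g ∈ Cen z) (u : G) :
    F.hitN (g * u * g⁻¹) = F.hitN u := by
  have hz : g * z * g⁻¹ = z := by rw [F.z_comm hg, mul_inv_cancel_right]
  symm
  refine Nat.card_congr (Equiv.subtypeEquiv (MulAut.conj g).toEquiv fun v => ?_)
  show _ ↔ g * v * g⁻¹ ∈ Cen z ∧ F.isT (g * v * g⁻¹) ∧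
    z ∈ zpowers (g * u * g⁻¹ * (g * v * g⁻¹))
  rw [F.isT_conj, show g * u * g⁻¹ * (g * v * g⁻¹) = g * (u * v) * g⁻¹ by group]
  refine and_congr ?_ (and_congr_right' ?_)
  · refine ⟨fun h => mul_mem (mul_mem hg h) (inv_mem hg), fun h => ?_⟩
    have := mul_mem (mul_mem (inv_mem hg) h) hg
    simpa [mul_assoc] using this
  · constructor
    · rintro ⟨k, hk⟩
      refine ⟨k, ?_⟩
      show (g * (u * v) * g⁻¹) ^ k = z
      rw [conj_zpow, show (u * v) ^ k = z from hk, hz]
    · rintro ⟨k, hk⟩
      refine ⟨k, ?_⟩
      have hk' : (g * (u * v) * g⁻¹) ^ k = z := hk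
      rw [conj_zpow, ← hz] at hk'
      exact mul_left_cancel (mul_right_cancel hk')

end Frame

end CfsgLib.J4Type
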