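import Cfsg.Agent.Lib.J4Type.Cert.Pairs
import Cfsg.Agent.Lib.J4Type.Order.InvData

/-!
The definitions for the kernel checks of the list of involutions, and the checks along the first of
two generators.
-/

set_option autoImplicit false
set_option maxRecDepth 100000

namespace CfsgLib.J4Type.Order

open Cert

/-- The involution with a given index. -/
def invM (i : ℕ) : List ℕ := unpk (invTree.get i)

/-- The class of an index by its first member. -/
def invRoot (i : ℕ) : ℕ := bif Nat.blt i 1155 then 0 else bif Nat.blt i 5313 then 1155 else 5313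

/-- The first of two generators as a word in the six. -/
def invUWord : List ℕ := [4, 1, 2, 0, 3, 1]

/-- The second of two generators as a word in the six. -/
def invVWord : List ℕ := [0, 5, 1, 2]

/-- The value of the first generator. -/
def invU : List ℕ := [1028, 2056, 2050, 3075, 4086, 1371, 2990, 3575, 3541, 1642, 4095, 1365]

/-- Its inverse. -/
def invU' : List ℕ := [2091, 3133, 2086, 3131, 2923, 3517, 3879, 1337, 1126, 2235, 2087, 3129]

/-- The value of the second generator. -/
def invV : List ℕ := [48, 32, 1, 3, 57, 39, 3584, 2304, 576, 448, 512, 256]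

/-- Its inverse. -/
def invV' : List ℕ := [4, 12, 42, 21, 3, 2, 1280, 3840, 2048, 1024, 3264, 2176]

/-- The six generators as words in the two. -/
def invGenWord : List (List ℕ) :=
  [[0, 1, 0, 1, 1, 0, 0, 1, 0, 0, 0, 0, 0, 0, 0, 0, 1, 1, 0, 0],
    [1, 0, 0, 1, 0, 0, 0, 1, 1, 1, 0, 1, 1, 1, 1, 0, 0, 1, 0, 0],
    [1, 1, 0, 0, 1, 0, 0, 0, 1, 0, 1, 0, 1, 1, 0, 0, 1, 0],
    [1, 0, 0, 0, 1, 0, 1, 1, 0, 1, 0, 1, 0, 1, 1, 1, 1, 1, 0, 1, 0, 0],
    [0, 0, 1, 0, 0, 0, 1, 1, 1, 1, 0, 1, 0, 1, 1, 1, 1, 1, 0, 0, 1],
    [1, 0, 0, 1, 1, 0, 1, 0, 1, 1, 1, 0, 1, 0, 1, 1, 1]]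

/-- The Levi elements whose semilinear twist squares trivially on the plane. -/
def invOuterK : List ℕ :=
  [0, 14, 33, 47, 64, 73, 79, 80, 104, 119, 154, 158, 171, 173, 179, 180, 195, 199, 209, 214, 229, 258, 272, 274, 298, 300, 311, 333, 337, 344,
    350, 363, 365, 366, 386, 418, 419, 430, 435, 463, 473, 475, 501, 520, 522, 523, 525, 545, 551, 560, 581, 583, 588, 591, 594, 645, 671, 674, 677, 690,
    716, 717, 735, 753, 759, 802, 808, 810, 816, 823, 837, 845, 854, 861, 864, 866, 879, 903, 913, 918, 926, 941, 965, 971, 1002, 1031, 1049, 1057, 1072, 1074]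

/-- The product along a word in the two generators. -/
def uvWord : List ℕ → List ℕ
  | [] => idM
  | g :: w => mm (bif Nat.beq g 0 then invU else invV) (uvWord w)

/-- A map is recorded, with the given class. -/
def recordedAs (r : ℕ) (y : List ℕ) : Bool :=
  Nat.blt (invDict.find (pk y)) 6303 && Nat.beq (invRoot (invDict.find (pk y))) r &&
    invM (invDict.find (pk y)) == y

/-- A map is recorded. -/
def recorded (y : List ℕ) : Bool :=
  Nat.blt (invDict.find (pk y)) 6303 && invM (invDict.find (pk y)) == y

/-- One check of closure. -/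
def closedAt (g g' : List ℕ) (i : ℕ) : Bool := recordedAs (invRoot i) (mm (mm g (invM i)) g')

theorem uv_ok : (wordM invUWord == invU && wordM invVWord == invV && mm invU invU' == idM &&
    mm invV invV' == idM &&
    (List.range 6).all fun g => mm (gensL.getD g idM) (gensInv.getD g idM) == idM &&
      uvWord (invGenWord.getD g []) == gensL.getD g idM) = true := by
  decide +kernel

theorem roots_ok : (invM 0 == qU && invM 1155 == mm qU sig && invM 5313 == sig &&
    mm qU qU == idM && mm sig sig == idM && mm (mm qU sig) (mm qU sig) == idM &&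
    !(invM 0 == idM) && !(invM 1155 == idM) && !(invM 5313 == idM)) = true := by
  decide +kernel

theorem closedU_ok0 : ((List.range 1600).all fun i => closedAt invU invU' (i + 0)) = true := by
  decide +kernel

theorem closedU_ok1 : ((List.range 1600).all fun i => closedAt invU invU' (i + 1600)) = true := by
  decide +kernel

theorem closedU_ok2 : ((List.range 1600).all fun i => closedAt invU invU' (i + 3200)) = true := by
  decide +kernel

theorem closedU_ok3 : ((List.range 1503).all fun i => closedAt invU invU' (i + 4800)) = true := by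
  decide +kernel

end CfsgLib.J4Type.Order
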