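import Cfsg.Agent.Lib.J4Type.Order.InvCheck

/-!
The kernel checks of the list of involutions along the second generator, the parents, the search
tree and the involutions stabilising the plane.
-/

set_option autoImplicit false
set_option maxRecDepth 100000

namespace CfsgLib.J4Type.Order

open Cert

theorem closedV_ok0 : ((List.range 1600).all fun i => closedAt invV invV' (i + 0)) = true := by
  decide +kernel

theorem closedV_ok1 : ((List.range 1600).all fun i => closedAt invV invV' (i + 1600)) = true := by
  decide +kernel

theorem closedV_ok2 : ((List.range 1600).all fun i => closedAt invV invV' (i + 3200)) = true := by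
  decide +kernel

theorem closedV_ok3 : ((List.range 1503).all fun i => closedAt invV invV' (i + 4800)) = true := by
  decide +kernel

/-- One check of the parents. -/
def parAt (i : ℕ) : Bool :=
  (Nat.beq i 0 || Nat.beq i 1155 || Nat.beq i 5313) ||
    (Nat.blt (parTree.get i / 8) i && Nat.blt (parTree.get i % 8) 6 &&
      Nat.beq (invRoot (parTree.get i / 8)) (invRoot i) &&
      mm (mm (gensL.getD (parTree.get i % 8) idM) (invM (parTree.get i / 8)))
          (gensInv.getD (parTree.get i % 8) idM) == invM i)

theorem par_ok : ((List.range 6303).all fun i => parAt i) = true := by
  decide +kernel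

theorem find_ok : ((List.range 6303).all fun i => Nat.beq (invDict.find (pk (invM i))) i) = true := by
  decide +kernel

theorem inner_ok : ((List.range invList.length).all fun n =>
    recorded (mm (qM (invList.getD n (0, 0)).1) (kM (invList.getD n (0, 0)).2))) = true := by
  decide +kernel

theorem outerK_ok : ((List.range 1080).all fun k =>
    !((List.range 6).all fun b =>
        Nat.beq (mv (mm (kM k) sig) (mv (mm (kM k) sig) (2 ^ b))) (2 ^ b)) ||
      invOuterK.elem k) = true := by
  decide +kernel

theorem outer_ok : (invOuterK.all fun k => (List.range 16).all fun a =>
    !(mm (mm (mm (qM a) (kM k)) sig) (mm (mm (qM a) (kM k)) sig) == idM) ||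
      recorded (mm (mm (qM a) (kM k)) sig)) = true := by
  decide +kernel

end CfsgLib.J4Type.Order
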