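import Cfsg.Agent.Lib.J4Type.Order.OrbItem

/-!
The checks of the certificate of representative 0.
-/

set_option autoImplicit false
set_option maxRecDepth 100000
set_option Elab.async false

namespace CfsgLib.J4Type.Order

theorem orbGens0_ok : (orbGens 0).all (genOK 0) = true := by decide +kernel

theorem orbRows0_ok0 : (((orbRows 0).drop 0).take 6).all (fun q =>
    rowOK 0 q && Nat.beq (rowCnt 0 q) q.2.2.2.2 && Nat.ble q.1 6303) = true := by decide +kernel

theorem orbRows0_ok6 : (((orbRows 0).drop 6).take 6).all (fun q =>
    rowOK 0 q && Nat.beq (rowCnt 0 q) q.2.2.2.2 && Nat.ble q.1 6303) = true := by decide +kernel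

theorem orbRows0_ok12 : (((orbRows 0).drop 12).take 6).all (fun q =>
    rowOK 0 q && Nat.beq (rowCnt 0 q) q.2.2.2.2 && Nat.ble q.1 6303) = true := by decide +kernel

theorem orbRows0_ok18 : (((orbRows 0).drop 18).take 6).all (fun q =>
    rowOK 0 q && Nat.beq (rowCnt 0 q) q.2.2.2.2 && Nat.ble q.1 6303) = true := by decide +kernel

theorem orbAt0_ok0 : ((List.range 1600).all fun p => orbAt 0 (p + 0)) = true := by decide +kernel

theorem orbAt0_ok1600 : ((List.range 1600).all fun p => orbAt 0 (p + 1600)) = true := by decide +kernel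

theorem orbAt0_ok3200 : ((List.range 1600).all fun p => orbAt 0 (p + 3200)) = true := by decide +kernel

theorem orbAt0_ok4800 : ((List.range 1503).all fun p => orbAt 0 (p + 4800)) = true := by decide +kernel

theorem orbMask0_ok : (orbMask 0 == 2 ^ 6303 - 1) = true := by decide +kernel

theorem orbTotal0_ok : (rowHas 0 6303 && Nat.beq (orbTotal 0) (repF 0)) = true := by
  decide +kernel

theorem orbRows0_len : Nat.beq (orbRows 0).length 24 = true := by decide +kernel

end CfsgLib.J4Type.Order
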