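import Cfsg.Agent.Lib.J4Type.Order.OrbDefs

/-!
The conditions on an entry of an orbit certificate, and the sum of an invariant function that
follows from them.
-/

set_option autoImplicit false
set_option maxRecDepth 100000

namespace CfsgLib.J4Type.Order

/-- The involution at a position of an orbit certificate. -/
def orbItem (r p : ℕ) : ℕ := (orbTree r).get p % 8192

/-- Some row belongs to a root. -/
def rowHas (r i : ℕ) : Bool := (orbRows r).any fun q => Nat.beq q.1 i

/-- The count in the row of a root. -/
def rowVal (r i : ℕ) : ℕ :=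
  (((orbRows r).find? fun q => Nat.beq q.1 i).getD (0, 0, 0, [], 0)).2.2.2.2

/-- The check of a position: a root with a row, or a conjugate of an earlier member of the same
orbit by a generator. -/
def orbAt (r p : ℕ) : Bool :=
  let e := (orbTree r).get p
  let i := e % 8192
  Nat.blt i 6303 &&
    bif Nat.beq (e / 8192) 0 then Nat.beq ((posTree r).get i) i && rowHas r i
    else
      let q := e / 8192 - 1
      let g := invM (((orbGens r).getD (q % 16) (0, 0)).2)
      let j := orbItem r (q / 16)
      Nat.blt (q % 16) (orbGens r).length && Nat.blt (q / 16) p &&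
        Nat.beq ((posTree r).get j) ((posTree r).get i) && mm g (mm (invM j) g) == invM i

/-- The members of a certificate as bits. -/
def orbMask (r : ℕ) : ℕ := (List.range 6303).foldl (fun m p => m ||| 2 ^ orbItem r p) 0

/-- The sum of the rows over all indices. -/
def orbTotal (r : ℕ) : ℕ :=
  ((List.range 6303).map fun i => rowVal r ((posTree r).get i)).sum + rowVal r 6303

theorem testBit_foldl_lor {α : Type*} (g : α → ℕ) {i : ℕ} :
    ∀ (l : List α) (m : ℕ), (l.foldl (fun m x => m ||| 2 ^ g x) m).testBit i = true →
      m.testBit i = true ∨ ∃ x ∈ l, g x = i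
  | [], _, h => .inl h
  | x :: l, m, h => by
    rw [List.foldl_cons] at h
    rcases testBit_foldl_lor g l _ h with h | ⟨y, hy, e⟩
    · rw [Nat.testBit_lor, Bool.or_eq_true, Nat.testBit_two_pow, decide_eq_true_iff] at h
      rcases h with h | h
      · exact .inl h
      · exact .inr ⟨x, List.mem_cons_self, h⟩
    · exact .inr ⟨y, List.mem_cons_of_mem _ hy, e⟩

theorem rowVal_spec {r i : ℕ} (f : ℕ → ℕ) (hrows : ∀ q ∈ orbRows r, f q.1 = q.2.2.2.2)
    (h : rowHas r i = true) : f i = rowVal r i := by
  unfold rowVal
  cases hfind : (orbRows r).find? fun q => Nat.beq q.1 i with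
  | none =>
    rw [List.find?_eq_none] at hfind
    obtain ⟨q, hq, e⟩ := List.any_eq_true.1 h
    exact absurd e (hfind q hq)
  | some q =>
    have e : Nat.beq q.1 i = true := List.find?_some (p := fun q : ℕ × ℕ × ℕ × List ℕ × ℕ => Nat.beq q.1 i) hfind
    rw [Option.getD_some, ← hrows q (List.mem_of_find?_eq_some hfind), Nat.eq_of_beq_eq_true e]

theorem orb_sum_of {r : ℕ} (hat : ∀ p < 6303, orbAt r p = true)
    (hmask : (orbMask r == 2 ^ 6303 - 1) = true) (hid : rowHas r 6303 = true)
    (htot : Nat.beq (orbTotal r) (repF r) = true)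
    (f : ℕ → ℕ) (hrows : ∀ q ∈ orbRows r, f q.1 = q.2.2.2.2)
    (hinv : ∀ q ∈ orbGens r, ∀ i < 6303, ∀ j < 6303,
      invM j = mm (invM q.2) (mm (invM i) (invM q.2)) → f j = f i) :
    ∑ i ∈ Finset.range 6304, f i = repF r := by
  have key : ∀ p < 6303, orbItem r p < 6303 ∧
      f (orbItem r p) = rowVal r ((posTree r).get (orbItem r p)) := by
    intro p
    induction p using Nat.strong_induction_on with
    | _ p ih =>
      intro hp
      have h := hat p hp
      simp only [orbAt, Bool.and_eq_true] at h
      obtain ⟨hi, h⟩ := h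
      have hi' : orbItem r p < 6303 := Nat.le_of_ble_eq_true hi
      refine ⟨hi', ?_⟩
      cases hb : Nat.beq ((orbTree r).get p / 8192) 0
      · rw [hb, cond_false] at h
        simp only [Bool.and_eq_true, beq_iff_eq] at h
        obtain ⟨⟨⟨hg, hlt⟩, hroot⟩, hc⟩ := h
        have hg' := Nat.le_of_ble_eq_true hg
        have hlt' : ((orbTree r).get p / 8192 - 1) / 16 < p := Nat.le_of_ble_eq_true hlt
        obtain ⟨hj, hfj⟩ := ih _ hlt' (hlt'.trans hp)
        have hmem : (orbGens r).getD (((orbTree r).get p / 8192 - 1) % 16) (0, 0) ∈ orbGens r := by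
          rw [List.getD_eq_getElem _ _ hg']
          exact List.getElem_mem _
        have hf : f (orbItem r p) = f (orbItem r (((orbTree r).get p / 8192 - 1) / 16)) :=
          hinv _ hmem _ hj _ hi' hc.symm
        rw [hf, hfj, Nat.eq_of_beq_eq_true hroot]
        rfl
      · rw [hb, cond_true, Bool.and_eq_true] at h
        obtain ⟨hroot, hhas⟩ := h
        rw [show (posTree r).get (orbItem r p) = orbItem r p from Nat.eq_of_beq_eq_true hroot]
        exact rowVal_spec f hrows hhas
  have all : ∀ i < 6303, f i = rowVal r ((posTree r).get i) := by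
    intro i hi
    have hb : (orbMask r).testBit i = true := by
      rw [eq_of_beq hmask, Nat.testBit_two_pow_sub_one, decide_eq_true_iff]
      exact hi
    rcases testBit_foldl_lor (orbItem r) _ _ hb with h | ⟨p, hp, rfl⟩
    · rw [Nat.zero_testBit] at h
      exact Bool.noConfusion h
    · exact (key p (List.mem_range.1 hp)).2
  rw [Finset.sum_range_succ, rowVal_spec f hrows hid,
    Finset.sum_congr rfl fun i hi => all i (Finset.mem_range.1 hi), ← Nat.eq_of_beq_eq_true htot]
  rfl

end CfsgLib.J4Type.Order
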