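import Cfsg.Agent.Lib.J4Type.Order.TTypeChecks
import Cfsg.Agent.Lib.J4Type.Order.TTransData

/-! The numerical checks for the count of pairs on the side of the involution of pair type. -/

set_option autoImplicit false
set_option maxRecDepth 100000
set_option Elab.async false

namespace CfsgLib.J4Type.Order

open Cfsg CfsgLib.Golay
open TSetup (matOK)

/-- The vectors of central type in a coset. -/
def zList (bit : Bool) (c : ℕ) : List ℕ :=
  (List.range 2048).filter fun a =>
    Nat.beq (mv (rMat c) a) a && ((imMask.getD c 0).testBit a).xor (bit && Nat.beq c 2)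

/-- The vectors of pair type in a coset. -/
def tTypeList (bit : Bool) (c : ℕ) : List ℕ :=
  (List.range 2048).filter fun a =>
    Nat.beq (mv (rMat c) a) a && !((imMask.getD c 0).testBit a).xor (bit && Nat.beq c 2)

/-- The vectors of central type. -/
def zZero : List ℕ := (List.range 2048).filter fun a => !Nat.beq a 0 && !NV.inB a

/-- The vectors of pair type. -/
def tZero : List ℕ := (List.range 2048).filter NV.inB

/-- The transporters of the roots of a tree. -/
def subTr (t : ℕ) : List (ℕ × List ℕ) :=
  bif Nat.beq t 0 then subTr0 else bif Nat.beq t 1 then subTr1 else subTr2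

/-- The orbit lengths of a tree. -/
def subCnt (t : ℕ) : List ℕ :=
  bif Nat.beq t 0 then subCnt0 else bif Nat.beq t 1 then subCnt1 else subCnt2

/-- The identity code and matrix. -/
def idV : List ℕ := (List.range 11).map fun i => 2 ^ i

/-- The sum of the conjugates of a vector under the powers of a matrix. -/
def normV (M : List ℕ) : ℕ → ℕ → ℕ
  | 0, _ => 0
  | n + 1, v => v ^^^ mv M (normV M n v)

/-- The point image under a power of a product of two codes. -/
def iterP (k l : ℕ) : ℕ → ℕ → ℕ
  | 0, x => x
  | n + 1, x => img k (img l (iterP k l n x))

/-- A power of the product fixes all points. -/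
def fixAll (k l n : ℕ) : Bool := (List.range 24).all fun x => Nat.beq (iterP k l n x) x

/-- The order of a product of two codes. -/
def ordP (k l : ℕ) : ℕ := ((List.range 25).filter fun n => !Nat.beq n 0 && fixAll k l n).headD 0

/-- The order found is the order. -/
def ordOK (k l : ℕ) : Bool :=
  !Nat.beq (ordP k l) 0 && fixAll k l (ordP k l) &&
    (List.range (ordP k l)).all fun n => Nat.beq n 0 || !fixAll k l n

/-- The number of pairs with the given product condition. -/
def cntL (Mk Mr : List ℕ) (m n0 : ℕ) (A B : List ℕ) : ℕ :=
  let NB := B.map fun b => normV Mr m (mv Mk b)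
  ((A.map fun a => normV Mr m a ^^^ n0).map fun x => NB.countP fun y => Nat.beq y x).sum

/-- The roots of a tree and their transporters. -/
def subRootAt (t s : ℕ) : ℕ := (subRoots t).getD s 0

/-- A transporter. -/
def trAt (t s : ℕ) : ℕ × List ℕ := (subTr t).getD s (0, [])

/-- The matrix of a root. -/
def subMatAt (t s : ℕ) : List ℕ := (subMats t).getD s []

/-- The vectors of pair type over a root of a tree. -/
def subT (bit : Bool) (t s : ℕ) : List ℕ :=
  (tTypeList bit (tClsOf (subRootAt t s))).map (mv (trAt t s).2)

/-- The pairs of two trivial permutations. -/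
def cnt00 : ℕ := cntL idV idV 1 (NV.wv 1) zZero tZero

/-- The pairs of a trivial permutation and a representative. -/
def cnt0 (bit : Bool) (c : ℕ) : ℕ :=
  cntL idV (rMat c) 2 (NV.wv 1) zZero (tTypeList bit c)

/-- The pairs of a representative and a trivial permutation. -/
def cntC0 (bit : Bool) (c : ℕ) : ℕ :=
  cntL (rMat c) (rMat c) 2 (NV.wv 1) (zList bit c) tZero

/-- The pairs of a representative and a root of its tree. -/
def cntCS (bit : Bool) (c s : ℕ) : ℕ :=
  cntL (rMat c) (mm (rMat c) (subMatAt c s)) (ordP (invAt (rootOf c)) (invAt (subRootAt c s))) (NV.wv 1)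
    (zList bit c) (subT bit c s)

/-- All pairs. -/
def cntAll (bit : Bool) : ℕ :=
  cnt00 + ((List.range 3).map fun c => clsSize c * cnt0 bit c).sum +
    ((List.range 3).map fun c => clsSize c * (cntC0 bit c +
      ((List.range (subRoots c).length).map fun s => (subCnt c).getD s 0 * cntCS bit c s).sum)).sum

/-- All central involutions in the centraliser. -/
def cntZ (bit : Bool) : ℕ :=
  zZero.length + ((List.range 3).map fun c => clsSize c * (zList bit c).length).sum

theorem sub_ok : ((List.range 3).all fun t => (List.range (subRoots t).length).all fun s =>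
    matOK (invAt (subRootAt t s)) (subMatAt t s) && inFix [3] (trAt t s).1 &&
      matOK (trAt t s).1 (trAt t s).2 &&
      eqProd (trAt t s).1 (invAt (rootOf (tClsOf (subRootAt t s)))) (invAt (subRootAt t s)) (trAt t s).1 &&
      ordOK (invAt (rootOf t)) (invAt (subRootAt t s))) = true := by
  decide +kernel

theorem subCnt_ok : ((List.range 3).all fun t => (List.range (subRoots t).length).all fun s =>
    Nat.beq (((List.range 2871).filter fun j => Nat.beq (slotOf t j) s).length) ((subCnt t).getD s 0)) = true := by
  decide +kernel

theorem idV_ok : matOK idCode idV = true := by decide +kernel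

theorem cntZ_false : cntZ false = 69883 := by decide +kernel

theorem cntZ_true : cntZ true = 69883 := by decide +kernel

theorem cntAll_false : cntAll false = 1544188503 := by decide +kernel

theorem cntAll_true : cntAll true = 1544188503 := by decide +kernel

end CfsgLib.J4Type.Order
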