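import Cfsg.Agent.Lib.J4Type.Order.TTreeChecks

/-! The representatives are not trivial. -/

set_option autoImplicit false
set_option maxRecDepth 100000

namespace CfsgLib.J4Type.Order

open Cfsg CfsgLib.Golay

theorem root_ne : ((List.range 3).all fun c => (List.range 24).any fun x =>
    !Nat.beq (img (invAt (rootOf c)) x) x) = true := by decide +kernel

end CfsgLib.J4Type.Order
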