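import Cfsg.Agent.Lib.J4Type.Order.TTypes
import Cfsg.Agent.Lib.J4Type.Order.TCountChecks
import Cfsg.Agent.Lib.J4Type.Order.TRootNe

/-!
The pairs of involutions of given permutations in the centraliser of an involution of pair type.
-/

set_option autoImplicit false
set_option maxRecDepth 100000

namespace CfsgLib.J4Type.Order

open Cfsg Subgroup CfsgLib.Golay
open CfsgLib.J4Type.Frame (vE Acts coV pairV)
open TSetup (matOK zType rp t0)

variable {G : Type*} [Group G] [Finite G] {z : G} {P : Subgroup G} {F : Frame z P} {D : VData F}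

theorem mem_zList {bit : Bool} {c a : ℕ} :
    a ∈ zList bit c ↔ a < 2048 ∧ mv (rMat c) a = a ∧ zType bit c a = true := by
  simp [zList, zType, TSetup.inIm]

theorem mem_tList {bit : Bool} {c a : ℕ} :
    a ∈ tTypeList bit c ↔ a < 2048 ∧ mv (rMat c) a = a ∧ zType bit c a = false := by
  simp [tTypeList, zType, TSetup.inIm]

theorem mem_zZero {a : ℕ} : a ∈ zZero ↔ a < 2048 ∧ a ≠ 0 ∧ NV.inB a = false := by
  simp [zZero, nat_beq_eq]

theorem mem_tZero {a : ℕ} : a ∈ tZero ↔ a < 2048 ∧ NV.inB a = true := by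
  simp [tZero]

theorem idV_mv : ∀ v < 2048, mv idV v = v := by decide +kernel

theorem permOf_id : permOf idCode = 1 := by
  have h := List.all_eq_true.1 root_sq 0 (by decide)
  simp only [Bool.and_eq_true] at h
  exact Equiv.ext fun q => by
    rw [permOf_apply h.1.1, Equiv.Perm.one_apply,
      Nat.eq_of_beq_eq_true (List.all_eq_true.1 h.2 _ (List.mem_range.2 (idx_lt q))), pt_idx]

theorem normV_xor (M : List ℕ) : ∀ m a b : ℕ, normV M m (a ^^^ b) = normV M m a ^^^ normV M m b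
  | 0, _, _ => by simp [normV]
  | m + 1, a, b => by
    rw [normV, normV, normV, normV_xor M m a b, mv_xor, Nat.xor_assoc, Nat.xor_assoc]
    congr 1
    rw [← Nat.xor_assoc, Nat.xor_comm b, Nat.xor_assoc]

theorem iterP_spec {k l : ℕ} (hk : valid k = true) (hl : valid l = true) :
    ∀ (n : ℕ) {x : ℕ}, x < 24 →
      ((permOf k * permOf l) ^ n) (pt x) = pt (iterP k l n x) ∧ iterP k l n x < 24
  | 0, x, hx => ⟨by simp [iterP], hx⟩
  | n + 1, x, hx => by
    obtain ⟨h1, h2⟩ := iterP_spec hk hl n hx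
    have h3 := valid_lt hl h2
    refine ⟨?_, valid_lt hk h3⟩
    rw [pow_succ', Equiv.Perm.mul_apply, h1, Equiv.Perm.mul_apply, permOf_pt hl h2, permOf_pt hk h3]
    rfl

theorem fixAll_iff {k l : ℕ} (hk : valid k = true) (hl : valid l = true) (n : ℕ) :
    fixAll k l n = true ↔ (permOf k * permOf l) ^ n = 1 := by
  simp only [fixAll, List.all_eq_true, List.mem_range, Nat.beq_eq]
  constructor
  · intro h
    refine Equiv.ext fun q => ?_
    rw [Equiv.Perm.one_apply, ← pt_idx q, (iterP_spec hk hl n (idx_lt q)).1, h _ (idx_lt q)]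
  · intro h x hx
    obtain ⟨h1, h2⟩ := iterP_spec hk hl n hx
    rw [h, Equiv.Perm.one_apply] at h1
    rw [← idx_pt h2, ← h1, idx_pt hx]

theorem ordP_spec {k l : ℕ} (hk : valid k = true) (hl : valid l = true) (h : ordOK k l = true) :
    orderOf (permOf k * permOf l) = ordP k l := by
  simp only [ordOK, Bool.and_eq_true, Bool.not_eq_true', List.all_eq_true, List.mem_range,
    Bool.or_eq_true, nat_beq_eq, decide_eq_false_iff_not, decide_eq_true_eq] at h
  obtain ⟨⟨h0, h1⟩, h2⟩ := h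
  refine (orderOf_eq_iff (Nat.pos_of_ne_zero h0)).2 ⟨(fixAll_iff hk hl _).1 h1, fun n hn hn0 he => ?_⟩
  rcases h2 n hn with e | e
  · omega
  · rw [(fixAll_iff hk hl n).2 he] at e
    exact Bool.noConfusion e

/-- The pairs counted in a product of two finite sets. -/
theorem cntL_eq (Mk Mr : List ℕ) (m n0 : ℕ) (A B : List ℕ) (hA : A.Nodup) (hB : B.Nodup) :
    cntL Mk Mr m n0 A B =
      ((A.toFinset ×ˢ B.toFinset).filter fun p => normV Mr m (p.1 ^^^ mv Mk p.2) = n0).card := by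
  have inner : ∀ a, ((B.map fun b => normV Mr m (mv Mk b)).countP fun y => Nat.beq y (normV Mr m a ^^^ n0)) =
      (B.toFinset.filter fun b => normV Mr m (a ^^^ mv Mk b) = n0).card := fun a => by
    rw [List.countP_map, List.countP_eq_length_filter, ← List.toFinset_card_of_nodup (hB.filter _),
      List.toFinset_filter]
    refine congrArg Finset.card (Finset.filter_congr fun b _ => ?_)
    simp only [Function.comp_apply, nat_beq_eq, decide_eq_true_eq]
    rw [normV_xor]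
    constructor
    · intro e
      rw [e, ← Nat.xor_assoc, Nat.xor_self, Nat.zero_xor]
    · intro e
      rw [← e, ← Nat.xor_assoc, Nat.xor_self, Nat.zero_xor]
  simp only [cntL, List.map_map]
  rw [← List.sum_toFinset _ hA, Finset.card_filter, Finset.sum_product]
  refine Finset.sum_congr rfl fun a _ => ?_
  rw [← Finset.card_filter]
  exact inner a

theorem orderOf_cj (g x : G) : orderOf (g * x * g⁻¹) = orderOf x :=
  orderOf_injective (MulAut.conj g).toMonoidHom (MulEquiv.injective _) x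

namespace TSetup

variable (S : TSetup D)

/-- The involutions conjugate to `z` with given permutation centralising the fixed one. -/
noncomputable def zSet (σ : Equiv.Perm GolayPt) : Finset G :=
  open Classical in letI := Fintype.ofFinite G
  Finset.univ.filter fun u => IsConj z u ∧ u ∈ centralizer ({t0 D} : Set G) ∧ S.M.perm u = σ

/-- The involutions of pair type with given permutation centralising the fixed one. -/
noncomputable def tSet (σ : Equiv.Perm GolayPt) : Finset G :=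
  open Classical in letI := Fintype.ofFinite G
  Finset.univ.filter fun u => IsConj (t0 D) u ∧ u ∈ centralizer ({t0 D} : Set G) ∧ S.M.perm u = σ

theorem mem_zSet {σ : Equiv.Perm GolayPt} {u : G} :
    u ∈ S.zSet σ ↔ IsConj z u ∧ u ∈ centralizer ({t0 D} : Set G) ∧ S.M.perm u = σ := by
  simp [zSet]

theorem mem_tSet {σ : Equiv.Perm GolayPt} {u : G} :
    u ∈ S.tSet σ ↔ IsConj (t0 D) u ∧ u ∈ centralizer ({t0 D} : Set G) ∧ S.M.perm u = σ := by
  simp [tSet]

/-- The pairs with given permutations. -/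
noncomputable def fib (σ τ : Equiv.Perm GolayPt) : ℕ :=
  open Classical in ((S.zSet σ ×ˢ S.tSet τ).filter fun q => t0 D ∈ zpowers (q.1 * q.2)).card

include S in
theorem t0_mem : t0 D ∈ D.V := S.t0_pairV.1

include S in
theorem t0_sq : t0 D * t0 D = 1 := Frame.V_sq D S.t0_mem

include S in
theorem orderOf_t0 : orderOf (t0 D) = 2 :=
  orderOf_eq_prime (by rw [pow_two, S.t0_sq]) S.t0_pairV.2.1

theorem perm_pow {n : G} (hn : n ∈ normalizer (D.V : Set G)) : ∀ j : ℕ, S.M.perm (n ^ j) = S.M.perm n ^ j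
  | 0 => by rw [pow_zero, pow_zero]; exact (S.M.perm_eq_one 1 (one_mem _)).2 (one_mem _)
  | j + 1 => by rw [pow_succ, pow_succ, S.M.perm_mul _ (pow_mem hn j) _ hn, perm_pow hn j]

theorem el_mul_acts {a b : ℕ} (ha : a < 2048) (hb : b < 2048) {σ : Equiv.Perm GolayPt} {M : List ℕ}
    (hσ : σ ∈ M24) (hk : Acts D (S.kap σ) M) {τ : Equiv.Perm GolayPt} (hτ : τ ∈ M24) :
    S.el a σ * S.el b τ = S.el (a ^^^ mv M b) (σ * τ) := by
  rw [el, el, el, Frame.vE_xor D ha (NV.mv_lt_2048 _ _ hk.1), ← hk.2 b hb, S.kap_mul hσ hτ]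
  group

theorem el_pow {c : ℕ} (hc : c < 2048) {ρ : Equiv.Perm GolayPt} {M : List ℕ} (hρ : ρ ∈ M24)
    (hk : Acts D (S.kap ρ) M) : ∀ j : ℕ, normV M j c < 2048 ∧ S.el c ρ ^ j = S.el (normV M j c) (ρ ^ j)
  | 0 => ⟨by simp [normV], by rw [pow_zero, pow_zero, normV, S.el_one_perm, Frame.vE_zero]⟩
  | j + 1 => by
    obtain ⟨h1, h2⟩ := el_pow hc hρ hk j
    refine ⟨Nat.xor_lt_two_pow (n := 11) hc (NV.mv_lt_2048 _ _ hk.1), ?_⟩
    rw [pow_succ', h2, S.el_mul_acts hc h1 hρ hk (pow_mem hρ j), ← pow_succ']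
    rfl

/-- The criterion for the fixed involution to be a power of a product. -/
theorem power_iff {a b : ℕ} (ha : a < 2048) (hb : b < 2048) {σ τ : Equiv.Perm GolayPt} {Mk Mr : List ℕ}
    (hσ : σ ∈ M24) (hτ : τ ∈ M24) (hk : Acts D (S.kap σ) Mk) (hr : Acts D (S.kap (σ * τ)) Mr)
    {m : ℕ} (hm : orderOf (σ * τ) = m) :
    t0 D ∈ zpowers (S.el a σ * S.el b τ) ↔ normV Mr m (a ^^^ mv Mk b) = NV.wv 1 := by
  rw [S.el_mul_acts ha hb hσ hk hτ]
  have hc : a ^^^ mv Mk b < 2048 := Nat.xor_lt_two_pow (n := 11) ha (NV.mv_lt_2048 _ _ hk.1)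
  have hρ := mul_mem hσ hτ
  obtain ⟨h1, h2⟩ := S.el_pow hc hρ hr m
  rw [show (σ * τ) ^ m = 1 from hm ▸ pow_orderOf_eq_one _, S.el_one_perm] at h2
  constructor
  · intro h
    obtain ⟨j, hj⟩ := mem_powers_iff_mem_zpowers.2 h
    change S.el (a ^^^ mv Mk b) (σ * τ) ^ j = t0 D at hj
    have hp := S.perm_pow (S.el_N hc hρ) j
    rw [hj, S.perm_el hc hρ,
      (S.M.perm_eq_one _ (Subgroup.le_normalizer S.t0_mem)).2 S.t0_mem] at hp
    obtain ⟨q, rfl⟩ : m ∣ j := hm ▸ orderOf_dvd_of_pow_eq_one hp.symm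
    rw [pow_mul, h2] at hj
    rcases Nat.even_or_odd q with ⟨r, rfl⟩ | ⟨r, rfl⟩
    · rw [← two_mul, pow_mul, pow_two, Frame.V_sq D (Frame.vE_mem D h1), one_pow] at hj
      exact absurd hj.symm S.t0_pairV.2.1
    · rw [pow_succ, pow_mul, pow_two, Frame.V_sq D (Frame.vE_mem D h1), one_pow, one_mul] at hj
      exact Frame.vE_injOn D h1 (NV.tab_facts (by norm_num) (by norm_num : (1 : ℕ) < 24)).2.1 hj
  · intro h
    rw [h] at h2
    exact mem_powers_iff_mem_zpowers.1 ⟨m, h2⟩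

include S in
theorem t0_pow_comm {u v : G} (hu : u * u = 1) (hv : v * v = 1) (h : t0 D ∈ zpowers (u * v)) :
    u ∈ centralizer ({t0 D} : Set G) ∧ v ∈ centralizer ({t0 D} : Set G) := by
  obtain ⟨i, hi⟩ := mem_zpowers_iff.1 h
  have hui : u⁻¹ = u := inv_eq_of_mul_eq_one_right hu
  have hvi : v⁻¹ = v := inv_eq_of_mul_eq_one_right hv
  have hinv : (t0 D)⁻¹ = t0 D := inv_eq_of_mul_eq_one_right S.t0_sq
  have key : u * t0 D * u⁻¹ = t0 D := by
    rw [← hi, ← conj_zpow, show u * (u * v) * u⁻¹ = (u * v)⁻¹ by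
      rw [← mul_assoc, hu, one_mul, mul_inv_rev, hvi], inv_zpow, hi, hinv]
  have key2 : v * t0 D * v⁻¹ = t0 D := by
    rw [← hi, ← conj_zpow, show v * (u * v) * v⁻¹ = (u * v)⁻¹ by
      rw [hvi, mul_assoc, mul_assoc, hv, mul_one, mul_inv_rev, hvi, hui], inv_zpow, hi, hinv]
  exact ⟨NV.mem_cen.2 (mul_inv_eq_iff_eq_mul.1 key).symm, NV.mem_cen.2 (mul_inv_eq_iff_eq_mul.1 key2).symm⟩

include S in
theorem sq_of_isConj_z {u : G} (h : IsConj z u) : u * u = 1 ∧ orderOf u = 2 := by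
  obtain ⟨g, hg⟩ := isConj_iff.1 h
  have ho : orderOf u = 2 := by rw [← hg, orderOf_cj, F.orderOf_z]
  exact ⟨by rw [← pow_two, ← ho, pow_orderOf_eq_one], ho⟩

include S in
theorem sq_of_isConj_t {u : G} (h : IsConj (t0 D) u) : u * u = 1 ∧ orderOf u = 2 := by
  obtain ⟨g, hg⟩ := isConj_iff.1 h
  have ho : orderOf u = 2 := by rw [← hg, orderOf_cj, S.orderOf_t0]
  exact ⟨by rw [← pow_two, ← ho, pow_orderOf_eq_one], ho⟩

/-- Involutions in `V`. -/
theorem zero_type [IsSimpleGroup G] {a : ℕ} (ha : a < 2048) :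
    (IsConj z (S.el a 1) ↔ a ∈ zZero) ∧ (IsConj (t0 D) (S.el a 1) ↔ a ∈ tZero) := by
  rw [S.el_one_perm, mem_zZero, mem_tZero]
  by_cases h0 : a = 0
  · subst h0
    rw [Frame.vE_zero]
    refine ⟨⟨fun h => ?_, fun h => absurd rfl h.2.1⟩, ⟨fun h => ?_, fun h => ?_⟩⟩
    · exact absurd (isConj_one_right.1 h.symm) F.z_ne
    · exact absurd (isConj_one_right.1 h.symm) S.t0_pairV.2.1
    · rw [NV.PairModel.inB_zero] at h; exact Bool.noConfusion h.2
  · have hV := Frame.vE_mem D ha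
    have hne : vE D a ≠ 1 := fun e => h0 (Frame.vE_inj D ha e)
    have hz := S.M.co_Z _ hV hne
    rw [S.hco _ hV, Frame.coV_vE D ha] at hz
    refine ⟨⟨fun h => ⟨ha, h0, hz.1 h⟩, fun h => hz.2 h.2.2⟩, ?_⟩
    rw [S.dichotomy (orderOf_eq_prime (by rw [pow_two, Frame.V_sq D hV]) hne), hz]
    simp [ha]

theorem zSet_one [DecidableEq G] [IsSimpleGroup G] : S.zSet 1 = zZero.toFinset.image (fun a => S.el a 1) := by
  classical
  ext u
  rw [S.mem_zSet, Finset.mem_image]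
  constructor
  · rintro ⟨hu, hc, hp⟩
    obtain ⟨a, ha, e⟩ := S.exists_el (S.cent_le hc)
    rw [hp] at e
    exact ⟨a, List.mem_toFinset.2 ((S.zero_type ha).1.1 (e ▸ hu)), e.symm⟩
  · rintro ⟨a, ha, rfl⟩
    have hl := (mem_zZero.1 (List.mem_toFinset.1 ha)).1
    have hp := S.perm_el hl (one_mem M24)
    exact ⟨(S.zero_type hl).1.2 (List.mem_toFinset.1 ha), S.mem_cent.2 ⟨S.el_N hl (one_mem _),
      by rw [hp]; exact one_mem _⟩, hp⟩

theorem tSet_one [DecidableEq G] [IsSimpleGroup G] : S.tSet 1 = tZero.toFinset.image (fun a => S.el a 1) := by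
  classical
  ext u
  rw [S.mem_tSet, Finset.mem_image]
  constructor
  · rintro ⟨hu, hc, hp⟩
    obtain ⟨a, ha, e⟩ := S.exists_el (S.cent_le hc)
    rw [hp] at e
    exact ⟨a, List.mem_toFinset.2 ((S.zero_type ha).2.1 (e ▸ hu)), e.symm⟩
  · rintro ⟨a, ha, rfl⟩
    have hl := (mem_tZero.1 (List.mem_toFinset.1 ha)).1
    have hp := S.perm_el hl (one_mem M24)
    exact ⟨(S.zero_type hl).2.2 (List.mem_toFinset.1 ha), S.mem_cent.2 ⟨S.el_N hl (one_mem _),
      by rw [hp]; exact one_mem _⟩, hp⟩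

variable {bit : Bool} (hbit : ∀ c < 3, ∀ a < 2048, mv (rMat c) a = a →
    (IsConj z (S.el a (rp c)) ↔ zType bit c a = true))

theorem el_rp_sq {c : ℕ} (hc : c < 3) {a : ℕ} (ha : a < 2048) :
    S.el a (rp c) * S.el a (rp c) = 1 ↔ mv (rMat c) a = a :=
  S.el_sq_iff ha (rp_spec hc).2.2 (rp_spec hc).1 (rp_sq hc)

theorem el_rp_ne {c : ℕ} (hc : c < 3) {a : ℕ} (ha : a < 2048) : S.el a (rp c) ≠ 1 := by
  intro e
  have h : rp c = 1 := by
    rw [← S.perm_el ha (rp_spec hc).2.2, e]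
    exact (S.M.perm_eq_one 1 (one_mem _)).2 (one_mem _)
  have hv := List.all_eq_true.1 root_ne c (List.mem_range.2 hc)
  simp only [List.any_eq_true, List.mem_range, Bool.not_eq_true', nat_beq_eq, decide_eq_false_iff_not] at hv
  obtain ⟨x, hx, hne⟩ := hv
  have := congrArg (fun s : Equiv.Perm GolayPt => idx (s (pt x))) h
  simp only [rp, Lp, permOf_pt (inv_valid' (root_lt hc).1) hx, Equiv.Perm.one_apply,
    idx_pt (valid_lt (inv_valid' (root_lt hc).1) hx), idx_pt hx] at this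
  exact hne this

include hbit in
theorem zSet_rp [DecidableEq G] {c : ℕ} (hc : c < 3) :
    S.zSet (rp c) = (zList bit c).toFinset.image (fun a => S.el a (rp c)) := by
  classical
  ext u
  rw [S.mem_zSet, Finset.mem_image]
  constructor
  · rintro ⟨hu, hm, hp⟩
    obtain ⟨a, ha, e⟩ := S.exists_el (S.cent_le hm)
    rw [hp] at e
    subst e
    have hfx := (S.el_rp_sq hc ha).1 (S.sq_of_isConj_z hu).1
    exact ⟨a, List.mem_toFinset.2 (mem_zList.2 ⟨ha, hfx, (hbit c hc a ha hfx).1 hu⟩), rfl⟩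
  · rintro ⟨a, ha, rfl⟩
    obtain ⟨hl, hfx, ht⟩ := mem_zList.1 (List.mem_toFinset.1 ha)
    have hp := S.perm_el hl (rp_spec hc).2.2
    exact ⟨(hbit c hc a hl hfx).2 ht, S.mem_cent.2 ⟨S.el_N hl (rp_spec hc).2.2,
      by rw [hp]; exact (rp_spec hc).2.1⟩, hp⟩

include hbit in
theorem tSet_rp [DecidableEq G] [IsSimpleGroup G] {c : ℕ} (hc : c < 3) :
    S.tSet (rp c) = (tTypeList bit c).toFinset.image (fun a => S.el a (rp c)) := by
  classical
  ext u
  rw [S.mem_tSet, Finset.mem_image]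
  constructor
  · rintro ⟨hu, hm, hp⟩
    obtain ⟨a, ha, e⟩ := S.exists_el (S.cent_le hm)
    rw [hp] at e
    subst e
    obtain ⟨h2, ho⟩ := S.sq_of_isConj_t hu
    have hfx := (S.el_rp_sq hc ha).1 h2
    refine ⟨a, List.mem_toFinset.2 (mem_tList.2 ⟨ha, hfx, ?_⟩), rfl⟩
    exact Bool.eq_false_iff.2 fun h => (S.dichotomy ho).1 hu ((hbit c hc a ha hfx).2 h)
  · rintro ⟨a, ha, rfl⟩
    obtain ⟨hl, hfx, ht⟩ := mem_tList.1 (List.mem_toFinset.1 ha)
    have hp := S.perm_el hl (rp_spec hc).2.2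
    refine ⟨(S.dichotomy ?_).2 fun h => ?_, S.mem_cent.2 ⟨S.el_N hl (rp_spec hc).2.2,
      by rw [hp]; exact (rp_spec hc).2.1⟩, hp⟩
    · exact orderOf_eq_prime (by rw [pow_two, (S.el_rp_sq hc hl).2 hfx]) (S.el_rp_ne hc hl)
    · rw [(hbit c hc a hl hfx).1 h] at ht
      exact Bool.noConfusion ht

/-- Conjugation by an element of the complement. -/
theorem conj_facts {g : Equiv.Perm GolayPt} (hg : g ∈ fixMasks [3]) {u : G}
    (hu : u ∈ centralizer ({t0 D} : Set G)) :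
    S.kap g * u * (S.kap g)⁻¹ ∈ centralizer ({t0 D} : Set G) ∧
      S.M.perm (S.kap g * u * (S.kap g)⁻¹) = g * S.M.perm u * g⁻¹ ∧ S.kap g * t0 D * (S.kap g)⁻¹ = t0 D := by
  have hg24 := fixMasks_le _ hg
  have hkC : S.kap g ∈ centralizer ({t0 D} : Set G) :=
    S.mem_cent.2 ⟨S.kap_N hg24, by rw [(S.kap_spec hg24).2]; exact hg⟩
  have hkN := S.kap_N hg24
  refine ⟨mul_mem (mul_mem hkC hu) (inv_mem hkC), ?_,
    (S.perm_fix_iff hkN).2 (by rw [(S.kap_spec hg24).2]; exact hg)⟩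
  rw [S.M.perm_mul _ (mul_mem hkN (S.cent_le hu)) _ (inv_mem hkN), S.M.perm_mul _ hkN _ (S.cent_le hu),
    S.perm_inv hkN, (S.kap_spec hg24).2]

theorem tSet_conj_subset {g : Equiv.Perm GolayPt} (hg : g ∈ fixMasks [3]) {σ : Equiv.Perm GolayPt} {u : G}
    (h : u ∈ S.tSet σ) : S.kap g * u * (S.kap g)⁻¹ ∈ S.tSet (g * σ * g⁻¹) := by
  rw [S.mem_tSet] at h ⊢
  obtain ⟨h1, h2, h3⟩ := h
  obtain ⟨c1, c2, -⟩ := S.conj_facts hg h2
  exact ⟨h1.trans (isConj_iff.2 ⟨_, rfl⟩), c1, by rw [c2, h3]⟩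

theorem zSet_conj_subset {g : Equiv.Perm GolayPt} (hg : g ∈ fixMasks [3]) {σ : Equiv.Perm GolayPt} {u : G}
    (h : u ∈ S.zSet σ) : S.kap g * u * (S.kap g)⁻¹ ∈ S.zSet (g * σ * g⁻¹) := by
  rw [S.mem_zSet] at h ⊢
  obtain ⟨h1, h2, h3⟩ := h
  obtain ⟨c1, c2, -⟩ := S.conj_facts hg h2
  exact ⟨h1.trans (isConj_iff.2 ⟨_, rfl⟩), c1, by rw [c2, h3]⟩

theorem fib_conj {g : Equiv.Perm GolayPt} (hg : g ∈ fixMasks [3]) (σ τ : Equiv.Perm GolayPt) :
    S.fib (g * σ * g⁻¹) (g * τ * g⁻¹) = S.fib σ τ := by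
  classical
  suffices H : ∀ g ∈ fixMasks [3], ∀ σ τ, S.fib σ τ ≤ S.fib (g * σ * g⁻¹) (g * τ * g⁻¹) by
    refine le_antisymm ?_ (H g hg σ τ)
    have := H g⁻¹ (inv_mem hg) (g * σ * g⁻¹) (g * τ * g⁻¹)
    rwa [show g⁻¹ * (g * σ * g⁻¹) * g⁻¹⁻¹ = σ by group,
      show g⁻¹ * (g * τ * g⁻¹) * g⁻¹⁻¹ = τ by group] at this
  intro g hg σ τ
  refine Finset.card_le_card_of_injOn (fun q => (S.kap g * q.1 * (S.kap g)⁻¹, S.kap g * q.2 * (S.kap g)⁻¹))
    ?_ ?_
  · intro q hq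
    simp only [Finset.coe_filter, Set.mem_ofPred_eq, Finset.mem_product] at hq ⊢
    refine ⟨⟨S.zSet_conj_subset hg hq.1.1, S.tSet_conj_subset hg hq.1.2⟩, ?_⟩
    obtain ⟨i, hi⟩ := mem_zpowers_iff.1 hq.2
    refine mem_zpowers_iff.2 ⟨i, ?_⟩
    rw [show S.kap g * q.1 * (S.kap g)⁻¹ * (S.kap g * q.2 * (S.kap g)⁻¹) =
      S.kap g * (q.1 * q.2) * (S.kap g)⁻¹ by group, conj_zpow, hi,
      (S.conj_facts hg (one_mem _)).2.2]
  · intro a _ b _ e
    simp only [Prod.mk.injEq] at e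
    exact Prod.ext (mul_left_cancel (mul_right_cancel e.1)) (mul_left_cancel (mul_right_cancel e.2))

/-- One fibre from vectors. -/
theorem fib_eq [DecidableEq G] {σ τ : Equiv.Perm GolayPt} {A B : List ℕ} (hA : A.Nodup) (hB : B.Nodup)
    (hσ : σ ∈ M24) (hτ : τ ∈ M24) (hA' : ∀ a ∈ A, a < 2048) (hB' : ∀ b ∈ B, b < 2048)
    (eA : S.zSet σ = A.toFinset.image (fun a => S.el a σ)) (eB : S.tSet τ = B.toFinset.image (fun a => S.el a τ))
    {Mk Mr : List ℕ} (hk : Acts D (S.kap σ) Mk) (hr : Acts D (S.kap (σ * τ)) Mr) {m : ℕ}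
    (hm : orderOf (σ * τ) = m) : S.fib σ τ = cntL Mk Mr m (NV.wv 1) A B := by
  classical
  rw [cntL_eq _ _ _ _ _ _ hA hB, fib, eA, eB]
  symm
  refine Finset.card_nbij (fun p => (S.el p.1 σ, S.el p.2 τ)) ?_ ?_ ?_
  · intro p hp
    simp only [Finset.coe_filter, Set.mem_ofPred_eq, Finset.mem_product, Finset.mem_image] at hp ⊢
    exact ⟨⟨⟨_, hp.1.1, rfl⟩, ⟨_, hp.1.2, rfl⟩⟩,
      (S.power_iff (hA' _ (List.mem_toFinset.1 hp.1.1)) (hB' _ (List.mem_toFinset.1 hp.1.2)) hσ hτ hk hr hm).2 hp.2⟩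
  · intro p hp q hq e
    simp only [Finset.coe_filter, Set.mem_ofPred_eq, Finset.mem_product, List.mem_toFinset] at hp hq
    simp only [Prod.mk.injEq] at e
    exact Prod.ext (S.el_inj (hA' _ hp.1.1) (hA' _ hq.1.1) hσ hσ e.1).1
      (S.el_inj (hB' _ hp.1.2) (hB' _ hq.1.2) hτ hτ e.2).1
  · intro q hq
    simp only [Finset.coe_filter, Set.mem_ofPred_eq, Finset.mem_product, Finset.mem_image] at hq
    obtain ⟨⟨⟨a, ha, ea⟩, ⟨b, hb, eb⟩⟩, hz⟩ := hq
    refine ⟨(a, b), ?_, Prod.ext ea eb⟩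
    simp only [Finset.coe_filter, Set.mem_ofPred_eq, Finset.mem_product]
    rw [← ea, ← eb] at hz
    exact ⟨⟨ha, hb⟩,
      (S.power_iff (hA' _ (List.mem_toFinset.1 ha)) (hB' _ (List.mem_toFinset.1 hb)) hσ hτ hk hr hm).1 hz⟩

theorem list_ok : (∀ bit c, (zList bit c).Nodup ∧ (tTypeList bit c).Nodup ∧ (∀ a ∈ zList bit c, a < 2048) ∧
    ∀ a ∈ tTypeList bit c, a < 2048) ∧ zZero.Nodup ∧ tZero.Nodup :=
  ⟨fun bit c => ⟨List.nodup_range.filter _, List.nodup_range.filter _, fun _ h => (mem_zList.1 h).1,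
    fun _ h => (mem_tList.1 h).1⟩, List.nodup_range.filter _, List.nodup_range.filter _⟩

theorem acts_one_idV : Acts D (S.kap 1) idV := by
  rw [← permOf_id]
  exact S.acts_of_perm (S.kap_N (permOf_id ▸ one_mem _)) idV_ok
    (S.kap_spec (permOf_id ▸ one_mem _)).2

theorem acts_rp {c : ℕ} (hc : c < 3) : Acts D (S.kap (rp c)) (rMat c) :=
  S.acts_of_perm (S.kap_N (rp_spec hc).2.2) (rp_spec hc).1 (S.kap_spec (rp_spec hc).2.2).2

include S in
theorem orderOf_rp {c : ℕ} (hc : c < 3) : orderOf (rp c) = 2 := by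
  refine orderOf_eq_prime (by rw [pow_two, rp_sq hc]) fun h => ?_
  refine S.el_rp_ne hc (a := 0) (by norm_num) ?_
  rw [h, S.el_one_perm, Frame.vE_zero]

theorem fib_00 [IsSimpleGroup G] : S.fib 1 1 = cnt00 := by
  classical
  refine S.fib_eq list_ok.2.1 list_ok.2.2 (one_mem _) (one_mem _) (fun a h => (mem_zZero.1 h).1)
    (fun a h => (mem_tZero.1 h).1) S.zSet_one S.tSet_one S.acts_one_idV ?_ (by rw [one_mul, orderOf_one])
  rw [one_mul]; exact S.acts_one_idV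

include hbit in
theorem fib_0 [IsSimpleGroup G] {c : ℕ} (hc : c < 3) : S.fib 1 (rp c) = cnt0 bit c := by
  classical
  refine S.fib_eq list_ok.2.1 (list_ok.1 bit c).2.1 (one_mem _) (rp_spec hc).2.2
    (fun a h => (mem_zZero.1 h).1) (list_ok.1 bit c).2.2.2 S.zSet_one (S.tSet_rp hbit hc) S.acts_one_idV ?_
    (by rw [one_mul, S.orderOf_rp hc])
  rw [one_mul]; exact S.acts_rp hc

include hbit in
theorem fib_C0 [IsSimpleGroup G] {c : ℕ} (hc : c < 3) : S.fib (rp c) 1 = cntC0 bit c := by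
  classical
  refine S.fib_eq (list_ok.1 bit c).1 list_ok.2.2 (rp_spec hc).2.2 (one_mem _) (list_ok.1 bit c).2.2.1
    (fun a h => (mem_tZero.1 h).1) (S.zSet_rp hbit hc) S.tSet_one (S.acts_rp hc) ?_
    (by rw [mul_one, S.orderOf_rp hc])
  rw [mul_one]; exact S.acts_rp hc

include hbit in
theorem fib_CS [IsSimpleGroup G] {c s : ℕ} (hc : c < 3) (hs : s < (subRoots c).length) :
    S.fib (rp c) (Lp (subRootAt c s)) = cntCS bit c s := by
  classical
  have h := List.all_eq_true.1 (List.all_eq_true.1 sub_ok c (List.mem_range.2 hc)) s (List.mem_range.2 hs)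
  simp only [Bool.and_eq_true] at h
  obtain ⟨⟨⟨⟨hmat, htf⟩, htm⟩, hte⟩, hord⟩ := h
  set r := subRootAt c s with hr
  have hrl : r < 2871 := by
    refine (root_lt hc).2.2 r ?_
    rw [hr, subRootAt, List.getD_eq_getElem _ _ hs]
    exact List.getElem_mem _
  set d := tClsOf r
  have hd : d < 3 := tClsOf_lt r
  set g := permOf (trAt c s).1 with hg
  have hgF : g ∈ fixMasks [3] := inFix_mem htf
  have hg24 := fixMasks_le _ hgF
  have hconj : g * rp d * g⁻¹ = Lp r := by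
    rw [mul_inv_eq_iff_eq_mul]
    exact eqProd_sound (inFix_valid htf) (inv_valid' (root_lt hd).1) (inv_valid' hrl) (inFix_valid htf) hte
  have hact := S.acts_of_perm (S.kap_N hg24) htm (S.kap_spec hg24).2
  have hLp : Lp r ∈ M24 := hconj ▸ mul_mem (mul_mem hg24 (rp_spec hd).2.2) (inv_mem hg24)
  have hmv : ∀ a < 2048, S.kap g * S.el a (rp d) * (S.kap g)⁻¹ = S.el (mv (trAt c s).2 a) (Lp r) := fun a ha => by
    rw [el, el, ← hact.2 a ha, ← hconj, S.kap_mul (mul_mem hg24 (rp_spec hd).2.2) (inv_mem hg24),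
      S.kap_mul hg24 (rp_spec hd).2.2, S.kap_inv hg24]
    group
  have eB : S.tSet (Lp r) = (subT bit c s).toFinset.image (fun a => S.el a (Lp r)) := by
    ext u
    rw [Finset.mem_image]
    constructor
    · intro hu
      have h' := S.tSet_conj_subset (inv_mem hgF) hu
      rw [← hconj, show g⁻¹ * (g * rp d * g⁻¹) * g⁻¹⁻¹ = rp d by group, S.kap_inv hg24, S.tSet_rp hbit hd,
        Finset.mem_image] at h'
      obtain ⟨a, ha, e⟩ := h'
      have hl := (mem_tList.1 (List.mem_toFinset.1 ha)).1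
      refine ⟨mv (trAt c s).2 a, List.mem_toFinset.2 (List.mem_map.2 ⟨a, List.mem_toFinset.1 ha, rfl⟩), ?_⟩
      rw [← hmv a hl, e]; group
    · rintro ⟨a', ha', rfl⟩
      obtain ⟨a, ha, rfl⟩ := List.mem_map.1 (List.mem_toFinset.1 ha')
      rw [← hmv a (mem_tList.1 ha).1, ← hconj]
      refine S.tSet_conj_subset hgF ?_
      rw [S.tSet_rp hbit hd]
      exact Finset.mem_image_of_mem _ (List.mem_toFinset.2 ha)
  have hnd : (subT bit c s).Nodup := by
    refine List.Nodup.map_on (fun a ha b hb e => ?_) (list_ok.1 bit d).2.1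
    have hla := (mem_tList.1 ha).1
    have hlb := (mem_tList.1 hb).1
    have := (hmv a hla).trans (e ▸ (hmv b hlb).symm)
    exact (S.el_inj hla hlb (rp_spec hd).2.2 (rp_spec hd).2.2 (mul_left_cancel (mul_right_cancel this))).1
  refine S.fib_eq (list_ok.1 bit c).1 hnd (rp_spec hc).2.2 hLp (list_ok.1 bit c).2.2.1 ?_
    (S.zSet_rp hbit hc) eB (S.acts_rp hc) ?_ (ordP_spec (inv_valid' (root_lt hc).1) (inv_valid' hrl) hord)
  · intro b hb
    obtain ⟨a, -, rfl⟩ := List.mem_map.1 hb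
    exact NV.mv_lt_2048 _ _ hact.1
  · rw [S.kap_mul (rp_spec hc).2.2 hLp]
    exact Frame.Acts.mul D (S.acts_rp hc) (S.acts_of_perm (S.kap_N hLp) hmat (S.kap_spec hLp).2)

end TSetup

end CfsgLib.J4Type.Order
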