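import Cfsg.Agent.Lib.J4Type.Order.TData
import Cfsg.Agent.Lib.Mathieu.Classes
import Cfsg.Agent.Lib.Mathieu.CommElts

/-! Checks of the tables for the stabiliser of the first two points in `M24`. -/

set_option autoImplicit false
set_option maxRecDepth 100000
set_option Elab.async false

namespace CfsgLib.J4Type.Order

open Cfsg CfsgLib.Golay CfsgLib.Mathieu

/-- An entry of a table in rows of forty. -/
def getR (t : List (List ℕ)) (i : ℕ) : ℕ := (t.getD (i / 40) []).getD (i % 40) 0

/-- An involution of the stabiliser. -/
def invAt (i : ℕ) : ℕ := getR invT i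

/-- A generator of the stabiliser. -/
def kGen (j : ℕ) : ℕ := kGens.getD j 0

/-- The conjugate of an involution by a generator. -/
def nxtAt (i j : ℕ) : ℕ := getR nxtT i / 2871 ^ j % 2871

/-- The two composites agree on the points. -/
def eqProd (a b c d : ℕ) : Bool :=
  (List.range 24).all fun x => Nat.beq (img a (img b x)) (img c (img d x))

/-- The code written out from the images. -/
def keyOf (g : ℕ) : ℕ := (List.range 24).foldr (fun i a => img g i * 32 ^ i + a) 0

/-- The representative of an entry of `seedL`. -/
def repCode (r : ℕ) : ℕ := bif Nat.beq r 0 then tOct else tFree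

theorem kGens_ok : ((List.range 3).all fun j => inFix [3] (kGen j)) = true := by decide +kernel

theorem inv_valid : ((List.range 2871).all fun i =>
    valid (invAt i) && Nat.beq (img (invAt i) (img (invAt i) 0)) 0) = true := by decide +kernel

theorem nxt_ok : ((List.range 2871).all fun i => (List.range 3).all fun j =>
    eqProd (kGen j) (invAt i) (invAt (nxtAt i j)) (kGen j)) = true := by decide +kernel

theorem inv_key : ((List.range 2871).all fun i => Nat.beq (keyOf (invAt i)) (invAt i)) = true := by
  decide +kernel

theorem ord_ok : ((List.range 2870).all fun k =>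
    Nat.blt (getR ordT k) 2871 && Nat.blt (getR ordT (k + 1)) 2871 &&
      Nat.blt (invAt (getR ordT k)) (invAt (getR ordT (k + 1)))) = true := by decide +kernel

theorem pair_chain : chainOK [3] pairLevels pairFin = true := by decide +kernel

theorem words_ok : ((List.range 6).all fun l =>
    Nat.beq ((pairLevels.getD l (0, [], [])).2.1.length) (pairWords.getD l []).length &&
      (List.range (pairWords.getD l []).length).all fun k =>
        ((pairWords.getD l []).getD k []).all (fun j => Nat.blt j 3) &&
          (List.range 24).all fun x => Nat.beq (img ((pairLevels.getD l (0, [], [])).2.1.getD k 0) x)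
            (wImg (((pairWords.getD l []).getD k []).map kGen) x)) = true ∧ pairLevels.length = 6 := by
  decide +kernel

theorem seeds_ok : ((List.range 2).all fun r => valid (repCode r) && (List.range 24).all fun i =>
    (List.range 24).all fun j =>
      !(Nat.blt i j && ((Nat.beq (img (repCode r) i) i && Nat.beq (img (repCode r) j) j) ||
        (Nat.beq (img (repCode r) i) j && Nat.beq (img (repCode r) j) i))) ||
      seedL.any fun e => Nat.beq e.1 r && Nat.beq e.2.1 i && Nat.beq e.2.2.1 j &&
        inM24 e.2.2.2.1 && Nat.blt e.2.2.2.2 2871 &&
        Nat.beq (mimg e.2.2.2.1 (Nat.lor (Nat.shiftLeft 1 i) (Nat.shiftLeft 1 j))) 3 &&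
        eqProd e.2.2.2.1 (repCode r) (invAt e.2.2.2.2) e.2.2.2.1) = true := by
  decide +kernel

end CfsgLib.J4Type.Order
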