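import Cfsg.Agent.Lib.J4Type.Order.TTreeChecks
import Cfsg.Agent.Lib.J4Type.Order.TSetup

/-! Checks for the two types of involutions in the three cosets of `V`. -/

set_option autoImplicit false
set_option maxRecDepth 100000
set_option Elab.async false

namespace CfsgLib.J4Type.Order

open Cfsg CfsgLib.Golay
open TSetup (matOK)

/-- The matrix of a representative. -/
def rMat (c : ℕ) : List ℕ := rootMat.getD c []

/-- A centralising element of a representative in the group. -/
def mGen (c j : ℕ) : ℕ := (mGens.getD c []).getD j 0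

/-- Its matrix. -/
def mMat (c j : ℕ) : List ℕ := (mMats.getD c []).getD j []

/-- The class containing zero. -/
def imTree (c : ℕ) : List (ℕ × ℕ × ℕ × ℕ) :=
  bif Nat.beq c 0 then imT0 else bif Nat.beq c 1 then imT1 else imT2

/-- The other class. -/
def restTree (c : ℕ) : List (ℕ × ℕ × ℕ × ℕ) :=
  bif Nat.beq c 0 then restT0 else bif Nat.beq c 1 then restT1 else restT2

/-- The check of a class of fixed vectors. -/
def treeOK (c : ℕ) (T : List (ℕ × ℕ × ℕ × ℕ)) (mask : ℕ) : Bool :=
  (List.range T.length).all (fun k =>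
    let e := T.getD k (0, 0, 0, 0)
    let p := (T.getD e.2.1 (0, 0, 0, 0)).1
    Nat.blt e.1 2048 && mask.testBit e.1 && Nat.beq (mv (rMat c) e.1) e.1 &&
    (Nat.beq k 0 || (Nat.blt e.2.1 k &&
      bif Nat.blt e.2.2.1 3 then Nat.beq (mv (mMat c e.2.2.1) p) e.1
      else Nat.blt e.2.2.2 2048 && Nat.beq (e.2.2.2 ^^^ p ^^^ mv (rMat c) e.2.2.2) e.1))) &&
  (List.range 2048).all fun a => !mask.testBit a || T.any fun e => Nat.beq e.1 a

/-- The witness in the radical of a class. -/
def witOf (c : ℕ) : ℕ × ℕ × ℕ × ℕ × List ℕ × ℕ × List ℕ :=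
  bif Nat.beq c 0 then wit0 else bif Nat.beq c 1 then wit1 else wit2

theorem mats_ok : ((List.range 3).all fun c => matOK (invAt (rootOf c)) (rMat c) &&
    (List.range 3).all fun j => inM24 (mGen c j) && matOK (mGen c j) (mMat c j) &&
      eqProd (mGen c j) (invAt (rootOf c)) (invAt (rootOf c)) (mGen c j)) = true := by
  decide +kernel

theorem trees_ok : ((List.range 3).all fun c =>
    treeOK c (imTree c) (imMask.getD c 0) && treeOK c (restTree c) (restMask.getD c 0)) = true := by
  decide +kernel

theorem fixed_ok : ((List.range 3).all fun c => (List.range 2048).all fun a =>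
    (Nat.beq (mv (rMat c) a) a == ((imMask.getD c 0).testBit a || (restMask.getD c 0).testBit a)) &&
      !((imMask.getD c 0).testBit a && (restMask.getD c 0).testBit a)) = true ∧
    (imT0.length = 16 ∧ imT1.length = 16) := by
  decide +kernel

/-- The check of a witness. -/
def witOK (c : ℕ) : Bool :=
  let w := witOf c
  Nat.blt w.1 64 && Nat.beq w.2.1 (64 * w.1) &&
    matOK w.2.2.1 (NV.bitsProd (NV.gensCover.drop 3) w.1 6) && inM24 w.2.2.2.1 &&
    eqProd w.2.2.2.1 (invAt (rootOf c)) w.2.2.1 w.2.2.2.1 && inM24 w.2.2.1 &&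
    Nat.blt w.2.2.2.2.2.1 64 && !qF (w.2.1 ^^^ w.2.2.2.2.2.1) &&
    Cert.fiveMask.testBit (w.2.1 ^^^ w.2.2.2.2.2.1) &&
    w.2.2.2.2.2.2.all (fun v => Nat.blt v 64 && !qF (w.2.1 ^^^ v) && Cert.oneMask.testBit (w.2.1 ^^^ v)) &&
    Nat.blt 8 w.2.2.2.2.2.2.length && decide w.2.2.2.2.2.2.Nodup

theorem wit_ok : ((List.range 3).all witOK) = true := by decide +kernel

end CfsgLib.J4Type.Order

namespace CfsgLib.J4Type.Order

open Cfsg CfsgLib.Golay

theorem root_fix : ((List.range 3).all fun c => inFix [3] (invAt (rootOf c))) = true := by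
  decide +kernel

theorem root_sq : ((List.range 3).all fun c => valid idCode &&
    eqProd (invAt (rootOf c)) (invAt (rootOf c)) idCode idCode &&
      (List.range 24).all fun i => Nat.beq (img idCode i) i) = true := by
  decide +kernel

end CfsgLib.J4Type.Order
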