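import Cfsg.Agent.Lib.J4Type.Order.TTree
import Cfsg.Agent.Lib.J4Type.Order.TTypeChecks

/-!
In a coset of `V` the involutions of central type form one of two classes of fixed vectors.
-/

set_option autoImplicit false
set_option maxRecDepth 100000

namespace CfsgLib.J4Type.Order

open Cfsg Subgroup CfsgLib.Golay
open CfsgLib.J4Type.Frame (vE Acts coV pairV)
open TSetup (matOK)

variable {G : Type*} [Group G] [Finite G] {z : G} {P : Subgroup G} {F : Frame z P} {D : VData F}

omit [Finite G] in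
theorem exists_eE_conj {v w : ℕ} {x : G} (hx : x ∈ Rad z) (hco : F.co x = v) {m : List ℕ} (hm : InL m)
    (hw : w < 4096) (e : mv m w = v) : ∃ (g : G) (b : Bool), g * x * g⁻¹ = F.eE w * F.zp b := by
  obtain ⟨h, ⟨hh, -⟩, hmh⟩ := F.mat_surj m hm
  obtain ⟨e1, e2, -⟩ := F.eE_spec hw
  have hy := F.rad_conj hh e1
  have hxy : F.co x = F.co (h * F.eE w * h⁻¹) := by rw [hco, F.conj_co hh e1, hmh, e2, e]
  rcases F.eq_or_eq_mul_z hx hy hxy with r | r
  · exact ⟨h⁻¹, false, by rw [r, Frame.zp, if_neg (by simp), mul_one]; group⟩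
  · refine ⟨h⁻¹, true, ?_⟩
    rw [r, Frame.zp, if_pos rfl,
      show h⁻¹ * (h * F.eE w * h⁻¹ * z) * h⁻¹⁻¹ = F.eE w * (h⁻¹ * (z * h)) by group, ← F.z_comm hh,
      inv_mul_cancel_left]

theorem z_of_five (hf : Fused D) {x : G} (hx : x ∈ Rad z)
    (h : Cert.fiveMask.testBit (F.co x) = true) : IsConj z x := by
  obtain ⟨i, hi, e⟩ := Cert.fiveMask_iff h
  obtain ⟨m, hm, em⟩ := Cert.orbOK.reach Cert.fiveOrb_ok (by norm_num) i hi
  obtain ⟨g, b, hg⟩ := exists_eE_conj hx rfl hm.inL (by norm_num : (5 : ℕ) < 4096) (em.trans e)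
  have hn : NV.pack 5 b 0 < 2048 ∧ NV.inB (NV.pack 5 b 0) = false ∧ NV.pack 5 b 0 ≠ 0 := by
    cases b <;> decide +kernel
  obtain ⟨-, hc⟩ := Frame.exists_cover D hf
  have := hc _ hn.1 hn.2.2
  rw [Frame.isZ, hn.2.1, Frame.vE_eE D (by norm_num : (5 : ℕ) < 64)] at this
  have hz : IsConj z (F.eE 5 * F.zp b) := by
    revert this; simp
  exact hz.trans (isConj_iff.2 ⟨g, hg⟩).symm

omit [Finite G] in
theorem not_z_of_one (hf : Fused D) {x : G} (hx : x ∈ Rad z)
    (h : Cert.oneMask.testBit (F.co x) = true) : ¬ IsConj z x := by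
  obtain ⟨i, hi, e⟩ := Cert.oneMask_iff h
  obtain ⟨m, hm, em⟩ := Cert.orbOK.reach Cert.oneOrb_ok (by norm_num) i hi
  obtain ⟨g, b, hg⟩ := exists_eE_conj hx rfl hm.inL (by norm_num : (1 : ℕ) < 4096) (em.trans e)
  obtain ⟨e1, e2, -⟩ := F.eE_spec (by norm_num : (1 : ℕ) < 4096)
  refine fun hz => hf.not_oval _ (mul_mem e1 (F.zp_mem b)) ?_ (hz.trans (isConj_iff.2 ⟨g, hg⟩))
  rw [F.co_mul _ e1 _ (F.zp_mem b), F.co_zp, e2, Nat.xor_zero]

namespace TSetup

variable (S : TSetup D)

include S in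
/-- An element of the radical with given upper coordinates and its action. -/
theorem exists_high {w : ℕ} (hw : w < 64) :
    ∃ r ∈ Rad z, Acts D r (NV.bitsProd (NV.gensCover.drop 3) w 6) ∧ F.co r = 64 * w := by
  suffices key : ∀ n ≤ 6, ∃ r ∈ Rad z, Acts D r (NV.bitsProd (NV.gensCover.drop 3) w n) ∧
      F.co r = 64 * (w % 2 ^ n) by
    obtain ⟨r, h1, h2, h3⟩ := key 6 le_rfl
    exact ⟨r, h1, h2, by rw [h3, Nat.mod_eq_of_lt (by omega)]⟩
  intro n
  induction n with
  | zero => exact fun _ => ⟨1, one_mem _, Frame.acts_one D, by rw [F.co_one]; simp [Nat.mod_one]⟩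
  | succ n ih =>
    intro hn
    obtain ⟨r, hr, hra, hrc⟩ := ih (by omega)
    obtain ⟨h1, h2⟩ := NV.high_bits _ hw n (by omega)
    cases hbit : w.testBit n
    · exact ⟨r, hr, by rw [NV.bitsProd, hbit]; exact hra, by rw [hrc, h1 hbit]⟩
    · obtain ⟨g1, g2⟩ := Frame.radGen_mem D (j := n) (by omega)
      refine ⟨r * F.radGen n, mul_mem hr g1, ?_, ?_⟩
      · rw [NV.bitsProd, hbit]
        refine Frame.Acts.mul D hra ?_
        have : ∀ j < 6, (NV.gensCover.drop 3).getD j [] = NV.gensCover.getD (3 + j) [] := by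
          decide +kernel
        rw [this n (by omega)]
        have hmem : ∀ j < 6, NV.gensCover.getD (3 + j) [] ∈ NV.gensCover := by decide +kernel
        refine ⟨NV.bound_of_mem (by have := hmem n (by omega); simp only [List.mem_cons, List.mem_append]; tauto), fun m hm => ?_⟩
        have := S.hmodel (3 + n) (by omega) m hm
        simpa [Frame.gen9] using this
      · have hlt : (2 : ℕ) ^ (6 + n) < 4096 :=
          lt_of_lt_of_le (Nat.pow_lt_pow_right (by norm_num) (show 6 + n < 12 by omega)) (by norm_num)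
        rw [F.co_mul _ hr _ g1, hrc, h2 hbit]
        exact congrArg _ (F.eE_spec hlt).2.1

/-- The representative of a class. -/
noncomputable def rp (c : ℕ) : Equiv.Perm GolayPt := Lp (rootOf c)

theorem rp_spec {c : ℕ} (hc : c < 3) :
    matOK (invAt (rootOf c)) (rMat c) = true ∧ rp c ∈ fixMasks [3] ∧ rp c ∈ M24 := by
  have h := List.all_eq_true.1 mats_ok c (List.mem_range.2 hc)
  simp only [Bool.and_eq_true] at h
  have hg : rp c ∈ fixMasks [3] := by
    have hs := List.all_eq_true.1 root_fix c (List.mem_range.2 hc)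
    exact inFix_mem hs
  exact ⟨h.1, hg, fixMasks_le _ hg⟩

/-- Moving along a class of fixed vectors. -/
theorem tree_const {c : ℕ} (hc : c < 3) {T : List (ℕ × ℕ × ℕ × ℕ)} {mask : ℕ}
    (h : treeOK c T mask = true) {a : ℕ} (ha : a < 2048) (hm : mask.testBit a = true) :
    IsConj (S.el (T.getD 0 (0, 0, 0, 0)).1 (rp c)) (S.el a (rp c)) := by
  simp only [treeOK, Bool.and_eq_true, List.all_eq_true, List.mem_range] at h
  obtain ⟨hk, hcov⟩ := h
  have key : ∀ k < T.length,
      IsConj (S.el (T.getD 0 (0, 0, 0, 0)).1 (rp c)) (S.el (T.getD k (0, 0, 0, 0)).1 (rp c)) := by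
    intro k
    induction k using Nat.strong_induction_on with
    | _ k ih =>
      intro hkl
      have hh := hk k hkl
      simp only [Bool.and_eq_true, Bool.or_eq_true, Nat.blt_eq, Nat.beq_eq] at hh
      obtain ⟨⟨⟨ha', -⟩, -⟩, hh⟩ := hh
      rcases hh with rfl | ⟨hp, hh⟩
      · exact IsConj.refl _
      have hpl := hp.trans hkl
      have hpar := hk _ hpl
      simp only [Bool.and_eq_true, Nat.blt_eq] at hpar
      have hp2 : (T.getD (T.getD k (0, 0, 0, 0)).2.1 (0, 0, 0, 0)).1 < 2048 := hpar.1.1.1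
      refine (ih _ hp hpl).trans ?_
      set p := (T.getD (T.getD k (0, 0, 0, 0)).2.1 (0, 0, 0, 0)).1
      obtain ⟨hrm, -, hr24⟩ := rp_spec hc
      cases hj : Nat.blt (T.getD k (0, 0, 0, 0)).2.2.1 3 with
      | true =>
        rw [hj, cond_true, Nat.beq_eq] at hh
        set j := (T.getD k (0, 0, 0, 0)).2.2.1
        have hm := List.all_eq_true.1 mats_ok c (List.mem_range.2 hc)
        simp only [Bool.and_eq_true, List.all_eq_true, List.mem_range] at hm
        obtain ⟨⟨hg, hgm⟩, hgc⟩ := hm.2 j (Nat.le_of_ble_eq_true hj)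
        have hgM := inM24_mem hg
        have hact := S.acts_of_perm (S.kap_N hgM) hgm (S.kap_spec hgM).2
        have hgc' : permOf (mGen c j) * rp c = rp c * permOf (mGen c j) :=
          eqProd_sound (inM24_valid hg) (inv_valid' (root_lt hc).1) (inv_valid' (root_lt hc).1)
            (inM24_valid hg) hgc
        refine isConj_iff.2 ⟨S.kap (permOf (mGen c j)), ?_⟩
        rw [← hh, TSetup.el, TSetup.el, ← hact.2 p hp2]
        have hk' : S.kap (permOf (mGen c j)) * S.kap (rp c) = S.kap (rp c) * S.kap (permOf (mGen c j)) := by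
          rw [← S.kap_mul hgM hr24, ← S.kap_mul hr24 hgM, hgc']
        calc S.kap (permOf (mGen c j)) * (vE D p * S.kap (rp c)) * (S.kap (permOf (mGen c j)))⁻¹
            = S.kap (permOf (mGen c j)) * vE D p * (S.kap (permOf (mGen c j)))⁻¹ *
              (S.kap (permOf (mGen c j)) * S.kap (rp c) * (S.kap (permOf (mGen c j)))⁻¹) := by group
          _ = _ := by rw [hk', mul_inv_cancel_right]
      | false =>
        rw [hj, cond_false] at hh
        simp only [Bool.and_eq_true, Nat.blt_eq, Nat.beq_eq] at hh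
        obtain ⟨hv, hh⟩ := hh
        set v := (T.getD k (0, 0, 0, 0)).2.2.2
        refine isConj_iff.2 ⟨vE D v, ?_⟩
        have hvi : (vE D v)⁻¹ = vE D v := inv_eq_of_mul_eq_one_right (Frame.V_sq D (Frame.vE_mem D hv))
        have hvp : v ^^^ p < 2048 := Nat.xor_lt_two_pow (n := 11) hv hp2
        rw [hvi, show vE D v * S.el p (rp c) = S.el (v ^^^ p) (rp c) by
          rw [TSetup.el, TSetup.el, Frame.vE_xor D hv hp2]; group, ← S.el_one_perm v,
          show rp c = permOf (invAt (rootOf c)) from rfl, S.el_mul hvp hv hr24 hrm (one_mem _), mul_one, hh]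
  have := hcov a ha
  rw [Bool.or_eq_true, Bool.not_eq_true', hm] at this
  rcases this with h' | h'
  · exact Bool.noConfusion h'
  · obtain ⟨e, he, hea⟩ := List.any_eq_true.1 h'
    obtain ⟨k, hkl, rfl⟩ := List.mem_iff_getElem.1 he
    have := key k hkl
    rwa [List.getD_eq_getElem _ _ hkl, Nat.eq_of_beq_eq_true hea] at this

/-- The vectors of one of the two classes. -/
def inIm (c a : ℕ) : Bool := (imMask.getD c 0).testBit a

/-- A fixed vector lies in one class. -/
theorem fixed_cases {c : ℕ} (hc : c < 3) {a : ℕ} (ha : a < 2048) (h : mv (rMat c) a = a) :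
    inIm c a = true ∨ (restMask.getD c 0).testBit a = true := by
  have e := List.all_eq_true.1 (List.all_eq_true.1 fixed_ok.1 c (List.mem_range.2 hc)) a (List.mem_range.2 ha)
  simp only [Bool.and_eq_true, beq_iff_eq] at e
  rw [h, Nat.beq_refl] at e
  have e' := e.1.symm
  rwa [Bool.or_eq_true] at e'

/-- Central type is constant on the two classes. -/
theorem type_const {c : ℕ} (hc : c < 3) : ∃ p q : Prop, ∀ a < 2048, mv (rMat c) a = a →
    (inIm c a = true → (IsConj z (S.el a (rp c)) ↔ p)) ∧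
      (inIm c a = false → (IsConj z (S.el a (rp c)) ↔ q)) := by
  have ht := List.all_eq_true.1 trees_ok c (List.mem_range.2 hc)
  simp only [Bool.and_eq_true] at ht
  refine ⟨IsConj z (S.el ((imTree c).getD 0 (0, 0, 0, 0)).1 (rp c)),
    IsConj z (S.el ((restTree c).getD 0 (0, 0, 0, 0)).1 (rp c)), fun a ha hf => ⟨fun hi => ?_, fun hi => ?_⟩⟩
  · have := S.tree_const hc ht.1 ha hi
    exact ⟨fun h => h.trans this.symm, fun h => h.trans this⟩
  · have hr : (restMask.getD c 0).testBit a = true :=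
      (fixed_cases hc ha hf).resolve_left (by simp [hi])
    have := S.tree_const hc ht.2 ha hr
    exact ⟨fun h => h.trans this.symm, fun h => h.trans this⟩

theorem el_sq_iff {a g : ℕ} (ha : a < 2048) {M : List ℕ} (hg : permOf g ∈ M24)
    (hM : matOK g M = true) (h2 : permOf g * permOf g = 1) :
    S.el a (permOf g) * S.el a (permOf g) = 1 ↔ mv M a = a := by
  have hlt := NV.mv_lt_2048 M a (S.acts_of_perm (S.kap_N hg) hM (S.kap_spec hg).2).1
  rw [S.el_mul ha ha hg hM hg, h2, S.el_one_perm]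
  constructor
  · intro h
    have := Frame.vE_inj D (Nat.xor_lt_two_pow (n := 11) ha hlt) h
    exact (Nat.xor_eq_zero_iff.1 this).symm
  · intro h
    rw [h, Nat.xor_self, Frame.vE_zero]

theorem rp_sq {c : ℕ} (hc : c < 3) : rp c * rp c = 1 := by
  have h := List.all_eq_true.1 root_sq c (List.mem_range.2 hc)
  simp only [Bool.and_eq_true] at h
  rw [rp, Lp, eqProd_sound (inv_valid' (root_lt hc).1) (inv_valid' (root_lt hc).1) h.1.1 h.1.1 h.1.2]
  have hid : permOf idCode = 1 := Equiv.ext fun q => by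
    rw [permOf_apply h.1.1, Equiv.Perm.one_apply,
      Nat.eq_of_beq_eq_true (List.all_eq_true.1 h.2 _ (List.mem_range.2 (idx_lt q))), pt_idx]
  rw [hid, mul_one]

/-- The witnesses: involutions of both types in each class, and many of pair type. -/
theorem witnesses {c : ℕ} (hc : c < 3) :
    (∃ a < 2048, mv (rMat c) a = a ∧ IsConj z (S.el a (rp c))) ∧
    ∃ A : Finset ℕ, 16 < A.card ∧ ∀ a ∈ A, a < 2048 ∧ mv (rMat c) a = a ∧ ¬ IsConj z (S.el a (rp c)) := by
  classical
  have hw := List.all_eq_true.1 wit_ok c (List.mem_range.2 hc)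
  simp only [witOK, Bool.and_eq_true, Nat.blt_eq, Nat.beq_eq, List.all_eq_true, Bool.not_eq_true',
    decide_eq_true_eq] at hw
  generalize witOf c = W at hw
  obtain ⟨w, co, s, cc, M, zv, ts⟩ := W
  obtain ⟨⟨⟨⟨⟨⟨⟨⟨⟨⟨⟨hw1, hco⟩, hM⟩, hcc⟩, heq⟩, hs⟩, hzv⟩, hzq⟩, hz5⟩, hts⟩, hlen⟩, hnd⟩ := hw
  dsimp only at hw1 hco hM hcc heq hs hzv hzq hz5 hts hlen hnd
  obtain ⟨r, hrR, hra, hrc⟩ := S.exists_high hw1
  rw [← hco] at hrc
  have hrN : r ∈ normalizer (D.V : Set G) := D.rad_le_norm hrR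
  have hperm : S.M.perm r = permOf s := S.perm_of_acts hrN hM hra
  have hccM := inM24_mem hcc
  obtain ⟨hrm, -, hr24⟩ := rp_spec hc
  have hconj : (permOf cc)⁻¹ * permOf s * permOf cc = rp c := by
    rw [mul_assoc, inv_mul_eq_iff_eq_mul]
    exact (eqProd_sound (inM24_valid hcc) (inv_valid' (root_lt hc).1) (inM24_valid hs) (inM24_valid hcc) heq).symm
  -- the family in the coset, moved to the representative
  have fam : ∀ v < 64, qF (co ^^^ v) = false → ∀ b : Bool, ∃ a < 2048, mv (rMat c) a = a ∧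
      S.el a (rp c) = (S.kap (permOf cc))⁻¹ * (r * (F.eE v * F.zp b)) * S.kap (permOf cc) := by
    intro v hv hq b
    obtain ⟨e1, e2, -⟩ := F.eE_spec (show v < 4096 by omega)
    have hxR := mul_mem hrR (mul_mem e1 (F.zp_mem b))
    have hxco : F.co (r * (F.eE v * F.zp b)) = co ^^^ v := by
      rw [F.co_mul _ hrR _ (mul_mem e1 (F.zp_mem b)), F.co_mul _ e1 _ (F.zp_mem b), hrc, e2, F.co_zp, Nat.xor_zero]
    have hx2 := F.sq _ hxR
    rw [hxco, hq, if_neg Bool.false_ne_true] at hx2
    have hV : F.eE v * F.zp b ∈ D.V := mul_mem (Frame.plane_mem D hv) (Frame.zp_mem_V D b)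
    have hvN := Subgroup.le_normalizer hV
    have hkN := S.kap_N hccM
    set y := (S.kap (permOf cc))⁻¹ * (r * (F.eE v * F.zp b)) * S.kap (permOf cc) with hy
    have hyN : y ∈ normalizer (D.V : Set G) := mul_mem (mul_mem (inv_mem hkN) (mul_mem hrN hvN)) hkN
    have hyp : S.M.perm y = rp c := by
      rw [hy, S.M.perm_mul _ (mul_mem (inv_mem hkN) (mul_mem hrN hvN)) _ hkN,
        S.M.perm_mul _ (inv_mem hkN) _ (mul_mem hrN hvN), S.M.perm_mul _ hrN _ hvN,
        (S.M.perm_eq_one _ hvN).2 hV, mul_one, S.perm_inv hkN, (S.kap_spec hccM).2, hperm, hconj]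
    obtain ⟨a, ha, ea⟩ := S.exists_el hyN
    rw [hyp] at ea
    refine ⟨a, ha, (S.el_sq_iff ha hr24 hrm (rp_sq hc)).1 ?_, ea.symm⟩
    show S.el a (rp c) * S.el a (rp c) = 1
    rw [← ea, hy, show ∀ k x : G, k⁻¹ * x * k * (k⁻¹ * x * k) = k⁻¹ * (x * x) * k from fun k x => by group,
      hx2, mul_one, inv_mul_cancel]
  have hco' : ∀ v b, v < 64 → F.co (r * (F.eE v * F.zp b)) = co ^^^ v ∧ r * (F.eE v * F.zp b) ∈ Rad z := by
    intro v b hv
    obtain ⟨e1, e2, -⟩ := F.eE_spec (show v < 4096 by omega)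
    refine ⟨?_, mul_mem hrR (mul_mem e1 (F.zp_mem b))⟩
    rw [F.co_mul _ hrR _ (mul_mem e1 (F.zp_mem b)), F.co_mul _ e1 _ (F.zp_mem b), hrc, e2, F.co_zp, Nat.xor_zero]
  have hback : ∀ x a, S.el a (rp c) = (S.kap (permOf cc))⁻¹ * x * S.kap (permOf cc) →
      (IsConj z (S.el a (rp c)) ↔ IsConj z x) := fun x a e => by
    have hc' : IsConj x (S.el a (rp c)) := isConj_iff.2 ⟨(S.kap (permOf cc))⁻¹, by rw [e]; group⟩
    exact ⟨fun h => h.trans hc'.symm, fun h => h.trans hc'⟩
  refine ⟨?_, ?_⟩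
  · obtain ⟨a, ha, hfx, e⟩ := fam zv hzv hzq false
    obtain ⟨h1, h2⟩ := hco' zv false hzv
    exact ⟨a, ha, hfx, (hback _ a e).2 (z_of_five S.hf h2 (h1.symm ▸ hz5))⟩
  · let I : Finset (ℕ × Bool) := ts.toFinset ×ˢ Finset.univ
    have hmem : ∀ p : I, p.1.1 ∈ ts := fun p => List.mem_toFinset.1 (Finset.mem_product.1 p.2).1
    have hI : ∀ p : I, ∃ a < 2048, mv (rMat c) a = a ∧
        S.el a (rp c) = (S.kap (permOf cc))⁻¹ * (r * (F.eE p.1.1 * F.zp p.1.2)) * S.kap (permOf cc) :=
      fun p => fam _ (hts _ (hmem p)).1.1 (hts _ (hmem p)).1.2 _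
    choose f hf1 hf2 hf3 using hI
    have hfi : Function.Injective f := by
      intro p q e
      have e' := (hf3 p).symm.trans ((congrArg (fun a => S.el a (rp c)) e).trans (hf3 q))
      have e'' : F.eE p.1.1 * F.zp p.1.2 = F.eE q.1.1 * F.zp q.1.2 :=
        mul_left_cancel (mul_left_cancel (mul_right_cancel e'))
      have hv : p.1.1 = q.1.1 := by
        have hp' : p.1.1 < 4096 := lt_trans (hts _ (hmem p)).1.1 (by norm_num)
        have hq' : q.1.1 < 4096 := lt_trans (hts _ (hmem q)).1.1 (by norm_num)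
        have := congrArg F.co e''
        rwa [F.co_mul _ (F.eE_spec hp').1 _ (F.zp_mem _), F.co_mul _ (F.eE_spec hq').1 _ (F.zp_mem _),
          F.co_zp, F.co_zp, (F.eE_spec hp').2.1, (F.eE_spec hq').2.1, Nat.xor_zero, Nat.xor_zero] at this
      rw [hv] at e''
      exact Subtype.ext (Prod.ext hv (F.zp_inj (mul_left_cancel e'')))
    refine ⟨Finset.univ.image f, ?_, fun a ha => ?_⟩
    · rw [Finset.card_image_of_injective _ hfi, Finset.card_univ, Fintype.card_coe,
        Finset.card_product, List.toFinset_card_of_nodup hnd, Finset.card_univ, Fintype.card_bool]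
      omega
    · obtain ⟨p, -, rfl⟩ := Finset.mem_image.1 ha
      obtain ⟨h1, h2⟩ := hco' _ p.1.2 (hts _ (hmem p)).1.1
      exact ⟨hf1 p, hf2 p, fun h => not_z_of_one S.hf h2 (h1.symm ▸ (hts _ (hmem p)).2) ((hback _ _ (hf3 p)).1 h)⟩

/-- The central type among the fixed vectors of a class, with one undetermined bit. -/
def zType (bit : Bool) (c a : ℕ) : Bool := (inIm c a).xor (bit && Nat.beq c 2)

/-- **The types.** -/
theorem types : ∃ bit : Bool, ∀ c < 3, ∀ a < 2048, mv (rMat c) a = a →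
    (IsConj z (S.el a (rp c)) ↔ zType bit c a = true) := by
  classical
  have h2A : ∀ c < 2, ∀ a < 2048, mv (rMat c) a = a →
      (IsConj z (S.el a (rp c)) ↔ inIm c a = true) := by
    intro c hc
    have hc3 : c < 3 := by omega
    obtain ⟨p, q, hpq⟩ := S.type_const hc3
    obtain ⟨⟨a1, ha1, hf1, hz1⟩, A, hA, hAt⟩ := S.witnesses hc3
    have hq : ¬ q := by
      intro hq
      have hsub : A ⊆ ((imTree c).map fun e => e.1).toFinset := by
        intro a ha
        obtain ⟨hl, hfx, hn⟩ := hAt a ha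
        cases hi : inIm c a
        · exact absurd (((hpq a hl hfx).2 hi).2 hq) hn
        · have ht := List.all_eq_true.1 trees_ok c (List.mem_range.2 hc3)
          simp only [Bool.and_eq_true, treeOK, List.all_eq_true, List.mem_range] at ht
          have := ht.1.2 a hl
          rw [Bool.or_eq_true, Bool.not_eq_true', show (imMask.getD c 0).testBit a = true from hi] at this
          rcases this with h' | h'
          · exact Bool.noConfusion h'
          · obtain ⟨e, he, hea⟩ := List.any_eq_true.1 h'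
            exact List.mem_toFinset.2 (List.mem_map.2 ⟨e, he, Nat.eq_of_beq_eq_true hea⟩)
      have hl : ((imTree c).map fun e => e.1).toFinset.card ≤ 16 := by
        refine (List.toFinset_card_le _).trans ?_
        rw [List.length_map]
        interval_cases c
        exacts [le_of_eq fixed_ok.2.1, le_of_eq fixed_ok.2.2]
      have := Finset.card_le_card hsub
      omega
    have hp : p := by
      cases hi : inIm c a1
      · exact absurd (((hpq a1 ha1 hf1).2 hi).1 hz1) hq
      · exact ((hpq a1 ha1 hf1).1 hi).1 hz1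
    intro a ha hfx
    cases hi : inIm c a
    · simp only [Bool.false_eq_true, iff_false]
      exact fun h => hq (((hpq a ha hfx).2 hi).1 h)
    · simp only [iff_true]
      exact ((hpq a ha hfx).1 hi).2 hp
  obtain ⟨p, q, hpq⟩ := S.type_const (c := 2) (by norm_num)
  obtain ⟨⟨a1, ha1, hf1, hz1⟩, A, hA, hAt⟩ := S.witnesses (c := 2) (by norm_num)
  obtain ⟨a2, ha2⟩ := Finset.card_pos.1 (by omega : 0 < A.card)
  obtain ⟨hl2, hf2, hn2⟩ := hAt a2 ha2
  have hne : ¬ (p ↔ q) := fun h => hn2 <| by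
    have hq : q := by
      cases hi : inIm 2 a1
      · exact ((hpq a1 ha1 hf1).2 hi).1 hz1
      · exact h.1 (((hpq a1 ha1 hf1).1 hi).1 hz1)
    cases hi : inIm 2 a2
    · exact ((hpq a2 hl2 hf2).2 hi).2 hq
    · exact ((hpq a2 hl2 hf2).1 hi).2 (h.2 hq)
  refine ⟨decide ¬ p, fun c hc a ha hfx => ?_⟩
  rcases (show c < 2 ∨ c = 2 by omega) with hc2 | rfl
  · rw [h2A c hc2 a ha hfx, zType]
    have : Nat.beq c 2 = false := by interval_cases c <;> rfl
    simp [this]
  · cases hi : inIm 2 a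
    · rw [(hpq a ha hfx).2 hi, zType, hi]
      by_cases hp : p <;> simp [hp] <;> tauto
    · rw [(hpq a ha hfx).1 hi, zType, hi]
      by_cases hp : p <;> simp [hp]

end TSetup

end CfsgLib.J4Type.Order
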