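import Cfsg.Agent.Lib.J4Type.Order.HTypes
import Cfsg.Agent.Lib.J4Type.Order.HitDefs
import Cfsg.Agent.Lib.J4Type.Seven.Count

/-!
The sum over the conjugates of the central involution in its centraliser that gives the number of
pairs whose product powers to the central involution, from the four counts at representatives.
-/

set_option autoImplicit false
set_option linter.unusedSectionVars false
set_option maxRecDepth 100000

namespace CfsgLib.J4Type.Order

open CfsgLib.J4Type

/-- The contribution of a coded element of a coset. -/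
def zVal (c a : ℕ) : ℕ :=
  bif Nat.beq c 0 then (bif Cert.fiveMask.testBit (eV a) then repF 0 else 0)
  else bif Nat.beq c 1 then
    (bif (segM 1 16).testBit a then repF 1 else bif (segM 1 112).testBit a then repF 2 else 0)
  else bif Nat.beq c 3 then (bif (segM 3 0).testBit a then repF 3 else 0) else 0

theorem zVal_total : Nat.beq ((List.range 4).map fun c =>
    clsNum c * ((List.range 8192).map fun a => zVal c a).sum).sum 29236337328 = true := by
  decide +kernel

theorem zRange_sum (f : ℕ → ℕ) (n : ℕ) : ∑ a ∈ Finset.range n, f a = ((List.range n).map f).sum := rfl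

theorem zVal_sum : ∑ c ∈ Finset.range 4,
    clsNum c * ((List.range 8192).map fun a => zVal c a).sum = 29236337328 := by
  rw [zRange_sum]
  exact Nat.eq_of_beq_eq_true zVal_total

theorem rep_types : ((List.range 4).all fun r =>
    Nat.blt (repA r) 8192 && !inT true true false true (repC r) (repA r) &&
      Nat.beq (emul (repA r) (eact (repK r) (linB (repK r)) (repA r))) 0 &&
      Nat.blt (repC r) 4 && (!(kr (repC r) == idM) || Nat.beq r 0)) = true := by decide +kernel

theorem seg_reps : cosItem 1 16 = (1, 16, 99) ∧ cosItem 1 112 = (4, 112, 99) ∧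
    cosItem 3 0 = (0, 0, 99) ∧ (Cert.fiveMask.testBit 0 = false) ∧
    (Cert.oneMask &&& Cert.fiveMask = 0) := by
  decide +kernel

theorem shift_five : shift idM 128 5 = 4101 := root_inB.2.2.2.2.2

end CfsgLib.J4Type.Order

namespace CfsgLib.J4Type

open Cfsg Subgroup NV CfsgLib.J4Type.Order Cert

variable {G : Type*} [Group G] [Finite G] {z : G} {P : Subgroup G}

namespace Frame

/-- The contribution of an element to the count of pairs. -/
noncomputable def zPart (F : Frame z P) (u : G) : ℕ :=
  @ite ℕ (u ∈ Cen z ∧ IsConj z u) (_root_.Classical.propDecidable _) (F.hitN u) 0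

theorem zPart_pos (F : Frame z P) {u : G} (h : u ∈ Cen z) (h' : IsConj z u) :
    F.zPart u = F.hitN u := @if_pos _ (_root_.Classical.propDecidable _) ⟨h, h'⟩ _ _ _

theorem zPart_neg (F : Frame z P) {u : G} (h : ¬ (u ∈ Cen z ∧ IsConj z u)) : F.zPart u = 0 :=
  @if_neg _ (_root_.Classical.propDecidable _) h _ _ _

variable {F : Frame z P} (D : VData F) (hf : Fused D)
include D hf

/-- A member of an orbit is conjugate to its representative in the centraliser. -/
theorem seg_rel {c r a : ℕ} (hc : c ∈ ([1, 2, 3] : List ℕ)) (h : (segM c r).testBit a = true) :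
    ∃ g ∈ Cen z, g * (F.dec (cosItem c r).1 * xr D c) * g⁻¹ = F.dec a * xr D c := by
  have hc4 : c < 4 := by fin_cases hc <;> norm_num
  obtain ⟨p, hp, hr, ha⟩ := segM_mem hc4 h
  obtain ⟨-, g, hg, e⟩ := cos_rel D hf hc p hp
  exact ⟨g, hg, by rw [← ha, ← hr]; exact e⟩

/-- The members of the five orbit are conjugate to the representative in the centraliser. -/
theorem five_rel {a : ℕ} (ha : a < 8192) (h : fiveMask.testBit (eV a) = true) :
    ∃ g ∈ Cen z, g * F.dec 5 * g⁻¹ = F.dec a := by
  obtain ⟨i, hi, e⟩ := fiveMask_iff h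
  obtain ⟨m, hm, e'⟩ := orbOK.reach fiveOrb_ok (by norm_num) i hi
  obtain ⟨g, g1, g2, g3⟩ := F.exists_liftN (mkL m hm.inL)
  have g3' : F.mat g = m := g3
  obtain ⟨b, hb, eb⟩ := F.exists_dec (x := g⁻¹ * F.dec a * g)
    (by simpa using F.rad_conj (inv_mem g1) (F.dec_mem a))
  have hgb : g * F.dec b * g⁻¹ = F.dec a := by rw [eb]; group
  have hv : eV b = 5 := hm.inL.mv_inj (eV_lt b) (by norm_num) (by
    rw [e', e, ← F.co_dec, ← g3', ← F.conj_co g1 (F.dec_mem b), hgb, F.co_dec])
  have hb' : b = 5 ∨ b = 4101 := by unfold eV at hv; omega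
  rcases hb' with rfl | rfl
  · exact ⟨g, g1, hgb⟩
  · refine ⟨g * F.dec 128, mul_mem g1 (F.dec_mem_cen 128), ?_⟩
    have hs := dec_shift D (one_mem (Cen z)) (one_mem (normalizer (P : Set G))) 128 5
    rw [F.mat_one, shift_five, mul_one, mul_one] at hs
    rw [← hgb, ← hs]
    group

variable (hT : ∀ {c a : ℕ}, c < 4 → a < 8192 →
    (F.isT (F.dec a * xr D c) ↔ inT true true false true c a = true))
include hT

theorem isConj_rep {r : ℕ} (hr : r < 4) : IsConj z (F.dec (repA r) * xr D (repC r)) := by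
  have h := List.all_eq_true.1 rep_types r (List.mem_range.2 hr)
  simp only [Bool.and_eq_true, Bool.not_eq_true'] at h
  obtain ⟨⟨⟨⟨ha, hno⟩, h2⟩, hc⟩, hne⟩ := h
  have hc' := Cert.blt_lt hc
  obtain ⟨x1, x2, x3, x4⟩ := xr_spec D hf hc'
  by_contra hz
  refine absurd ((hT hc' (Cert.blt_lt ha)).1 ⟨?_, ?_, hz⟩) (by rw [hno]; exact Bool.noConfusion)
  · refine (coset_sq D x1 x2 x4 _).2 ?_
    rw [x3]
    exact Nat.eq_of_beq_eq_true h2
  · intro h1
    have hm := congrArg F.mat h1
    rw [mat_coset D x1, x3, F.mat_one] at hm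
    rw [hm, beq_self_eq_true, Bool.or_eq_true] at hne
    have hr0 : r = 0 := Nat.eq_of_beq_eq_true (hne.resolve_left Bool.noConfusion)
    subst hr0
    change F.dec 5 * xr D 0 = 1 at h1
    rw [xr_zero, mul_one] at h1
    have := F.dec_inj (by norm_num) (by norm_num) (h1.trans F.dec_zero.symm)
    omega

variable (hrep : ∀ {r : ℕ}, r < 4 → F.hitN (F.dec (repA r) * xr D (repC r)) = repF r)
include hrep

theorem hit_value {c a : ℕ} (hc : c < 4) (ha : a < 8192) :
    F.zPart (F.dec a * xr D c) = zVal c a := by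
  classical
  obtain ⟨s16, s112, s0, five0, disj⟩ := seg_reps
  obtain ⟨x1, x2, x3, x4⟩ := xr_spec D hf hc
  -- a conjugate of a representative
  have hit : ∀ r, r < 4 → (∃ g ∈ Cen z, g * (F.dec (repA r) * xr D (repC r)) * g⁻¹ =
      F.dec a * xr D c) →
      F.zPart (F.dec a * xr D c) = repF r := by
    rintro r hr ⟨g, hg, e⟩
    rw [← e, F.zPart_pos (e.symm ▸ mul_mem (F.dec_mem_cen a) x1)
      ((isConj_rep D hf hT hr).trans (isConj_iff.2 ⟨g, rfl⟩)), F.hitN_conj hg, hrep hr]
  -- the remaining conjugates of the central involution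
  by_cases h0 : c = 0
  · subst h0
    rw [show zVal 0 a = bif fiveMask.testBit (eV a) then repF 0 else 0 from rfl]
    cases h5 : fiveMask.testBit (eV a)
    · rw [cond_false]
      by_cases hz : IsConj z (F.dec a * xr D 0)
      · rw [F.zPart_pos (mul_mem (F.dec_mem_cen a) x1) hz]
        rw [xr_zero, mul_one] at hz ⊢
        have h2 : F.dec a * F.dec a = 1 := by
          obtain ⟨g, e⟩ := isConj_iff.1 hz
          rw [← e, show g * z * g⁻¹ * (g * z * g⁻¹) = g * (z * z) * g⁻¹ by group, F.z_mul_z]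
          group
        have hq : qF (eV a) = false := by
          cases hq : qF (eV a)
          · rfl
          · rw [F.sq _ (F.dec_mem a), F.co_dec, hq] at h2
            exact absurd h2 F.z_ne
        by_cases hv : eV a = 0
        · have hco := F.co_dec a
          rw [hv] at hco
          rcases (F.co_eq_zero _ (F.dec_mem a)).1 hco with e | e
          · rw [e] at hz
            exact absurd (isConj_one_left.1 hz) F.z_ne
          · rw [e]
            refine Nat.card_eq_zero.2 (Or.inl ⟨fun v => ?_⟩)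
            obtain ⟨v, hv1, ⟨hv2, hv3, hv4⟩, hv5⟩ := v
            have hzv : z * v * (z * v) = 1 := by
              rw [mul_assoc, ← mul_assoc v, F.z_comm hv1, mul_assoc z v v, hv2, mul_one, F.z_mul_z]
            obtain ⟨j, hj⟩ := (isOfFinOrder_iff_pow_eq_one.2 ⟨2, by norm_num, by
              rw [pow_two, hzv]⟩).mem_powers_iff_mem_zpowers.2 hv5
            change (z * v) ^ j = z at hj
            rw [pow_eq_pow_mod j (show (z * v) ^ 2 = 1 by rw [pow_two, hzv])] at hj
            rcases Nat.mod_two_eq_zero_or_one j with d | d <;> rw [d] at hj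
            · exact F.z_ne (hj.symm.trans (pow_zero _))
            · rw [pow_one] at hj
              exact hv3 (mul_eq_left.1 hj)
        · have := List.all_eq_true.1 sing_ok (eV a) (List.mem_range.2 (eV_lt a))
          simp only [Bool.or_eq_true, hq, h5, Bool.false_eq_true, or_false] at this
          rcases this with h | h
          · exact absurd (Nat.eq_of_beq_eq_true h) hv
          · exact absurd hz ((isT_dec D hf ha).2 h).2.2
      · exact F.zPart_neg fun h => hz h.2
    · rw [cond_true]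
      obtain ⟨g, hg, e⟩ := five_rel D hf ha h5
      refine hit 0 (by norm_num) ⟨g, hg, ?_⟩
      change g * (F.dec 5 * xr D 0) * g⁻¹ = _
      rw [xr_zero, mul_one, mul_one, e]
  have hc' : c ∈ ([1, 2, 3] : List ℕ) := by interval_cases c <;> simp_all
  have seg : ∀ q, (segM c q).testBit a = true →
      ∃ g ∈ Cen z, g * (F.dec (cosItem c q).1 * xr D c) * g⁻¹ = F.dec a * xr D c :=
    fun q h => seg_rel D hf hc' h
  have rest : (∀ q ∈ segs true true true true c, (q.1 = 16 ∧ c = 1 ∨ q.1 = 112 ∧ c = 1 ∨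
      q.1 = 0 ∧ c = 3) → (segM c q.1).testBit a = false) →
      F.zPart (F.dec a * xr D c) = 0 := by
    intro hno
    refine F.zPart_neg fun hz' => ?_
    have hz := hz'.2
    have h2 : F.dec a * xr D c * (F.dec a * xr D c) = 1 := by
      obtain ⟨g, e⟩ := isConj_iff.1 hz
      rw [← e, show g * z * g⁻¹ * (g * z * g⁻¹) = g * (z * z) * g⁻¹ by group, F.z_mul_z]
      group
    have hinv : emul a (eact (kr c) (linB (kr c)) a) = 0 := by
      rw [← x3]; exact (coset_sq D x1 x2 x4 a).1 h2
    obtain ⟨q, hq, hqa⟩ := cos_cover_spec hc' ha (x3 ▸ F.mv_mat_lt x1 (eV_lt a)) hinv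
    have hin : inT true true false true c a = true := by
      have hn := hno q hq
      rw [inT, show Nat.beq c 0 = false by rw [nat_beq_eq, decide_eq_false h0], cond_false,
        List.any_eq_true]
      interval_cases c <;> simp [segs] at hq hn ⊢
      · rcases hq with rfl | rfl | rfl | rfl <;> simp_all
      · simp_all
      · rcases hq with rfl | rfl <;> simp_all
    exact ((hT hc ha).2 hin).2.2 hz
  interval_cases c
  · exact absurd rfl h0
  · rw [show zVal 1 a = bif (segM 1 16).testBit a then repF 1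
      else bif (segM 1 112).testBit a then repF 2 else 0 from rfl]
    cases e1 : (segM 1 16).testBit a
    · cases e2 : (segM 1 112).testBit a
      · refine rest fun q _ hq => ?_
        rcases hq with ⟨e, -⟩ | ⟨e, -⟩ | ⟨-, e⟩
        · rw [e, e1]
        · rw [e, e2]
        · omega
      · obtain ⟨g, hg, e⟩ := seg 112 e2
        rw [s112] at e
        exact hit 2 (by norm_num) ⟨g, hg, e⟩
    · obtain ⟨g, hg, e⟩ := seg 16 e1
      rw [s16] at e
      exact hit 1 (by norm_num) ⟨g, hg, e⟩
  · refine rest fun q _ hq => ?_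
    omega
  · rw [show zVal 3 a = bif (segM 3 0).testBit a then repF 3 else 0 from rfl]
    cases e1 : (segM 3 0).testBit a
    · refine rest fun q _ hq => ?_
      rcases hq with ⟨-, e⟩ | ⟨-, e⟩ | ⟨e, -⟩
      · omega
      · omega
      · rw [e, e1]
    · obtain ⟨g, hg, e⟩ := seg 0 e1
      rw [s0] at e
      exact hit 3 (by norm_num) ⟨g, hg, e⟩

/-- The number of pairs whose product powers to the central involution. -/
theorem az_of_reps {t : G} (htt : t * t = 1) (hzt : ¬ IsConj z t)
    (hcls : ∀ u : G, u * u = 1 → u ≠ 1 → IsConj z u ∨ IsConj t u) :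
    Nat.card {q : G × G // IsConj z q.1 ∧ IsConj t q.2 ∧ z ∈ zpowers (q.1 * q.2)} =
      29236337328 := by
  classical
  haveI := Fintype.ofFinite G
  have ht1 : t ≠ 1 := fun e => by
    obtain ⟨u, hu⟩ : ∃ u : G, ¬ IsConj z u ∧ u * u = 1 ∧ u ≠ 1 := by
      obtain ⟨r1, r2, r3⟩ := (hT (c := 2) (a := 0) (by norm_num) (by norm_num)).2 (by decide +kernel)
      exact ⟨_, r3, r1, r2⟩
    rcases hcls u hu.2.1 hu.2.2 with h | h
    · exact hu.1 h
    · rw [e] at h
      exact hu.2.2 (isConj_one_right.1 h)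
  have sq_conj : ∀ {x u : G}, x * x = 1 → IsConj x u → u * u = 1 := by
    intro x u hx h
    obtain ⟨g, rfl⟩ := isConj_iff.1 h
    rw [show g * x * g⁻¹ * (g * x * g⁻¹) = g * (x * x) * g⁻¹ by group, hx]
    group
  have hiff : ∀ v, IsConj t v ↔ F.isT v := fun v => by
    refine ⟨fun h => ⟨sq_conj htt h, fun e => ?_, fun h' => hzt (h'.trans h.symm)⟩,
      fun h => (hcls v h.1 h.2.1).resolve_left h.2.2⟩
    rw [e] at h
    exact ht1 (isConj_one_left.1 h)
  let h : G → ℕ := F.zPart
  have hcount : Nat.card {q : G × G // IsConj z q.1 ∧ IsConj t q.2 ∧ z ∈ zpowers (q.1 * q.2)} =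
      ∑ u, h u := by
    rw [Nat.card_congr (Equiv.subtypeProdEquivSigmaSubtype fun u v =>
      IsConj z u ∧ IsConj t v ∧ z ∈ zpowers (u * v)), Nat.card_sigma]
    refine Finset.sum_congr rfl fun u _ => ?_
    have comm : ∀ v, IsConj z u → IsConj t v → z ∈ zpowers (u * v) → u ∈ Cen z ∧ v ∈ Cen z := by
      intro v h1 h2 h3
      obtain ⟨e1, e2⟩ := Seven.comm_of_mem_zpowers (sq_conj F.z_mul_z h1) (sq_conj htt h2)
        F.z_mul_z h3
      exact ⟨Subgroup.mem_centralizer_singleton_iff.2 e1.symm,
        Subgroup.mem_centralizer_singleton_iff.2 e2.symm⟩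
    by_cases hu : u ∈ Cen z ∧ IsConj z u
    · simp only [h, F.zPart_pos hu.1 hu.2, hitN]
      refine Nat.card_congr (Equiv.subtypeEquivRight fun v => ⟨?_, ?_⟩)
      · rintro ⟨h1, h2, h3⟩
        exact ⟨(comm v h1 h2 h3).2, (hiff v).1 h2, h3⟩
      · rintro ⟨-, h2, h3⟩
        exact ⟨hu.2, (hiff v).2 h2, h3⟩
    · simp only [h, F.zPart_neg hu]
      refine Nat.card_eq_zero.2 (Or.inl ⟨fun q => ?_⟩)
      obtain ⟨v, h1, h2, h3⟩ := q
      exact hu ⟨(comm v h1 h2 h3).1, h1⟩
  have hinv : ∀ g ∈ Cen z, ∀ u, h (g * u * g⁻¹) = h u := by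
    intro g hg u
    have e1 : g * u * g⁻¹ ∈ Cen z ↔ u ∈ Cen z := by
      refine ⟨fun hu => ?_, fun hu => mul_mem (mul_mem hg hu) (inv_mem hg)⟩
      have := mul_mem (mul_mem (inv_mem hg) hu) hg
      rwa [show g⁻¹ * (g * u * g⁻¹) * g = u by group] at this
    have hc : IsConj u (g * u * g⁻¹) := isConj_iff.2 ⟨g, rfl⟩
    by_cases hu : u ∈ Cen z ∧ IsConj z u
    · simp only [h, F.zPart_pos hu.1 hu.2, F.zPart_pos (e1.2 hu.1) (hu.2.trans hc), F.hitN_conj hg]
    · simp only [h, F.zPart_neg hu,
        F.zPart_neg fun hh => hu ⟨e1.1 hh.1, hh.2.trans hc.symm⟩]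
  have hsupp : ∀ u, h u ≠ 0 → u ∈ Cen z ∧ u * u = 1 := fun u hu => by
    by_cases hc : u ∈ Cen z ∧ IsConj z u
    · exact ⟨hc.1, sq_conj F.z_mul_z hc.2⟩
    · exact absurd (F.zPart_neg hc) hu
  rw [hcount, sum_H D hf h hinv hsupp]
  have hrow : ∀ c ∈ Finset.range 4, clsNum c * ∑ a ∈ Finset.range 8192, h (F.dec a * xr D c) =
      clsNum c * ((List.range 8192).map fun a => zVal c a).sum := by
    intro c hc
    obtain ⟨x1, -, -, -⟩ := xr_spec D hf (Finset.mem_range.1 hc)
    refine congrArg (clsNum c * ·) ?_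
    rw [← zRange_sum (fun a => zVal c a) 8192]
    refine Finset.sum_congr rfl fun a ha => ?_
    exact hit_value D hf hT hrep (Finset.mem_range.1 hc) (Finset.mem_range.1 ha)
  rw [Finset.sum_congr rfl hrow]
  exact zVal_sum

end Frame

end CfsgLib.J4Type
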